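/-
Helper library (helper23): a field `K` generated (as a field) by the image of a ring map
`φ : A → K` is the directed colimit, in `Under A`, of the finitely presented `A`-algebras
`(A ⧸ (F))[1/g]`, `F ⊆ ker φ` finite, `g ∉ ker φ`.  Geometrically: `Spec κ(s)` is the limit of the
constructible locally closed subschemes `V(F) ∩ D(g)` of `Spec A` containing `s`.
-/
import Mathlib

set_option autoImplicit false
universe u
open CategoryTheory Limits

namespace Groth.Agent.Lib.Helper23

section Ring

variable {A : Type u} [CommRing A] {K : Type u} [Field K] (φ : A →+* K)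

/-- The elements of a finite set killed by `φ`. -/
noncomputable def zPart (T : Finset A) : Finset A := by
  classical exact T.filter (fun x => φ x = 0)

/-- The product of the elements of a finite set not killed by `φ`. -/
noncomputable def uProd (T : Finset A) : A := by
  classical exact ∏ x ∈ T.filter (fun x => φ x ≠ 0), x

theorem mem_zPart {T : Finset A} {x : A} : x ∈ zPart φ T ↔ x ∈ T ∧ φ x = 0 := by
  classical
  simp [zPart]

theorem zPart_mono {T T' : Finset A} (h : T ⊆ T') : zPart φ T ⊆ zPart φ T' := by
  intro x hx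
  rw [mem_zPart] at hx ⊢
  exact ⟨h hx.1, hx.2⟩

theorem uProd_dvd {T T' : Finset A} (h : T ⊆ T') : uProd φ T ∣ uProd φ T' := by
  classical
  unfold uProd
  exact Finset.prod_dvd_prod_of_subset _ _ _ (Finset.filter_subset_filter _ h)

theorem map_uProd_ne_zero (T : Finset A) : φ (uProd φ T) ≠ 0 := by
  classical
  unfold uProd
  rw [map_prod, Finset.prod_ne_zero_iff]
  intro x hx
  exact (Finset.mem_filter.mp hx).2

theorem dvd_uProd {T : Finset A} {x : A} (hx : x ∈ T) (h : φ x ≠ 0) : x ∣ uProd φ T := by
  classical
  unfold uProd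
  exact Finset.dvd_prod_of_mem _ (Finset.mem_filter.mpr ⟨hx, h⟩)

/-- The stage ring `(A ⧸ (F))[1/g]`. -/
abbrev StageRing (T : Finset A) : Type u :=
  Localization.Away (Ideal.Quotient.mk (Ideal.span (zPart φ T : Set A)) (uProd φ T))

/-- The structure map `A → (A ⧸ (F))[1/g]`. -/
noncomputable def stageMap (T : Finset A) : A →+* StageRing φ T :=
  (algebraMap (A ⧸ Ideal.span (zPart φ T : Set A)) (StageRing φ T)).comp
    (Ideal.Quotient.mk (Ideal.span (zPart φ T : Set A)))

theorem stageMap_eq_zero {T : Finset A} {x : A} (hx : x ∈ zPart φ T) : stageMap φ T x = 0 := by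
  have : Ideal.Quotient.mk (Ideal.span (zPart φ T : Set A)) x = 0 :=
    Ideal.Quotient.eq_zero_iff_mem.mpr (Ideal.subset_span hx)
  simp [stageMap, this]

theorem isUnit_stageMap_uProd (T : Finset A) : IsUnit (stageMap φ T (uProd φ T)) :=
  IsLocalization.Away.algebraMap_isUnit
    (Ideal.Quotient.mk (Ideal.span (zPart φ T : Set A)) (uProd φ T))

/-- `A → (A ⧸ (F))[1/g]` is an epimorphism of rings. -/
theorem stageMap_epi {T : Finset A} {Z : Type*} [Semiring Z] (v w : StageRing φ T →+* Z)
    (h : v.comp (stageMap φ T) = w.comp (stageMap φ T)) : v = w := by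
  apply IsLocalization.ringHom_ext (Submonoid.powers
    (Ideal.Quotient.mk (Ideal.span (zPart φ T : Set A)) (uProd φ T)))
  apply Ideal.Quotient.ringHom_ext
  exact h

/-- The universal property of the stage ring. -/
noncomputable def stageLift (T : Finset A) {Z : Type*} [CommRing Z] (ψ : A →+* Z)
    (h0 : ∀ x ∈ zPart φ T, ψ x = 0) (hu : IsUnit (ψ (uProd φ T))) : StageRing φ T →+* Z :=
  IsLocalization.Away.lift (S := StageRing φ T)
    (Ideal.Quotient.mk (Ideal.span (zPart φ T : Set A)) (uProd φ T))
    (g := Ideal.Quotient.lift (Ideal.span (zPart φ T : Set A)) ψ (by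
      intro a ha
      refine Submodule.span_induction (p := fun a _ => ψ a = 0) ?_ ?_ ?_ ?_ ha
      · intro x hx; exact h0 x hx
      · exact map_zero _
      · intro x y _ _ hx hy; rw [map_add, hx, hy, add_zero]
      · intro r x _ hx; rw [smul_eq_mul, map_mul, hx, mul_zero]))
    (by rw [Ideal.Quotient.lift_mk]; exact hu)

theorem stageLift_comp (T : Finset A) {Z : Type*} [CommRing Z] (ψ : A →+* Z)
    (h0 : ∀ x ∈ zPart φ T, ψ x = 0) (hu : IsUnit (ψ (uProd φ T))) :
    (stageLift φ T ψ h0 hu).comp (stageMap φ T) = ψ := by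
  ext a
  simp [stageLift, stageMap, IsLocalization.Away.lift_eq]

/-- Transition maps. -/
noncomputable def stageTrans {T T' : Finset A} (h : T ⊆ T') : StageRing φ T →+* StageRing φ T' :=
  stageLift φ T (stageMap φ T') (fun x hx => stageMap_eq_zero φ (zPart_mono φ h hx))
    (isUnit_of_dvd_unit (map_dvd _ (uProd_dvd φ h)) (isUnit_stageMap_uProd φ T'))

theorem stageTrans_comp {T T' : Finset A} (h : T ⊆ T') :
    (stageTrans φ h).comp (stageMap φ T) = stageMap φ T' :=
  stageLift_comp φ T _ _ _

/-- The map from a stage to `K`. -/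
noncomputable def stageToField (T : Finset A) : StageRing φ T →+* K :=
  stageLift φ T φ (fun x hx => ((mem_zPart φ).mp hx).2) (map_uProd_ne_zero φ T).isUnit

theorem stageToField_comp (T : Finset A) : (stageToField φ T).comp (stageMap φ T) = φ :=
  stageLift_comp φ T _ _ _

end Ring

section Cat

variable {A : CommRingCat.{u}} {K : Type u} [Field K] (φ : A →+* K)

/-- The directed system of stage rings as `A`-algebras. -/
noncomputable def resDiagram : Finset A ⥤ Under A where
  obj T := Under.mk (CommRingCat.ofHom (stageMap φ T))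
  map {T T'} h := Under.homMk (CommRingCat.ofHom (stageTrans φ (leOfHom h))) (by
    ext a
    exact congr($(stageTrans_comp φ (leOfHom h)) a))
  map_id T := by
    ext1
    apply CommRingCat.hom_ext
    apply stageMap_epi φ
    ext a
    exact congr($(stageTrans_comp φ (leOfHom (𝟙 T))) a)
  map_comp {T T' T''} h h' := by
    ext1
    apply CommRingCat.hom_ext
    apply stageMap_epi φ
    ext a
    have h1 := congr($(stageTrans_comp φ (leOfHom (h ≫ h'))) a)
    have h2 := congr($(stageTrans_comp φ (leOfHom h)) a)
    have h3 := congr($(stageTrans_comp φ (leOfHom h')) a)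
    simp only [RingHom.comp_apply] at h1 h2 h3
    change stageTrans φ (leOfHom (h ≫ h')) (stageMap φ T a) =
      stageTrans φ (leOfHom h') (stageTrans φ (leOfHom h) (stageMap φ T a))
    rw [h1, h2, h3]

/-- The cocone with point `K`. -/
noncomputable def resCocone : Cocone (resDiagram φ) where
  pt := Under.mk (CommRingCat.ofHom φ)
  ι :=
    { app := fun T => Under.homMk (CommRingCat.ofHom (stageToField φ T)) (by
        ext a
        exact congr($(stageToField_comp φ T) a))
      naturality := by
        intro T T' h
        ext1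
        apply CommRingCat.hom_ext
        apply stageMap_epi φ
        ext a
        have h1 := congr($(stageToField_comp φ T) a)
        have h2 := congr($(stageToField_comp φ T') a)
        have h3 := congr($(stageTrans_comp φ (leOfHom h)) a)
        simp only [RingHom.comp_apply] at h1 h2 h3
        change stageToField φ T' (stageTrans φ (leOfHom h) (stageMap φ T a)) =
          stageToField φ T (stageMap φ T a)
        rw [h1, h3, h2] }

/-- The structure map of a cocone over `resDiagram` factors through every stage. -/
theorem resCocone_hom_apply (s : Cocone (resDiagram φ)) (T : Finset A) (a : A) :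
    s.pt.hom.hom a = (s.ι.app T).right.hom (stageMap φ T a) :=
  (congr($(Under.w (s.ι.app T)) a)).symm

/-- If every element of `K` is a quotient of elements of the image of `φ`, the cocone
`resCocone φ` is a colimit cocone. -/
noncomputable def isColimitResCocone (hsurj : ∀ k : K, ∃ a b : A, φ b ≠ 0 ∧ k * φ b = φ a) :
    IsColimit (resCocone φ) := by
  classical
  haveI : (RingHom.ker φ).IsPrime := RingHom.ker_isPrime φ
  letI : Algebra (A ⧸ RingHom.ker φ) K := (RingHom.kerLift φ).toAlgebra
  have hι : Function.Injective (algebraMap (A ⧸ RingHom.ker φ) K) := RingHom.kerLift_injective φ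
  have halg : ∀ a : A, algebraMap (A ⧸ RingHom.ker φ) K (Ideal.Quotient.mk _ a) = φ a := fun a => rfl
  haveI : FaithfulSMul (A ⧸ RingHom.ker φ) K := (faithfulSMul_iff_algebraMap_injective _ _).mpr hι
  haveI : IsFractionRing (A ⧸ RingHom.ker φ) K := IsFractionRing.of_field _ K (fun z => by
    obtain ⟨a, b, hb, h⟩ := hsurj z
    refine ⟨Ideal.Quotient.mk _ a, Ideal.Quotient.mk _ b, ?_⟩
    rw [halg, halg, eq_div_iff hb]
    exact h)
  -- `A → K` is an epimorphism of rings
  have hKepi : ∀ {Z : Type u} [CommRing Z] (v w : K →+* Z), v.comp φ = w.comp φ → v = w := by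
    intro Z _ v w h
    apply IsLocalization.ringHom_ext (nonZeroDivisors (A ⧸ RingHom.ker φ))
    apply Ideal.Quotient.ringHom_ext
    ext a
    exact congr($h a)
  -- the descent map
  have h0 : ∀ (s : Cocone (resDiagram φ)) (a : A), a ∈ RingHom.ker φ → s.pt.hom.hom a = 0 := by
    intro s a ha
    have hz : stageMap φ {a} a = 0 := stageMap_eq_zero φ (by
      rw [mem_zPart]
      exact ⟨Finset.mem_singleton_self a, ha⟩)
    rw [resCocone_hom_apply φ s {a} a]
    exact (congrArg (s.ι.app {a}).right.hom hz).trans (map_zero _)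
  have hunit : ∀ (s : Cocone (resDiagram φ)) (y : nonZeroDivisors (A ⧸ RingHom.ker φ)),
      IsUnit (Ideal.Quotient.lift (RingHom.ker φ) s.pt.hom.hom (h0 s) y) := by
    intro s y
    obtain ⟨b, hb⟩ := Ideal.Quotient.mk_surjective (y : A ⧸ RingHom.ker φ)
    have hb0 : φ b ≠ 0 := by
      intro h
      have : (y : A ⧸ RingHom.ker φ) = 0 := by
        rw [← hb]
        exact Ideal.Quotient.eq_zero_iff_mem.mpr h
      exact nonZeroDivisors.coe_ne_zero y this
    rw [← hb, Ideal.Quotient.lift_mk, resCocone_hom_apply φ s {b} b]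
    refine IsUnit.map _ ?_
    exact isUnit_of_dvd_unit (map_dvd _ (dvd_uProd φ (Finset.mem_singleton_self b) hb0))
      (isUnit_stageMap_uProd φ {b})
  let d : ∀ s : Cocone (resDiagram φ), K →+* s.pt.right := fun s =>
    IsLocalization.lift (M := nonZeroDivisors (A ⧸ RingHom.ker φ))
      (g := Ideal.Quotient.lift (RingHom.ker φ) s.pt.hom.hom (h0 s)) (hunit s)
  have hd : ∀ (s : Cocone (resDiagram φ)) (a : A), d s (φ a) = s.pt.hom.hom a := by
    intro s a
    have := IsLocalization.lift_eq (M := nonZeroDivisors (A ⧸ RingHom.ker φ)) (S := K)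
      (g := Ideal.Quotient.lift (RingHom.ker φ) s.pt.hom.hom (h0 s)) (hunit s)
      (Ideal.Quotient.mk _ a)
    rw [halg, Ideal.Quotient.lift_mk] at this
    exact this
  refine
    { desc := fun s => Under.homMk (CommRingCat.ofHom (d s)) (by
        ext a
        exact hd s a)
      fac := ?_
      uniq := ?_ }
  · intro s T
    ext1
    apply CommRingCat.hom_ext
    apply stageMap_epi φ
    ext a
    have h1 := congr($(stageToField_comp φ T) a)
    simp only [RingHom.comp_apply] at h1
    change d s (stageToField φ T (stageMap φ T a)) = (s.ι.app T).right.hom (stageMap φ T a)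
    rw [h1, hd, resCocone_hom_apply φ s T a]
  · intro s m hm
    ext1
    apply CommRingCat.hom_ext
    apply hKepi
    ext a
    change m.right.hom (φ a) = d s (φ a)
    rw [hd]
    exact congr($(Under.w m) a)

end Cat

end Groth.Agent.Lib.Helper23
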