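/-
Helper library (helper23): the general principle behind EGA IV 9.6.1 (ind-constructible half).
If a property `P` of morphisms is stable under base change and descends through cofiltered limits
with affine transition maps (in the form of EGA IV 8.10.5), then for morphisms `f : X ⟶ Y`,
`g : Y ⟶ S` of finitely presented `S`-schemes the set of `s ∈ S` with `P (f_s)` is
ind-constructible.
-/
import Mathlib
import Groth.Prelude.Def_ProCons
import Groth.Agent.Lib.Helper23.ResidueColim
import Groth.Agent.Lib.Helper23.LfpOfColim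
import Groth.Agent.Lib.Helper16.ProConsScheme

set_option autoImplicit false
universe u
open CategoryTheory Limits AlgebraicGeometry

namespace Groth.Agent.Lib.Helper23

section BC

variable {X Y S : Scheme.{u}}

/-- The comparison map between the base changes of `w` along `h ≫ β` and along `β`. -/
noncomputable abbrev pbComp (w : X ⟶ S) {T T' : Scheme.{u}} (β : T ⟶ S) (h : T' ⟶ T) :
    pullback w (h ≫ β) ⟶ pullback w β :=
  pullback.lift (pullback.fst w (h ≫ β)) (pullback.snd w (h ≫ β) ≫ h)
    (by rw [Category.assoc, pullback.condition])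

/-- Base change of a pullback along a further morphism: the comparison square is cartesian. -/
theorem isPullback_lift_snd (w : X ⟶ S) {T T' : Scheme.{u}} (β : T ⟶ S) (h : T' ⟶ T) :
    IsPullback (pbComp w β h) (pullback.snd w (h ≫ β)) (pullback.snd w β) h := by
  refine IsPullback.of_right ?_ (pullback.lift_snd _ _ _) (IsPullback.of_hasPullback w β)
  rw [pullback.lift_fst]
  exact IsPullback.of_hasPullback w (h ≫ β)

variable (f : X ⟶ Y) (g : Y ⟶ S)

/-- The morphism induced by `f` between the base changes of `X` and `Y` along `β : T ⟶ S`. -/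
noncomputable abbrev fibreMap {T : Scheme.{u}} (β : T ⟶ S) : pullback (f ≫ g) β ⟶ pullback g β :=
  pullback.lift (pullback.fst (f ≫ g) β ≫ f) (pullback.snd (f ≫ g) β)
    ((Category.assoc _ _ _).trans pullback.condition)

/-- The square comparing `fibreMap` over `T'` and over `T` is cartesian. -/
theorem isPullback_fibreMap {T T' : Scheme.{u}} (β : T ⟶ S) (h : T' ⟶ T) :
    IsPullback (pbComp (f ≫ g) β h) (fibreMap f g (h ≫ β)) (fibreMap f g β) (pbComp g β h) := by
  refine IsPullback.of_bot ?_ ?_ (isPullback_lift_snd g β h)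
  · have h1 : fibreMap f g (h ≫ β) ≫ pullback.snd g (h ≫ β) = pullback.snd (f ≫ g) (h ≫ β) :=
      pullback.lift_snd _ _ _
    have h2 : fibreMap f g β ≫ pullback.snd g β = pullback.snd (f ≫ g) β :=
      pullback.lift_snd _ _ _
    rw [h1, h2]
    exact isPullback_lift_snd (f ≫ g) β h
  · have e1 : fibreMap f g β ≫ pullback.fst g β = pullback.fst (f ≫ g) β ≫ f :=
      pullback.lift_fst _ _ _
    have e2 : fibreMap f g β ≫ pullback.snd g β = pullback.snd (f ≫ g) β :=
      pullback.lift_snd _ _ _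
    have e3 : fibreMap f g (h ≫ β) ≫ pullback.fst g (h ≫ β) = pullback.fst (f ≫ g) (h ≫ β) ≫ f :=
      pullback.lift_fst _ _ _
    have e4 : fibreMap f g (h ≫ β) ≫ pullback.snd g (h ≫ β) = pullback.snd (f ≫ g) (h ≫ β) :=
      pullback.lift_snd _ _ _
    apply pullback.hom_ext
    · rw [Category.assoc, e1, pbComp, pullback.lift_fst_assoc, Category.assoc, pbComp,
        pullback.lift_fst, e3]
    · rw [Category.assoc, e2, pbComp, pullback.lift_snd, Category.assoc, pbComp, pullback.lift_snd,
        ← Category.assoc, e4]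

/-- A base-change-stable property passes from `fibreMap` over `T` to `fibreMap` over `T'`. -/
theorem fibreMap_baseChange (P : MorphismProperty Scheme.{u}) [P.IsStableUnderBaseChange]
    {T T' : Scheme.{u}} (β : T ⟶ S) (β' : T' ⟶ S) (h : T' ⟶ T) (hβ : h ≫ β = β')
    (hP : P (fibreMap f g β)) : P (fibreMap f g β') := by
  subst hβ
  exact P.of_isPullback (isPullback_fibreMap f g β h) hP

/-- Abstract stage data (as produced by the descent theorems) carrying `P` yields `P` for
`fibreMap` over that stage. -/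
theorem fibreMap_of_stage (P : MorphismProperty Scheme.{u}) [P.IsStableUnderBaseChange]
    {T₀ T : Scheme.{u}} (β₀ : T₀ ⟶ S) (h : T ⟶ T₀)
    {Xj Yj : Scheme.{u}} (fj : Xj ⟶ Yj) (gj : Yj ⟶ T) (pY : Yj ⟶ pullback g β₀)
    (pX : Xj ⟶ pullback (f ≫ g) β₀)
    (hYj : IsPullback pY gj (pullback.snd g β₀) h) (hXj : IsPullback pX fj (fibreMap f g β₀) pY)
    (hP : P fj) : P (fibreMap f g (h ≫ β₀)) := by
  have hYsq := isPullback_lift_snd g β₀ h
  have hXsq := isPullback_fibreMap f g β₀ h
  let e : pullback g (h ≫ β₀) ⟶ Yj := hYj.lift (pbComp g β₀ h) (pullback.snd g (h ≫ β₀)) hYsq.w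
  have he1 : e ≫ pY = pbComp g β₀ h := hYj.lift_fst _ _ hYsq.w
  have hw : pbComp (f ≫ g) β₀ h ≫ fibreMap f g β₀ = (fibreMap f g (h ≫ β₀) ≫ e) ≫ pY := by
    rw [Category.assoc, he1]
    exact hXsq.w
  let a : pullback (f ≫ g) (h ≫ β₀) ⟶ Xj :=
    hXj.lift (pbComp (f ≫ g) β₀ h) (fibreMap f g (h ≫ β₀) ≫ e) hw
  have ha1 : a ≫ pX = pbComp (f ≫ g) β₀ h := hXj.lift_fst _ _ hw
  have ha2 : a ≫ fj = fibreMap f g (h ≫ β₀) ≫ e := hXj.lift_snd _ _ hw
  have hsq : IsPullback a (fibreMap f g (h ≫ β₀)) fj e := by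
    refine IsPullback.of_right ?_ ha2 hXj
    rw [ha1, he1]
    exact hXsq
  exact P.of_isPullback hsq hP

/-- Variant of `isPullback_fibreMap` with a propositional equation. -/
theorem exists_isPullback_fibreMap {T T' : Scheme.{u}} (β : T ⟶ S) (β' : T' ⟶ S) (h : T' ⟶ T)
    (hβ : h ≫ β = β') :
    ∃ (mX : pullback (f ≫ g) β' ⟶ pullback (f ≫ g) β) (mY : pullback g β' ⟶ pullback g β),
      IsPullback mY (pullback.snd g β') (pullback.snd g β) h ∧
      IsPullback mX (fibreMap f g β') (fibreMap f g β) mY := by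
  subst hβ
  exact ⟨_, _, isPullback_lift_snd g β h, isPullback_fibreMap f g β h⟩

end BC

section Point

variable {S : Scheme.{u}} {U : S.Opens} (hU : IsAffineOpen U)

include hU in
theorem SpecMap_evaluation_fromSpec (s : S) (hs : s ∈ U) :
    Spec.map (S.evaluation U s hs) ≫ hU.fromSpec = S.fromSpecResidueField s := by
  rw [← Scheme.germ_residue, Spec.map_comp, Category.assoc]
  change Spec.map (S.residue s) ≫ hU.fromSpecStalk hs = _
  rw [hU.fromSpecStalk_eq_fromSpecStalk]
  rfl

include hU in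
theorem evaluation_surj (s : S) (hs : s ∈ U) (k : S.residueField s) :
    ∃ a b : Γ(S, U), (S.evaluation U s hs).hom b ≠ 0 ∧
      k * (S.evaluation U s hs).hom b = (S.evaluation U s hs).hom a := by
  obtain ⟨z, rfl⟩ := S.residue_surjective s k
  letI := S.presheaf.algebra_section_stalk ⟨s, hs⟩
  haveI := hU.isLocalization_stalk ⟨s, hs⟩
  obtain ⟨⟨a, m⟩, h⟩ := IsLocalization.surj (hU.primeIdealOf ⟨s, hs⟩).asIdeal.primeCompl z
  refine ⟨a, m, ?_, ?_⟩
  · have hu : IsUnit (algebraMap Γ(S, U) (S.presheaf.stalk s) m) :=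
      IsLocalization.map_units _ m
    exact (hu.map (S.residue s).hom).ne_zero
  · have := congr((S.residue s).hom $h)
    rw [map_mul] at this
    exact this

/-- The constructible locally closed subset `V(F) ∩ D(g)` of the affine open `U` attached to a
stage of `resDiagram`. -/
def stageSet (s : S) (hs : s ∈ U) (T : Finset Γ(S, U)) : Set (U : Set S) :=
  {t | (∀ x ∈ zPart (S.evaluation U s hs).hom T, (S.evaluation U t.1 t.2).hom x = 0) ∧
    (S.evaluation U t.1 t.2).hom (uProd (S.evaluation U s hs).hom T) ≠ 0}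

theorem mem_stageSet_self (s : S) (hs : s ∈ U) (T : Finset Γ(S, U)) :
    (⟨s, hs⟩ : (U : Set S)) ∈ stageSet s hs T :=
  ⟨fun _ hx => ((mem_zPart _).mp hx).2, map_uProd_ne_zero _ T⟩

include hU in
theorem isConstructible_preimage_basicOpen (r : Γ(S, U)) :
    Topology.IsConstructible (Subtype.val ⁻¹' (S.basicOpen r : Set S) : Set (U : Set S)) := by
  obtain ⟨_, _, _, _, _⟩ := Groth.Agent.Lib.Helper16.spectral_of_isAffineOpen hU
  refine IsCompact.isConstructible ?_ ((S.basicOpen r).2.preimage continuous_subtype_val)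
  rw [Topology.IsInducing.subtypeVal.isCompact_preimage_iff]
  · exact (hU.basicOpen r).isCompact
  · rw [Subtype.range_coe]
    exact S.basicOpen_le r

include hU in
theorem isConstructible_stageSet (s : S) (hs : s ∈ U) (T : Finset Γ(S, U)) :
    Topology.IsConstructible (stageSet s hs T) := by
  have h1 : stageSet s hs T =
      (⋂ x ∈ (zPart (S.evaluation U s hs).hom T : Set Γ(S, U)),
        (Subtype.val ⁻¹' (S.basicOpen x : Set S) : Set (U : Set S))ᶜ) ∩
      (Subtype.val ⁻¹' (S.basicOpen (uProd (S.evaluation U s hs).hom T) : Set S)) := by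
    ext t
    simp only [stageSet, Set.mem_setOf_eq, Set.mem_inter_iff, Set.mem_iInter, Set.mem_compl_iff,
      Set.mem_preimage, SetLike.mem_coe, Finset.mem_coe]
    constructor
    · rintro ⟨h0, hu⟩
      exact ⟨fun x hx => (S.evaluation_eq_zero_iff_notMem_basicOpen t.1 t.2 x).mp (h0 x hx),
        (S.evaluation_ne_zero_iff_mem_basicOpen t.1 t.2 _).mp hu⟩
    · rintro ⟨h0, hu⟩
      exact ⟨fun x hx => (S.evaluation_eq_zero_iff_notMem_basicOpen t.1 t.2 x).mpr (h0 x hx),
        (S.evaluation_ne_zero_iff_mem_basicOpen t.1 t.2 _).mpr hu⟩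
  rw [h1]
  refine Topology.IsConstructible.inter ?_ (isConstructible_preimage_basicOpen hU _)
  exact Topology.IsConstructible.biInter (Finset.finite_toSet _)
    (fun x _ => (isConstructible_preimage_basicOpen hU x).compl)

end Point

section Main

/-- The form of the descent statements of EGA IV 8.10.5 (as in the landed rows
`EGA43.exists_*_descend_of_isLimit`). -/
def DescendsThroughLimits (P : MorphismProperty Scheme.{u}) : Prop :=
  ∀ {I : Type u} [SmallCategory I] [IsCofiltered I] (D : I ⥤ Scheme.{u}) (c : Cone D)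
    (_ : IsLimit c) [∀ (i j : I) (f : i ⟶ j), IsAffineHom (D.map f)] (i₀ : I)
    [CompactSpace (D.obj i₀)] [QuasiSeparatedSpace (D.obj i₀)] {X₀ Y₀ : Scheme.{u}}
    (f₀ : X₀ ⟶ Y₀) (g₀ : Y₀ ⟶ D.obj i₀)
    [LocallyOfFinitePresentation g₀] [QuasiCompact g₀] [QuasiSeparated g₀]
    [LocallyOfFinitePresentation (f₀ ≫ g₀)] [QuasiCompact (f₀ ≫ g₀)] [QuasiSeparated (f₀ ≫ g₀)]
    {X Y : Scheme.{u}} (f : X ⟶ Y) (g : Y ⟶ c.pt) (qY : Y ⟶ Y₀) (qX : X ⟶ X₀)
    (_ : IsPullback qY g g₀ (c.π.app i₀)) (_ : IsPullback qX f f₀ qY), P f →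
    ∃ (i : I) (φ : i ⟶ i₀) (Xi Yi : Scheme.{u}) (fi : Xi ⟶ Yi) (gi : Yi ⟶ D.obj i)
      (pY : Yi ⟶ Y₀) (pX : Xi ⟶ X₀),
      IsPullback pY gi g₀ (D.map φ) ∧ IsPullback pX fi f₀ pY ∧ P fi

variable {X Y S : Scheme.{u}} (f : X ⟶ Y) (g : Y ⟶ S)

/-- Key step: a point `s` of an affine open `U` at which `P (f_s)` holds has a constructible
neighbourhood in `U` on which `P (f_t)` holds. -/
theorem exists_isConstructible_nhd_fibreMap (P : MorphismProperty Scheme.{u})
    [P.IsStableUnderBaseChange] (hdesc : DescendsThroughLimits P)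
    [LocallyOfFinitePresentation g] [QuasiCompact g] [QuasiSeparated g]
    [LocallyOfFinitePresentation (f ≫ g)] [QuasiCompact (f ≫ g)] [QuasiSeparated (f ≫ g)]
    {U : S.Opens} (hU : IsAffineOpen U) (s : S) (hs : s ∈ U)
    (hP : P (fibreMap f g (S.fromSpecResidueField s))) :
    ∃ C : Set (U : Set S), Topology.IsConstructible C ∧ (⟨s, hs⟩ : (U : Set S)) ∈ C ∧
      ∀ t ∈ C, P (fibreMap f g (S.fromSpecResidueField t.1)) := by
  classical
  -- the limit presentation of `Spec κ(s)`
  let φ : Γ(S, U) →+* S.residueField s := (S.evaluation U s hs).hom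
  let F : Finset Γ(S, U) ⥤ Under Γ(S, U) := resDiagram φ
  let cc : Cocone F := resCocone φ
  have hcc : IsColimit cc := isColimitResCocone φ (evaluation_surj hU s hs)
  let β : ∀ j : (Finset Γ(S, U))ᵒᵖ, (specDiagram F).obj j ⟶ S :=
    fun j => Spec.map (F.obj j.unop).hom ≫ hU.fromSpec
  have hβ : ∀ {i j : (Finset Γ(S, U))ᵒᵖ} (a : i ⟶ j), (specDiagram F).map a ≫ β j = β i := by
    intro i j a
    have hw : (F.obj j.unop).hom ≫ (F.map a.unop).right = (F.obj i.unop).hom :=
      Under.w (F.map a.unop)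
    change Spec.map (F.map a.unop).right ≫ Spec.map (F.obj j.unop).hom ≫ hU.fromSpec =
      Spec.map (F.obj i.unop).hom ≫ hU.fromSpec
    rw [← Category.assoc, ← Spec.map_comp, hw]
  let i₀ : (Finset Γ(S, U))ᵒᵖ := Opposite.op ∅
  have hβc : (specCone F cc).π.app i₀ ≫ β i₀ = S.fromSpecResidueField s := by
    have hw : (F.obj i₀.unop).hom ≫ (cc.ι.app i₀.unop).right = cc.pt.hom :=
      Under.w (cc.ι.app i₀.unop)
    change Spec.map (cc.ι.app i₀.unop).right ≫ Spec.map (F.obj i₀.unop).hom ≫ hU.fromSpec = _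
    rw [← Category.assoc, ← Spec.map_comp, hw]
    exact SpecMap_evaluation_fromSpec hU s hs
  -- the data over the initial stage
  obtain ⟨mX, mY, hYsq, hXsq⟩ := exists_isPullback_fibreMap f g (β i₀)
    (S.fromSpecResidueField s) ((specCone F cc).π.app i₀) hβc
  have h1 : LocallyOfFinitePresentation (pullback.snd g (β i₀)) :=
    MorphismProperty.pullback_snd _ _ inferInstance
  have h2 : QuasiCompact (pullback.snd g (β i₀)) := MorphismProperty.pullback_snd _ _ inferInstance
  have h3 : QuasiSeparated (pullback.snd g (β i₀)) := MorphismProperty.pullback_snd _ _ inferInstance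
  have e0 : fibreMap f g (β i₀) ≫ pullback.snd g (β i₀) = pullback.snd (f ≫ g) (β i₀) :=
    pullback.lift_snd _ _ _
  have h4 : LocallyOfFinitePresentation (fibreMap f g (β i₀) ≫ pullback.snd g (β i₀)) := by
    rw [e0]; exact MorphismProperty.pullback_snd _ _ inferInstance
  have h5 : QuasiCompact (fibreMap f g (β i₀) ≫ pullback.snd g (β i₀)) := by
    rw [e0]; exact MorphismProperty.pullback_snd _ _ inferInstance
  have h6 : QuasiSeparated (fibreMap f g (β i₀) ≫ pullback.snd g (β i₀)) := by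
    rw [e0]; exact MorphismProperty.pullback_snd _ _ inferInstance
  have hinst : ∀ (i j : (Finset Γ(S, U))ᵒᵖ) (a : i ⟶ j), IsAffineHom ((specDiagram F).map a) :=
    fun i j a => inferInstance
  obtain ⟨i, φ', Xi, Yi, fi, gi, pY, pX, hYi, hXi, hPi⟩ :=
    hdesc (specDiagram F) (specCone F cc) (isLimitSpecCone F hcc) i₀
      (fibreMap f g (β i₀)) (pullback.snd g (β i₀))
      (fibreMap f g (S.fromSpecResidueField s)) (pullback.snd g (S.fromSpecResidueField s))
      mY mX hYsq hXsq hP
  have hPi' : P (fibreMap f g ((specDiagram F).map φ' ≫ β i₀)) :=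
    fibreMap_of_stage f g P (β i₀) ((specDiagram F).map φ') fi gi pY pX hYi hXi hPi
  rw [hβ φ'] at hPi'
  -- the constructible neighbourhood
  refine ⟨stageSet s hs i.unop, isConstructible_stageSet hU s hs i.unop,
    mem_stageSet_self s hs i.unop, ?_⟩
  rintro ⟨t, htU⟩ ⟨ht0, htu⟩
  let γ : Spec (S.residueField t) ⟶ (specDiagram F).obj i :=
    Spec.map (CommRingCat.ofHom (stageLift φ i.unop (S.evaluation U t htU).hom ht0 htu.isUnit))
  have hγ : γ ≫ β i = S.fromSpecResidueField t := by
    change Spec.map (CommRingCat.ofHom (stageLift φ i.unop (S.evaluation U t htU).hom ht0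
      htu.isUnit)) ≫ Spec.map (CommRingCat.ofHom (stageMap φ i.unop)) ≫ hU.fromSpec = _
    rw [← Category.assoc, ← Spec.map_comp, ← CommRingCat.ofHom_comp, stageLift_comp]
    exact SpecMap_evaluation_fromSpec hU t htU
  exact fibreMap_baseChange f g P (β i) (S.fromSpecResidueField t) γ hγ hPi'

/-- **Ind-constructibility of fibrewise properties** (EGA IV 9.6.1, ind-constructible half). -/
theorem isIndConstructible_setOf_fibreMap (P : MorphismProperty Scheme.{u})
    [P.IsStableUnderBaseChange] (hdesc : DescendsThroughLimits P)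
    [LocallyOfFinitePresentation g] [QuasiCompact g] [QuasiSeparated g]
    [LocallyOfFinitePresentation (f ≫ g)] [QuasiCompact (f ≫ g)] [QuasiSeparated (f ≫ g)] :
    ProCons.IsIndConstructible {s : S | P (fibreMap f g (S.fromSpecResidueField s))} := by
  intro x
  obtain ⟨U, hU, hxU⟩ := Groth.Agent.Lib.Helper16.exists_affine_nhd x
  refine ⟨U, U.2, hxU, {C | Topology.IsLocallyConstructible C ∧
    C ⊆ Subtype.val ⁻¹' {s : S | P (fibreMap f g (S.fromSpecResidueField s))}},
    fun C hC => hC.1, ?_⟩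
  ext t
  constructor
  · intro ht
    obtain ⟨C, hC, htC, hCE⟩ := exists_isConstructible_nhd_fibreMap f g P hdesc hU t.1 t.2 ht
    exact Set.mem_sUnion.mpr ⟨C, ⟨hC.isLocallyConstructible, fun t' ht' => hCE t' ht'⟩, htC⟩
  · rintro ⟨C, ⟨_, hCE⟩, htC⟩
    exact hCE htC

end Main

end Groth.Agent.Lib.Helper23
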