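/-
Helper library (helper23): ind-constructibility of relations of the form
"there is a field extension `k'/k` and a `k'`-morphism `X_{k'} ⟶ Y_{k'}` with property `Q`"
(EGA IV 9.3.? / the `ConsPropPair.isIndConsPair_exists_baseChange_*` rows), for any property `Q`
stable under base change that descends through limits with affine transition maps.
-/
import Mathlib
import Groth.Prelude.Def_W4ega4s0809p4Pair
import Groth.Agent.Lib.Helper23.FibreIndCons
import Groth.Agent.Lib.Helper12.ConstrTop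
import Groth.Agent.S9218

set_option autoImplicit false
universe u
open CategoryTheory Limits AlgebraicGeometry

namespace Groth.Agent.Lib.Helper23

section Pasting

/-- Transport a cartesian square along propositional equalities of its sides. -/
theorem isPullback_congr {C : Type*} [Category C] {P X Y Z : C} {fst fst' : P ⟶ X}
    {snd snd' : P ⟶ Y} {f f' : X ⟶ Z} {g g' : Y ⟶ Z} (h : IsPullback fst snd f g)
    (h1 : fst = fst') (h2 : snd = snd') (h3 : f = f') (h4 : g = g') :
    IsPullback fst' snd' f' g' := by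
  subst h1 h2 h3 h4; exact h

/-- A base change of `gX` along `k = a ≫ h₁` is a base change of the base change along `h₁`. -/
theorem exists_isPullback_of_fac {X T T₁ T₂ X₁ X₂ : Scheme.{u}} {gX : X ⟶ T} {h₁ : T₁ ⟶ T}
    {gX₁ : X₁ ⟶ T₁} {eX₁ : X₁ ⟶ X} (hX₁ : IsPullback eX₁ gX₁ gX h₁) {k : T₂ ⟶ T}
    {gX₂ : X₂ ⟶ T₂} {e : X₂ ⟶ X} (hX₂ : IsPullback e gX₂ gX k) (a : T₂ ⟶ T₁)
    (ha : a ≫ h₁ = k) :
    ∃ pX : X₂ ⟶ X₁, pX ≫ eX₁ = e ∧ IsPullback pX gX₂ gX₁ a := by
  subst ha
  have hw : e ≫ gX = (gX₂ ≫ a) ≫ h₁ := by rw [Category.assoc]; exact hX₂.w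
  refine ⟨hX₁.lift e (gX₂ ≫ a) hw, hX₁.lift_fst _ _ hw, ?_⟩
  refine IsPullback.of_right ?_ (hX₁.lift_snd _ _ hw) hX₁
  rw [hX₁.lift_fst _ _ hw]
  exact hX₂

/-- Base change of a morphism `g₁ : X₁ ⟶ Y₁` over `T₁` along `a : T₂ ⟶ T₁`. -/
theorem exists_baseChange_hom {T₁ T₂ X₁ Y₁ X₂ Y₂ : Scheme.{u}} {a : T₂ ⟶ T₁} {gX₁ : X₁ ⟶ T₁}
    {gY₁ : Y₁ ⟶ T₁} {gX₂ : X₂ ⟶ T₂} {gY₂ : Y₂ ⟶ T₂} {pX : X₂ ⟶ X₁} {pY : Y₂ ⟶ Y₁}
    (hX : IsPullback pX gX₂ gX₁ a) (hY : IsPullback pY gY₂ gY₁ a) (g₁ : X₁ ⟶ Y₁)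
    (hg₁ : g₁ ≫ gY₁ = gX₁) :
    ∃ g₂ : X₂ ⟶ Y₂, g₂ ≫ gY₂ = gX₂ ∧ IsPullback pX g₂ g₁ pY := by
  subst hg₁
  have hw : (pX ≫ g₁) ≫ gY₁ = gX₂ ≫ a := by rw [Category.assoc]; exact hX.w
  refine ⟨hY.lift (pX ≫ g₁) gX₂ hw, hY.lift_snd _ _ hw, ?_⟩
  refine IsPullback.of_bot ?_ (hY.lift_fst _ _ hw).symm hY
  rw [hY.lift_snd _ _ hw]
  exact hX

end Pasting

/-- The relation "after some extension of the base field there is a morphism with `Q`". -/
def ExistsBC (Q : MorphismProperty Scheme.{u}) :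
    ∀ ⦃X Y T : Scheme.{u}⦄, (X ⟶ T) → (Y ⟶ T) → Prop :=
  fun X Y T gX gY => ∃ (T' X' Y' : Scheme.{u}) (h : T' ⟶ T) (gX' : X' ⟶ T') (gY' : Y' ⟶ T')
    (eX : X' ⟶ X) (eY : Y' ⟶ Y), IsIntegral T' ∧ Subsingleton ↥T' ∧
      IsPullback eX gX' gX h ∧ IsPullback eY gY' gY h ∧
        ∃ g : X' ⟶ Y', g ≫ gY' = gX' ∧ Q g

section FieldStable

variable (Q : MorphismProperty Scheme.{u}) [Q.IsStableUnderBaseChange]

theorem isFieldStablePair_existsBC : ConsPropPair.IsFieldStablePair (ExistsBC Q) := by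
  intro X X' Y Y' T T' gX gY gX' gY' eX eY h _ _ _ _ _ _ _ _ hX hY
  constructor
  · rintro ⟨T₁, X₁, Y₁, h₁, gX₁, gY₁, eX₁, eY₁, _, _, hX₁, hY₁, g₁, hg₁, hQ⟩
    -- a point of `T₁ ×_T T'`
    have hsurj : Surjective h := by
      refine ⟨fun t => ?_⟩
      obtain ⟨t'⟩ : Nonempty T' := inferInstance
      exact ⟨t', Subsingleton.elim _ _⟩
    have hsurj' : Surjective (pullback.fst h₁ h) :=
      MorphismProperty.pullback_fst _ _ hsurj
    obtain ⟨t₁⟩ : Nonempty T₁ := inferInstance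
    obtain ⟨z, -⟩ := hsurj'.surj t₁
    let T₂ : Scheme.{u} := Spec ((pullback h₁ h).residueField z)
    let a : T₂ ⟶ T₁ := (pullback h₁ h).fromSpecResidueField z ≫ pullback.fst h₁ h
    let b : T₂ ⟶ T' := (pullback h₁ h).fromSpecResidueField z ≫ pullback.snd h₁ h
    have hab : a ≫ h₁ = b ≫ h := by
      simp only [a, b, Category.assoc, pullback.condition]
    have hX₂ : IsPullback (pullback.fst gX' b ≫ eX) (pullback.snd gX' b) gX (b ≫ h) :=
      (IsPullback.of_hasPullback gX' b).paste_horiz hX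
    have hY₂ : IsPullback (pullback.fst gY' b ≫ eY) (pullback.snd gY' b) gY (b ≫ h) :=
      (IsPullback.of_hasPullback gY' b).paste_horiz hY
    obtain ⟨pX, -, hpX⟩ := exists_isPullback_of_fac hX₁ hX₂ a hab
    obtain ⟨pY, -, hpY⟩ := exists_isPullback_of_fac hY₁ hY₂ a hab
    obtain ⟨g₂, hg₂, hsq⟩ := exists_baseChange_hom hpX hpY g₁ hg₁
    exact ⟨T₂, pullback gX' b, pullback gY' b, b, pullback.snd gX' b, pullback.snd gY' b,
      pullback.fst gX' b, pullback.fst gY' b, inferInstance, inferInstance,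
      IsPullback.of_hasPullback gX' b, IsPullback.of_hasPullback gY' b, g₂, hg₂,
      Q.of_isPullback hsq hQ⟩
  · rintro ⟨T₂, X₂, Y₂, h₂, gX₂, gY₂, eX₂, eY₂, hi, hs, hX₂, hY₂, g₂, hg₂, hQ⟩
    exact ⟨T₂, X₂, Y₂, h₂ ≫ h, gX₂, gY₂, eX₂ ≫ eX, eY₂ ≫ eY, hi, hs, hX₂.paste_horiz hX,
      hY₂.paste_horiz hY, g₂, hg₂, hQ⟩

end FieldStable

section Points

variable (Q : MorphismProperty Scheme.{u}) [Q.IsStableUnderBaseChange]

/-- If over some `w : W ⟶ S` there is a `W`-morphism with `Q` between the base changes of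
`X` and `Y`, then every point of the image of `w` lies in the locus of `ExistsBC Q`. -/
theorem mem_locusPair_existsBC_of_stage {X Y S W XW YW : Scheme.{u}} (u : X ⟶ S) (v : Y ⟶ S)
    (w : W ⟶ S) {gXW : XW ⟶ W} {gYW : YW ⟶ W} {eXW : XW ⟶ X} {eYW : YW ⟶ Y}
    (hXW : IsPullback eXW gXW u w) (hYW : IsPullback eYW gYW v w) (gW : XW ⟶ YW)
    (hgW : gW ≫ gYW = gXW) (hQ : Q gW) (z : W) :
    w z ∈ ConsPropPair.locusPair (ExistsBC Q) u v := by
  change ExistsBC Q (u.fiberToSpecResidueField (w z)) (v.fiberToSpecResidueField (w z))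
  let ρ : Spec (W.residueField z) ⟶ W := W.fromSpecResidueField z
  let h : Spec (W.residueField z) ⟶ Spec (S.residueField (w z)) :=
    Spec.map (w.residueFieldMap z)
  have hh : h ≫ S.fromSpecResidueField (w z) = ρ ≫ w :=
    Scheme.Hom.SpecMap_residueFieldMap_fromSpecResidueField w z
  have hX₂ : IsPullback (pullback.fst gXW ρ ≫ eXW) (pullback.snd gXW ρ) u (ρ ≫ w) :=
    (IsPullback.of_hasPullback gXW ρ).paste_horiz hXW
  have hY₂ : IsPullback (pullback.fst gYW ρ ≫ eYW) (pullback.snd gYW ρ) v (ρ ≫ w) :=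
    (IsPullback.of_hasPullback gYW ρ).paste_horiz hYW
  have hX₁ : IsPullback (u.fiberι (w z)) (u.fiberToSpecResidueField (w z)) u
      (S.fromSpecResidueField (w z)) := IsPullback.of_hasPullback _ _
  have hY₁ : IsPullback (v.fiberι (w z)) (v.fiberToSpecResidueField (w z)) v
      (S.fromSpecResidueField (w z)) := IsPullback.of_hasPullback _ _
  obtain ⟨pX, -, hpX⟩ := exists_isPullback_of_fac hX₁ hX₂ h hh
  obtain ⟨pY, -, hpY⟩ := exists_isPullback_of_fac hY₁ hY₂ h hh
  obtain ⟨g₂, hg₂, hsq⟩ := exists_baseChange_hom (IsPullback.of_hasPullback gXW ρ)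
    (IsPullback.of_hasPullback gYW ρ) gW hgW
  exact ⟨Spec (W.residueField z), pullback gXW ρ, pullback gYW ρ, h, pullback.snd gXW ρ,
    pullback.snd gYW ρ, pX, pY, inferInstance, inferInstance, hpX, hpY, g₂, hg₂,
    Q.of_isPullback hsq hQ⟩

end Points

section Spread

variable (Q : MorphismProperty Scheme.{u})

/-- Spreading out: a morphism with `Q` between the base changes of `X`, `Y` to a ring `K` over
an affine open `U` of `S` comes from a morphism with `Q` over a finitely generated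
`Γ(S, U)`-subalgebra of `K`. -/
theorem exists_stage_of_ring (hdesc : DescendsThroughLimits Q) {X Y S : Scheme.{u}}
    (u : X ⟶ S) (v : Y ⟶ S)
    [LocallyOfFinitePresentation u] [QuasiCompact u] [QuasiSeparated u]
    [LocallyOfFinitePresentation v] [QuasiCompact v] [QuasiSeparated v]
    {U : S.Opens} (hU : IsAffineOpen U) {K : CommRingCat.{u}} (ψ : Γ(S, U) ⟶ K)
    {XK YK : Scheme.{u}} {gXK : XK ⟶ Spec K} {gYK : YK ⟶ Spec K} {eX : XK ⟶ X} {eY : YK ⟶ Y}
    (hXK : IsPullback eX gXK u (Spec.map ψ ≫ hU.fromSpec))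
    (hYK : IsPullback eY gYK v (Spec.map ψ ≫ hU.fromSpec))
    (g : XK ⟶ YK) (hg : g ≫ gYK = gXK) (hQ : Q g) :
    ∃ (B : CommRingCat.{u}) (ψB : Γ(S, U) ⟶ B) (ι : B ⟶ K), ψB ≫ ι = ψ ∧ ψB.hom.FiniteType ∧
      ∃ (XW YW : Scheme.{u}) (gXW : XW ⟶ Spec B) (gYW : YW ⟶ Spec B) (eXW : XW ⟶ X)
        (eYW : YW ⟶ Y), IsPullback eXW gXW u (Spec.map ψB ≫ hU.fromSpec) ∧
          IsPullback eYW gYW v (Spec.map ψB ≫ hU.fromSpec) ∧
          ∃ gW : XW ⟶ YW, gW ≫ gYW = gXW ∧ Q gW := by
  classical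
  let _ : Algebra Γ(S, U) K := ψ.hom.toAlgebra
  let F : Finset K ⥤ Under (CommRingCat.of Γ(S, U)) := fgDiagram Γ(S, U) K
  let cc : Cocone F := fgCocone Γ(S, U) K
  have hcc : IsColimit cc := isColimitFgCocone
  have hc : IsLimit (specCone F cc) := isLimitSpecCone F hcc
  let β : ∀ j : (Finset K)ᵒᵖ, (specDiagram F).obj j ⟶ S :=
    fun j => Spec.map (F.obj j.unop).hom ≫ hU.fromSpec
  have hβ : ∀ {i j : (Finset K)ᵒᵖ} (a : i ⟶ j), (specDiagram F).map a ≫ β j = β i := by
    intro i j a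
    have hw : (F.obj j.unop).hom ≫ (F.map a.unop).right = (F.obj i.unop).hom :=
      Under.w (F.map a.unop)
    change Spec.map (F.map a.unop).right ≫ Spec.map (F.obj j.unop).hom ≫ hU.fromSpec =
      Spec.map (F.obj i.unop).hom ≫ hU.fromSpec
    rw [← Category.assoc, ← Spec.map_comp, hw]
  have hβc : ∀ j : (Finset K)ᵒᵖ, (specCone F cc).π.app j ≫ β j = Spec.map ψ ≫ hU.fromSpec := by
    intro j
    have hw : (F.obj j.unop).hom ≫ (cc.ι.app j.unop).right = cc.pt.hom :=
      Under.w (cc.ι.app j.unop)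
    change Spec.map (cc.ι.app j.unop).right ≫ Spec.map (F.obj j.unop).hom ≫ hU.fromSpec = _
    rw [← Category.assoc, ← Spec.map_comp, hw]
    rfl
  let i₀ : (Finset K)ᵒᵖ := Opposite.op ∅
  obtain ⟨qX, hqX, hX⟩ := exists_isPullback_of_fac (IsPullback.of_hasPullback u (β i₀)) hXK
    ((specCone F cc).π.app i₀) (hβc i₀)
  obtain ⟨qY, hqY, hY⟩ := exists_isPullback_of_fac (IsPullback.of_hasPullback v (β i₀)) hYK
    ((specCone F cc).π.app i₀) (hβc i₀)
  have hinst : ∀ (i j : (Finset K)ᵒᵖ) (a : i ⟶ j), IsAffineHom ((specDiagram F).map a) :=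
    fun i j a => inferInstance
  have c1 : CompactSpace ↥(pullback u (β i₀)) :=
    (HasAffineProperty.iff_of_isAffine (P := @QuasiCompact)).mp
      (inferInstance : QuasiCompact (pullback.snd u (β i₀)))
  have c2 : QuasiSeparatedSpace ↥(pullback u (β i₀)) :=
    (HasAffineProperty.iff_of_isAffine (P := @QuasiSeparated)).mp
      (inferInstance : QuasiSeparated (pullback.snd u (β i₀)))
  have c3 : CompactSpace ↥(pullback v (β i₀)) :=
    (HasAffineProperty.iff_of_isAffine (P := @QuasiCompact)).mp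
      (inferInstance : QuasiCompact (pullback.snd v (β i₀)))
  have c4 : QuasiSeparatedSpace ↥(pullback v (β i₀)) :=
    (HasAffineProperty.iff_of_isAffine (P := @QuasiSeparated)).mp
      (inferInstance : QuasiSeparated (pullback.snd v (β i₀)))
  obtain ⟨j, φ, fj, sX, sY, hfj, hsX1, hsX2, hsY1, hsY2, hsf⟩ :=
    Groth.Agent.S9218.result (specDiagram F) (specCone F cc) hc i₀ (pullback.snd u (β i₀))
      (pullback.snd v (β i₀)) qX gXK hX qY gYK hY g hg
  have hw : (specCone F cc).π.app j ≫ (specDiagram F).map φ = (specCone F cc).π.app i₀ :=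
    (specCone F cc).w φ
  have hYj : IsPullback sY gYK (pullback.snd (pullback.snd v (β i₀)) ((specDiagram F).map φ))
      ((specCone F cc).π.app j) := by
    refine IsPullback.of_right ?_ hsY2 (IsPullback.of_hasPullback _ _)
    exact isPullback_congr hY hsY1.symm rfl rfl hw.symm
  have hXj' : IsPullback sX gXK (pullback.snd (pullback.snd u (β i₀)) ((specDiagram F).map φ))
      ((specCone F cc).π.app j) := by
    refine IsPullback.of_right ?_ hsX2 (IsPullback.of_hasPullback _ _)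
    exact isPullback_congr hX hsX1.symm rfl rfl hw.symm
  have hXj : IsPullback sX g fj sY := by
    refine IsPullback.of_bot ?_ hsf hYj
    exact isPullback_congr hXj' rfl hg.symm hfj.symm rfl
  have i1 : LocallyOfFinitePresentation
      (fj ≫ pullback.snd (pullback.snd v (β i₀)) ((specDiagram F).map φ)) := by
    rw [hfj]; infer_instance
  have i2 : QuasiCompact
      (fj ≫ pullback.snd (pullback.snd v (β i₀)) ((specDiagram F).map φ)) := by
    rw [hfj]; infer_instance
  have i3 : QuasiSeparated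
      (fj ≫ pullback.snd (pullback.snd v (β i₀)) ((specDiagram F).map φ)) := by
    rw [hfj]; infer_instance
  obtain ⟨i, φ', Xi, Yi, fi, gi, pY, pX, hYi, hXi, hQi⟩ :=
    hdesc (specDiagram F) (specCone F cc) hc j fj
      (pullback.snd (pullback.snd v (β i₀)) ((specDiagram F).map φ)) g gYK sY sX hYj hXj hQ
  have hβi : ((specDiagram F).map φ' ≫ (specDiagram F).map φ) ≫ β i₀ = β i := by
    rw [Category.assoc, hβ φ, hβ φ']
  refine ⟨(F.obj i.unop).right, (F.obj i.unop).hom, (cc.ι.app i.unop).right,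
    Under.w (cc.ι.app i.unop), ?_, Xi, Yi, fi ≫ gi, gi,
    (pX ≫ pullback.fst _ _) ≫ pullback.fst u (β i₀),
    (pY ≫ pullback.fst _ _) ≫ pullback.fst v (β i₀), ?_, ?_, fi, rfl, hQi⟩
  · change (algebraMap Γ(S, U) (Algebra.adjoin Γ(S, U) ((i.unop : Finset K) : Set K))).FiniteType
    rw [RingHom.finiteType_algebraMap]
    exact (Subalgebra.fg_iff_finiteType _).mp (Subalgebra.fg_adjoin_finset _)
  · have h1 := isPullback_congr (hXi.paste_vert hYi) rfl rfl hfj rfl
    have h2 := (h1.paste_horiz (IsPullback.of_hasPullback (pullback.snd u (β i₀))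
      ((specDiagram F).map φ))).paste_horiz (IsPullback.of_hasPullback u (β i₀))
    exact isPullback_congr h2 rfl rfl rfl hβi
  · have h2 := (hYi.paste_horiz (IsPullback.of_hasPullback (pullback.snd v (β i₀))
      ((specDiagram F).map φ))).paste_horiz (IsPullback.of_hasPullback v (β i₀))
    exact isPullback_congr h2 rfl rfl rfl hβi

end Spread

section Family

/-- A scheme with exactly one point is affine. -/
theorem isAffine_of_subsingleton (T : Scheme.{u}) [Nonempty T] [Subsingleton T] : IsAffine T := by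
  obtain ⟨x⟩ := ‹Nonempty T›
  obtain ⟨U, hU, hxU⟩ := Groth.Agent.Lib.Helper16.exists_affine_nhd x
  have hUt : U = ⊤ := by
    ext y
    simp only [SetLike.mem_coe, TopologicalSpace.Opens.coe_top, Set.mem_univ, iff_true]
    rw [Subsingleton.elim y x]; exact hxU
  subst hUt
  have : IsAffine ((⊤ : T.Opens) : Scheme.{u}) := hU
  exact .of_isIso (Scheme.topIso T).inv

variable (Q : MorphismProperty Scheme.{u}) [Q.IsStableUnderBaseChange]

/-- **Main theorem**: for `Q` stable under base change and descending through limits, the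
relation "geometrically there is a morphism `X ⟶ Y` with `Q`" is an ind-constructible property
of pairs of algebraic schemes. -/
theorem isIndConsPair_existsBC (hdesc : DescendsThroughLimits Q) :
    ConsPropPair.IsIndConsPair (ExistsBC Q) := by
  refine ⟨isFieldStablePair_existsBC Q, ?_⟩
  intro X Y S u v _ _ _ _ _ _ hgen
  obtain ⟨T', X', Y', h, gX', gY', eX, eY, hT'i, hT's, hX', hY', g, hg, hQ⟩ := hgen
  -- finiteness conditions
  have : IsLocallyNoetherian X := LocallyOfFiniteType.isLocallyNoetherian u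
  have : IsLocallyNoetherian Y := LocallyOfFiniteType.isLocallyNoetherian v
  have : QuasiSeparated u := inferInstance
  have : QuasiSeparated v := inferInstance
  -- `T'` is the spectrum of a ring
  have : IsAffine T' := isAffine_of_subsingleton T'
  let K : CommRingCat.{u} := Γ(T', ⊤)
  let e : T' ≅ Spec K := T'.isoSpec
  obtain ⟨U, hU, hηU⟩ := Groth.Agent.Lib.Helper16.exists_affine_nhd (genericPoint S)
  let t : Spec K ⟶ S := (e.inv ≫ h) ≫ S.fromSpecResidueField (genericPoint S)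
  have htη : ∀ p : Spec K, t p = genericPoint S := by
    intro p
    have : t p ∈ Set.range (S.fromSpecResidueField (genericPoint S)) := ⟨(e.inv ≫ h) p, rfl⟩
    rw [Scheme.range_fromSpecResidueField] at this
    exact this
  have hrange : Set.range t ⊆ Set.range hU.fromSpec := by
    rintro _ ⟨p, rfl⟩
    rw [hU.range_fromSpec, htη p]
    exact hηU
  let t' : Spec K ⟶ Spec Γ(S, U) := IsOpenImmersion.lift hU.fromSpec t hrange
  have ht' : t' ≫ hU.fromSpec = t := IsOpenImmersion.lift_fac _ _ _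
  let ψ : Γ(S, U) ⟶ K := Spec.preimage t'
  have hψ : Spec.map ψ ≫ hU.fromSpec = t := by rw [Spec.map_preimage]; exact ht'
  -- the data over `Spec K`
  have hXK : IsPullback (eX ≫ u.fiberι (genericPoint S)) (gX' ≫ e.hom) u (Spec.map ψ ≫ hU.fromSpec) := by
    have h1 : IsPullback (𝟙 X') (gX' ≫ e.hom) gX' e.inv :=
      IsPullback.of_horiz_isIso ⟨by simp⟩
    have h2 := (h1.paste_horiz hX').paste_horiz
      (IsPullback.of_hasPullback u (S.fromSpecResidueField (genericPoint S)))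
    exact isPullback_congr h2 (by rw [Category.id_comp]; rfl) rfl rfl hψ.symm
  have hYK : IsPullback (eY ≫ v.fiberι (genericPoint S)) (gY' ≫ e.hom) v (Spec.map ψ ≫ hU.fromSpec) := by
    have h1 : IsPullback (𝟙 Y') (gY' ≫ e.hom) gY' e.inv :=
      IsPullback.of_horiz_isIso ⟨by simp⟩
    have h2 := (h1.paste_horiz hY').paste_horiz
      (IsPullback.of_hasPullback v (S.fromSpecResidueField (genericPoint S)))
    exact isPullback_congr h2 (by rw [Category.id_comp]; rfl) rfl rfl hψ.symm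
  have hgK : g ≫ gY' ≫ e.hom = gX' ≫ e.hom := by rw [← Category.assoc, hg]
  obtain ⟨B, ψB, ι, hfac, hft, XW, YW, gXW, gYW, eXW, eYW, hXW, hYW, gW, hgW, hQW⟩ :=
    exists_stage_of_ring Q hdesc u v hU ψ hXK hYK g hgK hQ
  -- the morphism `w : Spec B ⟶ S`
  let w : Spec B ⟶ S := Spec.map ψB ≫ hU.fromSpec
  have : LocallyOfFiniteType (Spec.map ψB) := HasRingHomProperty.Spec_iff.mpr hft
  have : LocallyOfFiniteType w := inferInstance
  have : LocallyOfFinitePresentation w := inferInstance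
  have : QuasiCompact w := inferInstance
  have hcons : Topology.IsConstructible (Set.range w) := by
    have := w.isConstructible_image (s := Set.univ) Topology.IsConstructible.univ
    rwa [Set.image_univ] at this
  have hηw : genericPoint S ∈ Set.range w := by
    obtain ⟨x⟩ : Nonempty T' := inferInstance
    refine ⟨(Spec.map ι) (e.hom x), ?_⟩
    have h1 : Spec.map ι ≫ w = t := by
      change Spec.map ι ≫ Spec.map ψB ≫ hU.fromSpec = t
      rw [← Category.assoc, ← Spec.map_comp, hfac]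
      exact hψ
    have h2 : w ((Spec.map ι) (e.hom x)) = (Spec.map ι ≫ w) (e.hom x) := rfl
    rw [h2, h1]
    exact htη _
  -- a nonempty open subset of the image
  obtain ⟨V, hVo, hVne, hVsub⟩ : ∃ V : Set S, IsOpen V ∧ V.Nonempty ∧ V ⊆ Set.range w := by
    rcases Groth.Agent.Lib.Helper12.ConstrTop.exists_open_subset_or_compl hcons with h | h
    · exact h
    · obtain ⟨V, hVo, hVne, hVsub⟩ := h
      exfalso
      have hηV : genericPoint S ∈ V :=
        ((genericPoint_spec S).mem_open_set_iff hVo).mpr (by simpa using hVne)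
      exact hVsub hηV hηw
  refine hVne.mono (interior_maximal ?_ hVo)
  intro s hs
  obtain ⟨z, rfl⟩ := hVsub hs
  exact mem_locusPair_existsBC_of_stage Q u v w hXW hYW gW hgW hQW z

end Family

end Groth.Agent.Lib.Helper23
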