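/-
Helper library (helper23): the affine case of the descent of finitely presented schemes through
cofiltered limits (EGA IV 8.9.1), via the ring-level statement `S4600`.
-/
import Mathlib
import Groth.Agent.S4600
import Groth.Agent.Lib.Helper23.ConsPairInd

set_option autoImplicit false
universe u
open CategoryTheory Limits AlgebraicGeometry TensorProduct

namespace Groth.Agent.Lib.Helper23

section AffineAffine

variable {J : Type u} [SmallCategory J] [IsCofiltered J] (D' : J ⥤ Scheme.{u})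
  [∀ j, IsAffine (D'.obj j)] (c' : Cone D') (hc' : IsLimit c')

include hc' in
/-- A finitely presented affine scheme over a cofiltered limit of affine schemes comes from a
stage. -/
theorem exists_descend_affine {U : Scheme.{u}} [IsAffine U] (g : U ⟶ c'.pt)
    [LocallyOfFinitePresentation g] :
    ∃ (j : J) (Uj : Scheme.{u}) (gj : Uj ⟶ D'.obj j) (q : U ⟶ Uj), IsAffine Uj ∧
      LocallyOfFinitePresentation gj ∧ IsPullback q g gj (c'.π.app j) := by
  have hpt : IsAffine c'.pt := Scheme.isAffine_of_isLimit c' hc'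
  have hop : ∀ j, IsAffine (D'.op.obj j).unop := fun j => by dsimp; infer_instance
  let R : Jᵒᵖ ⥤ CommRingCat.{u} := D'.op ⋙ Scheme.Γ
  let cc : Cocone R := Scheme.Γ.mapCocone c'.op
  have hcc : IsColimit cc := isColimitOfPreserves Scheme.Γ hc'.op
  let φ : Γ(c'.pt, ⊤) ⟶ Γ(U, ⊤) := g.appTop
  have hφ : φ.hom.FinitePresentation := g.finitePresentation_appTop
  let algB : Algebra cc.pt Γ(U, ⊤) := φ.hom.toAlgebra
  have : Algebra.FinitePresentation cc.pt Γ(U, ⊤) := hφ
  obtain ⟨j, Bj, instR, instA, hBj, ⟨e⟩⟩ := Groth.Agent.S4600.result R cc hcc Γ(U, ⊤)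
  let algA : Algebra (R.obj j) cc.pt := (cc.ι.app j).hom.toAlgebra
  -- the pushout square of rings
  let f₁ : R.obj j ⟶ cc.pt := cc.ι.app j
  let f₂ : R.obj j ⟶ CommRingCat.of Bj := CommRingCat.ofHom (algebraMap (R.obj j) Bj)
  let ψ : CommRingCat.of Bj ⟶ Γ(U, ⊤) := CommRingCat.ofHom
    ((e.symm : (cc.pt ⊗[R.obj j] Bj) →+* Γ(U, ⊤)).comp
      (Algebra.TensorProduct.includeRight : Bj →ₐ[R.obj j] cc.pt ⊗[R.obj j] Bj).toRingHom)
  have hpo : IsPushout f₁ f₂ φ ψ := by
    refine (CommRingCat.isPushout_tensorProduct (R.obj j) cc.pt Bj).of_iso (Iso.refl _)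
      (Iso.refl _) (Iso.refl _) (e.symm.toRingEquiv.toCommRingCatIso) ?_ ?_ ?_ ?_
    · rfl
    · rfl
    · ext a
      change e.symm (a ⊗ₜ[R.obj j] (1 : Bj)) = φ.hom a
      have : (a ⊗ₜ[R.obj j] (1 : Bj)) = algebraMap cc.pt (cc.pt ⊗[R.obj j] Bj) a := rfl
      rw [this, AlgEquiv.commutes]
      rfl
    · ext b
      rfl
  have hpb : IsPullback (Spec.map ψ) (Spec.map φ) (Spec.map f₂) (Spec.map f₁) :=
    (isPullback_SpecMap_of_isPushout f₁ f₂ φ ψ hpo).flip
  let πj : c'.pt ⟶ D'.obj j.unop := c'.π.app j.unop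
  have hf₁ : f₁ = πj.appTop := rfl
  refine ⟨j.unop, Spec (CommRingCat.of Bj), Spec.map f₂ ≫ (D'.obj j.unop).isoSpec.inv,
    U.isoSpec.hom ≫ Spec.map ψ, inferInstance, ?_, ?_⟩
  · have : LocallyOfFinitePresentation (Spec.map f₂) := by
      rw [HasRingHomProperty.Spec_iff (P := @LocallyOfFinitePresentation)]
      change (algebraMap (R.obj j) Bj).FinitePresentation
      rw [RingHom.finitePresentation_algebraMap]
      exact hBj
    infer_instance
  · refine IsPullback.of_iso hpb U.isoSpec.symm (Iso.refl _) c'.pt.isoSpec.symm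
      (D'.obj j.unop).isoSpec.symm ?_ ?_ ?_ ?_
    · simp
    · change Spec.map g.appTop ≫ c'.pt.isoSpec.inv = U.isoSpec.inv ≫ g
      exact Scheme.isoSpec_inv_naturality g
    · simp
    · rw [hf₁]
      exact Scheme.isoSpec_inv_naturality πj

end AffineAffine

end Groth.Agent.Lib.Helper23
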