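/-
Helper library (helper23): gluing two schemes along a common open subscheme
(pushouts of open immersions in `Scheme`), and a criterion for quasi-separatedness of a scheme
covered by two quasi-separated opens with quasi-compact intersection.
-/
import Mathlib

set_option autoImplicit false
universe u
open CategoryTheory Limits AlgebraicGeometry

namespace Groth.Agent.Lib.Helper23

section Pushout

variable {W U V : Scheme.{u}} (o : W ⟶ U) (e : W ⟶ V) [IsOpenImmersion o] [IsOpenImmersion e]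

instance span_map_isOpenImmersion {i j : WalkingSpan} (t : i ⟶ j) :
    IsOpenImmersion ((span o e).map t) := by
  rcases t with _ | x
  · rw [WidePushoutShape.hom_id, CategoryTheory.Functor.map_id]; infer_instance
  · cases x
    · exact inferInstanceAs (IsOpenImmersion o)
    · exact inferInstanceAs (IsOpenImmersion e)

instance hasPushout_of_isOpenImmersion : HasPushout o e :=
  inferInstanceAs (HasColimit (span o e))

instance : IsOpenImmersion (pushout.inl o e) :=
  inferInstanceAs (IsOpenImmersion (colimit.ι (span o e) WalkingSpan.left))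

instance : IsOpenImmersion (pushout.inr o e) :=
  inferInstanceAs (IsOpenImmersion (colimit.ι (span o e) WalkingSpan.right))

theorem pushout_jointly_surjective (x : ↥(pushout o e)) :
    x ∈ Set.range (pushout.inl o e) ∨ x ∈ Set.range (pushout.inr o e) := by
  obtain ⟨i, xi, rfl⟩ := Scheme.IsLocallyDirected.ι_jointly_surjective (span o e) x
  rcases i with _ | _ | _
  · left
    refine ⟨o xi, ?_⟩
    have h : o ≫ pushout.inl o e = colimit.ι (span o e) WalkingSpan.zero :=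
      colimit.w (span o e) WalkingSpan.Hom.fst
    rw [← h]
    rfl
  · left; exact ⟨xi, rfl⟩
  · right; exact ⟨xi, rfl⟩

theorem exists_of_inl_eq_inr {y : U} {z : V} (h : pushout.inl o e y = pushout.inr o e z) :
    ∃ w : W, o w = y ∧ e w = z := by
  obtain ⟨k, fi, fj, x, hx1, hx2⟩ :=
    (Scheme.IsLocallyDirected.ι_eq_ι_iff (F := span o e) (i := WalkingSpan.left)
      (j := WalkingSpan.right) (xi := y) (xj := z)).mp h
  rcases k with _ | _ | _
  · rcases fi with _ | x1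
    rcases fj with _ | x2
    exact ⟨x, hx1, hx2⟩
  · rcases fj with _ | x2
  · rcases fi with _ | x1

theorem range_inl_inter_range_inr :
    Set.range (pushout.inl o e) ∩ Set.range (pushout.inr o e) =
      Set.range (o ≫ pushout.inl o e) := by
  ext x
  constructor
  · rintro ⟨⟨y, rfl⟩, ⟨z, hz⟩⟩
    obtain ⟨w, rfl, -⟩ := exists_of_inl_eq_inr o e hz.symm
    exact ⟨w, rfl⟩
  · rintro ⟨w, rfl⟩
    refine ⟨⟨o w, rfl⟩, ⟨e w, ?_⟩⟩
    have := congr($(pushout.condition (f := o) (g := e)) w)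
    exact this.symm

end Pushout

section QS

variable {X : Scheme.{u}}

/-- A compact open subset of a scheme covered by two opens `U`, `V` is the union of a compact
open contained in `U` and a compact open contained in `V`. -/
theorem exists_compact_open_decomposition (U V : X.Opens) (hUV : ∀ x : X, x ∈ U ∨ x ∈ V)
    {A : Set X} (hAo : IsOpen A) (hAc : IsCompact A) :
    ∃ A₁ A₂ : Set X, IsOpen A₁ ∧ IsCompact A₁ ∧ A₁ ⊆ U ∧ IsOpen A₂ ∧ IsCompact A₂ ∧ A₂ ⊆ V ∧
      A = A₁ ∪ A₂ := by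
  classical
  have key : ∀ x : X, x ∈ A → ∃ N : X.Opens, IsAffineOpen N ∧ x ∈ N ∧ (N : Set X) ⊆ A ∧
      ((x ∈ U ∧ (N : Set X) ⊆ U) ∨ (x ∉ U ∧ (N : Set X) ⊆ V)) := by
    intro x hx
    by_cases hxU : x ∈ U
    · obtain ⟨_, ⟨N, hN, rfl⟩, hxN, hNs⟩ := X.isBasis_affineOpens.exists_subset_of_mem_open
        (show x ∈ A ∩ (U : Set X) from ⟨hx, hxU⟩) (hAo.inter U.2)
      exact ⟨N, hN, hxN, hNs.trans Set.inter_subset_left,
        Or.inl ⟨hxU, hNs.trans Set.inter_subset_right⟩⟩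
    · have hxV : x ∈ V := (hUV x).resolve_left hxU
      obtain ⟨_, ⟨N, hN, rfl⟩, hxN, hNs⟩ := X.isBasis_affineOpens.exists_subset_of_mem_open
        (show x ∈ A ∩ (V : Set X) from ⟨hx, hxV⟩) (hAo.inter V.2)
      exact ⟨N, hN, hxN, hNs.trans Set.inter_subset_left,
        Or.inr ⟨hxU, hNs.trans Set.inter_subset_right⟩⟩
  let N : X → X.Opens := fun x => if hx : x ∈ A then (key x hx).choose else ⊥
  have hN : ∀ x (hx : x ∈ A), IsAffineOpen (N x) ∧ x ∈ N x ∧ (N x : Set X) ⊆ A ∧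
      ((x ∈ U ∧ (N x : Set X) ⊆ U) ∨ (x ∉ U ∧ (N x : Set X) ⊆ V)) := by
    intro x hx
    simp only [N, dif_pos hx]
    exact (key x hx).choose_spec
  obtain ⟨t, htA, hcov⟩ := hAc.elim_nhds_subcover (fun x => (N x : Set X))
    (fun x hx => (N x).2.mem_nhds (hN x hx).2.1)
  refine ⟨⋃ x ∈ t.filter (· ∈ U), (N x : Set X), ⋃ x ∈ t.filter (· ∉ U), (N x : Set X),
    isOpen_biUnion fun x _ => (N x).2,
    (t.filter (· ∈ U)).isCompact_biUnion fun x hx =>
      (hN x (htA x (Finset.mem_filter.mp hx).1)).1.isCompact, ?_,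
    isOpen_biUnion fun x _ => (N x).2,
    (t.filter (· ∉ U)).isCompact_biUnion fun x hx =>
      (hN x (htA x (Finset.mem_filter.mp hx).1)).1.isCompact, ?_, ?_⟩
  · refine Set.iUnion₂_subset fun x hx => ?_
    obtain ⟨hxt, hxU⟩ := Finset.mem_filter.mp hx
    rcases (hN x (htA x hxt)).2.2.2 with h | h
    · exact h.2
    · exact absurd hxU h.1
  · refine Set.iUnion₂_subset fun x hx => ?_
    obtain ⟨hxt, hxU⟩ := Finset.mem_filter.mp hx
    rcases (hN x (htA x hxt)).2.2.2 with h | h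
    · exact absurd h.1 hxU
    · exact h.2
  · apply Set.Subset.antisymm
    · intro y hy
      obtain ⟨x, hxt, hyx⟩ := Set.mem_iUnion₂.mp (hcov hy)
      by_cases hxU : x ∈ U
      · exact Or.inl (Set.mem_iUnion₂.mpr ⟨x, Finset.mem_filter.mpr ⟨hxt, hxU⟩, hyx⟩)
      · exact Or.inr (Set.mem_iUnion₂.mpr ⟨x, Finset.mem_filter.mpr ⟨hxt, hxU⟩, hyx⟩)
    · refine Set.union_subset (Set.iUnion₂_subset fun x hx => ?_)
        (Set.iUnion₂_subset fun x hx => ?_)
      · exact (hN x (htA x (Finset.mem_filter.mp hx).1)).2.2.1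
      · exact (hN x (htA x (Finset.mem_filter.mp hx).1)).2.2.1

/-- A scheme covered by two quasi-separated opens with quasi-compact intersection is
quasi-separated. -/
theorem quasiSeparatedSpace_of_cover (U V : X.Opens) (hUV : ∀ x : X, x ∈ U ∨ x ∈ V)
    (hU : IsQuasiSeparated (U : Set X)) (hV : IsQuasiSeparated (V : Set X))
    (hW : IsCompact ((U : Set X) ∩ (V : Set X))) : QuasiSeparatedSpace X := by
  rw [quasiSeparatedSpace_iff]
  intro A B hAo hAc hBo hBc
  obtain ⟨A₁, A₂, hA₁o, hA₁c, hA₁U, hA₂o, hA₂c, hA₂V, rfl⟩ :=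
    exists_compact_open_decomposition U V hUV hAo hAc
  obtain ⟨B₁, B₂, hB₁o, hB₁c, hB₁U, hB₂o, hB₂c, hB₂V, rfl⟩ :=
    exists_compact_open_decomposition U V hUV hBo hBc
  have hWo : IsOpen ((U : Set X) ∩ (V : Set X)) := U.2.inter V.2
  -- mixed intersections
  have mixed : ∀ {A₁ B₂ : Set X}, IsOpen A₁ → IsCompact A₁ → A₁ ⊆ U → IsOpen B₂ → IsCompact B₂ →
      B₂ ⊆ V → IsCompact (A₁ ∩ B₂) := by
    intro A₁ B₂ hA₁o hA₁c hA₁U hB₂o hB₂c hB₂V
    have h1 : IsCompact (A₁ ∩ ((U : Set X) ∩ (V : Set X))) :=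
      hU _ _ hA₁U hA₁o hA₁c Set.inter_subset_left hWo hW
    have h2 : IsCompact (B₂ ∩ ((U : Set X) ∩ (V : Set X))) :=
      hV _ _ hB₂V hB₂o hB₂c Set.inter_subset_right hWo hW
    have h3 : IsCompact ((A₁ ∩ ((U : Set X) ∩ (V : Set X))) ∩ (B₂ ∩ ((U : Set X) ∩ (V : Set X)))) :=
      hU _ _ (Set.inter_subset_left.trans hA₁U) (hA₁o.inter hWo) h1
        (Set.inter_subset_right.trans Set.inter_subset_left) (hB₂o.inter hWo) h2
    have h4 : A₁ ∩ B₂ =
        (A₁ ∩ ((U : Set X) ∩ (V : Set X))) ∩ (B₂ ∩ ((U : Set X) ∩ (V : Set X))) := by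
      ext y
      simp only [Set.mem_inter_iff]
      constructor
      · rintro ⟨h1, h2⟩
        exact ⟨⟨h1, hA₁U h1, hB₂V h2⟩, ⟨h2, hA₁U h1, hB₂V h2⟩⟩
      · rintro ⟨⟨h1, -⟩, ⟨h2, -⟩⟩
        exact ⟨h1, h2⟩
    rw [h4]; exact h3
  rw [Set.union_inter_distrib_right, Set.inter_union_distrib_left, Set.inter_union_distrib_left]
  have h21 : IsCompact (A₂ ∩ B₁) := by
    rw [Set.inter_comm]
    exact mixed hB₁o hB₁c hB₁U hA₂o hA₂c hA₂V
  exact ((hU _ _ hA₁U hA₁o hA₁c hB₁U hB₁o hB₁c).union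
    (mixed hA₁o hA₁c hA₁U hB₂o hB₂c hB₂V)).union
    (h21.union (hV _ _ hA₂V hA₂o hA₂c hB₂V hB₂o hB₂c))

end QS

section Key

/-- Points of a cartesian square. -/
theorem exists_preimage_of_isPullback {P X Y Z : Scheme.{u}} {fst : P ⟶ X} {snd : P ⟶ Y}
    {f : X ⟶ Z} {g : Y ⟶ Z} (h : IsPullback fst snd f g) (x : X) (y : Y) (hxy : f x = g y) :
    ∃ p : P, fst p = x ∧ snd p = y := by
  obtain ⟨z, hz1, hz2⟩ := Scheme.Pullback.exists_preimage_pullback (f := f) (g := g) x y hxy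
  refine ⟨h.isoPullback.inv z, ?_, ?_⟩
  · rw [← hz1, ← Scheme.Hom.comp_apply, h.isoPullback_inv_fst]
  · rw [← hz2, ← Scheme.Hom.comp_apply, h.isoPullback_inv_snd]

variable {X U V W P Uk Vk Wk : Scheme.{u}}

/-- The key square in the gluing argument: if `X = U ∪ V`, `P = Uk ∪ Vk` glued along `Wk`, and
`q : X ⟶ P` restricts to `qU`, `qV` with `W = qV⁻¹(Wk)` in `V`, then `U = q⁻¹(Uk)`. -/
theorem isPullback_of_glue (a : U ⟶ X) (b : V ⟶ X) [IsOpenImmersion a]
    (hab : ∀ x : X, x ∈ Set.range a ∨ x ∈ Set.range b)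
    (w₁ : W ⟶ U) (w₂ : W ⟶ V) (hw : w₁ ≫ a = w₂ ≫ b)
    (inl : Uk ⟶ P) (inr : Vk ⟶ P) [IsOpenImmersion inl]
    (o : Wk ⟶ Uk) (e : Wk ⟶ Vk)
    (hint : ∀ (y : Uk) (z : Vk), inl y = inr z → ∃ w : Wk, o w = y ∧ e w = z)
    (q : X ⟶ P) (qU : U ⟶ Uk) (qV : V ⟶ Vk) (qW : W ⟶ Wk)
    (hqU : a ≫ q = qU ≫ inl) (hqV : b ≫ q = qV ≫ inr)
    (hWV : IsPullback qW w₂ e qV) :
    IsPullback qU a inl q := by
  refine IsOpenImmersion.isPullback qU a inl q hqU ?_
  ext x
  constructor
  · rintro ⟨y, hy⟩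
    rcases hab x with ⟨u, rfl⟩ | ⟨v, rfl⟩
    · exact ⟨u, rfl⟩
    · have h1 : q (b v) = inr (qV v) := congr($hqV v)
      obtain ⟨w', hw'1, hw'2⟩ := hint y (qV v) (hy.trans h1)
      obtain ⟨w, hw1, hw2⟩ := exists_preimage_of_isPullback hWV w' v hw'2
      refine ⟨w₁ w, ?_⟩
      rw [← hw2]
      exact congr($hw w)
  · rintro ⟨u, rfl⟩
    exact ⟨qU u, (congr($hqU u)).symm⟩

end Key

section Cover2

variable {X U V : Scheme.{u}} (a : U ⟶ X) (b : V ⟶ X) [IsOpenImmersion a] [IsOpenImmersion b]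
  (hab : ∀ x : X, x ∈ Set.range a ∨ x ∈ Set.range b)

/-- The open cover of `X` by two open immersions which are jointly surjective. -/
noncomputable def cover2 : X.OpenCover :=
  Scheme.Cover.mkOfCovers Bool (fun j => cond j U V)
    (fun j => Bool.rec (motive := fun j => cond j U V ⟶ X) b a j)
    (fun x => by
      rcases hab x with ⟨u, rfl⟩ | ⟨v, rfl⟩
      · exact ⟨true, u, rfl⟩
      · exact ⟨false, v, rfl⟩)
    (fun j => by
      cases j
      · exact inferInstanceAs (IsOpenImmersion b)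
      · exact inferInstanceAs (IsOpenImmersion a))

include hab in
theorem hom_ext2 {Y : Scheme.{u}} (f₁ f₂ : X ⟶ Y) (ha : a ≫ f₁ = a ≫ f₂)
    (hb : b ≫ f₁ = b ≫ f₂) : f₁ = f₂ := by
  refine Scheme.Cover.hom_ext (cover2 a b hab) f₁ f₂ fun j => ?_
  cases j
  · exact hb
  · exact ha

include hab in
/-- Glue two morphisms agreeing on the intersection. -/
theorem exists_glue2 {Y : Scheme.{u}} (f₁ : U ⟶ Y) (f₂ : V ⟶ Y)
    (h : pullback.fst a b ≫ f₁ = pullback.snd a b ≫ f₂) :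
    ∃ q : X ⟶ Y, a ≫ q = f₁ ∧ b ≫ q = f₂ := by
  let F : ∀ j : (cover2 a b hab).I₀, (cover2 a b hab).X j ⟶ Y :=
    fun j => Bool.rec (motive := fun j => cond j U V ⟶ Y) f₂ f₁ j
  have hF : ∀ x y : (cover2 a b hab).I₀,
      pullback.fst ((cover2 a b hab).f x) ((cover2 a b hab).f y) ≫ F x =
        pullback.snd ((cover2 a b hab).f x) ((cover2 a b hab).f y) ≫ F y := by
    intro x y
    cases x <;> cases y
    · change pullback.fst b b ≫ f₂ = pullback.snd b b ≫ f₂
      have : pullback.fst b b = pullback.snd b b := (cancel_mono b).mp pullback.condition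
      rw [this]
    · change pullback.fst b a ≫ f₂ = pullback.snd b a ≫ f₁
      rw [← cancel_epi (pullbackSymmetry a b).hom, pullbackSymmetry_hom_comp_fst_assoc,
        pullbackSymmetry_hom_comp_snd_assoc]
      exact h.symm
    · exact h
    · change pullback.fst a a ≫ f₁ = pullback.snd a a ≫ f₁
      have : pullback.fst a a = pullback.snd a a := (cancel_mono a).mp pullback.condition
      rw [this]
  exact ⟨(cover2 a b hab).glueMorphisms F hF, (cover2 a b hab).ι_glueMorphisms F hF true,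
    (cover2 a b hab).ι_glueMorphisms F hF false⟩

include hab in
/-- A morphism is an isomorphism if its base changes to two jointly surjective open
subschemes of the target are. -/
theorem isIso_of_cover2 {X' S₁ S₂ : Scheme.{u}} (θ : X' ⟶ X) (α₁ : S₁ ⟶ X') (β₁ : S₁ ⟶ U)
    (α₂ : S₂ ⟶ X') (β₂ : S₂ ⟶ V) (h₁ : IsPullback α₁ β₁ θ a) (h₂ : IsPullback α₂ β₂ θ b)
    [IsIso β₁] [IsIso β₂] : IsIso θ := by
  change MorphismProperty.isomorphisms Scheme.{u} θ
  rw [IsZariskiLocalAtTarget.iff_of_openCover (P := MorphismProperty.isomorphisms Scheme.{u})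
    (cover2 a b hab)]
  intro j
  cases j
  · change IsIso (pullback.snd θ b)
    have : pullback.snd θ b = h₂.isoPullback.inv ≫ β₂ := by rw [IsPullback.isoPullback_inv_snd]
    rw [this]; infer_instance
  · change IsIso (pullback.snd θ a)
    have : pullback.snd θ a = h₁.isoPullback.inv ≫ β₁ := by rw [IsPullback.isoPullback_inv_snd]
    rw [this]; infer_instance

end Cover2

end Groth.Agent.Lib.Helper23
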