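/-
Helper library (helper23): the gluing step in the descent of finitely presented schemes through
cofiltered limits (EGA IV 8.9.1): if `X = U ∪ V` over the limit, and `U`, `V`, `U ∩ V` together
with the two open immersions `U ∩ V ⟶ U`, `U ∩ V ⟶ V` descend to a stage `k`, then so does `X`.
-/
import Mathlib
import Groth.Agent.Lib.Helper23.GluePushout
import Groth.Agent.Lib.Helper23.ConsPairInd

set_option autoImplicit false
universe u
open CategoryTheory Limits AlgebraicGeometry

namespace Groth.Agent.Lib.Helper23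

section PushoutProps

variable {S Uk Vk Wk : Scheme.{u}} (uk : Uk ⟶ S) (vk : Vk ⟶ S) (o : Wk ⟶ Uk) (e : Wk ⟶ Vk)
  [IsOpenImmersion o] [IsOpenImmersion e] (hoe : o ≫ uk = e ≫ vk)

theorem locallyOfFinitePresentation_pushoutDesc [LocallyOfFinitePresentation uk]
    [LocallyOfFinitePresentation vk] :
    LocallyOfFinitePresentation (pushout.desc uk vk hoe) := by
  rw [IsZariskiLocalAtSource.iff_of_openCover (P := @LocallyOfFinitePresentation)
    (Scheme.IsLocallyDirected.openCover (span o e))]
  intro i
  rcases i with _ | _ | _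
  · have h : colimit.ι (span o e) WalkingSpan.zero = o ≫ pushout.inl o e :=
      (colimit.w (span o e) WalkingSpan.Hom.fst).symm
    have h' : (o ≫ pushout.inl o e) ≫ pushout.desc uk vk hoe = o ≫ uk := by
      rw [Category.assoc, pushout.inl_desc]
    have h2 : colimit.ι (span o e) WalkingSpan.zero ≫ pushout.desc uk vk hoe = o ≫ uk :=
      (congrArg (· ≫ pushout.desc uk vk hoe) h).trans h'
    have h3 : LocallyOfFinitePresentation (o ≫ uk) := inferInstance
    change LocallyOfFinitePresentation (colimit.ι (span o e) WalkingSpan.zero ≫ _)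
    rw [h2]
    exact h3
  · change LocallyOfFinitePresentation (pushout.inl o e ≫ pushout.desc uk vk hoe)
    rw [pushout.inl_desc]; infer_instance
  · change LocallyOfFinitePresentation (pushout.inr o e ≫ pushout.desc uk vk hoe)
    rw [pushout.inr_desc]; infer_instance

theorem compactSpace_pushout [CompactSpace Uk] [CompactSpace Vk] :
    CompactSpace ↥(pushout o e) := by
  rw [← isCompact_univ_iff]
  have h : (Set.univ : Set ↥(pushout o e)) =
      Set.range (pushout.inl o e) ∪ Set.range (pushout.inr o e) := by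
    ext x
    simpa using pushout_jointly_surjective o e x
  rw [h]
  exact (isCompact_range (pushout.inl o e).continuous).union
    (isCompact_range (pushout.inr o e).continuous)

theorem quasiSeparatedSpace_pushout [QuasiSeparatedSpace Uk] [QuasiSeparatedSpace Vk]
    [CompactSpace Wk] : QuasiSeparatedSpace ↥(pushout o e) := by
  refine quasiSeparatedSpace_of_cover (pushout.inl o e).opensRange (pushout.inr o e).opensRange
    (pushout_jointly_surjective o e) ?_ ?_ ?_
  · have := (isQuasiSeparated_univ (α := Uk)).image_of_isEmbedding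
      (pushout.inl o e).isOpenEmbedding.isEmbedding
    rwa [Set.image_univ] at this
  · have := (isQuasiSeparated_univ (α := Vk)).image_of_isEmbedding
      (pushout.inr o e).isOpenEmbedding.isEmbedding
    rwa [Set.image_univ] at this
  · change IsCompact (Set.range (pushout.inl o e) ∩ Set.range (pushout.inr o e))
    rw [range_inl_inter_range_inr]
    exact isCompact_range (o ≫ pushout.inl o e).continuous

end PushoutProps

section Glue

variable {I : Type u} [Category.{u} I] (D : I ⥤ Scheme.{u}) (c : Cone D) (k : I)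

/-- **Gluing step.** -/
theorem exists_descend_of_glue [CompactSpace ↥(D.obj k)] [QuasiSeparatedSpace ↥(D.obj k)]
    {X U V W Uk Vk Wk : Scheme.{u}} (f : X ⟶ c.pt) (a : U ⟶ X) (b : V ⟶ X)
    [IsOpenImmersion a] [IsOpenImmersion b]
    (hab : ∀ x : X, x ∈ Set.range a ∨ x ∈ Set.range b)
    (w₁ : W ⟶ U) (w₂ : W ⟶ V) (hW : IsPullback w₁ w₂ a b)
    (uk : Uk ⟶ D.obj k) (vk : Vk ⟶ D.obj k)
    [LocallyOfFinitePresentation uk] [QuasiCompact uk] [QuasiSeparated uk]
    [LocallyOfFinitePresentation vk] [QuasiCompact vk] [QuasiSeparated vk]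
    (o : Wk ⟶ Uk) (e : Wk ⟶ Vk) [IsOpenImmersion o] [IsOpenImmersion e]
    (hoe : o ≫ uk = e ≫ vk) [CompactSpace ↥Wk]
    (qU : U ⟶ Uk) (qV : V ⟶ Vk) (qW : W ⟶ Wk)
    (hU : IsPullback qU (a ≫ f) uk (c.π.app k)) (hV : IsPullback qV (b ≫ f) vk (c.π.app k))
    (hWU : IsPullback qW w₁ o qU) (hWV : IsPullback qW w₂ e qV) :
    ∃ (Xk : Scheme.{u}) (fk : Xk ⟶ D.obj k) (g : X ⟶ Xk),
      LocallyOfFinitePresentation fk ∧ QuasiCompact fk ∧ QuasiSeparated fk ∧
        IsPullback g f fk (c.π.app k) := by
  have cU : CompactSpace ↥Uk := QuasiCompact.compactSpace_of_compactSpace uk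
  have cV : CompactSpace ↥Vk := QuasiCompact.compactSpace_of_compactSpace vk
  have sU : QuasiSeparatedSpace ↥Uk := quasiSeparatedSpace_of_quasiSeparated uk
  have sV : QuasiSeparatedSpace ↥Vk := quasiSeparatedSpace_of_quasiSeparated vk
  let P : Scheme.{u} := pushout o e
  let inl : Uk ⟶ P := pushout.inl o e
  let inr : Vk ⟶ P := pushout.inr o e
  let xk : P ⟶ D.obj k := pushout.desc uk vk hoe
  have hinl : inl ≫ xk = uk := pushout.inl_desc _ _ _
  have hinr : inr ≫ xk = vk := pushout.inr_desc _ _ _
  have hcond : o ≫ inl = e ≫ inr := pushout.condition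
  have p1 : LocallyOfFinitePresentation xk := locallyOfFinitePresentation_pushoutDesc uk vk o e hoe
  have cP : CompactSpace ↥P := compactSpace_pushout o e
  have sP : QuasiSeparatedSpace ↥P := quasiSeparatedSpace_pushout o e
  have p2 : QuasiCompact xk := inferInstance
  have p3 : QuasiSeparated xk := inferInstance
  -- the morphism `q : X ⟶ P`
  obtain ⟨q, hqU, hqV⟩ := exists_glue2 a b hab (qU ≫ inl) (qV ≫ inr) (by
    rw [← cancel_epi hW.isoPullback.hom, hW.isoPullback_hom_fst_assoc,
      hW.isoPullback_hom_snd_assoc, ← Category.assoc, ← hWU.w, ← Category.assoc, ← hWV.w,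
      Category.assoc, Category.assoc, hcond])
  have hq : q ≫ xk = f ≫ c.π.app k := by
    refine hom_ext2 a b hab _ _ ?_ ?_
    · rw [← Category.assoc, hqU, Category.assoc, hinl, ← Category.assoc]
      exact hU.w
    · rw [← Category.assoc, hqV, Category.assoc, hinr, ← Category.assoc]
      exact hV.w
  refine ⟨P, xk, q, p1, p2, p3, ?_⟩
  -- the comparison with the pullback
  let θ : X ⟶ pullback xk (c.π.app k) := pullback.lift q f hq
  have hθ1 : θ ≫ pullback.fst xk (c.π.app k) = q := pullback.lift_fst _ _ _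
  have hθ2 : θ ≫ pullback.snd xk (c.π.app k) = f := pullback.lift_snd _ _ _
  suffices hiso : IsIso θ by
    have := IsPullback.of_iso (IsPullback.of_hasPullback xk (c.π.app k))
      (asIso θ).symm (Iso.refl _) (Iso.refl _) (Iso.refl _)
      (fst' := q) (snd' := f) (f' := xk) (g' := c.π.app k)
      (by simp [← hθ1]) (by simp [← hθ2]) (by simp) (by simp)
    exact this
  -- the key squares
  have hint : ∀ (y : Uk) (z : Vk), inl y = inr z → ∃ w : Wk, o w = y ∧ e w = z :=
    fun y z h => exists_of_inl_eq_inr o e h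
  have hint' : ∀ (z : Vk) (y : Uk), inr z = inl y → ∃ w : Wk, e w = z ∧ o w = y := by
    intro z y h
    obtain ⟨w, h1, h2⟩ := hint y z h.symm
    exact ⟨w, h2, h1⟩
  have keyU : IsPullback qU a inl q :=
    isPullback_of_glue a b hab w₁ w₂ hW.w inl inr o e hint q qU qV qW hqU hqV hWV
  have keyV : IsPullback qV b inr q :=
    isPullback_of_glue b a (fun x => (hab x).symm) w₂ w₁ hW.w.symm inr inl e o hint' q qV qU qW
      hqV hqU hWU
  -- the pieces of the pullback
  let p₁ := pullback.fst xk (c.π.app k)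
  let p₂ := pullback.snd xk (c.π.app k)
  have hjs : ∀ x : ↥(pullback xk (c.π.app k)),
      x ∈ Set.range (pullback.fst p₁ inl) ∨ x ∈ Set.range (pullback.fst p₁ inr) := by
    intro x
    rcases pushout_jointly_surjective o e (p₁ x) with ⟨y, hy⟩ | ⟨z, hz⟩
    · obtain ⟨t, ht, -⟩ := Scheme.Pullback.exists_preimage_pullback (f := p₁) (g := inl) x y hy.symm
      exact Or.inl ⟨t, ht⟩
    · obtain ⟨t, ht, -⟩ := Scheme.Pullback.exists_preimage_pullback (f := p₁) (g := inr) x z hz.symm
      exact Or.inr ⟨t, ht⟩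
  -- the `U`-piece
  have hTU : IsPullback (pullback.snd p₁ inl) (pullback.fst p₁ inl ≫ p₂) uk (c.π.app k) :=
    isPullback_congr ((IsPullback.of_hasPullback p₁ inl).flip.paste_vert
      (IsPullback.of_hasPullback xk (c.π.app k))) rfl rfl hinl rfl
  have hTV : IsPullback (pullback.snd p₁ inr) (pullback.fst p₁ inr ≫ p₂) vk (c.π.app k) :=
    isPullback_congr ((IsPullback.of_hasPullback p₁ inr).flip.paste_vert
      (IsPullback.of_hasPullback xk (c.π.app k))) rfl rfl hinr rfl
  let βU : U ⟶ pullback p₁ inl := pullback.lift (a ≫ θ) qU (by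
    rw [Category.assoc, hθ1, hqU])
  let βV : V ⟶ pullback p₁ inr := pullback.lift (b ≫ θ) qV (by
    rw [Category.assoc, hθ1, hqV])
  have hβU1 : βU ≫ pullback.fst p₁ inl = a ≫ θ := pullback.lift_fst _ _ _
  have hβU2 : βU ≫ pullback.snd p₁ inl = qU := pullback.lift_snd _ _ _
  have hβV1 : βV ≫ pullback.fst p₁ inr = b ≫ θ := pullback.lift_fst _ _ _
  have hβV2 : βV ≫ pullback.snd p₁ inr = qV := pullback.lift_snd _ _ _
  have isoU : IsIso βU := by
    have : βU = (hU.isoIsPullback _ _ hTU).hom := by
      have e1 : βU ≫ pullback.fst p₁ inl ≫ p₂ = a ≫ f := by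
        rw [← Category.assoc, hβU1, Category.assoc, hθ2]
      apply hTU.hom_ext
      · exact hβU2.trans (IsPullback.isoIsPullback_hom_fst _ _ hU hTU).symm
      · exact e1.trans (IsPullback.isoIsPullback_hom_snd _ _ hU hTU).symm
    rw [this]; infer_instance
  have isoV : IsIso βV := by
    have : βV = (hV.isoIsPullback _ _ hTV).hom := by
      have e1 : βV ≫ pullback.fst p₁ inr ≫ p₂ = b ≫ f := by
        rw [← Category.assoc, hβV1, Category.assoc, hθ2]
      apply hTV.hom_ext
      · exact hβV2.trans (IsPullback.isoIsPullback_hom_fst _ _ hV hTV).symm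
      · exact e1.trans (IsPullback.isoIsPullback_hom_snd _ _ hV hTV).symm
    rw [this]; infer_instance
  have sqU : IsPullback a βU θ (pullback.fst p₁ inl) := by
    refine IsPullback.of_bot ?_ hβU1.symm (IsPullback.of_hasPullback p₁ inl)
    exact isPullback_congr keyU.flip rfl hβU2.symm hθ1.symm rfl
  have sqV : IsPullback b βV θ (pullback.fst p₁ inr) := by
    refine IsPullback.of_bot ?_ hβV1.symm (IsPullback.of_hasPullback p₁ inr)
    exact isPullback_congr keyV.flip rfl hβV2.symm hθ1.symm rfl
  exact isIso_of_cover2 (pullback.fst p₁ inl) (pullback.fst p₁ inr) hjs θ a βU b βV sqU sqV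

end Glue

end Groth.Agent.Lib.Helper23
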