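/-
Helper library (helper23): base change of a cofiltered limit of schemes along a morphism to one of
the stages is again a cofiltered limit (indexed by the slice category), with affine transition
maps if the original transition maps are affine.
-/
import Mathlib

set_option autoImplicit false
universe u
open CategoryTheory AlgebraicGeometry Limits

namespace Groth.Agent.Lib.Helper23

section BaseChange

variable {I : Type u} [Category.{u} I] (D : I ⥤ Scheme.{u}) (c : Cone D) (i₀ : I)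
  {Y₀ : Scheme.{u}} (g₀ : Y₀ ⟶ D.obj i₀)

/-- The base change of the diagram `D` (restricted to the slice over `i₀`) along `g₀`. -/
noncomputable def bcDiagram : Over i₀ ⥤ Scheme.{u} :=
  Over.post D ⋙ Over.pullback g₀ ⋙ Over.forget _

/-- The base change of the cone `c` along `g₀`. -/
noncomputable def bcCone : Cone (bcDiagram D i₀ g₀) :=
  (Over.pullback g₀ ⋙ Over.forget _).mapCone ((Over.conePost D i₀).obj c)

attribute [local instance] IsCofiltered.isConnected in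
/-- The base change of a limit cone is a limit cone. -/
noncomputable def isLimitBcCone [IsCofiltered I] (hc : IsLimit c) : IsLimit (bcCone D c i₀ g₀) :=
  isLimitOfPreserves (Over.pullback g₀ ⋙ Over.forget _) (Over.isLimitConePost i₀ hc)

/-- The projection of a stage of the base-changed diagram to the original stage. -/
noncomputable def bcFst (j : Over i₀) : (bcDiagram D i₀ g₀).obj j ⟶ D.obj j.left :=
  pullback.fst (D.map j.hom) g₀

/-- The projection of a stage of the base-changed diagram to `Y₀`. -/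
noncomputable def bcSnd (j : Over i₀) : (bcDiagram D i₀ g₀).obj j ⟶ Y₀ :=
  pullback.snd (D.map j.hom) g₀

/-- The projection of the base-changed limit to the original limit. -/
noncomputable def bcPtFst : (bcCone D c i₀ g₀).pt ⟶ c.pt :=
  pullback.fst (c.π.app i₀) g₀

/-- The projection of the base-changed limit to `Y₀`. -/
noncomputable def bcPtSnd : (bcCone D c i₀ g₀).pt ⟶ Y₀ :=
  pullback.snd (c.π.app i₀) g₀

theorem isPullback_bcObj (j : Over i₀) :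
    IsPullback (bcFst D i₀ g₀ j) (bcSnd D i₀ g₀ j) (D.map j.hom) g₀ :=
  IsPullback.of_hasPullback (D.map j.hom) g₀

theorem isPullback_bcPt :
    IsPullback (bcPtFst D c i₀ g₀) (bcPtSnd D c i₀ g₀) (c.π.app i₀) g₀ :=
  IsPullback.of_hasPullback (c.π.app i₀) g₀

@[reassoc]
theorem bcDiagram_map_fst {j k : Over i₀} (ψ : j ⟶ k) :
    (bcDiagram D i₀ g₀).map ψ ≫ bcFst D i₀ g₀ k = bcFst D i₀ g₀ j ≫ D.map ψ.left :=
  pullback.lift_fst _ _ _

@[reassoc]
theorem bcDiagram_map_snd {j k : Over i₀} (ψ : j ⟶ k) :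
    (bcDiagram D i₀ g₀).map ψ ≫ bcSnd D i₀ g₀ k = bcSnd D i₀ g₀ j :=
  pullback.lift_snd _ _ _

@[reassoc]
theorem bcCone_π_fst (j : Over i₀) :
    (bcCone D c i₀ g₀).π.app j ≫ bcFst D i₀ g₀ j = bcPtFst D c i₀ g₀ ≫ c.π.app j.left :=
  pullback.lift_fst _ _ _

@[reassoc]
theorem bcCone_π_snd (j : Over i₀) :
    (bcCone D c i₀ g₀).π.app j ≫ bcSnd D i₀ g₀ j = bcPtSnd D c i₀ g₀ :=
  pullback.lift_snd _ _ _

/-- The transition maps of the base-changed diagram are base changes of the original transition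
maps. -/
theorem isPullback_bcDiagram_map {j k : Over i₀} (ψ : j ⟶ k) :
    IsPullback (bcFst D i₀ g₀ j) ((bcDiagram D i₀ g₀).map ψ) (D.map ψ.left)
      (bcFst D i₀ g₀ k) := by
  have hbig : IsPullback (bcFst D i₀ g₀ j)
      ((bcDiagram D i₀ g₀).map ψ ≫ bcSnd D i₀ g₀ k)
      (D.map ψ.left ≫ D.map k.hom) g₀ := by
    rw [bcDiagram_map_snd, ← D.map_comp, Over.w]
    exact isPullback_bcObj D i₀ g₀ j
  exact IsPullback.of_bot hbig (bcDiagram_map_fst D i₀ g₀ ψ).symm (isPullback_bcObj D i₀ g₀ k)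

/-- The projections of the base-changed cone are base changes of the original projections. -/
theorem isPullback_bcCone_π (j : Over i₀) :
    IsPullback (bcPtFst D c i₀ g₀) ((bcCone D c i₀ g₀).π.app j) (c.π.app j.left)
      (bcFst D i₀ g₀ j) := by
  have hbig : IsPullback (bcPtFst D c i₀ g₀)
      ((bcCone D c i₀ g₀).π.app j ≫ bcSnd D i₀ g₀ j)
      (c.π.app j.left ≫ D.map j.hom) g₀ := by
    rw [bcCone_π_snd, c.w]
    exact isPullback_bcPt D c i₀ g₀
  exact IsPullback.of_bot hbig (bcCone_π_fst D c i₀ g₀ j).symm (isPullback_bcObj D i₀ g₀ j)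

instance isAffineHom_bcDiagram_map [∀ {i j : I} (f : i ⟶ j), IsAffineHom (D.map f)]
    {j k : Over i₀} (ψ : j ⟶ k) : IsAffineHom ((bcDiagram D i₀ g₀).map ψ) :=
  MorphismProperty.of_isPullback (P := @IsAffineHom) (isPullback_bcDiagram_map D i₀ g₀ ψ)
    inferInstance

end BaseChange

section Compare

variable {I : Type u} [Category.{u} I] (D : I ⥤ Scheme.{u}) (c : Cone D) (i₀ : I)
  {X₀ Y₀ : Scheme.{u}} (f₀ : X₀ ⟶ Y₀) (g₀ : Y₀ ⟶ D.obj i₀)

/-- The morphism between the stages of the base-changed diagrams induced by `f₀ : X₀ ⟶ Y₀`. -/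
noncomputable def bcMap (j : Over i₀) :
    (bcDiagram D i₀ (f₀ ≫ g₀)).obj j ⟶ (bcDiagram D i₀ g₀).obj j :=
  (isPullback_bcObj D i₀ g₀ j).lift (bcFst D i₀ (f₀ ≫ g₀) j) (bcSnd D i₀ (f₀ ≫ g₀) j ≫ f₀) (by
    rw [Category.assoc]
    exact (isPullback_bcObj D i₀ (f₀ ≫ g₀) j).w)

@[reassoc]
theorem bcMap_fst (j : Over i₀) :
    bcMap D i₀ f₀ g₀ j ≫ bcFst D i₀ g₀ j = bcFst D i₀ (f₀ ≫ g₀) j :=
  IsPullback.lift_fst _ _ _ _

@[reassoc]
theorem bcMap_snd (j : Over i₀) :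
    bcMap D i₀ f₀ g₀ j ≫ bcSnd D i₀ g₀ j = bcSnd D i₀ (f₀ ≫ g₀) j ≫ f₀ :=
  IsPullback.lift_snd _ _ _ _

theorem isPullback_bcMap (j : Over i₀) :
    IsPullback (bcSnd D i₀ (f₀ ≫ g₀) j) (bcMap D i₀ f₀ g₀ j) f₀ (bcSnd D i₀ g₀ j) := by
  have hbig : IsPullback (bcSnd D i₀ (f₀ ≫ g₀) j) (bcMap D i₀ f₀ g₀ j ≫ bcFst D i₀ g₀ j)
      (f₀ ≫ g₀) (D.map j.hom) := by
    rw [bcMap_fst]
    exact (isPullback_bcObj D i₀ (f₀ ≫ g₀) j).flip
  exact IsPullback.of_bot hbig (bcMap_snd D i₀ f₀ g₀ j).symm (isPullback_bcObj D i₀ g₀ j).flip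

/-- The morphism between the base-changed limits induced by `f₀ : X₀ ⟶ Y₀`. -/
noncomputable def bcPtMap : (bcCone D c i₀ (f₀ ≫ g₀)).pt ⟶ (bcCone D c i₀ g₀).pt :=
  (isPullback_bcPt D c i₀ g₀).lift (bcPtFst D c i₀ (f₀ ≫ g₀)) (bcPtSnd D c i₀ (f₀ ≫ g₀) ≫ f₀) (by
    rw [Category.assoc]
    exact (isPullback_bcPt D c i₀ (f₀ ≫ g₀)).w)

@[reassoc]
theorem bcPtMap_fst : bcPtMap D c i₀ f₀ g₀ ≫ bcPtFst D c i₀ g₀ = bcPtFst D c i₀ (f₀ ≫ g₀) :=
  IsPullback.lift_fst _ _ _ _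

@[reassoc]
theorem bcPtMap_snd :
    bcPtMap D c i₀ f₀ g₀ ≫ bcPtSnd D c i₀ g₀ = bcPtSnd D c i₀ (f₀ ≫ g₀) ≫ f₀ :=
  IsPullback.lift_snd _ _ _ _

theorem isPullback_bcPtMap :
    IsPullback (bcPtSnd D c i₀ (f₀ ≫ g₀)) (bcPtMap D c i₀ f₀ g₀) f₀ (bcPtSnd D c i₀ g₀) := by
  have hbig : IsPullback (bcPtSnd D c i₀ (f₀ ≫ g₀)) (bcPtMap D c i₀ f₀ g₀ ≫ bcPtFst D c i₀ g₀)
      (f₀ ≫ g₀) (c.π.app i₀) := by
    rw [bcPtMap_fst]
    exact (isPullback_bcPt D c i₀ (f₀ ≫ g₀)).flip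
  exact IsPullback.of_bot hbig (bcPtMap_snd D c i₀ f₀ g₀).symm (isPullback_bcPt D c i₀ g₀).flip

@[reassoc]
theorem bcCone_π_bcMap (j : Over i₀) :
    (bcCone D c i₀ (f₀ ≫ g₀)).π.app j ≫ bcMap D i₀ f₀ g₀ j =
      bcPtMap D c i₀ f₀ g₀ ≫ (bcCone D c i₀ g₀).π.app j := by
  apply (isPullback_bcObj D i₀ g₀ j).hom_ext
  · rw [Category.assoc, bcMap_fst, bcCone_π_fst, Category.assoc, bcCone_π_fst, bcPtMap_fst_assoc]
  · rw [Category.assoc, bcMap_snd, bcCone_π_snd_assoc, Category.assoc, bcCone_π_snd, bcPtMap_snd]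

/-- The limit of the source diagram is the fibre product of each of its stages with the limit of
the target diagram. -/
theorem isPullback_bcCone_π_bcPtMap (j : Over i₀) :
    IsPullback ((bcCone D c i₀ (f₀ ≫ g₀)).π.app j) (bcPtMap D c i₀ f₀ g₀) (bcMap D i₀ f₀ g₀ j)
      ((bcCone D c i₀ g₀).π.app j) := by
  have hbig : IsPullback ((bcCone D c i₀ (f₀ ≫ g₀)).π.app j ≫ bcSnd D i₀ (f₀ ≫ g₀) j)
      (bcPtMap D c i₀ f₀ g₀) f₀ ((bcCone D c i₀ g₀).π.app j ≫ bcSnd D i₀ g₀ j) := by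
    rw [bcCone_π_snd, bcCone_π_snd]
    exact isPullback_bcPtMap D c i₀ f₀ g₀
  exact IsPullback.of_right hbig (bcCone_π_bcMap D c i₀ f₀ g₀ j) (isPullback_bcMap D i₀ f₀ g₀ j)

end Compare

end Groth.Agent.Lib.Helper23
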