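/-
Helper library (helper23): quasi-affine morphisms (`MoreMor.IsQuasiAffineHom`, equivalently
`Mor2.IsQuasiAffine`) are stable under base change.
-/
import Mathlib
import Groth.Prelude.Def_MoreMor
import Groth.Agent.Lib.Helper11.QuasiAffine

set_option autoImplicit false
universe u
open CategoryTheory Limits AlgebraicGeometry

namespace Groth.Agent.Lib.Helper23

/-- Quasi-affine morphisms as a morphism property. -/
def quasiAffineHom : MorphismProperty Scheme.{u} := fun _ _ f => MoreMor.IsQuasiAffineHom f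

/-- Quasi-affine morphisms are stable under base change. -/
theorem isQuasiAffineHom_of_isPullback {X' X Y' Y : Scheme.{u}} {a : X' ⟶ X} {f' : X' ⟶ Y'}
    {f : X ⟶ Y} {b : Y' ⟶ Y} (H : IsPullback a f' f b) (hf : MoreMor.IsQuasiAffineHom f) :
    MoreMor.IsQuasiAffineHom f' := by
  have hqc : QuasiCompact f := hf.1
  have hqc' : QuasiCompact f' := MorphismProperty.of_isPullback (P := @QuasiCompact) H hqc
  refine Groth.Agent.Lib.Helper11.isQuasiAffineHom_of_forall_exists f' fun y' => ?_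
  obtain ⟨_, ⟨V, hV, rfl⟩, hyV, -⟩ := Y.isBasis_affineOpens.exists_subset_of_mem_open
    (Set.mem_univ (b y')) isOpen_univ
  obtain ⟨_, ⟨V', hV', rfl⟩, hyV', hV'V⟩ := Y'.isBasis_affineOpens.exists_subset_of_mem_open
    (show y' ∈ ((b ⁻¹ᵁ V : Y'.Opens) : Set Y') from hyV) (b ⁻¹ᵁ V).2
  refine ⟨V', hV', hyV', ?_⟩
  have hW : ((f ⁻¹ᵁ V : X.Opens) : Scheme.{u}).IsQuasiAffine := hf.2 V hV
  have hle : f' ⁻¹ᵁ V' ≤ a ⁻¹ᵁ (f ⁻¹ᵁ V) := by
    rw [← Scheme.Hom.comp_preimage, H.w, Scheme.Hom.comp_preimage]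
    exact Scheme.Hom.preimage_mono f' hV'V
  have hUY : f' ⁻¹ᵁ V' = a ⁻¹ᵁ (f ⁻¹ᵁ V) ⊓ f' ⁻¹ᵁ V' := (inf_eq_right.mpr hle).symm
  have sq := Scheme.Hom.isPullback_resLE H (US := V) (UT := V') (UX := f ⁻¹ᵁ V) hV'V le_rfl hUY
  have hVa : IsAffine (V : Scheme.{u}) := hV
  have hV'a : IsAffine (V' : Scheme.{u}) := hV'
  have haff : IsAffineHom (a.resLE (f ⁻¹ᵁ V) (f' ⁻¹ᵁ V') (by rw [hUY]; exact inf_le_left)) :=
    MorphismProperty.of_isPullback (P := @IsAffineHom) sq.flip inferInstance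
  refine Groth.Agent.Lib.Helper11.isQuasiAffine_of_isQuasiAffineHom
    (a.resLE (f ⁻¹ᵁ V) (f' ⁻¹ᵁ V') (by rw [hUY]; exact inf_le_left)) ⟨inferInstance, ?_⟩
  intro W hWaff
  have : IsAffine ((a.resLE (f ⁻¹ᵁ V) (f' ⁻¹ᵁ V') (by rw [hUY]; exact inf_le_left) ⁻¹ᵁ W :
      ((f' ⁻¹ᵁ V' : X'.Opens) : Scheme.{u}).Opens) : Scheme.{u}) := hWaff.preimage _
  infer_instance

instance : (quasiAffineHom.{u}).IsStableUnderBaseChange where
  of_isPullback sq hg := isQuasiAffineHom_of_isPullback sq hg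

end Groth.Agent.Lib.Helper23
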