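/-
Helper library (helper23): the properties of morphisms known (from landed milestones) to descend
through cofiltered limits with affine transition maps, in the form
`Groth.Agent.Lib.Helper23.DescendsThroughLimits`, and closure of that notion under conjunction.
-/
import Mathlib
import Groth.Agent.Lib.Helper23.FibreIndCons
import Groth.Agent.Lib.Helper23.QuasiAffineBC
import Groth.Agent.S2579
import Groth.Agent.S2580
import Groth.Agent.S2581
import Groth.Agent.S2582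
import Groth.Agent.S2583
import Groth.Agent.S2589
import Groth.Agent.S2590
import Groth.Agent.S2592
import Groth.Agent.S9187
import Groth.Agent.S9189
import Groth.Agent.S9190

set_option autoImplicit false
universe u
open CategoryTheory Limits AlgebraicGeometry

namespace Groth.Agent.Lib.Helper23

section Canonical

variable {X Y S : Scheme.{u}} (f : X ⟶ Y) (g : Y ⟶ S)

/-- `fibreMap f g β` is a base change of `f`. -/
theorem isPullback_fst_fibreMap {T : Scheme.{u}} (β : T ⟶ S) :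
    IsPullback (pullback.fst (f ≫ g) β) (fibreMap f g β) f (pullback.fst g β) := by
  have e1 : fibreMap f g β ≫ pullback.fst g β = pullback.fst (f ≫ g) β ≫ f :=
    pullback.lift_fst _ _ _
  have e2 : fibreMap f g β ≫ pullback.snd g β = pullback.snd (f ≫ g) β :=
    pullback.lift_snd _ _ _
  refine IsPullback.of_bot ?_ e1.symm (IsPullback.of_hasPullback g β)
  rw [e2]
  exact IsPullback.of_hasPullback (f ≫ g) β

/-- Abstract stage data carrying `P` yields `P` for the canonical base change `fibreMap`. -/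
theorem fibreMap_of_stage' (P : MorphismProperty Scheme.{u}) [P.IsStableUnderBaseChange]
    {T : Scheme.{u}} (β : T ⟶ S) {Xj Yj : Scheme.{u}} (fj : Xj ⟶ Yj) (gj : Yj ⟶ T)
    (pY : Yj ⟶ Y) (pX : Xj ⟶ X) (hYj : IsPullback pY gj g β) (hXj : IsPullback pX fj f pY)
    (hP : P fj) : P (fibreMap f g β) := by
  let e : pullback g β ⟶ Yj := hYj.lift (pullback.fst g β) (pullback.snd g β) pullback.condition
  have he1 : e ≫ pY = pullback.fst g β := hYj.lift_fst _ _ _
  have hw : pullback.fst (f ≫ g) β ≫ f = (fibreMap f g β ≫ e) ≫ pY := by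
    rw [Category.assoc, he1]
    exact (pullback.lift_fst _ _ _).symm
  let a : pullback (f ≫ g) β ⟶ Xj := hXj.lift (pullback.fst (f ≫ g) β) (fibreMap f g β ≫ e) hw
  have ha1 : a ≫ pX = pullback.fst (f ≫ g) β := hXj.lift_fst _ _ hw
  have ha2 : a ≫ fj = fibreMap f g β ≫ e := hXj.lift_snd _ _ hw
  have hsq : IsPullback a (fibreMap f g β) fj e := by
    refine IsPullback.of_right ?_ ha2 hXj
    rw [ha1, he1]
    exact isPullback_fst_fibreMap f g β
  exact P.of_isPullback hsq hP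

end Canonical

/-- Conjunctions of base-change-stable properties descending through limits descend. -/
theorem DescendsThroughLimits.and {Q₁ Q₂ : MorphismProperty Scheme.{u}}
    [Q₁.IsStableUnderBaseChange] [Q₂.IsStableUnderBaseChange]
    (h₁ : DescendsThroughLimits Q₁) (h₂ : DescendsThroughLimits Q₂) :
    DescendsThroughLimits (fun _ _ f => Q₁ f ∧ Q₂ f) := by
  intro I _ _ D c hc _ i₀ _ _ X₀ Y₀ f₀ g₀ _ _ _ _ _ _ X Y f g qY qX hY hX hf
  obtain ⟨i₁, φ₁, X₁, Y₁, f₁, g₁, pY₁, pX₁, hY₁, hX₁, hQ₁⟩ :=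
    h₁ D c hc i₀ f₀ g₀ f g qY qX hY hX hf.1
  obtain ⟨i₂, φ₂, X₂, Y₂, f₂, g₂, pY₂, pX₂, hY₂, hX₂, hQ₂⟩ :=
    h₂ D c hc i₀ f₀ g₀ f g qY qX hY hX hf.2
  obtain ⟨i, a, b, hab⟩ := IsCofiltered.cospan φ₁ φ₂
  have hc1 : Q₁ (fibreMap f₀ g₀ (D.map φ₁)) := fibreMap_of_stage' f₀ g₀ Q₁ _ f₁ g₁ pY₁ pX₁ hY₁ hX₁ hQ₁
  have hc2 : Q₂ (fibreMap f₀ g₀ (D.map φ₂)) := fibreMap_of_stage' f₀ g₀ Q₂ _ f₂ g₂ pY₂ pX₂ hY₂ hX₂ hQ₂
  have hd1 : Q₁ (fibreMap f₀ g₀ (D.map (a ≫ φ₁))) :=
    fibreMap_baseChange f₀ g₀ Q₁ (D.map φ₁) (D.map (a ≫ φ₁)) (D.map a) (D.map_comp a φ₁).symm hc1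
  have hd2 : Q₂ (fibreMap f₀ g₀ (D.map (a ≫ φ₁))) :=
    fibreMap_baseChange f₀ g₀ Q₂ (D.map φ₂) (D.map (a ≫ φ₁)) (D.map b)
      (by rw [hab]; exact (D.map_comp b φ₂).symm) hc2
  exact ⟨i, a ≫ φ₁, _, _, fibreMap f₀ g₀ (D.map (a ≫ φ₁)), pullback.snd g₀ (D.map (a ≫ φ₁)),
    pullback.fst _ _, pullback.fst _ _, IsPullback.of_hasPullback _ _,
    isPullback_fst_fibreMap f₀ g₀ _, hd1, hd2⟩

/-- Transfer along an implication valid at every stage. -/
theorem DescendsThroughLimits.mono {Q Q' : MorphismProperty Scheme.{u}}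
    (h : DescendsThroughLimits Q) (h1 : ∀ {X Y : Scheme.{u}} (f : X ⟶ Y), Q' f → Q f)
    (h2 : ∀ {X Y : Scheme.{u}} (f : X ⟶ Y), Q f → Q' f) : DescendsThroughLimits Q' := by
  intro I _ _ D c hc _ i₀ _ _ X₀ Y₀ f₀ g₀ _ _ _ _ _ _ X Y f g qY qX hY hX hf
  obtain ⟨i, φ, Xi, Yi, fi, gi, pY, pX, hYi, hXi, hQ⟩ :=
    h D c hc i₀ f₀ g₀ f g qY qX hY hX (h1 f hf)
  exact ⟨i, φ, Xi, Yi, fi, gi, pY, pX, hYi, hXi, h2 fi hQ⟩

theorem descends_mono : DescendsThroughLimits (MorphismProperty.monomorphisms Scheme.{u}) := by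
  intro I _ _ D c hc _ i₀ _ _ X₀ Y₀ f₀ g₀ _ _ _ _ _ _ X Y f g qY qX hY hX hf
  have : Mono f := hf
  exact Groth.Agent.S2579.result D c hc i₀ f₀ g₀ f g qY qX hY hX

theorem descends_isOpenImmersion : DescendsThroughLimits (@IsOpenImmersion) := by
  intro I _ _ D c hc _ i₀ _ _ X₀ Y₀ f₀ g₀ _ _ _ _ _ _ X Y f g qY qX hY hX hf
  have : IsOpenImmersion f := hf
  exact Groth.Agent.S2580.result D c hc i₀ f₀ g₀ f g qY qX hY hX

theorem descends_surjective : DescendsThroughLimits (@Surjective) := by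
  intro I _ _ D c hc _ i₀ _ _ X₀ Y₀ f₀ g₀ _ _ _ _ _ _ X Y f g qY qX hY hX hf
  have : Surjective f := hf
  exact Groth.Agent.S2581.result D c hc i₀ f₀ g₀ f g qY qX hY hX

theorem descends_isAffineHom : DescendsThroughLimits (@IsAffineHom) := by
  intro I _ _ D c hc _ i₀ _ _ X₀ Y₀ f₀ g₀ _ _ _ _ _ _ X Y f g qY qX hY hX hf
  have : IsAffineHom f := hf
  exact Groth.Agent.S2582.result D c hc i₀ f₀ g₀ f g qY qX hY hX

theorem descends_locallyQuasiFinite : DescendsThroughLimits (@LocallyQuasiFinite) := by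
  intro I _ _ D c hc _ i₀ _ _ X₀ Y₀ f₀ g₀ _ _ _ _ _ _ X Y f g qY qX hY hX hf
  have : LocallyQuasiFinite f := hf
  exact Groth.Agent.S2583.result D c hc i₀ f₀ g₀ f g qY qX hY hX

theorem descends_isImmersion : DescendsThroughLimits (@IsImmersion) := by
  intro I _ _ D c hc _ i₀ _ _ X₀ Y₀ f₀ g₀ _ _ _ _ _ _ X Y f g qY qX hY hX hf
  have : IsImmersion f := hf
  exact Groth.Agent.S2589.result D c hc i₀ f₀ g₀ f g qY qX hY hX

theorem descends_universallyInjective : DescendsThroughLimits (@UniversallyInjective) := by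
  intro I _ _ D c hc _ i₀ _ _ X₀ Y₀ f₀ g₀ _ _ _ _ _ _ X Y f g qY qX hY hX hf
  have : UniversallyInjective f := hf
  exact Groth.Agent.S2590.result D c hc i₀ f₀ g₀ f g qY qX hY hX

theorem descends_quasiAffineHom : DescendsThroughLimits (quasiAffineHom.{u}) := by
  intro I _ _ D c hc _ i₀ _ _ X₀ Y₀ f₀ g₀ _ _ _ _ _ _ X Y f g qY qX hY hX hf
  exact Groth.Agent.S2592.result D c hc i₀ f₀ g₀ f g qY qX hY hX hf

section Compact

variable {I : Type u} [SmallCategory I] (D : I ⥤ Scheme.{u}) (i₀ : I)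
  [CompactSpace (D.obj i₀)] [QuasiSeparatedSpace (D.obj i₀)] {X₀ Y₀ : Scheme.{u}}
  (f₀ : X₀ ⟶ Y₀) (g₀ : Y₀ ⟶ D.obj i₀)

omit [QuasiSeparatedSpace (D.obj i₀)] in
include g₀ in
theorem compactSpace_of_qc [QuasiCompact g₀] : CompactSpace Y₀ :=
  QuasiCompact.compactSpace_of_compactSpace g₀

omit [CompactSpace (D.obj i₀)] in
include g₀ in
theorem quasiSeparatedSpace_of_qs [QuasiSeparated g₀] : QuasiSeparatedSpace Y₀ :=
  quasiSeparatedSpace_of_quasiSeparated g₀

end Compact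

theorem descends_isClosedImmersion : DescendsThroughLimits (@IsClosedImmersion) := by
  intro I _ _ D c hc _ i₀ _ _ X₀ Y₀ f₀ g₀ _ _ _ _ _ _ X Y f g qY qX hY hX hf
  have : IsClosedImmersion f := hf
  have : CompactSpace Y₀ := compactSpace_of_qc D i₀ g₀
  have : QuasiSeparatedSpace Y₀ := quasiSeparatedSpace_of_qs D i₀ g₀
  have : CompactSpace X₀ := compactSpace_of_qc D i₀ (f₀ ≫ g₀)
  have : QuasiSeparatedSpace X₀ := quasiSeparatedSpace_of_qs D i₀ (f₀ ≫ g₀)
  have : LocallyOfFiniteType f₀ := locallyOfFiniteType_of_comp f₀ g₀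
  exact Groth.Agent.S9189.result D c hc i₀ f₀ g₀ f g qY qX hY hX

theorem descends_isFinite : DescendsThroughLimits (@IsFinite) := by
  intro I _ _ D c hc _ i₀ _ _ X₀ Y₀ f₀ g₀ _ _ _ _ _ _ X Y f g qY qX hY hX hf
  have : IsFinite f := hf
  have : CompactSpace Y₀ := compactSpace_of_qc D i₀ g₀
  have : QuasiSeparatedSpace Y₀ := quasiSeparatedSpace_of_qs D i₀ g₀
  have : CompactSpace X₀ := compactSpace_of_qc D i₀ (f₀ ≫ g₀)
  have : QuasiSeparatedSpace X₀ := quasiSeparatedSpace_of_qs D i₀ (f₀ ≫ g₀)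
  have : LocallyOfFiniteType f₀ := locallyOfFiniteType_of_comp f₀ g₀
  exact Groth.Agent.S9187.result D c hc i₀ f₀ g₀ f g qY qX hY hX

theorem descends_isSeparated : DescendsThroughLimits (@IsSeparated) := by
  intro I _ _ D c hc _ i₀ _ _ X₀ Y₀ f₀ g₀ _ _ _ _ _ _ X Y f g qY qX hY hX hf
  have : IsSeparated f := hf
  have : CompactSpace Y₀ := compactSpace_of_qc D i₀ g₀
  have : QuasiSeparatedSpace Y₀ := quasiSeparatedSpace_of_qs D i₀ g₀
  have : CompactSpace X₀ := compactSpace_of_qc D i₀ (f₀ ≫ g₀)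
  have : QuasiSeparatedSpace X₀ := quasiSeparatedSpace_of_qs D i₀ (f₀ ≫ g₀)
  exact Groth.Agent.S9190.result D c hc i₀ f₀ g₀ f g qY qX hY hX

theorem descends_isIso : DescendsThroughLimits (MorphismProperty.isomorphisms Scheme.{u}) := by
  intro I _ _ D c hc _ i₀ _ _ X₀ Y₀ f₀ g₀ _ _ _ _ _ _ X Y f g qY qX hY hX hf
  obtain ⟨i, φ, Xi, Yi, fi, gi, pY, pX, hYi, hXi, hQ⟩ :=
    DescendsThroughLimits.and @descends_isOpenImmersion.{u} @descends_surjective.{u}
      D c hc i₀ f₀ g₀ f g qY qX hY hX ((isIso_iff_isOpenImmersion_and_surjective f).mp hf)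
  exact ⟨i, φ, Xi, Yi, fi, gi, pY, pX, hYi, hXi,
    (isIso_iff_isOpenImmersion_and_surjective fi).mpr hQ⟩

/-- The property "locally of finite type, quasi-compact and locally quasi-finite". -/
def quasiFiniteHom : MorphismProperty Scheme.{u} :=
  fun _ _ f => LocallyOfFiniteType f ∧ QuasiCompact f ∧ LocallyQuasiFinite f

instance : (quasiFiniteHom.{u}).IsStableUnderBaseChange where
  of_isPullback {_ _ _ _ _ _ _ _} sq h :=
    ⟨MorphismProperty.of_isPullback (P := @LocallyOfFiniteType) sq h.1,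
      MorphismProperty.of_isPullback (P := @QuasiCompact) sq h.2.1,
      MorphismProperty.of_isPullback (P := @LocallyQuasiFinite) sq h.2.2⟩

theorem descends_quasiFiniteHom : DescendsThroughLimits (quasiFiniteHom.{u}) := by
  intro I _ _ D c hc _ i₀ _ _ X₀ Y₀ f₀ g₀ _ _ _ _ _ _ X Y f g qY qX hY hX hf
  have : LocallyQuasiFinite f := hf.2.2
  obtain ⟨i, φ, Xi, Yi, fi, gi, pY, pX, hYi, hXi, hQ⟩ :=
    Groth.Agent.S2583.result D c hc i₀ f₀ g₀ f g qY qX hY hX
  have h1 : LocallyOfFiniteType f₀ := locallyOfFiniteType_of_comp f₀ g₀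
  have h2 : QuasiCompact f₀ := QuasiCompact.of_comp f₀ g₀
  exact ⟨i, φ, Xi, Yi, fi, gi, pY, pX, hYi, hXi,
    MorphismProperty.of_isPullback (P := @LocallyOfFiniteType) hXi h1,
    MorphismProperty.of_isPullback (P := @QuasiCompact) hXi h2, hQ⟩

end Groth.Agent.Lib.Helper23
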