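/-
Helper library (helper23): descent of a morphism with a property `Q` between two schemes of
finite presentation over a cofiltered limit, in "eventual" form with canonical base changes
(EGA IV 8.8.2 + 8.10.5 combined).
-/
import Mathlib
import Groth.Agent.Lib.Helper23.ConsPairInd
import Groth.Agent.Lib.Helper23.DescendsInstances

set_option autoImplicit false
universe u
open CategoryTheory Limits AlgebraicGeometry

namespace Groth.Agent.Lib.Helper23

section Stage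

variable {I : Type u} [Category.{u} I] (D : I ⥤ Scheme.{u}) (c : Cone D)

/-- The canonical map from a scheme over the limit, pulled back from stage `i`, to its
canonical model over a further stage `k`. -/
noncomputable def toStage {i : I} {Xi X : Scheme.{u}} {xi : Xi ⟶ D.obj i} {x : X ⟶ c.pt}
    {q : X ⟶ Xi} (h : IsPullback q x xi (c.π.app i)) {k : I} (φ : k ⟶ i) :
    X ⟶ pullback xi (D.map φ) :=
  pullback.lift q (x ≫ c.π.app k) (by rw [h.w, Category.assoc, c.w])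

variable {i : I} {Xi X : Scheme.{u}} {xi : Xi ⟶ D.obj i} {x : X ⟶ c.pt}
    {q : X ⟶ Xi} (h : IsPullback q x xi (c.π.app i)) {k : I} (φ : k ⟶ i)

@[reassoc]
theorem toStage_fst : toStage D c h φ ≫ pullback.fst xi (D.map φ) = q := pullback.lift_fst _ _ _

@[reassoc]
theorem toStage_snd : toStage D c h φ ≫ pullback.snd xi (D.map φ) = x ≫ c.π.app k :=
  pullback.lift_snd _ _ _

theorem isPullback_toStage :
    IsPullback (toStage D c h φ) x (pullback.snd xi (D.map φ)) (c.π.app k) := by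
  refine IsPullback.of_right ?_ (toStage_snd D c h φ) (IsPullback.of_hasPullback xi (D.map φ))
  exact isPullback_congr h (toStage_fst D c h φ).symm rfl rfl (c.w φ).symm

end Stage

section Hom

variable {I : Type u} [SmallCategory I] [IsCofiltered I] (D : I ⥤ Scheme.{u}) (c : Cone D)
  (hc : IsLimit c) [∀ (i j : I) (f : i ⟶ j), IsAffineHom (D.map f)]
  [∀ i, CompactSpace ↥(D.obj i)] [∀ i, QuasiSeparatedSpace ↥(D.obj i)]

include hc in
/-- Descent of a morphism with property `Q` between finitely presented schemes over the limit: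
for all sufficiently large stages there is a morphism with `Q` between the canonical models
inducing the given one. -/
theorem exists_hom_descend_eventually (Q : MorphismProperty Scheme.{u})
    [Q.IsStableUnderBaseChange] (hdesc : DescendsThroughLimits Q) (i : I)
    {X₁ᵢ X₂ᵢ : Scheme.{u}} (x₁ᵢ : X₁ᵢ ⟶ D.obj i) (x₂ᵢ : X₂ᵢ ⟶ D.obj i)
    [LocallyOfFinitePresentation x₁ᵢ] [QuasiCompact x₁ᵢ] [QuasiSeparated x₁ᵢ]
    [LocallyOfFinitePresentation x₂ᵢ] [QuasiCompact x₂ᵢ] [QuasiSeparated x₂ᵢ]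
    {X₁ X₂ : Scheme.{u}} (x₁ : X₁ ⟶ c.pt) (x₂ : X₂ ⟶ c.pt) (q₁ : X₁ ⟶ X₁ᵢ) (q₂ : X₂ ⟶ X₂ᵢ)
    (h₁ : IsPullback q₁ x₁ x₁ᵢ (c.π.app i)) (h₂ : IsPullback q₂ x₂ x₂ᵢ (c.π.app i))
    (m : X₁ ⟶ X₂) (hm : m ≫ x₂ = x₁) (hQ : Q m) :
    ∃ (k : I) (φ : k ⟶ i), ∀ (k' : I) (φ' : k' ⟶ i) (ψ : k' ⟶ k), ψ ≫ φ = φ' →
      ∃ m' : pullback x₁ᵢ (D.map φ') ⟶ pullback x₂ᵢ (D.map φ'),
        m' ≫ pullback.snd x₂ᵢ (D.map φ') = pullback.snd x₁ᵢ (D.map φ') ∧ Q m' ∧
        IsPullback (toStage D c h₁ φ') m m' (toStage D c h₂ φ') := by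
  have c1 : CompactSpace ↥X₁ᵢ := QuasiCompact.compactSpace_of_compactSpace x₁ᵢ
  have c2 : QuasiSeparatedSpace ↥X₁ᵢ := quasiSeparatedSpace_of_quasiSeparated x₁ᵢ
  have c3 : CompactSpace ↥X₂ᵢ := QuasiCompact.compactSpace_of_compactSpace x₂ᵢ
  have c4 : QuasiSeparatedSpace ↥X₂ᵢ := quasiSeparatedSpace_of_quasiSeparated x₂ᵢ
  obtain ⟨j, φ₀, fj, sX, sY, hfj, hsX1, hsX2, hsY1, hsY2, hsf⟩ :=
    Groth.Agent.S9218.result D c hc i x₁ᵢ x₂ᵢ q₁ x₁ h₁ q₂ x₂ h₂ m hm
  have hsX : sX = toStage D c h₁ φ₀ := by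
    apply pullback.hom_ext
    · exact hsX1.trans (toStage_fst D c h₁ φ₀).symm
    · exact hsX2.trans (toStage_snd D c h₁ φ₀).symm
  have hsY : sY = toStage D c h₂ φ₀ := by
    apply pullback.hom_ext
    · exact hsY1.trans (toStage_fst D c h₂ φ₀).symm
    · exact hsY2.trans (toStage_snd D c h₂ φ₀).symm
  have hYj : IsPullback sY x₂ (pullback.snd x₂ᵢ (D.map φ₀)) (c.π.app j) := by
    rw [hsY]; exact isPullback_toStage D c h₂ φ₀
  have hXj' : IsPullback sX x₁ (pullback.snd x₁ᵢ (D.map φ₀)) (c.π.app j) := by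
    rw [hsX]; exact isPullback_toStage D c h₁ φ₀
  have hXj : IsPullback sX m fj sY := by
    refine IsPullback.of_bot ?_ hsf hYj
    exact isPullback_congr hXj' rfl hm.symm hfj.symm rfl
  have i1 : LocallyOfFinitePresentation (fj ≫ pullback.snd x₂ᵢ (D.map φ₀)) := by
    rw [hfj]; infer_instance
  have i2 : QuasiCompact (fj ≫ pullback.snd x₂ᵢ (D.map φ₀)) := by
    rw [hfj]; infer_instance
  have i3 : QuasiSeparated (fj ≫ pullback.snd x₂ᵢ (D.map φ₀)) := by
    rw [hfj]; infer_instance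
  obtain ⟨k, φ₁, Xi, Yi, fi, gi, pY, pX, hYi, hXi, hQi⟩ :=
    hdesc D c hc j fj (pullback.snd x₂ᵢ (D.map φ₀)) m x₂ sY sX hYj hXj hQ
  refine ⟨k, φ₁ ≫ φ₀, ?_⟩
  intro k' φ' ψ hψ
  have hρ : D.map (ψ ≫ φ₁) ≫ D.map φ₀ = D.map φ' := by
    rw [← D.map_comp, Category.assoc, hψ]
  obtain ⟨pX', hpX'1, hpX'⟩ := exists_isPullback_of_fac
    (IsPullback.of_hasPullback x₁ᵢ (D.map φ₀)) (IsPullback.of_hasPullback x₁ᵢ (D.map φ'))
    (D.map (ψ ≫ φ₁)) hρ
  obtain ⟨pY', hpY'1, hpY'⟩ := exists_isPullback_of_fac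
    (IsPullback.of_hasPullback x₂ᵢ (D.map φ₀)) (IsPullback.of_hasPullback x₂ᵢ (D.map φ'))
    (D.map (ψ ≫ φ₁)) hρ
  obtain ⟨m', hm', hsq⟩ := exists_baseChange_hom hpX' hpY' fj hfj
  refine ⟨m', hm', ?_, ?_⟩
  · -- `m'` is a base change of `fi`
    have hw : pY' ≫ pullback.snd x₂ᵢ (D.map φ₀) =
        (pullback.snd x₂ᵢ (D.map φ') ≫ D.map ψ) ≫ D.map φ₁ := by
      rw [Category.assoc, ← D.map_comp]; exact hpY'.w
    let t : pullback x₂ᵢ (D.map φ') ⟶ Yi := hYi.lift pY' (pullback.snd x₂ᵢ (D.map φ') ≫ D.map ψ) hw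
    have ht : t ≫ pY = pY' := hYi.lift_fst _ _ hw
    have hw2 : pX' ≫ fj = (m' ≫ t) ≫ pY := by
      rw [Category.assoc, ht]; exact hsq.w
    let s : pullback x₁ᵢ (D.map φ') ⟶ Xi := hXi.lift pX' (m' ≫ t) hw2
    have hs1 : s ≫ pX = pX' := hXi.lift_fst _ _ hw2
    have hs2 : s ≫ fi = m' ≫ t := hXi.lift_snd _ _ hw2
    have hsq' : IsPullback s m' fi t := by
      refine IsPullback.of_right ?_ hs2 hXi
      exact isPullback_congr hsq hs1.symm rfl rfl ht.symm
    exact Q.of_isPullback hsq' hQi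
  · -- compatibility with `m`
    have e1 : toStage D c h₁ φ' ≫ pX' = sX := by
      apply pullback.hom_ext
      · rw [Category.assoc, hpX'1, toStage_fst, hsX1]
      · rw [Category.assoc, hpX'.w, toStage_snd_assoc, hsX2]
        congr 1
        exact c.w (ψ ≫ φ₁)
    have e2 : toStage D c h₂ φ' ≫ pY' = sY := by
      apply pullback.hom_ext
      · rw [Category.assoc, hpY'1, toStage_fst, hsY1]
      · rw [Category.assoc, hpY'.w, toStage_snd_assoc, hsY2]
        congr 1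
        exact c.w (ψ ≫ φ₁)
    have e3 : toStage D c h₁ φ' ≫ m' = m ≫ toStage D c h₂ φ' := by
      apply pullback.hom_ext
      · have : m' ≫ pullback.fst x₂ᵢ (D.map φ') = pX' ≫ fj ≫ pullback.fst x₂ᵢ (D.map φ₀) := by
          rw [← hpY'1, ← Category.assoc, ← hsq.w, Category.assoc]
        rw [Category.assoc, this, ← Category.assoc, e1, ← Category.assoc, hsf, Category.assoc,
          hsY1, Category.assoc, toStage_fst]
      · rw [Category.assoc, hm', toStage_snd, Category.assoc, toStage_snd, ← Category.assoc, hm]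
    refine IsPullback.of_right ?_ e3 hsq
    exact isPullback_congr hXj e1.symm rfl rfl e2.symm

end Hom

end Groth.Agent.Lib.Helper23
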