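/-
Helper library (helper23): a quasi-compact open subscheme of a scheme that descends to a stage
of a cofiltered limit descends to a (later) stage (EGA IV 8.2.11 + 8.9.1 preparation).
-/
import Mathlib
import Groth.Agent.Lib.Helper23.BaseChangeLim
import Groth.Agent.Lib.Helper23.FpDescentHom

set_option autoImplicit false
universe u
open CategoryTheory Limits AlgebraicGeometry

namespace Groth.Agent.Lib.Helper23

section OpenDescent

variable {I : Type u} [SmallCategory I] [IsCofiltered I] (D : I ⥤ Scheme.{u}) (c : Cone D)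
  (hc : IsLimit c) [∀ {i j : I} (f : i ⟶ j), IsAffineHom (D.map f)]

include hc in
/-- A quasi-compact open of a scheme pulled back from stage `i` is the preimage of a
quasi-compact open of the canonical model over some later stage. -/
theorem exists_opens_descend {i : I} {Ui U : Scheme.{u}} {ui : Ui ⟶ D.obj i} {u : U ⟶ c.pt}
    {qU : U ⟶ Ui} (hU : IsPullback qU u ui (c.π.app i)) (O : U.Opens)
    (hO : IsCompact (O : Set U)) :
    ∃ (j : I) (φ : j ⟶ i) (Oj : (pullback ui (D.map φ)).Opens),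
      IsCompact (Oj : Set ↥(pullback ui (D.map φ))) ∧
      (toStage D c hU φ) ⁻¹ᵁ Oj = O := by
  let ε : U ≅ pullback (c.π.app i) ui := hU.flip.isoPullback
  have hε1 : ε.hom ≫ pullback.fst (c.π.app i) ui = u := hU.flip.isoPullback_hom_fst
  have hε2 : ε.hom ≫ pullback.snd (c.π.app i) ui = qU := hU.flip.isoPullback_hom_snd
  let O' : (bcCone D c i ui).pt.Opens := ε.inv ⁻¹ᵁ O
  have hO' : IsCompact (O' : Set (bcCone D c i ui).pt) := by
    have h1 : (O' : Set (bcCone D c i ui).pt) = ε.hom '' (O : Set U) := by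
      ext x
      constructor
      · intro hx
        refine ⟨ε.inv x, hx, ?_⟩
        rw [← Scheme.Hom.comp_apply, Iso.inv_hom_id]; rfl
      · rintro ⟨y, hy, rfl⟩
        change ε.inv (ε.hom y) ∈ O
        rw [← Scheme.Hom.comp_apply, Iso.hom_inv_id]; exact hy
    rw [h1]
    exact hO.image ε.hom.continuous
  obtain ⟨j, Oj, hOjc, hOj⟩ := exists_preimage_eq (bcDiagram D i ui) (bcCone D c i ui)
    (isLimitBcCone D c i ui hc) O' hO'
  let P : Scheme.{u} := pullback (c.π.app i) ui
  let Tj : Scheme.{u} := pullback (D.map j.hom) ui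
  let πj : P ⟶ Tj := (bcCone D c i ui).π.app j
  have hπ1 : πj ≫ pullback.fst (D.map j.hom) ui =
      pullback.fst (c.π.app i) ui ≫ c.π.app j.left := bcCone_π_fst D c i ui j
  have hπ2 : πj ≫ pullback.snd (D.map j.hom) ui = pullback.snd (c.π.app i) ui :=
    bcCone_π_snd D c i ui j
  let Oj' : Tj.Opens := Oj
  have hOjc' : IsCompact (Oj' : Set ↥Tj) := hOjc
  have hOj' : πj ⁻¹ᵁ Oj' = (ε.inv ⁻¹ᵁ O : P.Opens) := hOj
  let σ : pullback ui (D.map j.hom) ≅ Tj := pullbackSymmetry _ _
  have hσ1 : σ.hom ≫ pullback.fst (D.map j.hom) ui = pullback.snd ui (D.map j.hom) :=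
    pullbackSymmetry_hom_comp_fst _ _
  have hσ2 : σ.hom ≫ pullback.snd (D.map j.hom) ui = pullback.fst ui (D.map j.hom) :=
    pullbackSymmetry_hom_comp_snd _ _
  refine ⟨j.left, j.hom, σ.hom ⁻¹ᵁ Oj', ?_, ?_⟩
  · have h1 : ((σ.hom ⁻¹ᵁ Oj' : (pullback ui (D.map j.hom)).Opens) :
        Set ↥(pullback ui (D.map j.hom))) = σ.inv '' (Oj' : Set ↥Tj) := by
      ext x
      constructor
      · intro hx
        refine ⟨σ.hom x, hx, ?_⟩
        rw [← Scheme.Hom.comp_apply, Iso.hom_inv_id]; rfl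
      · rintro ⟨y, hy, rfl⟩
        change σ.hom (σ.inv y) ∈ Oj'
        rw [← Scheme.Hom.comp_apply, Iso.inv_hom_id]; exact hy
    rw [h1]
    exact hOjc'.image σ.inv.continuous
  · have hcomm : toStage D c hU j.hom ≫ σ.hom = ε.hom ≫ πj := by
      apply pullback.hom_ext
      · rw [Category.assoc, hσ1, toStage_snd, Category.assoc, hπ1, ← Category.assoc, hε1]
      · rw [Category.assoc, hσ2, toStage_fst, Category.assoc, hπ2, hε2]
    rw [← Scheme.Hom.comp_preimage, hcomm, Scheme.Hom.comp_preimage, hOj',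
      ← Scheme.Hom.comp_preimage, Iso.hom_inv_id]
    rfl

/-- `x : X ⟶ c.pt` is the base change of a morphism of finite presentation to some stage. -/
def Descends {X : Scheme.{u}} (x : X ⟶ c.pt) : Prop :=
  ∃ (i : I) (Xi : Scheme.{u}) (xi : Xi ⟶ D.obj i) (q : X ⟶ Xi),
    LocallyOfFinitePresentation xi ∧ QuasiCompact xi ∧ QuasiSeparated xi ∧
      IsPullback q x xi (c.π.app i)

include hc in
/-- A quasi-compact open subscheme of a scheme which descends also descends. -/
theorem descends_of_isOpenImmersion [∀ i, QuasiSeparatedSpace ↥(D.obj i)]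
    {U W : Scheme.{u}} {u : U ⟶ c.pt} (hu : Descends D c u)
    (o : W ⟶ U) [IsOpenImmersion o] [CompactSpace ↥W] : Descends D c (o ≫ u) := by
  obtain ⟨i, Ui, ui, qU, h1, h2, h3, hU⟩ := hu
  obtain ⟨j, φ, Oj, hOjc, hOj⟩ := exists_opens_descend D c hc hU o.opensRange
    (isCompact_range o.continuous)
  have cO : CompactSpace ↥(Oj : Scheme.{u}) := isCompact_iff_compactSpace.mp hOjc
  have hrange : Set.range (o ≫ toStage D c hU φ) ⊆ Set.range Oj.ι := by
    rintro _ ⟨w, rfl⟩
    rw [Scheme.Opens.range_ι]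
    have : o w ∈ (toStage D c hU φ) ⁻¹ᵁ Oj := by rw [hOj]; exact ⟨w, rfl⟩
    exact this
  let qW : W ⟶ Oj := IsOpenImmersion.lift Oj.ι (o ≫ toStage D c hU φ) hrange
  have hqW : qW ≫ Oj.ι = o ≫ toStage D c hU φ := IsOpenImmersion.lift_fac _ _ _
  have hsq : IsPullback qW o Oj.ι (toStage D c hU φ) :=
    IsOpenImmersion.isPullback qW o Oj.ι (toStage D c hU φ) hqW.symm
      (by rw [Scheme.Opens.opensRange_ι]; exact hOj)
  exact ⟨j, Oj, Oj.ι ≫ pullback.snd ui (D.map φ), qW, inferInstance, inferInstance, inferInstance,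
    hsq.paste_vert (isPullback_toStage D c hU φ)⟩

end OpenDescent

end Groth.Agent.Lib.Helper23
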