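/-
Helper library (helper23): descent of morphisms of finite presentation through cofiltered limits
of qcqs schemes with affine transition maps (EGA IV 8.9.1).
-/
import Mathlib
import Groth.Agent.Lib.Helper23.FpDescentAffine
import Groth.Agent.Lib.Helper23.FpDescentOpen
import Groth.Agent.Lib.Helper23.FpDescentGlue

set_option autoImplicit false
universe u
open CategoryTheory Limits AlgebraicGeometry

namespace Groth.Agent.Lib.Helper23

section Main

variable {I : Type u} [SmallCategory I] [IsCofiltered I] (D : I ⥤ Scheme.{u}) (c : Cone D)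
  (hc : IsLimit c) [∀ {i j : I} (f : i ⟶ j), IsAffineHom (D.map f)]
  [∀ i, QuasiSeparatedSpace ↥(D.obj i)]

include hc in
/-- **Lemma A.** An affine scheme locally of finite presentation over the limit, whose image
lies in the preimage of an affine open of a stage, descends. -/
theorem descends_of_affine {U : Scheme.{u}} [IsAffine U] (f : U ⟶ c.pt)
    [LocallyOfFinitePresentation f] (i : I) (V : (D.obj i).Opens) (hV : IsAffineOpen V)
    (hrange : Set.range f ⊆ (c.π.app i ⁻¹ᵁ V : c.pt.Opens)) : Descends D c f := by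
  let P : c.pt.Opens := c.π.app i ⁻¹ᵁ V
  have hr : Set.range f ⊆ Set.range P.ι := by rw [Scheme.Opens.range_ι]; exact hrange
  let g : U ⟶ P.toScheme := IsOpenImmersion.lift P.ι f hr
  have hg : g ≫ P.ι = f := IsOpenImmersion.lift_fac _ _ _
  have hgfp : LocallyOfFinitePresentation g :=
    MorphismProperty.of_postcomp (W := @LocallyOfFinitePresentation) (W' := @IsOpenImmersion)
      g P.ι inferInstance (by rw [hg]; infer_instance)
  have hAff : ∀ j, IsAffine ((opensDiagram D i V).obj j) := fun j => hV.preimage _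
  let g' : U ⟶ (opensCone D c i V).pt := g
  have hgfp' : LocallyOfFinitePresentation g' := hgfp
  obtain ⟨j, Uj, gj, q, hUj, hgj, hpb⟩ := exists_descend_affine (opensDiagram D i V)
    (opensCone D c i V) (isLimitOpensCone D c hc i V) g'
  let Vj : (D.obj j.left).Opens := D.map j.hom ⁻¹ᵁ V
  have h : c.π.app j.left ⁻¹ᵁ Vj = P := congr($(c.w j.hom) ⁻¹ᵁ V)
  let πj' : P.toScheme ⟶ Vj.toScheme := (c.π.app j.left).resLE Vj P h.ge
  let ιj : Vj.toScheme ⟶ D.obj j.left := Vj.ι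
  have hsq : IsPullback πj' P.ι ιj (c.π.app j.left) :=
    IsOpenImmersion.isPullback πj' P.ι ιj (c.π.app j.left)
      (Scheme.Hom.resLE_comp_ι _ _).symm (by
        rw [Scheme.Opens.opensRange_ι, Scheme.Opens.opensRange_ι]; exact h)
  have hpaste := hpb.paste_vert hsq
  have hιj : IsOpenImmersion ιj := inferInstanceAs (IsOpenImmersion Vj.ι)
  let gj' : Uj ⟶ Vj.toScheme := gj
  have hgj' : LocallyOfFinitePresentation gj' := hgj
  refine ⟨j.left, Uj, gj' ≫ ιj, q, inferInstance, inferInstance, inferInstance, ?_⟩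
  · exact isPullback_congr hpaste rfl hg rfl rfl

omit [∀ {i j : I} (f : i ⟶ j), IsAffineHom (D.map f)] [∀ i, QuasiSeparatedSpace ↥(D.obj i)] in
/-- **Lemma E.** The empty scheme descends. -/
theorem descends_of_isEmpty {X : Scheme.{u}} [IsEmpty ↥X] (f : X ⟶ c.pt) : Descends D c f := by
  obtain ⟨i⟩ := IsCofiltered.nonempty (C := I)
  let xi : (∅ : Scheme.{u}) ⟶ D.obj i := Scheme.emptyTo _
  have hX : IsInitial X := isInitialOfIsEmpty
  have hP : IsEmpty ↥(pullback xi (c.π.app i)) :=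
    Function.isEmpty (pullback.fst xi (c.π.app i))
  have hP' : IsInitial (pullback xi (c.π.app i)) := isInitialOfIsEmpty
  refine ⟨i, ∅, xi, hX.to _, inferInstance, inferInstance, inferInstance, ?_⟩
  exact IsPullback.of_iso_pullback ⟨hX.hom_ext _ _⟩ (hX.uniqueUpToIso hP')
    (hX.hom_ext _ _) (hX.hom_ext _ _)

include hc in
/-- **Inductive step.** If `X` is covered by two opens which descend, then `X` descends. -/
theorem descends_of_cover [∀ i, CompactSpace ↥(D.obj i)] {X U V : Scheme.{u}}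
    [QuasiSeparatedSpace ↥X] (f : X ⟶ c.pt)
    (a : U ⟶ X) (b : V ⟶ X) [IsOpenImmersion a] [IsOpenImmersion b]
    (hab : ∀ x : X, x ∈ Set.range a ∨ x ∈ Set.range b)
    (hU : Descends D c (a ≫ f)) (hV : Descends D c (b ≫ f)) : Descends D c f := by
  have hAff : ∀ (i j : I) (φ : i ⟶ j), IsAffineHom (D.map φ) := fun _ _ φ => inferInstance
  have cpt : CompactSpace ↥c.pt := Scheme.compactSpace_of_isLimit D c hc
  -- the intersection
  let w₁ : pullback a b ⟶ U := pullback.fst a b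
  let w₂ : pullback a b ⟶ V := pullback.snd a b
  have hW : IsPullback w₁ w₂ a b := IsPullback.of_hasPullback a b
  have hWdesc : Descends D c (w₁ ≫ a ≫ f) := by
    obtain ⟨i₂, V₂, v₂, qV₂, hv1, hv2, hv3, hV₂⟩ := hV
    obtain ⟨i₁, U₁, u₁, qU₁, hu1, hu2, hu3, hU₁⟩ := id hU
    have qcU : QuasiCompact (a ≫ f) := MorphismProperty.of_isPullback hU₁ hu2
    have qcV : QuasiCompact (b ≫ f) := MorphismProperty.of_isPullback hV₂ hv2
    have cU : CompactSpace ↥U := QuasiCompact.compactSpace_of_compactSpace (a ≫ f)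
    have cV : CompactSpace ↥V := QuasiCompact.compactSpace_of_compactSpace (b ≫ f)
    have qcb : QuasiCompact b := inferInstance
    have qcw : QuasiCompact w₁ := inferInstanceAs (QuasiCompact (pullback.fst a b))
    have cW : CompactSpace ↥(pullback a b) := QuasiCompact.compactSpace_of_compactSpace w₁
    exact descends_of_isOpenImmersion D c hc hU w₁
  obtain ⟨i₁, U₁, u₁, qU₁, hu1, hu2, hu3, hU₁⟩ := hU
  obtain ⟨i₂, V₂, v₂, qV₂, hv1, hv2, hv3, hV₂⟩ := hV
  obtain ⟨i₃, W₃, w₃, qW₃, hw1, hw2, hw3, hW₃⟩ := hWdesc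
  -- a common stage
  obtain ⟨j, ψ₁, ψ₂, ψ₃, -⟩ : ∃ (j : I) (ψ₁ : j ⟶ i₁) (ψ₂ : j ⟶ i₂) (ψ₃ : j ⟶ i₃), True :=
    ⟨IsCofiltered.min (IsCofiltered.min i₁ i₂) i₃,
      IsCofiltered.minToLeft _ _ ≫ IsCofiltered.minToLeft _ _,
      IsCofiltered.minToLeft _ _ ≫ IsCofiltered.minToRight _ _,
      IsCofiltered.minToRight _ _, trivial⟩
  let uj : pullback u₁ (D.map ψ₁) ⟶ D.obj j := pullback.snd u₁ (D.map ψ₁)
  let vj : pullback v₂ (D.map ψ₂) ⟶ D.obj j := pullback.snd v₂ (D.map ψ₂)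
  let wj : pullback w₃ (D.map ψ₃) ⟶ D.obj j := pullback.snd w₃ (D.map ψ₃)
  have hUj : IsPullback (toStage D c hU₁ ψ₁) (a ≫ f) uj (c.π.app j) := isPullback_toStage D c hU₁ ψ₁
  have hVj : IsPullback (toStage D c hV₂ ψ₂) (b ≫ f) vj (c.π.app j) := isPullback_toStage D c hV₂ ψ₂
  have hWj : IsPullback (toStage D c hW₃ ψ₃) (w₁ ≫ a ≫ f) wj (c.π.app j) :=
    isPullback_toStage D c hW₃ ψ₃
  have iu1 : LocallyOfFinitePresentation uj := inferInstanceAs
    (LocallyOfFinitePresentation (pullback.snd u₁ (D.map ψ₁)))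
  have iu2 : QuasiCompact uj := inferInstanceAs (QuasiCompact (pullback.snd u₁ (D.map ψ₁)))
  have iu3 : QuasiSeparated uj := inferInstanceAs (QuasiSeparated (pullback.snd u₁ (D.map ψ₁)))
  have iv1 : LocallyOfFinitePresentation vj := inferInstanceAs
    (LocallyOfFinitePresentation (pullback.snd v₂ (D.map ψ₂)))
  have iv2 : QuasiCompact vj := inferInstanceAs (QuasiCompact (pullback.snd v₂ (D.map ψ₂)))
  have iv3 : QuasiSeparated vj := inferInstanceAs (QuasiSeparated (pullback.snd v₂ (D.map ψ₂)))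
  have iw1 : LocallyOfFinitePresentation wj := inferInstanceAs
    (LocallyOfFinitePresentation (pullback.snd w₃ (D.map ψ₃)))
  have iw2 : QuasiCompact wj := inferInstanceAs (QuasiCompact (pullback.snd w₃ (D.map ψ₃)))
  have iw3 : QuasiSeparated wj := inferInstanceAs (QuasiSeparated (pullback.snd w₃ (D.map ψ₃)))
  -- descend the two open immersions
  obtain ⟨k₁, θ₁, H₁⟩ := exists_hom_descend_eventually D c hc @IsOpenImmersion
    @descends_isOpenImmersion.{u} j wj uj (w₁ ≫ a ≫ f) (a ≫ f) _ _ hWj hUj w₁ rfl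
    (inferInstanceAs (IsOpenImmersion (pullback.fst a b)))
  obtain ⟨k₂, θ₂, H₂⟩ := exists_hom_descend_eventually D c hc @IsOpenImmersion
    @descends_isOpenImmersion.{u} j wj vj (w₁ ≫ a ≫ f) (b ≫ f) _ _ hWj hVj w₂
    (by rw [← Category.assoc, ← Category.assoc, hW.w]) (inferInstanceAs (IsOpenImmersion (pullback.snd a b)))
  obtain ⟨k, ρ₁, ρ₂, hρ⟩ := IsCofiltered.cospan θ₁ θ₂
  obtain ⟨o, ho1, ho2, ho3⟩ := H₁ k (ρ₁ ≫ θ₁) ρ₁ rfl
  obtain ⟨e, he1, he2, he3⟩ := H₂ k (ρ₁ ≫ θ₁) ρ₂ hρ.symm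
  have : IsOpenImmersion o := ho2
  have : IsOpenImmersion e := he2
  have cWk : CompactSpace ↥(pullback wj (D.map (ρ₁ ≫ θ₁))) :=
    QuasiCompact.compactSpace_of_compactSpace (pullback.snd wj (D.map (ρ₁ ≫ θ₁)))
  obtain ⟨Xk, fk, g, h1, h2, h3, h4⟩ := exists_descend_of_glue D c k f a b hab w₁ w₂ hW
    (pullback.snd uj (D.map (ρ₁ ≫ θ₁))) (pullback.snd vj (D.map (ρ₁ ≫ θ₁))) o e
    (ho1.trans he1.symm) (toStage D c hUj (ρ₁ ≫ θ₁)) (toStage D c hVj (ρ₁ ≫ θ₁))
    (toStage D c hWj (ρ₁ ≫ θ₁)) (isPullback_toStage D c hUj _) (isPullback_toStage D c hVj _)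
    ho3 he3
  exact ⟨k, Xk, fk, g, h1, h2, h3, h4⟩

include hc in
/-- Two opens which descend have a union which descends. -/
theorem descends_sup [∀ i, CompactSpace ↥(D.obj i)] {X : Scheme.{u}} [QuasiSeparatedSpace ↥X]
    (f : X ⟶ c.pt) (O₁ O₂ : X.Opens) (h₁ : Descends D c (O₁.ι ≫ f))
    (h₂ : Descends D c (O₂.ι ≫ f)) : Descends D c ((O₁ ⊔ O₂).ι ≫ f) := by
  have qs : QuasiSeparatedSpace ↥(O₁ ⊔ O₂).toScheme :=
    quasiSeparatedSpace_of_quasiSeparated (O₁ ⊔ O₂).ι
  let a : O₁.toScheme ⟶ (O₁ ⊔ O₂).toScheme := X.homOfLE le_sup_left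
  let b : O₂.toScheme ⟶ (O₁ ⊔ O₂).toScheme := X.homOfLE le_sup_right
  have ha : a ≫ (O₁ ⊔ O₂).ι = O₁.ι := X.homOfLE_ι _
  have hb : b ≫ (O₁ ⊔ O₂).ι = O₂.ι := X.homOfLE_ι _
  have hinj : Function.Injective (O₁ ⊔ O₂).ι := (O₁ ⊔ O₂).ι.isOpenEmbedding.injective
  refine descends_of_cover D c hc ((O₁ ⊔ O₂).ι ≫ f) a b ?_ ?_ ?_
  · intro y
    have hy : (O₁ ⊔ O₂).ι y ∈ O₁ ⊔ O₂ := by
      have := Set.mem_range_self (f := (O₁ ⊔ O₂).ι) y
      rwa [Scheme.Opens.range_ι] at this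
    rcases hy with hy | hy
    · left
      have : (O₁ ⊔ O₂).ι y ∈ Set.range O₁.ι := by rw [Scheme.Opens.range_ι]; exact hy
      obtain ⟨z, hz⟩ := this
      refine ⟨z, hinj ?_⟩
      rw [← Scheme.Hom.comp_apply, ha, hz]
    · right
      have : (O₁ ⊔ O₂).ι y ∈ Set.range O₂.ι := by rw [Scheme.Opens.range_ι]; exact hy
      obtain ⟨z, hz⟩ := this
      refine ⟨z, hinj ?_⟩
      rw [← Scheme.Hom.comp_apply, hb, hz]
  · rw [← Category.assoc, ha]; exact h₁
  · rw [← Category.assoc, hb]; exact h₂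

include hc in
/-- **EGA IV 8.9.1.** A morphism of finite presentation to the limit descends to a stage. -/
theorem descends_of_finitePresentation [∀ i, CompactSpace ↥(D.obj i)] {X : Scheme.{u}}
    (f : X ⟶ c.pt) [LocallyOfFinitePresentation f] [QuasiCompact f] [QuasiSeparated f] :
    Descends D c f := by
  classical
  have cpt : CompactSpace ↥c.pt := Scheme.compactSpace_of_isLimit D c hc
  obtain ⟨i₀⟩ := IsCofiltered.nonempty (C := I)
  have := isAffineHom_π_app D c hc i₀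
  have qspt : QuasiSeparatedSpace ↥c.pt := quasiSeparatedSpace_of_quasiSeparated (c.π.app i₀)
  have cX : CompactSpace ↥X := QuasiCompact.compactSpace_of_compactSpace f
  have qsX : QuasiSeparatedSpace ↥X := quasiSeparatedSpace_of_quasiSeparated f
  -- good affine opens
  have hgood : ∀ x : X, ∃ W : X.Opens, x ∈ W ∧ IsAffineOpen W ∧ ∃ (i : I) (V : (D.obj i).Opens),
      IsAffineOpen V ∧ W ≤ f ⁻¹ᵁ (c.π.app i ⁻¹ᵁ V) := by
    intro x
    obtain ⟨_, ⟨i, V, hV, rfl⟩, hxV, -⟩ := TopologicalSpace.Opens.isBasis_iff_nbhd.mp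
      (isBasis_preimage_isAffineOpen D c hc) (U := ⊤) (x := f x) trivial
    obtain ⟨_, ⟨W, hW : IsAffineOpen W, rfl⟩, hxW, hWle⟩ :=
      X.isBasis_affineOpens.exists_subset_of_mem_open
        (show x ∈ (f ⁻¹ᵁ (c.π.app i ⁻¹ᵁ V) : Set X) from hxV) (f ⁻¹ᵁ (c.π.app i ⁻¹ᵁ V)).isOpen
    exact ⟨W, hxW, hW, i, V, hV, hWle⟩
  choose W hxW hWaff iW VW hVW hWle using hgood
  have hdescW : ∀ x, Descends D c ((W x).ι ≫ f) := by
    intro x
    have : IsAffine (W x).toScheme := hWaff x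
    refine descends_of_affine D c hc ((W x).ι ≫ f) (iW x) (VW x) (hVW x) ?_
    rintro _ ⟨y, rfl⟩
    exact hWle x y.2
  obtain ⟨t, ht⟩ := CompactSpace.elim_nhds_subcover (fun x => (W x : Set X))
    (fun x => (W x).isOpen.mem_nhds (hxW x))
  have key : ∀ s : Finset X, Descends D c ((⨆ x ∈ s, W x : X.Opens).ι ≫ f) := by
    intro s
    induction s using Finset.induction_on with
    | empty =>
      have hbot : (⨆ x ∈ (∅ : Finset X), W x : X.Opens) = ⊥ := by simp
      rw [hbot]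
      have : IsEmpty ↥(⊥ : X.Opens).toScheme :=
        ⟨fun y => (show y.1 ∈ (⊥ : Set X) from y.2).elim⟩
      exact descends_of_isEmpty D c _
    | insert x s hx ih =>
      rw [Finset.iSup_insert]
      exact descends_sup D c hc f _ _ (hdescW x) ih
  have htop : (⨆ x ∈ t, W x : X.Opens) = ⊤ := by
    apply TopologicalSpace.Opens.ext
    simpa using ht
  have h := key t
  rw [htop] at h
  obtain ⟨i, Xi, xi, q, h1, h2, h3, hpb⟩ := h
  refine ⟨i, Xi, xi, X.topIso.inv ≫ q, h1, h2, h3, ?_⟩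
  refine IsPullback.of_iso hpb X.topIso (Iso.refl _) (Iso.refl _) (Iso.refl _) ?_ ?_ ?_ ?_
  · simp
  · simp
  · simp
  · simp

end Main

end Groth.Agent.Lib.Helper23
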