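/-
Helper library (helper23): presentations of algebras as directed colimits in `Under A`:
* every `A`-algebra `B` is the directed union of its finitely generated subalgebras;
* every quotient `P ⧸ K` is the directed colimit of the `P ⧸ span t`, `t` a finite subset of `K`.
-/
import Mathlib

set_option autoImplicit false
universe u
open CategoryTheory Limits

namespace Groth.Agent.Lib.Helper23

section FG

variable (A B : Type u) [CommRing A] [CommRing B] [Algebra A B]

theorem adjoin_finset_mono {s t : Finset B} (h : s ≤ t) :
    Algebra.adjoin A (s : Set B) ≤ Algebra.adjoin A (t : Set B) :=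
  Algebra.adjoin_mono (by exact_mod_cast h)

/-- The diagram of finitely generated subalgebras of `B`. -/
noncomputable def fgDiagram : Finset B ⥤ Under (CommRingCat.of A) where
  obj s := Under.mk (Y := CommRingCat.of (Algebra.adjoin A (s : Set B)))
    (CommRingCat.ofHom (algebraMap A (Algebra.adjoin A (s : Set B))))
  map {s t} h := Under.homMk
    (CommRingCat.ofHom (Subalgebra.inclusion (adjoin_finset_mono A B h.le)).toRingHom)
    (by ext; rfl)
  map_id s := by ext; rfl
  map_comp g h := by ext; rfl

/-- The cocone over the diagram of finitely generated subalgebras with point `B`. -/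
noncomputable def fgCocone : Cocone (fgDiagram A B) where
  pt := Under.mk (Y := CommRingCat.of B) (CommRingCat.ofHom (algebraMap A B))
  ι :=
    { app := fun s => Under.homMk
        (CommRingCat.ofHom (Algebra.adjoin A (s : Set B)).val.toRingHom) (by ext; rfl)
      naturality := fun s t h => by ext; rfl }

variable {A B}

/-- The value of the descended map at `b`. -/
noncomputable def fgDescFun (s : Cocone (fgDiagram A B)) (b : B) : s.pt.right :=
  (s.ι.app {b}).right ⟨b, Algebra.subset_adjoin (by simp)⟩

theorem fgDesc_key (s : Cocone (fgDiagram A B)) (t : Finset B) (b : B)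
    (hb : b ∈ Algebra.adjoin A (t : Set B)) : (s.ι.app t).right ⟨b, hb⟩ = fgDescFun s b := by
  classical
  have h1 := s.w (homOfLE (Finset.subset_union_left : t ≤ t ∪ {b}))
  have h2 := s.w (homOfLE (Finset.subset_union_right : ({b} : Finset B) ≤ t ∪ {b}))
  rw [fgDescFun, ← h1, ← h2]
  rfl

/-- The descended ring homomorphism. -/
noncomputable def fgDescHom (s : Cocone (fgDiagram A B)) : B →+* s.pt.right where
  toFun := fgDescFun s
  map_one' := by
    rw [← fgDesc_key s ∅ 1 (one_mem _)]
    exact map_one (s.ι.app ∅).right.hom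
  map_zero' := by
    rw [← fgDesc_key s ∅ 0 (zero_mem _)]
    exact map_zero (s.ι.app ∅).right.hom
  map_add' b b' := by
    classical
    have hb : b ∈ Algebra.adjoin A ((({b, b'} : Finset B)) : Set B) :=
      Algebra.subset_adjoin (by simp)
    have hb' : b' ∈ Algebra.adjoin A ((({b, b'} : Finset B)) : Set B) :=
      Algebra.subset_adjoin (by simp)
    rw [← fgDesc_key s {b, b'} (b + b') (add_mem hb hb'), ← fgDesc_key s {b, b'} b hb,
      ← fgDesc_key s {b, b'} b' hb']
    exact map_add (s.ι.app {b, b'}).right.hom ⟨b, hb⟩ ⟨b', hb'⟩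
  map_mul' b b' := by
    classical
    have hb : b ∈ Algebra.adjoin A ((({b, b'} : Finset B)) : Set B) :=
      Algebra.subset_adjoin (by simp)
    have hb' : b' ∈ Algebra.adjoin A ((({b, b'} : Finset B)) : Set B) :=
      Algebra.subset_adjoin (by simp)
    rw [← fgDesc_key s {b, b'} (b * b') (mul_mem hb hb'), ← fgDesc_key s {b, b'} b hb,
      ← fgDesc_key s {b, b'} b' hb']
    exact map_mul (s.ι.app {b, b'}).right.hom ⟨b, hb⟩ ⟨b', hb'⟩

theorem fgDescHom_algebraMap (s : Cocone (fgDiagram A B)) (a : A) :
    fgDescHom s (algebraMap A B a) = s.pt.hom a := by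
  have h := fgDesc_key s ∅ (algebraMap A B a) (Subalgebra.algebraMap_mem _ a)
  have h2 := congr($(Under.w (s.ι.app ∅)) a)
  change fgDescFun s (algebraMap A B a) = _
  rw [← h]
  exact h2

/-- `B` is the colimit of its finitely generated subalgebras, in `Under A`. -/
noncomputable def isColimitFgCocone : IsColimit (fgCocone A B) where
  desc s := Under.homMk (CommRingCat.ofHom (fgDescHom s)) (by
    ext a
    exact fgDescHom_algebraMap s a)
  fac s t := by
    ext x
    exact (fgDesc_key s t x.1 x.2).symm
  uniq s m hm := by
    ext (b : B)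
    have hb : b ∈ Algebra.adjoin A ((({b} : Finset B)) : Set B) :=
      Algebra.subset_adjoin (Finset.mem_coe.mpr (Finset.mem_singleton_self b))
    have h := congr($(hm {b}).right (⟨b, hb⟩ : Algebra.adjoin A ((({b} : Finset B)) : Set B)))
    exact h

end FG

section Quot

variable {A P B : Type u} [CommRing A] [CommRing P] [CommRing B] [Algebra A P] [Algebra A B]
  (π : P →ₐ[A] B)

/-- The ideal generated by a finite subset of the kernel. -/
def spanFin (t : Finset (RingHom.ker π)) : Ideal P :=
  Ideal.span ((fun k : RingHom.ker π => (k : P)) '' (t : Set (RingHom.ker π)))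

theorem spanFin_le (t : Finset (RingHom.ker π)) : spanFin π t ≤ RingHom.ker π :=
  Ideal.span_le.mpr (by rintro _ ⟨k, -, rfl⟩; exact k.2)

theorem spanFin_mono {t t' : Finset (RingHom.ker π)} (h : t ≤ t') :
    spanFin π t ≤ spanFin π t' :=
  Ideal.span_mono (Set.image_mono (by exact_mod_cast h))

theorem mem_spanFin_singleton (k : RingHom.ker π) : (k : P) ∈ spanFin π {k} :=
  Ideal.subset_span ⟨k, by simp, rfl⟩

theorem spanFin_fg (t : Finset (RingHom.ker π)) : (spanFin π t).FG := by
  classical
  exact ⟨t.image (fun k : RingHom.ker π => (k : P)), by rw [Finset.coe_image]; rfl⟩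

/-- The diagram of quotients of `P` by finitely generated subideals of the kernel. -/
noncomputable def quotDiagram : Finset (RingHom.ker π) ⥤ Under (CommRingCat.of A) where
  obj t := Under.mk (Y := CommRingCat.of (P ⧸ spanFin π t))
    (CommRingCat.ofHom (algebraMap A (P ⧸ spanFin π t)))
  map {t t'} h := Under.homMk
    (CommRingCat.ofHom (Ideal.Quotient.factor (spanFin_mono π h.le))) (by ext; rfl)
  map_id t := by
    ext x
    obtain ⟨p, rfl⟩ := Ideal.Quotient.mk_surjective x
    rfl
  map_comp g h := by
    ext x
    obtain ⟨p, rfl⟩ := Ideal.Quotient.mk_surjective x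
    rfl

/-- The map from a finitely presented quotient to `B`. -/
noncomputable def quotToB (t : Finset (RingHom.ker π)) : P ⧸ spanFin π t →+* B :=
  Ideal.Quotient.lift (spanFin π t) π.toRingHom (fun p hp => spanFin_le π t hp)

@[simp]
theorem quotToB_mk (t : Finset (RingHom.ker π)) (p : P) :
    quotToB π t (Ideal.Quotient.mk _ p) = π p := rfl

/-- The cocone over the diagram of finitely presented quotients with point `B`. -/
noncomputable def quotCocone : Cocone (quotDiagram π) where
  pt := Under.mk (Y := CommRingCat.of B) (CommRingCat.ofHom (algebraMap A B))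
  ι :=
    { app := fun t => Under.homMk (CommRingCat.ofHom (quotToB π t)) (by
        ext a
        exact π.commutes a)
      naturality := fun t t' h => by
        ext x
        obtain ⟨p, rfl⟩ := Ideal.Quotient.mk_surjective x
        rfl }

variable {π}

theorem quot_ι_mk (s : Cocone (quotDiagram π)) (t : Finset (RingHom.ker π)) (p : P) :
    (s.ι.app t).right (Ideal.Quotient.mk (spanFin π t) p) =
      (s.ι.app ∅).right (Ideal.Quotient.mk (spanFin π ∅) p) := by
  have h := s.w (homOfLE (Finset.empty_subset t : (∅ : Finset (RingHom.ker π)) ≤ t))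
  rw [← h]
  rfl

/-- The descended ring homomorphism. -/
noncomputable def quotDescHom (s : Cocone (quotDiagram π)) (hπ : Function.Surjective π) :
    B →+* s.pt.right :=
  RingHom.liftOfSurjective π.toRingHom hπ
    ⟨(s.ι.app ∅).right.hom.comp (Ideal.Quotient.mk (spanFin π ∅)), by
      intro k hk
      rw [RingHom.mem_ker, RingHom.comp_apply]
      refine (quot_ι_mk s {⟨k, hk⟩} k).symm.trans ?_
      have h2 : Ideal.Quotient.mk (spanFin π {⟨k, hk⟩}) k = 0 :=
        Ideal.Quotient.eq_zero_iff_mem.mpr (mem_spanFin_singleton π ⟨k, hk⟩)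
      exact (congrArg _ h2).trans (map_zero _)⟩

theorem quotDescHom_apply (s : Cocone (quotDiagram π)) (hπ : Function.Surjective π) (p : P) :
    quotDescHom s hπ (π p) = (s.ι.app ∅).right (Ideal.Quotient.mk (spanFin π ∅) p) :=
  RingHom.liftOfRightInverse_comp_apply _ _ _ _ p

/-- `B` is the colimit of the finitely presented quotients, in `Under A`. -/
noncomputable def isColimitQuotCocone (hπ : Function.Surjective π) :
    IsColimit (quotCocone π) where
  desc s := Under.homMk (CommRingCat.ofHom (quotDescHom s hπ)) (by
    ext a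
    have h1 := congr($(Under.w (s.ι.app ∅)) a)
    refine Eq.trans ?_ h1
    have h2 : algebraMap A B a = π (algebraMap A P a) := (π.commutes a).symm
    exact (congrArg (quotDescHom s hπ) h2).trans (quotDescHom_apply s hπ _))
  fac s t := by
    ext x
    obtain ⟨p, rfl⟩ := Ideal.Quotient.mk_surjective x
    exact (quotDescHom_apply s hπ p).trans (quot_ι_mk s t p).symm
  uniq s m hm := by
    ext (b : B)
    obtain ⟨p, rfl⟩ := hπ b
    have h := congr($(hm ∅).right (Ideal.Quotient.mk (spanFin π ∅) p))
    exact h.trans (quotDescHom_apply s hπ p).symm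

end Quot

section Retract

/-- The kernel of a retraction of a finitely generated algebra is a finitely generated ideal. -/
theorem ker_fg_of_section {A Q B : Type*} [CommRing A] [CommRing Q] [CommRing B] [Algebra A Q]
    [Algebra A B] [Algebra.FiniteType A Q] (ρ : Q →ₐ[A] B) (σ : B →ₐ[A] Q)
    (h : ∀ b, ρ (σ b) = b) : (RingHom.ker ρ.toRingHom).FG := by
  classical
  obtain ⟨S, hS⟩ := (Algebra.FiniteType.out : (⊤ : Subalgebra A Q).FG)
  refine ⟨S.image (fun q => q - σ (ρ q)), ?_⟩
  apply le_antisymm
  · rw [Ideal.span_le]
    intro x hx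
    rw [Finset.coe_image] at hx
    obtain ⟨q, -, rfl⟩ := hx
    change ρ (q - σ (ρ q)) = 0
    rw [map_sub, h, sub_self]
  · intro q hq
    have key : ∀ q : Q, q - σ (ρ q) ∈
        Ideal.span ((S.image (fun q => q - σ (ρ q)) : Finset Q) : Set Q) := by
      intro q
      have hq : q ∈ Algebra.adjoin A (S : Set Q) := hS ▸ trivial
      induction hq using Algebra.adjoin_induction with
      | mem x hx =>
        refine Ideal.subset_span ?_
        rw [Finset.coe_image]
        exact ⟨x, hx, rfl⟩
      | algebraMap a =>
        rw [AlgHom.commutes, AlgHom.commutes, sub_self]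
        exact zero_mem _
      | add x y _ _ hx hy =>
        have : x + y - σ (ρ (x + y)) = (x - σ (ρ x)) + (y - σ (ρ y)) := by
          rw [map_add, map_add]; ring
        rw [this]
        exact add_mem hx hy
      | mul x y _ _ hx hy =>
        have : x * y - σ (ρ (x * y)) = x * (y - σ (ρ y)) + (x - σ (ρ x)) * σ (ρ y) := by
          rw [map_mul, map_mul]; ring
        rw [this]
        exact add_mem (Ideal.mul_mem_left _ _ hy) (Ideal.mul_mem_right _ _ hx)
    have h1 := key q
    have h2 : ρ q = 0 := hq
    rwa [h2, map_zero, sub_zero] at h1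

end Retract

section Main

/-- If every morphism from `B` to a directed colimit of `A`-algebras factors through a stage,
then `B` is a finitely presented `A`-algebra. -/
theorem finitePresentation_of_exists_factorization {A B : CommRingCat.{u}} (f : A ⟶ B)
    (H : ∀ (J : Type u) [Preorder J] [IsDirected J (· ≤ ·)] [Nonempty J] (F : J ⥤ Under A)
      (cc : Cocone F), IsColimit cc → ∀ g : Under.mk f ⟶ cc.pt,
        ∃ (j : J) (g' : Under.mk f ⟶ F.obj j), g' ≫ cc.ι.app j = g) :
    f.hom.FinitePresentation := by
  classical
  let _ : Algebra A B := f.hom.toAlgebra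
  -- Step 1: `B` is of finite type
  have hft : Algebra.FiniteType A B := by
    obtain ⟨s, g, hg'⟩ := H (Finset B) (fgDiagram A B) (fgCocone A B)
      (isColimitFgCocone (A := A) (B := B)) (𝟙 (Under.mk f))
    refine ⟨⟨s, ?_⟩⟩
    rw [eq_top_iff]
    intro b _
    have h2 := congr($(hg').right b)
    have h3 : ((g ≫ (fgCocone A B).ι.app s).right b : B) ∈ Algebra.adjoin A (s : Set B) :=
      (g.right b : Algebra.adjoin A (s : Set B)).2
    rw [h2] at h3
    exact h3
  -- Step 2: a presentation
  obtain ⟨n, π, hπ⟩ := Algebra.FiniteType.iff_quotient_mvPolynomial''.mp hft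
  obtain ⟨t, σ, hσ'⟩ := H (Finset (RingHom.ker π)) (quotDiagram π) (quotCocone π)
    (isColimitQuotCocone hπ) (𝟙 (Under.mk f))
  have hfp : Algebra.FinitePresentation A (MvPolynomial (Fin n) A ⧸ spanFin π t) :=
    Algebra.FinitePresentation.quotient (spanFin_fg π t)
  let ρ : (MvPolynomial (Fin n) A ⧸ spanFin π t) →ₐ[A] B :=
    Ideal.Quotient.liftₐ (spanFin π t) π (fun p hp => spanFin_le π t hp)
  let σ' : B →ₐ[A] (MvPolynomial (Fin n) A ⧸ spanFin π t) :=
    { σ.right.hom with
      commutes' := fun a => congr($(Under.w σ) a) }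
  have hρσ : ∀ b, ρ (σ' b) = b := fun b => congr($(hσ').right b)
  have hsurj : Function.Surjective ρ := fun b => ⟨σ' b, hρσ b⟩
  have hker : (RingHom.ker ρ.toRingHom).FG := ker_fg_of_section ρ σ' hρσ
  exact Algebra.FinitePresentation.of_surjective hsurj hker

end Main

end Groth.Agent.Lib.Helper23
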