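/-
Helper library (helper23): a morphism of schemes `f : X ⟶ S` is locally of finite presentation
as soon as morphisms from limits of directed systems of affine schemes (over an affine open of
`S`) to `X` factor through a stage (converse of EGA IV 8.14.2).
-/
import Mathlib
import Groth.Agent.Lib.Helper23.AlgColimPres

set_option autoImplicit false
universe u
open CategoryTheory Limits AlgebraicGeometry

namespace Groth.Agent.Lib.Helper23

section

variable {A : CommRingCat.{u}} {J : Type u} [Preorder J] (F : J ⥤ Under A)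

/-- The inverse system of affine schemes attached to a system of `A`-algebras. -/
noncomputable def specDiagram : Jᵒᵖ ⥤ Scheme.{u} := (F ⋙ Under.forget A).op ⋙ Scheme.Spec

/-- The cone over the inverse system of affine schemes attached to a cocone of `A`-algebras. -/
noncomputable def specCone (cc : Cocone F) : Cone (specDiagram F) :=
  Scheme.Spec.mapCone ((Under.forget A).mapCocone cc).op

instance (j : Jᵒᵖ) : IsAffine ((specDiagram F).obj j) := by
  dsimp [specDiagram]; infer_instance

instance {i j : Jᵒᵖ} (a : i ⟶ j) : IsAffineHom ((specDiagram F).map a) := by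
  dsimp [specDiagram]; infer_instance

/-- The cone attached to a colimit cocone is a limit cone. -/
noncomputable def isLimitSpecCone [IsDirected J (· ≤ ·)] [Nonempty J] {cc : Cocone F}
    (hcc : IsColimit cc) : IsLimit (specCone F cc) :=
  isLimitOfPreserves Scheme.Spec (isColimitOfPreserves (Under.forget A) hcc).op

end

section Core

variable {X S : Scheme.{u}} (f : X ⟶ S)

/-- Core lemma: if every `S`-morphism from the limit of an inverse system of affine schemes
over an affine open `U` of `S` to `X` factors through a stage, then the ring maps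
`Γ(S, U) ⟶ Γ(X, V)` are of finite presentation. -/
theorem finitePresentation_appLE_of_factorization
    {U : S.Opens} (hU : IsAffineOpen U) {V : X.Opens} (hV : IsAffineOpen V) (e : V ≤ f ⁻¹ᵁ U)
    (H : ∀ (J : Type u) [Preorder J] [IsDirected J (· ≤ ·)] [Nonempty J]
      (F : J ⥤ Under Γ(S, U)) (cc : Cocone F), IsColimit cc →
      ∀ G : Spec cc.pt.right ⟶ X, G ≫ f = Spec.map cc.pt.hom ≫ hU.fromSpec →
        ∃ (j : J) (gj : Spec (F.obj j).right ⟶ X),
          gj ≫ f = Spec.map (F.obj j).hom ≫ hU.fromSpec ∧
          Spec.map (cc.ι.app j).right ≫ gj = G) :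
    (f.appLE U V e).hom.FinitePresentation := by
  apply finitePresentation_of_exists_factorization (f.appLE U V e)
  intro J _ _ _ F cc hcc g
  have hw : f.appLE U V e ≫ g.right = cc.pt.hom := Under.w g
  have hG : (Spec.map g.right ≫ hV.fromSpec) ≫ f = Spec.map cc.pt.hom ≫ hU.fromSpec := by
    rw [← hw, Spec.map_comp, Category.assoc, Category.assoc,
      IsAffineOpen.SpecMap_appLE_fromSpec f hU hV e]
  obtain ⟨j, gj, hgj, hgG⟩ := H J F cc hcc _ hG
  -- the open `W := gj ⁻¹ V` of the stage `j`
  have hW : (specCone F cc).π.app (Opposite.op j) ⁻¹ᵁ (gj ⁻¹ᵁ V) = ⊤ := by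
    have h2 : (Spec.map (cc.ι.app j).right ≫ gj) ⁻¹ᵁ V = ⊤ := by
      rw [hgG, Scheme.Hom.comp_preimage, hV.fromSpec_preimage_self]
      rfl
    exact h2
  obtain ⟨k, a, hk⟩ := exists_map_eq_top (specDiagram F) (specCone F cc) (isLimitSpecCone F hcc)
    (gj ⁻¹ᵁ V) hW
  obtain ⟨k⟩ := k
  have hkj : j ≤ k := leOfHom a.unop
  -- the morphism from stage `k`
  let gk : Spec (F.obj k).right ⟶ X := Spec.map (F.map (homOfLE hkj)).right ≫ gj
  have hgk : Set.range gk.base ⊆ Set.range hV.fromSpec.base := by
    rw [hV.range_fromSpec]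
    rintro _ ⟨x, rfl⟩
    have hx : x ∈ (specDiagram F).map a ⁻¹ᵁ (gj ⁻¹ᵁ V) := by rw [hk]; trivial
    exact hx
  let σ₀ : Spec (F.obj k).right ⟶ Spec Γ(X, V) := IsOpenImmersion.lift hV.fromSpec gk hgk
  have hσ₀ : σ₀ ≫ hV.fromSpec = gk := IsOpenImmersion.lift_fac _ _ _
  let σ : Γ(X, V) ⟶ (F.obj k).right := Spec.preimage σ₀
  have hσ : Spec.map σ = σ₀ := Spec.map_preimage _
  have hwk : (F.obj j).hom ≫ (F.map (homOfLE hkj)).right = (F.obj k).hom :=
    Under.w (F.map (homOfLE hkj))
  have hlin : f.appLE U V e ≫ σ = (F.obj k).hom := by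
    apply Spec.map_injective
    rw [← cancel_mono hU.fromSpec, Spec.map_comp, Category.assoc,
      IsAffineOpen.SpecMap_appLE_fromSpec f hU hV e, hσ, ← Category.assoc, hσ₀]
    change (Spec.map (F.map (homOfLE hkj)).right ≫ gj) ≫ f = _
    rw [Category.assoc, hgj, ← Category.assoc, ← Spec.map_comp, hwk]
  refine ⟨k, Under.homMk σ hlin, ?_⟩
  ext1
  change σ ≫ (cc.ι.app k).right = g.right
  apply Spec.map_injective
  rw [← cancel_mono hV.fromSpec, Spec.map_comp, Category.assoc, hσ, hσ₀, ← hgG]
  change Spec.map (cc.ι.app k).right ≫ Spec.map (F.map (homOfLE hkj)).right ≫ gj = _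
  rw [← Category.assoc, ← Spec.map_comp]
  have h3 : (F.map (homOfLE hkj)).right ≫ (cc.ι.app k).right = (cc.ι.app j).right :=
    congr($(cc.w (homOfLE hkj)).right)
  rw [h3]

/-- Global version: `f` is locally of finite presentation as soon as every `S`-morphism from
the limit of an inverse system of affine schemes over an affine open of `S` to `X` factors
through a stage. -/
theorem locallyOfFinitePresentation_of_factorization
    (H : ∀ (U : S.Opens) (hU : IsAffineOpen U) (J : Type u) [Preorder J] [IsDirected J (· ≤ ·)]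
      [Nonempty J] (F : J ⥤ Under Γ(S, U)) (cc : Cocone F), IsColimit cc →
      ∀ G : Spec cc.pt.right ⟶ X, G ≫ f = Spec.map cc.pt.hom ≫ hU.fromSpec →
        ∃ (j : J) (gj : Spec (F.obj j).right ⟶ X),
          gj ≫ f = Spec.map (F.obj j).hom ≫ hU.fromSpec ∧
          Spec.map (cc.ι.app j).right ≫ gj = G) :
    LocallyOfFinitePresentation f := by
  rw [HasRingHomProperty.iff_appLE (P := @LocallyOfFinitePresentation)]
  intro U V e
  exact finitePresentation_appLE_of_factorization f U.2 V.2 e (H U.1 U.2)

end Core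

end Groth.Agent.Lib.Helper23
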