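/-
Helper library (helper23): absolute Noetherian approximation of an affine scheme as a cofiltered
limit of spectra of finitely generated `ℤ`-algebras, and descent of finitely presented data to
a Noetherian stage (EGA IV 8.9.1 applied to `Spec A = lim Spec A_λ`).
-/
import Mathlib
import Groth.Agent.Lib.Helper23.LfpOfColim
import Groth.Agent.Lib.Helper23.FpDescent

set_option autoImplicit false
universe u
open CategoryTheory Limits AlgebraicGeometry

namespace Groth.Agent.Lib.Helper23

section ZAlg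

variable (B : Type u) [CommRing B]

/-- Every ring is an algebra over `ULift ℤ`. -/
noncomputable abbrev ulZAlgebra : Algebra (ULift.{u} ℤ) B :=
  Algebra.compHom B (ULift.ringEquiv : ULift.{u} ℤ ≃+* ℤ).toRingHom

theorem isNoetherianRing_ulZ : IsNoetherianRing (ULift.{u} ℤ) :=
  isNoetherianRing_of_ringEquiv ℤ (ULift.ringEquiv : ULift.{u} ℤ ≃+* ℤ).symm

attribute [local instance] ulZAlgebra

theorem isNoetherianRing_adjoin_ulZ (s : Finset B) :
    IsNoetherianRing (Algebra.adjoin (ULift.{u} ℤ) (s : Set B)) := by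
  have := isNoetherianRing_ulZ.{u}
  have : Algebra.FiniteType (ULift.{u} ℤ) (Algebra.adjoin (ULift.{u} ℤ) (s : Set B)) :=
    (Subalgebra.fg_iff_finiteType _).mp (Subalgebra.fg_adjoin_finset s)
  exact Algebra.FiniteType.isNoetherianRing (ULift.{u} ℤ) _

end ZAlg

section Diagram

attribute [local instance] ulZAlgebra

variable (S : Scheme.{u})

/-- The inverse system of spectra of finitely generated subrings of `Γ(S, ⊤)`. -/
noncomputable def noethDiagram : (Finset Γ(S, ⊤))ᵒᵖ ⥤ Scheme.{u} :=
  specDiagram (fgDiagram (ULift.{u} ℤ) Γ(S, ⊤))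

/-- The ring at a stage. -/
noncomputable abbrev noethRing (j : (Finset Γ(S, ⊤))ᵒᵖ) : CommRingCat.{u} :=
  CommRingCat.of (Algebra.adjoin (ULift.{u} ℤ) (j.unop : Set Γ(S, ⊤)))

theorem isNoetherianRing_noethRing (j : (Finset Γ(S, ⊤))ᵒᵖ) : IsNoetherianRing (noethRing S j) :=
  isNoetherianRing_adjoin_ulZ _ _

theorem noethDiagram_obj (j : (Finset Γ(S, ⊤))ᵒᵖ) :
    (noethDiagram S).obj j = Spec (noethRing S j) := rfl

instance (j : (Finset Γ(S, ⊤))ᵒᵖ) : IsAffine ((noethDiagram S).obj j) :=
  inferInstanceAs (IsAffine (Spec (noethRing S j)))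

instance {i j : (Finset Γ(S, ⊤))ᵒᵖ} (a : i ⟶ j) : IsAffineHom ((noethDiagram S).map a) :=
  inferInstanceAs (IsAffineHom ((specDiagram (fgDiagram (ULift.{u} ℤ) Γ(S, ⊤))).map a))

/-- The cone with point `S` over the Noetherian approximation system. -/
noncomputable def noethCone : Cone (noethDiagram S) :=
  (specCone (fgDiagram (ULift.{u} ℤ) Γ(S, ⊤)) (fgCocone (ULift.{u} ℤ) Γ(S, ⊤))).extend
    S.toSpecΓ

theorem noethCone_pt : (noethCone S).pt = S := rfl

/-- An affine scheme is the limit of its Noetherian approximation system. -/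
noncomputable def isLimitNoethCone [IsAffine S] : IsLimit (noethCone S) := by
  have h : IsIso S.toSpecΓ := IsAffine.affine
  exact @IsLimit.extendIso _ _ _ _ _
    (specCone (fgDiagram (ULift.{u} ℤ) Γ(S, ⊤)) (fgCocone (ULift.{u} ℤ) Γ(S, ⊤))) S S.toSpecΓ h
    (isLimitSpecCone (fgDiagram (ULift.{u} ℤ) Γ(S, ⊤))
      (isColimitFgCocone (A := ULift.{u} ℤ) (B := Γ(S, ⊤))))

end Diagram

section Models

variable {S : Scheme.{u}} [IsAffine S]

/-- A morphism of finite presentation to an affine scheme descends to a Noetherian stage. -/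
theorem descends_noeth {X : Scheme.{u}} (u : X ⟶ S) [LocallyOfFinitePresentation u]
    [QuasiCompact u] [QuasiSeparated u] : Descends (noethDiagram S) (noethCone S) u := by
  let u' : X ⟶ (noethCone S).pt := u
  have h1 : LocallyOfFinitePresentation u' := ‹LocallyOfFinitePresentation u›
  have h2 : QuasiCompact u' := ‹QuasiCompact u›
  have h3 : QuasiSeparated u' := ‹QuasiSeparated u›
  exact descends_of_finitePresentation (noethDiagram S) (noethCone S) (isLimitNoethCone S) u'

/-- **Noetherian model of a pair** of schemes of finite presentation over an affine scheme. -/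
theorem exists_noetherian_model_pair {X Y : Scheme.{u}} (u : X ⟶ S) (v : Y ⟶ S)
    [LocallyOfFinitePresentation u] [QuasiCompact u] [QuasiSeparated u]
    [LocallyOfFinitePresentation v] [QuasiCompact v] [QuasiSeparated v] :
    ∃ (A₀ : CommRingCat.{u}) (_ : IsNoetherianRing A₀) (π : S ⟶ Spec A₀) (X₀ Y₀ : Scheme.{u})
      (u₀ : X₀ ⟶ Spec A₀) (v₀ : Y₀ ⟶ Spec A₀) (qX : X ⟶ X₀) (qY : Y ⟶ Y₀),
      LocallyOfFinitePresentation u₀ ∧ QuasiCompact u₀ ∧ QuasiSeparated u₀ ∧
      LocallyOfFinitePresentation v₀ ∧ QuasiCompact v₀ ∧ QuasiSeparated v₀ ∧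
      IsPullback qX u u₀ π ∧ IsPullback qY v v₀ π := by
  obtain ⟨i₁, X₁, u₁, q₁, a1, a2, a3, h₁⟩ := descends_noeth u
  obtain ⟨i₂, Y₂, v₂, q₂, b1, b2, b3, h₂⟩ := descends_noeth v
  let j := IsCofiltered.min i₁ i₂
  let φ₁ : j ⟶ i₁ := IsCofiltered.minToLeft i₁ i₂
  let φ₂ : j ⟶ i₂ := IsCofiltered.minToRight i₁ i₂
  have c1 : LocallyOfFinitePresentation (pullback.snd u₁ ((noethDiagram S).map φ₁)) :=
    inferInstance
  have c2 : QuasiCompact (pullback.snd u₁ ((noethDiagram S).map φ₁)) := inferInstance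
  have c3 : QuasiSeparated (pullback.snd u₁ ((noethDiagram S).map φ₁)) := inferInstance
  have d1 : LocallyOfFinitePresentation (pullback.snd v₂ ((noethDiagram S).map φ₂)) :=
    inferInstance
  have d2 : QuasiCompact (pullback.snd v₂ ((noethDiagram S).map φ₂)) := inferInstance
  have d3 : QuasiSeparated (pullback.snd v₂ ((noethDiagram S).map φ₂)) := inferInstance
  exact ⟨noethRing S j, isNoetherianRing_noethRing S j, (noethCone S).π.app j,
    pullback u₁ ((noethDiagram S).map φ₁), pullback v₂ ((noethDiagram S).map φ₂),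
    pullback.snd u₁ ((noethDiagram S).map φ₁), pullback.snd v₂ ((noethDiagram S).map φ₂),
    toStage (noethDiagram S) (noethCone S) h₁ φ₁, toStage (noethDiagram S) (noethCone S) h₂ φ₂,
    c1, c2, c3, d1, d2, d3,
    isPullback_toStage (noethDiagram S) (noethCone S) h₁ φ₁,
    isPullback_toStage (noethDiagram S) (noethCone S) h₂ φ₂⟩

end Models

end Groth.Agent.Lib.Helper23
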