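/-
Helper library (helper23): generic Noetherian criteria (EGA IV 9.2.3) for constructibility and
ind-constructibility of a subset of `Spec A`, `A` Noetherian, in terms of the integral closed
subschemes `Spec (A/p)`.
-/
import Mathlib
import Groth.Prelude.Def_ProCons
import Groth.Agent.Lib.Helper16.ProConsNoeth
import Groth.Agent.Lib.Helper16.ProConsMore
import Groth.Agent.Lib.Helper12.ConstrTop

set_option autoImplicit false
universe u
open CategoryTheory Limits AlgebraicGeometry Topology

namespace Groth.Agent.Lib.Helper23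

section PrimeIncl

variable (A : CommRingCat.{u}) (p : Ideal A)

/-- The closed immersion `Spec (A/p) ⟶ Spec A`. -/
noncomputable abbrev primeIncl : Spec (CommRingCat.of (A ⧸ p)) ⟶ Spec A :=
  Spec.map (CommRingCat.ofHom (Ideal.Quotient.mk p))

instance : IsClosedImmersion (primeIncl A p) :=
  IsClosedImmersion.spec_of_surjective _ Ideal.Quotient.mk_surjective

theorem range_primeIncl :
    Set.range (primeIncl A p) = PrimeSpectrum.zeroLocus (p : Set A) := by
  have := range_comap_of_surjective (A ⧸ p) (Ideal.Quotient.mk p)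
    Ideal.Quotient.mk_surjective
  rw [Ideal.mk_ker] at this
  exact this

theorem primeIncl_genericPoint [hp : p.IsPrime] :
    primeIncl A p (genericPoint (Spec (CommRingCat.of (A ⧸ p)))) = (⟨p, hp⟩ : PrimeSpectrum A) := by
  rw [genericPoint_eq_bot_of_affine]
  apply PrimeSpectrum.ext
  change Ideal.comap (Ideal.Quotient.mk p) ⊥ = p
  rw [← RingHom.ker_eq_comap_bot, Ideal.mk_ker]

theorem range_primeIncl_eq_closure [hp : p.IsPrime] :
    Set.range (primeIncl A p) = closure {(⟨p, hp⟩ : PrimeSpectrum A)} := by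
  rw [range_primeIncl, PrimeSpectrum.closure_singleton]

end PrimeIncl

section Criteria

variable (A : CommRingCat.{u})

/-- Hypothesis of the ind-constructibility criterion: for each prime `p`, if the generic point of
`Spec (A/p)` lies in the trace of `E`, the trace of `E` on `Spec (A/p)` has nonempty interior. -/
def GIndHyp (E : Set ↥(Spec A)) : Prop :=
  ∀ (p : Ideal A) [p.IsPrime],
    genericPoint (Spec (CommRingCat.of (A ⧸ p))) ∈ (primeIncl A p) ⁻¹' E →
      (interior ((primeIncl A p) ⁻¹' E)).Nonempty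

/-- Hypothesis of the constructibility criterion: for each prime `p`, the trace of `E` on
`Spec (A/p)` or its complement has nonempty interior. -/
def GConsHyp (E : Set ↥(Spec A)) : Prop :=
  ∀ (p : Ideal A) [p.IsPrime],
    (interior ((primeIncl A p) ⁻¹' E)).Nonempty ∨ (interior ((primeIncl A p) ⁻¹' E)ᶜ).Nonempty

variable {A}

/-- **Criterion for ind-constructibility** over a Noetherian affine base. -/
theorem isIndConstructible_of_gIndHyp [IsNoetherianRing A] {E : Set ↥(Spec A)}
    (h : GIndHyp A E) : ProCons.IsIndConstructible E := by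
  apply Groth.Agent.Lib.Helper16.isIndConstructible_of_nhds_closure
  intro x hx
  let p : Ideal A := PrimeSpectrum.asIdeal x
  have hp : p.IsPrime := PrimeSpectrum.isPrime x
  have hgen : primeIncl A p (genericPoint _) = x := primeIncl_genericPoint A p
  have hmem : genericPoint _ ∈ primeIncl A p ⁻¹' E := by
    rw [Set.mem_preimage, hgen]; exact hx
  obtain ⟨z, hz⟩ := h p hmem
  have hW'o : IsOpen (interior (primeIncl A p ⁻¹' E)) := isOpen_interior
  have hgW' : genericPoint _ ∈ interior (primeIncl A p ⁻¹' E) :=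
    ((genericPoint_spec _).mem_open_set_iff hW'o).mpr ⟨z, trivial, hz⟩
  obtain ⟨O, hO, hOW'⟩ := (primeIncl A p).isClosedEmbedding.isInducing.isOpen_iff.mp hW'o
  rw [mem_nhds_subtype]
  refine ⟨O, hO.mem_nhds ?_, ?_⟩
  · have : genericPoint _ ∈ primeIncl A p ⁻¹' O := by rw [hOW']; exact hgW'
    rw [← hgen]; exact this
  · rintro ⟨y, hy⟩ hyO
    have : y ∈ Set.range (primeIncl A p) := by
      rw [range_primeIncl_eq_closure]; exact hy
    obtain ⟨z', rfl⟩ := this
    have : z' ∈ interior (primeIncl A p ⁻¹' E) := by rw [← hOW']; exact hyO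
    have h2 : z' ∈ primeIncl A p ⁻¹' E := interior_subset this
    exact h2

/-- **Criterion for constructibility** over a Noetherian affine base. -/
theorem isConstructible_of_gConsHyp [IsNoetherianRing A] {E : Set ↥(Spec A)}
    (h : GConsHyp A E) : IsConstructible E := by
  have hN : TopologicalSpace.NoetherianSpace ↥(Spec A) :=
    inferInstanceAs (TopologicalSpace.NoetherianSpace (PrimeSpectrum A))
  rw [Groth.Agent.Lib.Helper12.ConstrTop.isConstructible_iff_forall_irreducible_closed]
  intro Y hYc hYi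
  let p : Ideal A := PrimeSpectrum.vanishingIdeal (Y : Set (PrimeSpectrum A))
  have hp : p.IsPrime := PrimeSpectrum.isIrreducible_iff_vanishingIdeal_isPrime.mp hYi
  have hY : Y = Set.range (primeIncl A p) := by
    rw [range_primeIncl, PrimeSpectrum.zeroLocus_vanishingIdeal_eq_closure]
    exact hYc.closure_eq.symm
  rcases h p with ⟨z, hz⟩ | ⟨z, hz⟩
  · right
    have hW'o : IsOpen (interior (primeIncl A p ⁻¹' E)) := isOpen_interior
    obtain ⟨O, hO, hOW'⟩ := (primeIncl A p).isClosedEmbedding.isInducing.isOpen_iff.mp hW'o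
    refine ⟨O, hO, ⟨primeIncl A p z, ?_, ?_⟩, ?_⟩
    · have : z ∈ primeIncl A p ⁻¹' O := by rw [hOW']; exact hz
      exact this
    · rw [hY]; exact ⟨z, rfl⟩
    · rintro y ⟨hyO, hyY⟩
      rw [hY] at hyY
      obtain ⟨z', rfl⟩ := hyY
      have : z' ∈ interior (primeIncl A p ⁻¹' E) := by rw [← hOW']; exact hyO
      have h2 : z' ∈ primeIncl A p ⁻¹' E := interior_subset this
      exact h2
  · left
    have hW'o : IsOpen (interior (primeIncl A p ⁻¹' E)ᶜ) := isOpen_interior
    obtain ⟨O, hO, hOW'⟩ := (primeIncl A p).isClosedEmbedding.isInducing.isOpen_iff.mp hW'o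
    have : IrreducibleSpace Y := (isIrreducible_iff_irreducibleSpace (s := Y)).1 hYi
    have hVo : IsOpen (Subtype.val ⁻¹' O : Set Y) := hO.preimage continuous_subtype_val
    have hVne : (Subtype.val ⁻¹' O : Set Y).Nonempty := by
      refine ⟨⟨primeIncl A p z, by rw [hY]; exact ⟨z, rfl⟩⟩, ?_⟩
      have : z ∈ primeIncl A p ⁻¹' O := by rw [hOW']; exact hz
      exact this
    have hVd : Dense (Subtype.val ⁻¹' O : Set Y) := hVo.dense hVne
    have hsub : (Subtype.val ⁻¹' E : Set Y) ⊆ (Subtype.val ⁻¹' O : Set Y)ᶜ := by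
      rintro ⟨y, hyY⟩ hyE hyO
      have hyY' := hyY
      rw [hY] at hyY'
      obtain ⟨z', rfl⟩ := hyY'
      have : z' ∈ interior (primeIncl A p ⁻¹' E)ᶜ := by rw [← hOW']; exact hyO
      exact interior_subset this hyE
    refine IsNowhereDense.mono hsub ?_
    rw [hVo.isClosed_compl.isNowhereDense_iff]
    exact hVd.interior_compl

/-- Pointwise form of the ind-constructibility criterion: every point of `E` has a constructible
neighbourhood-in-its-closure contained in `E`. -/
theorem exists_isConstructible_of_gIndHyp [IsNoetherianRing A] {E : Set ↥(Spec A)}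
    (h : GIndHyp A E) {x : ↥(Spec A)} (hx : x ∈ E) :
    ∃ C : Set ↥(Spec A), IsConstructible C ∧ x ∈ C ∧ C ⊆ E := by
  have hN : TopologicalSpace.NoetherianSpace ↥(Spec A) :=
    inferInstanceAs (TopologicalSpace.NoetherianSpace (PrimeSpectrum A))
  let p : Ideal A := PrimeSpectrum.asIdeal x
  have hp : p.IsPrime := PrimeSpectrum.isPrime x
  have hgen : primeIncl A p (genericPoint _) = x := primeIncl_genericPoint A p
  have hmem : genericPoint _ ∈ primeIncl A p ⁻¹' E := by
    rw [Set.mem_preimage, hgen]; exact hx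
  obtain ⟨z, hz⟩ := h p hmem
  have hW'o : IsOpen (interior (primeIncl A p ⁻¹' E)) := isOpen_interior
  have hgW' : genericPoint _ ∈ interior (primeIncl A p ⁻¹' E) :=
    ((genericPoint_spec _).mem_open_set_iff hW'o).mpr ⟨z, trivial, hz⟩
  obtain ⟨O, hO, hOW'⟩ := (primeIncl A p).isClosedEmbedding.isInducing.isOpen_iff.mp hW'o
  refine ⟨O ∩ Set.range (primeIncl A p), ?_, ⟨?_, ?_⟩, ?_⟩
  · exact (Groth.Agent.Lib.Helper12.ConstrTop.isConstructible_of_isOpen hO).inter
      (Groth.Agent.Lib.Helper12.ConstrTop.isConstructible_of_isClosed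
        (primeIncl A p).isClosedEmbedding.isClosed_range)
  · have : genericPoint _ ∈ primeIncl A p ⁻¹' O := by rw [hOW']; exact hgW'
    rw [← hgen]; exact this
  · rw [← hgen]; exact ⟨_, rfl⟩
  · rintro y ⟨hyO, ⟨z', rfl⟩⟩
    have : z' ∈ interior (primeIncl A p ⁻¹' E) := by rw [← hOW']; exact hyO
    have h2 : z' ∈ primeIncl A p ⁻¹' E := interior_subset this
    exact h2

end Criteria

section Assembly

variable {S : Scheme.{u}} {E : Set S}

/-- **Assembly, ind-constructible case.** -/
theorem isIndConstructible_of_affine_models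
    (h : ∀ U : S.Opens, IsAffineOpen U → ∃ (A₀ : CommRingCat.{u}) (_ : IsNoetherianRing A₀)
      (π : U.toScheme ⟶ Spec A₀) (E₀ : Set ↥(Spec A₀)), U.ι ⁻¹' E = π ⁻¹' E₀ ∧ GIndHyp A₀ E₀) :
    ProCons.IsIndConstructible E := by
  intro x
  obtain ⟨U, hU, hxU⟩ := Groth.Agent.Lib.Helper16.exists_affine_nhd x
  obtain ⟨A₀, hA₀, π, E₀, hE, hG⟩ := h U hU
  refine ⟨U, U.2, hxU, {T | ∃ C : Set ↥(Spec A₀), IsConstructible C ∧ C ⊆ E₀ ∧ T = π ⁻¹' C},
    ?_, ?_⟩
  · rintro T ⟨C, hC, -, rfl⟩
    exact (π.isConstructible_preimage hC).isLocallyConstructible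
  · have h1 : (Subtype.val ⁻¹' E : Set ↥(U : Set S)) = U.ι ⁻¹' E := rfl
    rw [h1, hE]
    apply subset_antisymm
    · intro y hy
      obtain ⟨C, hC, hyC, hCE⟩ := exists_isConstructible_of_gIndHyp hG hy
      exact ⟨π ⁻¹' C, ⟨C, hC, hCE, rfl⟩, hyC⟩
    · rintro y ⟨T, ⟨C, hC, hCE, rfl⟩, hy⟩
      exact hCE hy

/-- **Assembly, constructible case.** -/
theorem isLocallyConstructible_of_affine_models
    (h : ∀ U : S.Opens, IsAffineOpen U → ∃ (A₀ : CommRingCat.{u}) (_ : IsNoetherianRing A₀)
      (π : U.toScheme ⟶ Spec A₀) (E₀ : Set ↥(Spec A₀)), U.ι ⁻¹' E = π ⁻¹' E₀ ∧ GConsHyp A₀ E₀) :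
    IsLocallyConstructible E := by
  intro x
  obtain ⟨U, hU, hxU⟩ := Groth.Agent.Lib.Helper16.exists_affine_nhd x
  obtain ⟨A₀, hA₀, π, E₀, hE, hG⟩ := h U hU
  refine ⟨U, U.2.mem_nhds hxU, U.2, ?_⟩
  have h1 : (Subtype.val ⁻¹' E : Set ↥(U : Set S)) = U.ι ⁻¹' E := rfl
  change IsConstructible (Subtype.val ⁻¹' E : Set ↥(U : Set S))
  rw [h1, hE]
  exact π.isConstructible_preimage (isConstructible_of_gConsHyp hG)

end Assembly

end Groth.Agent.Lib.Helper23
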