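/-
Helper library (helper23): constructibility of the locus of a (ind-)constructible relation
between two schemes of finite presentation over an arbitrary base (EGA IV 9.2.3, pair form).
-/
import Mathlib
import Groth.Prelude.Def_W4ega4s0809p4Pair
import Groth.Agent.Lib.Helper23.ConsLocusGeneric
import Groth.Agent.Lib.Helper23.ConsPairInd
import Groth.Agent.Lib.Helper23.NoethApprox

set_option autoImplicit false
universe u
open CategoryTheory Limits AlgebraicGeometry Topology

namespace Groth.Agent.Lib.Helper23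

section BaseChange

variable {P : ∀ ⦃X Y T : Scheme.{u}⦄, (X ⟶ T) → (Y ⟶ T) → Prop}

/-- The square comparing the fibre of a base change with the fibre of the original family. -/
theorem exists_isPullback_fiber {X S X' S' : Scheme.{u}} (u : X ⟶ S) (h : S' ⟶ S) {u' : X' ⟶ S'}
    {eX : X' ⟶ X} (hX : IsPullback eX u' u h) (s' : S') :
    ∃ pX : u'.fiber s' ⟶ u.fiber (h s'),
      IsPullback pX (u'.fiberToSpecResidueField s') (u.fiberToSpecResidueField (h s'))
        (Spec.map (h.residueFieldMap s')) := by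
  have hh : Spec.map (h.residueFieldMap s') ≫ S.fromSpecResidueField (h s') =
      S'.fromSpecResidueField s' ≫ h :=
    Scheme.Hom.SpecMap_residueFieldMap_fromSpecResidueField h s'
  have hX₁ : IsPullback (u.fiberι (h s')) (u.fiberToSpecResidueField (h s')) u
      (S.fromSpecResidueField (h s')) := IsPullback.of_hasPullback _ _
  have hX₂' : IsPullback (u'.fiberι s') (u'.fiberToSpecResidueField s') u'
      (S'.fromSpecResidueField s') := IsPullback.of_hasPullback _ _
  have hX₂ : IsPullback (u'.fiberι s' ≫ eX) (u'.fiberToSpecResidueField s') u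
      (S'.fromSpecResidueField s' ≫ h) := hX₂'.paste_horiz hX
  obtain ⟨pX, -, hpX⟩ := exists_isPullback_of_fac hX₁ hX₂ _ hh
  exact ⟨pX, hpX⟩

/-- **Compatibility of the locus with base change**, for a field-stable relation of pairs. -/
theorem locusPair_baseChange (hP : ConsPropPair.IsFieldStablePair P)
    {X Y S X' Y' S' : Scheme.{u}} (u : X ⟶ S) (v : Y ⟶ S)
    [LocallyOfFiniteType u] [QuasiCompact u] [LocallyOfFiniteType v] [QuasiCompact v]
    (h : S' ⟶ S) {u' : X' ⟶ S'} {v' : Y' ⟶ S'} {eX : X' ⟶ X} {eY : Y' ⟶ Y}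
    (hX : IsPullback eX u' u h) (hY : IsPullback eY v' v h) :
    ConsPropPair.locusPair P u' v' = h ⁻¹' ConsPropPair.locusPair P u v := by
  ext s'
  obtain ⟨pX, hpX⟩ := exists_isPullback_fiber u h hX s'
  obtain ⟨pY, hpY⟩ := exists_isPullback_fiber v h hY s'
  have i1 : LocallyOfFiniteType (u.fiberToSpecResidueField (h s')) :=
    inferInstanceAs (LocallyOfFiniteType (pullback.snd u (S.fromSpecResidueField (h s'))))
  have i2 : QuasiCompact (u.fiberToSpecResidueField (h s')) :=
    inferInstanceAs (QuasiCompact (pullback.snd u (S.fromSpecResidueField (h s'))))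
  have i3 : LocallyOfFiniteType (v.fiberToSpecResidueField (h s')) :=
    inferInstanceAs (LocallyOfFiniteType (pullback.snd v (S.fromSpecResidueField (h s'))))
  have i4 : QuasiCompact (v.fiberToSpecResidueField (h s')) :=
    inferInstanceAs (QuasiCompact (pullback.snd v (S.fromSpecResidueField (h s'))))
  exact (hP (u.fiberToSpecResidueField (h s')) (v.fiberToSpecResidueField (h s'))
    (u'.fiberToSpecResidueField s') (v'.fiberToSpecResidueField s') pX pY
    (Spec.map (h.residueFieldMap s')) hpX hpY).symm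

end BaseChange

section Main

variable {P : ∀ ⦃X Y T : Scheme.{u}⦄, (X ⟶ T) → (Y ⟶ T) → Prop}
  {X Y S : Scheme.{u}} (u : X ⟶ S) (v : Y ⟶ S)
  [LocallyOfFinitePresentation u] [QuasiCompact u] [QuasiSeparated u]
  [LocallyOfFinitePresentation v] [QuasiCompact v] [QuasiSeparated v]

/-- Common reduction: over each affine open the locus is pulled back from a Noetherian model,
and the trace of the model locus on each `Spec (A₀/p)` is the locus of the restricted pair. -/
theorem exists_model_locusPair (hP : ConsPropPair.IsFieldStablePair P) (U : S.Opens)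
    (hU : IsAffineOpen U) :
    ∃ (A₀ : CommRingCat.{u}) (_ : IsNoetherianRing A₀) (π : U.toScheme ⟶ Spec A₀)
      (X₀ Y₀ : Scheme.{u}) (u₀ : X₀ ⟶ Spec A₀) (v₀ : Y₀ ⟶ Spec A₀),
      LocallyOfFinitePresentation u₀ ∧ QuasiCompact u₀ ∧ QuasiSeparated u₀ ∧
      LocallyOfFinitePresentation v₀ ∧ QuasiCompact v₀ ∧ QuasiSeparated v₀ ∧
      U.ι ⁻¹' ConsPropPair.locusPair P u v = π ⁻¹' ConsPropPair.locusPair P u₀ v₀ := by
  have : IsAffine U.toScheme := hU
  have e1 : ConsPropPair.locusPair P (pullback.snd u U.ι) (pullback.snd v U.ι) =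
      U.ι ⁻¹' ConsPropPair.locusPair P u v :=
    locusPair_baseChange hP u v U.ι (IsPullback.of_hasPullback u U.ι)
      (IsPullback.of_hasPullback v U.ι)
  obtain ⟨A₀, hA₀, π, X₀, Y₀, u₀, v₀, qX, qY, a1, a2, a3, b1, b2, b3, hX, hY⟩ :=
    exists_noetherian_model_pair (pullback.snd u U.ι) (pullback.snd v U.ι)
  have e2 : ConsPropPair.locusPair P (pullback.snd u U.ι) (pullback.snd v U.ι) =
      π ⁻¹' ConsPropPair.locusPair P u₀ v₀ := locusPair_baseChange hP u₀ v₀ π hX hY
  exact ⟨A₀, hA₀, π, X₀, Y₀, u₀, v₀, a1, a2, a3, b1, b2, b3, e1.symm.trans e2⟩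

/-- **EGA IV 9.2.3, ind-constructible case, pair form.** -/
theorem isIndConstructible_locusPair (hP : ConsPropPair.IsIndConsPair P) :
    ProCons.IsIndConstructible (ConsPropPair.locusPair P u v) := by
  apply isIndConstructible_of_affine_models
  intro U hU
  obtain ⟨A₀, hA₀, π, X₀, Y₀, u₀, v₀, a1, a2, a3, b1, b2, b3, e⟩ :=
    exists_model_locusPair u v hP.1 U hU
  refine ⟨A₀, hA₀, π, ConsPropPair.locusPair P u₀ v₀, e, ?_⟩
  intro p hp hgen
  have e3 : ConsPropPair.locusPair P (pullback.snd u₀ (primeIncl A₀ p))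
      (pullback.snd v₀ (primeIncl A₀ p)) =
      (primeIncl A₀ p) ⁻¹' ConsPropPair.locusPair P u₀ v₀ :=
    locusPair_baseChange hP.1 u₀ v₀ (primeIncl A₀ p) (IsPullback.of_hasPullback u₀ _)
      (IsPullback.of_hasPullback v₀ _)
  have := hP.2 (pullback.snd u₀ (primeIncl A₀ p)) (pullback.snd v₀ (primeIncl A₀ p))
    (by rw [e3]; exact hgen)
  rwa [e3] at this

/-- **EGA IV 9.2.3, constructible case, pair form.** -/
theorem isLocallyConstructible_locusPair (hP : ConsPropPair.IsConsPair P) :
    IsLocallyConstructible (ConsPropPair.locusPair P u v) := by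
  apply isLocallyConstructible_of_affine_models
  intro U hU
  obtain ⟨A₀, hA₀, π, X₀, Y₀, u₀, v₀, a1, a2, a3, b1, b2, b3, e⟩ :=
    exists_model_locusPair u v hP.1 U hU
  refine ⟨A₀, hA₀, π, ConsPropPair.locusPair P u₀ v₀, e, ?_⟩
  intro p hp
  have e3 : ConsPropPair.locusPair P (pullback.snd u₀ (primeIncl A₀ p))
      (pullback.snd v₀ (primeIncl A₀ p)) =
      (primeIncl A₀ p) ⁻¹' ConsPropPair.locusPair P u₀ v₀ :=
    locusPair_baseChange hP.1 u₀ v₀ (primeIncl A₀ p) (IsPullback.of_hasPullback u₀ _)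
      (IsPullback.of_hasPullback v₀ _)
  have := hP.2 (pullback.snd u₀ (primeIncl A₀ p)) (pullback.snd v₀ (primeIncl A₀ p))
  rwa [e3] at this

end Main

end Groth.Agent.Lib.Helper23
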