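/-
Helper library (helper23): constructibility of the locus of a (ind-)constructible relation
on morphisms of schemes of finite presentation over an arbitrary base (EGA IV 9.2.3, morphism
form).
-/
import Mathlib
import Groth.Prelude.Def_EGA4Misc
import Groth.Agent.Lib.Helper23.ConsLocusGeneric
import Groth.Agent.Lib.Helper23.ConsLocusPair
import Groth.Agent.Lib.Helper23.NoethApprox
import Groth.Agent.Lib.Helper23.FibreIndCons

set_option autoImplicit false
universe u
open CategoryTheory Limits AlgebraicGeometry Topology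

namespace Groth.Agent.Lib.Helper23

section Top

theorem descends_top : DescendsThroughLimits (⊤ : MorphismProperty Scheme.{u}) := by
  intro I _ _ D c hc _ i₀ _ _ X₀ Y₀ f₀ g₀ _ _ _ _ _ _ X Y f g qY qX hY hX hf
  refine ⟨i₀, 𝟙 i₀, X₀, Y₀, f₀, g₀, 𝟙 Y₀, 𝟙 X₀, ?_, ?_, trivial⟩
  · rw [D.map_id]; exact IsPullback.of_horiz_isIso ⟨by simp⟩
  · exact IsPullback.of_horiz_isIso ⟨by simp⟩

end Top

section Model

variable {S : Scheme.{u}} [IsAffine S]

/-- **Noetherian model of a morphism** between schemes of finite presentation over an affine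
scheme. -/
theorem exists_noetherian_model_mor {X Y : Scheme.{u}} (f : X ⟶ Y) (g : Y ⟶ S)
    [LocallyOfFinitePresentation g] [QuasiCompact g] [QuasiSeparated g]
    [LocallyOfFinitePresentation (f ≫ g)] [QuasiCompact (f ≫ g)] [QuasiSeparated (f ≫ g)] :
    ∃ (A₀ : CommRingCat.{u}) (_ : IsNoetherianRing A₀) (π : S ⟶ Spec A₀) (X₀ Y₀ : Scheme.{u})
      (f₀ : X₀ ⟶ Y₀) (g₀ : Y₀ ⟶ Spec A₀) (qX : X ⟶ X₀) (qY : Y ⟶ Y₀),
      LocallyOfFinitePresentation g₀ ∧ QuasiCompact g₀ ∧ QuasiSeparated g₀ ∧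
      LocallyOfFinitePresentation (f₀ ≫ g₀) ∧ QuasiCompact (f₀ ≫ g₀) ∧ QuasiSeparated (f₀ ≫ g₀) ∧
      IsPullback qY g g₀ π ∧ IsPullback qX f f₀ qY := by
  have hAff : ∀ (i j : (Finset Γ(S, ⊤))ᵒᵖ) (a : i ⟶ j), IsAffineHom ((noethDiagram S).map a) :=
    fun _ _ a => inferInstance
  obtain ⟨i₁, Y₁, g₁, q₁, a1, a2, a3, h₁⟩ := descends_noeth g
  obtain ⟨i₂, X₂, w₂, q₂, b1, b2, b3, h₂⟩ := descends_noeth (f ≫ g)
  let j := IsCofiltered.min i₁ i₂
  let φ₁ : j ⟶ i₁ := IsCofiltered.minToLeft i₁ i₂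
  let φ₂ : j ⟶ i₂ := IsCofiltered.minToRight i₁ i₂
  let gj : pullback g₁ ((noethDiagram S).map φ₁) ⟶ (noethDiagram S).obj j :=
    pullback.snd g₁ ((noethDiagram S).map φ₁)
  let wj : pullback w₂ ((noethDiagram S).map φ₂) ⟶ (noethDiagram S).obj j :=
    pullback.snd w₂ ((noethDiagram S).map φ₂)
  have c1 : LocallyOfFinitePresentation gj :=
    inferInstanceAs (LocallyOfFinitePresentation (pullback.snd g₁ ((noethDiagram S).map φ₁)))
  have c2 : QuasiCompact gj :=
    inferInstanceAs (QuasiCompact (pullback.snd g₁ ((noethDiagram S).map φ₁)))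
  have c3 : QuasiSeparated gj :=
    inferInstanceAs (QuasiSeparated (pullback.snd g₁ ((noethDiagram S).map φ₁)))
  have d1 : LocallyOfFinitePresentation wj :=
    inferInstanceAs (LocallyOfFinitePresentation (pullback.snd w₂ ((noethDiagram S).map φ₂)))
  have d2 : QuasiCompact wj :=
    inferInstanceAs (QuasiCompact (pullback.snd w₂ ((noethDiagram S).map φ₂)))
  have d3 : QuasiSeparated wj :=
    inferInstanceAs (QuasiSeparated (pullback.snd w₂ ((noethDiagram S).map φ₂)))
  have hYj : IsPullback (toStage (noethDiagram S) (noethCone S) h₁ φ₁) g gj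
      ((noethCone S).π.app j) := isPullback_toStage (noethDiagram S) (noethCone S) h₁ φ₁
  have hXj : IsPullback (toStage (noethDiagram S) (noethCone S) h₂ φ₂) (f ≫ g) wj
      ((noethCone S).π.app j) := isPullback_toStage (noethDiagram S) (noethCone S) h₂ φ₂
  obtain ⟨k, φ, H⟩ := exists_hom_descend_eventually (noethDiagram S) (noethCone S)
    (isLimitNoethCone S) ⊤ descends_top.{u} j wj gj (f ≫ g) g _ _ hXj hYj f rfl trivial
  obtain ⟨m', hm', -, hsq⟩ := H k φ (𝟙 k) (Category.id_comp φ)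
  have e1 : LocallyOfFinitePresentation (pullback.snd gj ((noethDiagram S).map φ)) :=
    inferInstance
  have e2 : QuasiCompact (pullback.snd gj ((noethDiagram S).map φ)) := inferInstance
  have e3 : QuasiSeparated (pullback.snd gj ((noethDiagram S).map φ)) := inferInstance
  have e4 : LocallyOfFinitePresentation (m' ≫ pullback.snd gj ((noethDiagram S).map φ)) := by
    rw [hm']; infer_instance
  have e5 : QuasiCompact (m' ≫ pullback.snd gj ((noethDiagram S).map φ)) := by
    rw [hm']; infer_instance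
  have e6 : QuasiSeparated (m' ≫ pullback.snd gj ((noethDiagram S).map φ)) := by
    rw [hm']; infer_instance
  exact ⟨noethRing S k, isNoetherianRing_noethRing S k, (noethCone S).π.app k,
    pullback wj ((noethDiagram S).map φ), pullback gj ((noethDiagram S).map φ), m',
    pullback.snd gj ((noethDiagram S).map φ),
    toStage (noethDiagram S) (noethCone S) hXj φ, toStage (noethDiagram S) (noethCone S) hYj φ,
    e1, e2, e3, e4, e5, e6, isPullback_toStage (noethDiagram S) (noethCone S) hYj φ, hsq⟩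

end Model

section BaseChange

variable {P : ∀ ⦃X Y T : Scheme.{u}⦄, (X ⟶ Y) → (Y ⟶ T) → Prop}

/-- The square comparing the fibre of a base change with the fibre of the original family,
with the compatibility with the inclusions of the fibres. -/
theorem exists_isPullback_fiber' {X S X' S' : Scheme.{u}} (u : X ⟶ S) (h : S' ⟶ S)
    {u' : X' ⟶ S'} {eX : X' ⟶ X} (hX : IsPullback eX u' u h) (s' : S') :
    ∃ pX : u'.fiber s' ⟶ u.fiber (h s'), pX ≫ u.fiberι (h s') = u'.fiberι s' ≫ eX ∧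
      IsPullback pX (u'.fiberToSpecResidueField s') (u.fiberToSpecResidueField (h s'))
        (Spec.map (h.residueFieldMap s')) := by
  have hh : Spec.map (h.residueFieldMap s') ≫ S.fromSpecResidueField (h s') =
      S'.fromSpecResidueField s' ≫ h :=
    Scheme.Hom.SpecMap_residueFieldMap_fromSpecResidueField h s'
  have hX₁ : IsPullback (u.fiberι (h s')) (u.fiberToSpecResidueField (h s')) u
      (S.fromSpecResidueField (h s')) := IsPullback.of_hasPullback _ _
  have hX₂' : IsPullback (u'.fiberι s') (u'.fiberToSpecResidueField s') u'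
      (S'.fromSpecResidueField s') := IsPullback.of_hasPullback _ _
  have hX₂ : IsPullback (u'.fiberι s' ≫ eX) (u'.fiberToSpecResidueField s') u
      (S'.fromSpecResidueField s' ≫ h) := hX₂'.paste_horiz hX
  exact exists_isPullback_of_fac hX₁ hX₂ _ hh

theorem fiberMap_fiberι {X Y S : Scheme.{u}} (f : X ⟶ Y) (g : Y ⟶ S) (s : S) :
    MoreMor.fiberMap f g s ≫ g.fiberι s = (f ≫ g).fiberι s ≫ f :=
  pullback.lift_fst _ _ _

theorem fiberMap_fiberToSpecResidueField {X Y S : Scheme.{u}} (f : X ⟶ Y) (g : Y ⟶ S) (s : S) :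
    MoreMor.fiberMap f g s ≫ g.fiberToSpecResidueField s = (f ≫ g).fiberToSpecResidueField s :=
  pullback.lift_snd _ _ _

/-- **Compatibility of the locus with base change**, for a field-stable relation on
morphisms. -/
theorem locusMor_baseChange (hP : ConsProp.IsFieldStableMor P)
    {X Y S X' Y' S' : Scheme.{u}} (f : X ⟶ Y) (g : Y ⟶ S)
    [LocallyOfFiniteType g] [QuasiCompact g] [LocallyOfFiniteType (f ≫ g)] [QuasiCompact (f ≫ g)]
    (h : S' ⟶ S) {f' : X' ⟶ Y'} {g' : Y' ⟶ S'} {eX : X' ⟶ X} {eY : Y' ⟶ Y}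
    (hY : IsPullback eY g' g h) (hX : IsPullback eX f' f eY) :
    ConsProp.locusMor P f' g' = h ⁻¹' ConsProp.locusMor P f g := by
  ext s'
  obtain ⟨pY, hpY1, hpY⟩ := exists_isPullback_fiber' g h hY s'
  obtain ⟨pX, hpX1, hpX⟩ := exists_isPullback_fiber' (f ≫ g) h (hX.paste_vert hY) s'
  have i1 : LocallyOfFiniteType (g.fiberToSpecResidueField (h s')) :=
    inferInstanceAs (LocallyOfFiniteType (pullback.snd g (S.fromSpecResidueField (h s'))))
  have i2 : QuasiCompact (g.fiberToSpecResidueField (h s')) :=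
    inferInstanceAs (QuasiCompact (pullback.snd g (S.fromSpecResidueField (h s'))))
  have i3 : LocallyOfFiniteType
      (MoreMor.fiberMap f g (h s') ≫ g.fiberToSpecResidueField (h s')) := by
    rw [fiberMap_fiberToSpecResidueField]
    exact inferInstanceAs
      (LocallyOfFiniteType (pullback.snd (f ≫ g) (S.fromSpecResidueField (h s'))))
  have i4 : QuasiCompact
      (MoreMor.fiberMap f g (h s') ≫ g.fiberToSpecResidueField (h s')) := by
    rw [fiberMap_fiberToSpecResidueField]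
    exact inferInstanceAs (QuasiCompact (pullback.snd (f ≫ g) (S.fromSpecResidueField (h s'))))
  have hcomm : pX ≫ MoreMor.fiberMap f g (h s') = MoreMor.fiberMap f' g' s' ≫ pY := by
    apply pullback.hom_ext
    · change (pX ≫ MoreMor.fiberMap f g (h s')) ≫ g.fiberι (h s') =
        (MoreMor.fiberMap f' g' s' ≫ pY) ≫ g.fiberι (h s')
      have l1 : (pX ≫ MoreMor.fiberMap f g (h s')) ≫ g.fiberι (h s') =
          (f' ≫ g').fiberι s' ≫ eX ≫ f := by
        rw [Category.assoc, fiberMap_fiberι, ← Category.assoc, hpX1, Category.assoc]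
      have l2 : (MoreMor.fiberMap f' g' s' ≫ pY) ≫ g.fiberι (h s') =
          (f' ≫ g').fiberι s' ≫ f' ≫ eY := by
        rw [Category.assoc, hpY1, ← Category.assoc, fiberMap_fiberι, Category.assoc]
      rw [l1, l2, hX.w]
    · change (pX ≫ MoreMor.fiberMap f g (h s')) ≫ g.fiberToSpecResidueField (h s') =
        (MoreMor.fiberMap f' g' s' ≫ pY) ≫ g.fiberToSpecResidueField (h s')
      rw [Category.assoc, fiberMap_fiberToSpecResidueField, Category.assoc, hpY.w,
        ← Category.assoc, fiberMap_fiberToSpecResidueField]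
      exact hpX.w
  have hsq : IsPullback pX (MoreMor.fiberMap f' g' s') (MoreMor.fiberMap f g (h s')) pY := by
    refine IsPullback.of_bot ?_ hcomm hpY
    rw [fiberMap_fiberToSpecResidueField, fiberMap_fiberToSpecResidueField]
    exact hpX
  exact (hP (MoreMor.fiberMap f g (h s')) (g.fiberToSpecResidueField (h s'))
    (MoreMor.fiberMap f' g' s') (g'.fiberToSpecResidueField s') pX pY
    (Spec.map (h.residueFieldMap s')) hpY hsq).symm

end BaseChange

section Main

variable {P : ∀ ⦃X Y T : Scheme.{u}⦄, (X ⟶ Y) → (Y ⟶ T) → Prop}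
  {X Y S : Scheme.{u}} (f : X ⟶ Y) (g : Y ⟶ S)
  [LocallyOfFinitePresentation g] [QuasiCompact g] [QuasiSeparated g]
  [LocallyOfFinitePresentation (f ≫ g)] [QuasiCompact (f ≫ g)] [QuasiSeparated (f ≫ g)]

/-- Common reduction for the morphism form. -/
theorem exists_model_locusMor (hP : ConsProp.IsFieldStableMor P) (U : S.Opens)
    (hU : IsAffineOpen U) :
    ∃ (A₀ : CommRingCat.{u}) (_ : IsNoetherianRing A₀) (π : U.toScheme ⟶ Spec A₀)
      (X₀ Y₀ : Scheme.{u}) (f₀ : X₀ ⟶ Y₀) (g₀ : Y₀ ⟶ Spec A₀),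
      LocallyOfFinitePresentation g₀ ∧ QuasiCompact g₀ ∧ QuasiSeparated g₀ ∧
      LocallyOfFinitePresentation (f₀ ≫ g₀) ∧ QuasiCompact (f₀ ≫ g₀) ∧
      QuasiSeparated (f₀ ≫ g₀) ∧
      U.ι ⁻¹' ConsProp.locusMor P f g = π ⁻¹' ConsProp.locusMor P f₀ g₀ := by
  have : IsAffine U.toScheme := hU
  -- restriction over `U`
  let gU : pullback g U.ι ⟶ U.toScheme := pullback.snd g U.ι
  let fU : pullback (f ≫ g) U.ι ⟶ pullback g U.ι := fibreMap f g U.ι
  have hfU : fU ≫ gU = pullback.snd (f ≫ g) U.ι := pullback.lift_snd _ _ _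
  have hYU : IsPullback (pullback.fst g U.ι) gU g U.ι := IsPullback.of_hasPullback g U.ι
  have hXU : IsPullback (pullback.fst (f ≫ g) U.ι) fU f (pullback.fst g U.ι) := by
    refine IsPullback.of_bot ?_ (pullback.lift_fst _ _ _).symm hYU
    rw [hfU]
    exact IsPullback.of_hasPullback (f ≫ g) U.ι
  have k1 : LocallyOfFinitePresentation gU :=
    inferInstanceAs (LocallyOfFinitePresentation (pullback.snd g U.ι))
  have k2 : QuasiCompact gU := inferInstanceAs (QuasiCompact (pullback.snd g U.ι))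
  have k3 : QuasiSeparated gU := inferInstanceAs (QuasiSeparated (pullback.snd g U.ι))
  have k4 : LocallyOfFinitePresentation (fU ≫ gU) := by rw [hfU]; infer_instance
  have k5 : QuasiCompact (fU ≫ gU) := by rw [hfU]; infer_instance
  have k6 : QuasiSeparated (fU ≫ gU) := by rw [hfU]; infer_instance
  have e1 : ConsProp.locusMor P fU gU = U.ι ⁻¹' ConsProp.locusMor P f g :=
    locusMor_baseChange hP f g U.ι hYU hXU
  obtain ⟨A₀, hA₀, π, X₀, Y₀, f₀, g₀, qX, qY, a1, a2, a3, b1, b2, b3, hY, hX⟩ :=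
    exists_noetherian_model_mor fU gU
  have e2 : ConsProp.locusMor P fU gU = π ⁻¹' ConsProp.locusMor P f₀ g₀ :=
    locusMor_baseChange hP f₀ g₀ π hY hX
  exact ⟨A₀, hA₀, π, X₀, Y₀, f₀, g₀, a1, a2, a3, b1, b2, b3, e1.symm.trans e2⟩

/-- Trace of the locus on `Spec (A₀/p)`. -/
theorem exists_trace_locusMor (hP : ConsProp.IsFieldStableMor P) {A₀ : CommRingCat.{u}}
    {X₀ Y₀ : Scheme.{u}} (f₀ : X₀ ⟶ Y₀) (g₀ : Y₀ ⟶ Spec A₀)
    [LocallyOfFinitePresentation g₀] [QuasiCompact g₀]
    [LocallyOfFinitePresentation (f₀ ≫ g₀)] [QuasiCompact (f₀ ≫ g₀)] (p : Ideal A₀) :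
    ∃ (X₁ Y₁ : Scheme.{u}) (f₁ : X₁ ⟶ Y₁) (g₁ : Y₁ ⟶ Spec (CommRingCat.of (A₀ ⧸ p))),
      LocallyOfFiniteType g₁ ∧ QuasiCompact g₁ ∧ LocallyOfFiniteType (f₁ ≫ g₁) ∧
      QuasiCompact (f₁ ≫ g₁) ∧
      ConsProp.locusMor P f₁ g₁ = (primeIncl A₀ p) ⁻¹' ConsProp.locusMor P f₀ g₀ := by
  let i := primeIncl A₀ p
  let g₁ : pullback g₀ i ⟶ Spec (CommRingCat.of (A₀ ⧸ p)) := pullback.snd g₀ i
  let f₁ : pullback (f₀ ≫ g₀) i ⟶ pullback g₀ i := fibreMap f₀ g₀ i
  have hf₁ : f₁ ≫ g₁ = pullback.snd (f₀ ≫ g₀) i := pullback.lift_snd _ _ _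
  have hY₁ : IsPullback (pullback.fst g₀ i) g₁ g₀ i := IsPullback.of_hasPullback g₀ i
  have hX₁ : IsPullback (pullback.fst (f₀ ≫ g₀) i) f₁ f₀ (pullback.fst g₀ i) := by
    refine IsPullback.of_bot ?_ (pullback.lift_fst _ _ _).symm hY₁
    rw [hf₁]
    exact IsPullback.of_hasPullback (f₀ ≫ g₀) i
  have k1 : LocallyOfFiniteType g₁ := inferInstanceAs (LocallyOfFiniteType (pullback.snd g₀ i))
  have k2 : QuasiCompact g₁ := inferInstanceAs (QuasiCompact (pullback.snd g₀ i))
  have k4 : LocallyOfFiniteType (f₁ ≫ g₁) := by rw [hf₁]; infer_instance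
  have k5 : QuasiCompact (f₁ ≫ g₁) := by rw [hf₁]; infer_instance
  exact ⟨_, _, f₁, g₁, k1, k2, k4, k5, locusMor_baseChange hP f₀ g₀ i hY₁ hX₁⟩

/-- **EGA IV 9.2.3, ind-constructible case, morphism form.** -/
theorem isIndConstructible_locusMor (hP : ConsProp.IsIndConsMor P) :
    ProCons.IsIndConstructible (ConsProp.locusMor P f g) := by
  apply isIndConstructible_of_affine_models
  intro U hU
  obtain ⟨A₀, hA₀, π, X₀, Y₀, f₀, g₀, a1, a2, a3, b1, b2, b3, e⟩ :=
    exists_model_locusMor f g hP.1 U hU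
  refine ⟨A₀, hA₀, π, ConsProp.locusMor P f₀ g₀, e, ?_⟩
  intro p hp hgen
  obtain ⟨X₁, Y₁, f₁, g₁, k1, k2, k4, k5, e3⟩ := exists_trace_locusMor hP.1 f₀ g₀ p
  have := hP.2 f₁ g₁ (by rw [e3]; exact hgen)
  rwa [e3] at this

/-- **EGA IV 9.2.3, constructible case, morphism form.** -/
theorem isLocallyConstructible_locusMor (hP : ConsProp.IsConsMor P) :
    IsLocallyConstructible (ConsProp.locusMor P f g) := by
  apply isLocallyConstructible_of_affine_models
  intro U hU
  obtain ⟨A₀, hA₀, π, X₀, Y₀, f₀, g₀, a1, a2, a3, b1, b2, b3, e⟩ :=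
    exists_model_locusMor f g hP.1 U hU
  refine ⟨A₀, hA₀, π, ConsProp.locusMor P f₀ g₀, e, ?_⟩
  intro p hp
  obtain ⟨X₁, Y₁, f₁, g₁, k1, k2, k4, k5, e3⟩ := exists_trace_locusMor hP.1 f₀ g₀ p
  have := hP.2 f₁ g₁
  rwa [e3] at this

end Main

end Groth.Agent.Lib.Helper23
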