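/-
Helper library (helper23): a (ind-)constructible relation holds on all fibres over a cofiltered
limit iff it does so at some stage (EGA IV 9.3.3-type statements), pair and morphism forms.
-/
import Mathlib
import Groth.Agent.Lib.Helper23.ConsLocusPair
import Groth.Agent.Lib.Helper23.ConsLocusMor
import Groth.Agent.Lib.Helper16.LimProCons

set_option autoImplicit false
universe u
open CategoryTheory Limits AlgebraicGeometry Topology

namespace Groth.Agent.Lib.Helper23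

section Lim

variable {I : Type u} [SmallCategory I] [IsCofiltered I]
  (D : I ⥤ Scheme.{u}) (c : Cone D) (hc : IsLimit c)
  [∀ {i j : I} (a : i ⟶ j), IsAffineHom (D.map a)] (i₀ : I) [CompactSpace ↥(D.obj i₀)]

include hc in
/-- An ind-constructible subset of a quasi-compact stage whose preimage in the limit is
everything has preimage everything at some stage. -/
theorem exists_stage_preimage_eq_univ {E₀ : Set ↥(D.obj i₀)}
    (hE₀ : ProCons.IsIndConstructible E₀) (h : ∀ s : ↥c.pt, c.π.app i₀ s ∈ E₀) :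
    ∃ (j : I) (φ : j ⟶ i₀), ∀ t : ↥(D.obj j), D.map φ t ∈ E₀ := by
  have huniv : ProCons.IsProConstructible (Set.univ : Set ↥(D.obj i₀)) :=
    Groth.Agent.Lib.Helper16.isProConstructible_of_isLocallyConstructible
      IsLocallyConstructible.univ
  obtain ⟨j, φ, hφ⟩ := Groth.Agent.Lib.Helper16.eventuallyEmpty_sdiff D c hc huniv hE₀
    (fun s _ => h s)
  refine ⟨j, φ, fun t => ?_⟩
  by_contra hn
  have : t ∈ (D.map φ).base ⁻¹' (Set.univ \ E₀) := ⟨trivial, hn⟩
  rw [hφ] at this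
  exact this

end Lim

section Pair

variable {P : ∀ ⦃X Y T : Scheme.{u}⦄, (X ⟶ T) → (Y ⟶ T) → Prop}
  {I : Type u} [SmallCategory I] [IsCofiltered I]
  (D : I ⥤ Scheme.{u}) (c : Cone D) (hc : IsLimit c)
  [∀ {i j : I} (a : i ⟶ j), IsAffineHom (D.map a)] (i₀ : I) [CompactSpace ↥(D.obj i₀)]

include hc in
theorem forall_locusPair_iff_eventually (hP : ConsPropPair.IsIndConsPair P)
    {X₀ Y₀ : Scheme.{u}} (u₀ : X₀ ⟶ D.obj i₀) (v₀ : Y₀ ⟶ D.obj i₀)
    [LocallyOfFinitePresentation u₀] [QuasiCompact u₀] [QuasiSeparated u₀]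
    [LocallyOfFinitePresentation v₀] [QuasiCompact v₀] [QuasiSeparated v₀]
    {X Y : Scheme.{u}} (u : X ⟶ c.pt) (v : Y ⟶ c.pt) (qX : X ⟶ X₀) (qY : Y ⟶ Y₀)
    (hX : IsPullback qX u u₀ (c.π.app i₀)) (hY : IsPullback qY v v₀ (c.π.app i₀)) :
    (∀ s : ↥c.pt, s ∈ ConsPropPair.locusPair P u v) ↔
      ∃ (j : I) (φ : j ⟶ i₀) (Xj Yj : Scheme.{u}) (uj : Xj ⟶ D.obj j) (vj : Yj ⟶ D.obj j)
        (pX : Xj ⟶ X₀) (pY : Yj ⟶ Y₀), IsPullback pX uj u₀ (D.map φ) ∧
          IsPullback pY vj v₀ (D.map φ) ∧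
          ∀ t : ↥(D.obj j), t ∈ ConsPropPair.locusPair P uj vj := by
  constructor
  · intro hall
    have e1 : ConsPropPair.locusPair P u v =
        (c.π.app i₀) ⁻¹' ConsPropPair.locusPair P u₀ v₀ :=
      locusPair_baseChange hP.1 u₀ v₀ (c.π.app i₀) hX hY
    have hE₀ : ProCons.IsIndConstructible (ConsPropPair.locusPair P u₀ v₀) :=
      isIndConstructible_locusPair u₀ v₀ hP
    obtain ⟨j, φ, hφ⟩ := exists_stage_preimage_eq_univ D c hc i₀ hE₀ (fun s => by
      have := hall s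
      rw [e1] at this
      exact this)
    refine ⟨j, φ, pullback u₀ (D.map φ), pullback v₀ (D.map φ), pullback.snd _ _,
      pullback.snd _ _, pullback.fst _ _, pullback.fst _ _, IsPullback.of_hasPullback _ _,
      IsPullback.of_hasPullback _ _, ?_⟩
    intro t
    have e2 := locusPair_baseChange hP.1 u₀ v₀ (D.map φ) (IsPullback.of_hasPullback u₀ _)
      (IsPullback.of_hasPullback v₀ _)
    rw [e2]
    exact hφ t
  · rintro ⟨j, φ, Xj, Yj, uj, vj, pX, pY, hXj, hYj, hall⟩ s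
    have hw : c.π.app j ≫ D.map φ = c.π.app i₀ := c.w φ
    obtain ⟨rX, -, hrX⟩ := exists_isPullback_of_fac hXj hX (c.π.app j) hw
    obtain ⟨rY, -, hrY⟩ := exists_isPullback_of_fac hYj hY (c.π.app j) hw
    have k1 : LocallyOfFinitePresentation uj :=
      MorphismProperty.of_isPullback hXj ‹LocallyOfFinitePresentation u₀›
    have k2 : QuasiCompact uj := MorphismProperty.of_isPullback hXj ‹QuasiCompact u₀›
    have k3 : LocallyOfFinitePresentation vj :=
      MorphismProperty.of_isPullback hYj ‹LocallyOfFinitePresentation v₀›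
    have k4 : QuasiCompact vj := MorphismProperty.of_isPullback hYj ‹QuasiCompact v₀›
    have e := locusPair_baseChange hP.1 uj vj (c.π.app j) hrX hrY
    rw [e]
    exact hall _

end Pair

section Mor

variable {P : ∀ ⦃X Y T : Scheme.{u}⦄, (X ⟶ Y) → (Y ⟶ T) → Prop}
  {I : Type u} [SmallCategory I] [IsCofiltered I]
  (D : I ⥤ Scheme.{u}) (c : Cone D) (hc : IsLimit c)
  [∀ {i j : I} (a : i ⟶ j), IsAffineHom (D.map a)] (i₀ : I) [CompactSpace ↥(D.obj i₀)]

/-- The base change of a morphism `f` over `S` along `β`, as a cartesian square. -/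
theorem isPullback_fibreMap_fst {X Y S T : Scheme.{u}} (f : X ⟶ Y) (g : Y ⟶ S) (β : T ⟶ S) :
    IsPullback (pullback.fst (f ≫ g) β) (fibreMap f g β) f (pullback.fst g β) := by
  have hf : fibreMap f g β ≫ pullback.snd g β = pullback.snd (f ≫ g) β :=
    pullback.lift_snd _ _ _
  refine IsPullback.of_bot ?_ (pullback.lift_fst _ _ _).symm (IsPullback.of_hasPullback g β)
  rw [hf]
  exact IsPullback.of_hasPullback (f ≫ g) β

include hc in
theorem forall_locusMor_iff_eventually (hP : ConsProp.IsIndConsMor P)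
    {X₀ Y₀ : Scheme.{u}} (f₀ : X₀ ⟶ Y₀) (g₀ : Y₀ ⟶ D.obj i₀)
    [LocallyOfFinitePresentation g₀] [QuasiCompact g₀] [QuasiSeparated g₀]
    [LocallyOfFinitePresentation (f₀ ≫ g₀)] [QuasiCompact (f₀ ≫ g₀)] [QuasiSeparated (f₀ ≫ g₀)]
    {X Y : Scheme.{u}} (f : X ⟶ Y) (g : Y ⟶ c.pt) (qY : Y ⟶ Y₀) (qX : X ⟶ X₀)
    (hY : IsPullback qY g g₀ (c.π.app i₀)) (hX : IsPullback qX f f₀ qY) :
    (∀ s : ↥c.pt, s ∈ ConsProp.locusMor P f g) ↔
      ∃ (j : I) (φ : j ⟶ i₀) (Xj Yj : Scheme.{u}) (fj : Xj ⟶ Yj) (gj : Yj ⟶ D.obj j)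
        (pY : Yj ⟶ Y₀) (pX : Xj ⟶ X₀), IsPullback pY gj g₀ (D.map φ) ∧
          IsPullback pX fj f₀ pY ∧ ∀ t : ↥(D.obj j), t ∈ ConsProp.locusMor P fj gj := by
  constructor
  · intro hall
    have e1 : ConsProp.locusMor P f g = (c.π.app i₀) ⁻¹' ConsProp.locusMor P f₀ g₀ :=
      locusMor_baseChange hP.1 f₀ g₀ (c.π.app i₀) hY hX
    have hE₀ : ProCons.IsIndConstructible (ConsProp.locusMor P f₀ g₀) :=
      isIndConstructible_locusMor f₀ g₀ hP
    obtain ⟨j, φ, hφ⟩ := exists_stage_preimage_eq_univ D c hc i₀ hE₀ (fun s => by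
      have := hall s
      rw [e1] at this
      exact this)
    refine ⟨j, φ, pullback (f₀ ≫ g₀) (D.map φ), pullback g₀ (D.map φ), fibreMap f₀ g₀ (D.map φ),
      pullback.snd _ _, pullback.fst _ _, pullback.fst _ _, IsPullback.of_hasPullback _ _,
      isPullback_fibreMap_fst f₀ g₀ (D.map φ), ?_⟩
    intro t
    have e2 := locusMor_baseChange hP.1 f₀ g₀ (D.map φ) (IsPullback.of_hasPullback g₀ _)
      (isPullback_fibreMap_fst f₀ g₀ (D.map φ))
    rw [e2]
    exact hφ t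
  · rintro ⟨j, φ, Xj, Yj, fj, gj, pY, pX, hYj, hXj, hall⟩ s
    have hw : c.π.app j ≫ D.map φ = c.π.app i₀ := c.w φ
    obtain ⟨rY, hrY1, hrY⟩ := exists_isPullback_of_fac hYj hY (c.π.app j) hw
    obtain ⟨rX, -, hrX⟩ := exists_isPullback_of_fac hXj hX rY hrY1
    have hXj' : IsPullback pX (fj ≫ gj) (f₀ ≫ g₀) (D.map φ) := hXj.paste_vert hYj
    have k1 : LocallyOfFinitePresentation gj :=
      MorphismProperty.of_isPullback hYj ‹LocallyOfFinitePresentation g₀›
    have k2 : QuasiCompact gj := MorphismProperty.of_isPullback hYj ‹QuasiCompact g₀›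
    have k3 : LocallyOfFinitePresentation (fj ≫ gj) :=
      MorphismProperty.of_isPullback hXj' ‹LocallyOfFinitePresentation (f₀ ≫ g₀)›
    have k4 : QuasiCompact (fj ≫ gj) :=
      MorphismProperty.of_isPullback hXj' ‹QuasiCompact (f₀ ≫ g₀)›
    have e := locusMor_baseChange hP.1 fj gj (c.π.app j) hrY hrX
    rw [e]
    exact hall _

end Mor

end Groth.Agent.Lib.Helper23
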