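/-
Helper library (helper23): constructibility of the locus of a (ind-)constructible property of
one scheme of finite presentation over an arbitrary base (EGA IV 9.2.3, single scheme form).
-/
import Mathlib
import Groth.Prelude.Def_EGA4Misc
import Groth.Agent.Lib.Helper23.ConsLocusGeneric
import Groth.Agent.Lib.Helper23.ConsLocusPair
import Groth.Agent.Lib.Helper23.NoethApprox

set_option autoImplicit false
universe u
open CategoryTheory Limits AlgebraicGeometry Topology

namespace Groth.Agent.Lib.Helper23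

section BaseChange

variable {P : ∀ ⦃Y T : Scheme.{u}⦄, (Y ⟶ T) → Prop}

/-- **Compatibility of the locus with base change**, for a field-stable property. -/
theorem locus_baseChange (hP : ConsProp.IsFieldStable P)
    {X S X' S' : Scheme.{u}} (u : X ⟶ S) [LocallyOfFiniteType u] [QuasiCompact u]
    (h : S' ⟶ S) {u' : X' ⟶ S'} {eX : X' ⟶ X} (hX : IsPullback eX u' u h) :
    ConsProp.locus P u' = h ⁻¹' ConsProp.locus P u := by
  ext s'
  obtain ⟨pX, hpX⟩ := exists_isPullback_fiber u h hX s'
  have i1 : LocallyOfFiniteType (u.fiberToSpecResidueField (h s')) :=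
    inferInstanceAs (LocallyOfFiniteType (pullback.snd u (S.fromSpecResidueField (h s'))))
  have i2 : QuasiCompact (u.fiberToSpecResidueField (h s')) :=
    inferInstanceAs (QuasiCompact (pullback.snd u (S.fromSpecResidueField (h s'))))
  exact (hP (u.fiberToSpecResidueField (h s')) (u'.fiberToSpecResidueField s') pX
    (Spec.map (h.residueFieldMap s')) hpX).symm

end BaseChange

section Main

variable {P : ∀ ⦃Y T : Scheme.{u}⦄, (Y ⟶ T) → Prop}
  {X S : Scheme.{u}} (u : X ⟶ S)
  [LocallyOfFinitePresentation u] [QuasiCompact u] [QuasiSeparated u]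

theorem exists_model_locus (hP : ConsProp.IsFieldStable P) (U : S.Opens)
    (hU : IsAffineOpen U) :
    ∃ (A₀ : CommRingCat.{u}) (_ : IsNoetherianRing A₀) (π : U.toScheme ⟶ Spec A₀)
      (X₀ : Scheme.{u}) (u₀ : X₀ ⟶ Spec A₀),
      LocallyOfFinitePresentation u₀ ∧ QuasiCompact u₀ ∧ QuasiSeparated u₀ ∧
      U.ι ⁻¹' ConsProp.locus P u = π ⁻¹' ConsProp.locus P u₀ := by
  have : IsAffine U.toScheme := hU
  have e1 : ConsProp.locus P (pullback.snd u U.ι) = U.ι ⁻¹' ConsProp.locus P u :=
    locus_baseChange hP u U.ι (IsPullback.of_hasPullback u U.ι)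
  obtain ⟨A₀, hA₀, π, X₀, Y₀, u₀, v₀, qX, qY, a1, a2, a3, b1, b2, b3, hX, hY⟩ :=
    exists_noetherian_model_pair (pullback.snd u U.ι) (pullback.snd u U.ι)
  have e2 : ConsProp.locus P (pullback.snd u U.ι) = π ⁻¹' ConsProp.locus P u₀ :=
    locus_baseChange hP u₀ π hX
  exact ⟨A₀, hA₀, π, X₀, u₀, a1, a2, a3, e1.symm.trans e2⟩

/-- **EGA IV 9.2.3, ind-constructible case, single scheme form.** -/
theorem isIndConstructible_locus (hP : ConsProp.IsIndCons P) :
    ProCons.IsIndConstructible (ConsProp.locus P u) := by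
  apply isIndConstructible_of_affine_models
  intro U hU
  obtain ⟨A₀, hA₀, π, X₀, u₀, a1, a2, a3, e⟩ := exists_model_locus u hP.1 U hU
  refine ⟨A₀, hA₀, π, ConsProp.locus P u₀, e, ?_⟩
  intro p hp hgen
  have e3 : ConsProp.locus P (pullback.snd u₀ (primeIncl A₀ p)) =
      (primeIncl A₀ p) ⁻¹' ConsProp.locus P u₀ :=
    locus_baseChange hP.1 u₀ (primeIncl A₀ p) (IsPullback.of_hasPullback u₀ _)
  have := hP.2 (pullback.snd u₀ (primeIncl A₀ p)) (by rw [e3]; exact hgen)
  rwa [e3] at this

/-- **EGA IV 9.2.3, constructible case, single scheme form.** -/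
theorem isLocallyConstructible_locus (hP : ConsProp.IsCons P) :
    IsLocallyConstructible (ConsProp.locus P u) := by
  apply isLocallyConstructible_of_affine_models
  intro U hU
  obtain ⟨A₀, hA₀, π, X₀, u₀, a1, a2, a3, e⟩ := exists_model_locus u hP.1 U hU
  refine ⟨A₀, hA₀, π, ConsProp.locus P u₀, e, ?_⟩
  intro p hp
  have e3 : ConsProp.locus P (pullback.snd u₀ (primeIncl A₀ p)) =
      (primeIncl A₀ p) ⁻¹' ConsProp.locus P u₀ :=
    locus_baseChange hP.1 u₀ (primeIncl A₀ p) (IsPullback.of_hasPullback u₀ _)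
  have := hP.2 (pullback.snd u₀ (primeIncl A₀ p))
  rwa [e3] at this

end Main

end Groth.Agent.Lib.Helper23
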