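/-
Helper library (helper23): for a (ind-)constructible property `P(X, k)` of algebraic schemes,
the relation "`P` holds for every fibre of `f`" is a (ind-)constructible property of morphisms
(EGA IV 9.2.6-type statement).
-/
import Mathlib
import Groth.Prelude.Def_EGA4Misc
import Groth.Agent.Lib.Helper23.ConsLocusOne
import Groth.Agent.Lib.Helper23.ConsLocusMor
import Groth.Agent.Lib.Helper23.ConsLocusLim
import Groth.Agent.Lib.Helper16.ProConsScheme
import Groth.Agent.Lib.Helper16.ProConsMore

set_option autoImplicit false
universe u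
open CategoryTheory Limits AlgebraicGeometry Topology

namespace Groth.Agent.Lib.Helper23

section OnePoint

theorem isLocallyNoetherian_of_subsingleton (T : Scheme.{u}) [IsIntegral T] [Subsingleton T] :
    IsLocallyNoetherian T := by
  have hf := isField_of_isIntegral_of_subsingleton T
  letI := hf.toField
  have : IsNoetherianRing Γ(T, ⊤) := inferInstance
  have : IsAffine T := isAffine_of_subsingleton T
  exact isLocallyNoetherian_of_isOpenImmersion T.isoSpec.hom

end OnePoint

section ForallFiber

variable {P : ∀ ⦃Y T : Scheme.{u}⦄, (Y ⟶ T) → Prop}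

theorem forall_fiber_iff_locus {X Y : Scheme.{u}} (f : X ⟶ Y) :
    (∀ y : ↥Y, P (f.fiberToSpecResidueField y)) ↔ ConsProp.locus P f = Set.univ := by
  rw [Set.eq_univ_iff_forall]
  rfl

theorem isFieldStableMor_forallFiber (hP : ConsProp.IsFieldStable P) :
    ConsProp.IsFieldStableMor (fun X Y T f g => ∀ y : ↥Y, P (f.fiberToSpecResidueField y)) := by
  intro X X' Y Y' T T' f g f' g' eX eY h _ _ _ _ _ _ _ _ hY hX
  have : IsLocallyNoetherian T := isLocallyNoetherian_of_subsingleton T
  have : IsLocallyNoetherian Y := LocallyOfFiniteType.isLocallyNoetherian g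
  have : LocallyOfFiniteType f := locallyOfFiniteType_of_comp f g
  have : QuasiSeparated g := inferInstance
  have : QuasiCompact f := QuasiCompact.of_comp f g
  have e := locus_baseChange hP f eY hX
  have hsurj : Surjective eY := by
    have hh : Surjective h := ⟨fun t => ⟨Classical.arbitrary _, Subsingleton.elim _ _⟩⟩
    exact MorphismProperty.of_isPullback hY.flip hh
  change (∀ y : ↥Y, P (f.fiberToSpecResidueField y)) ↔
    (∀ y : ↥Y', P (f'.fiberToSpecResidueField y))
  rw [forall_fiber_iff_locus, forall_fiber_iff_locus, e]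
  constructor
  · intro h1; rw [h1]; rfl
  · intro h1
    rw [Set.eq_univ_iff_forall]
    intro y
    obtain ⟨y', rfl⟩ := hsurj.surj y
    have : y' ∈ eY ⁻¹' ConsProp.locus P f := by rw [h1]; trivial
    exact this

end ForallFiber

section Family

variable {P : ∀ ⦃Y T : Scheme.{u}⦄, (Y ⟶ T) → Prop}

/-- The locus of "all fibres of `f_s` have `P`" is the complement of the image of the
complement of the locus of `P` for `f`. -/
theorem locusMor_forallFiber_eq (hP : ConsProp.IsFieldStable P) {X Y S : Scheme.{u}}
    (f : X ⟶ Y) (g : Y ⟶ S) [LocallyOfFiniteType f] [QuasiCompact f] :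
    ConsProp.locusMor (fun X Y T f g => ∀ y : ↥Y, P (f.fiberToSpecResidueField y)) f g =
      (g '' (ConsProp.locus P f)ᶜ)ᶜ := by
  ext s
  have hsq : IsPullback ((f ≫ g).fiberι s) (MoreMor.fiberMap f g s) f (g.fiberι s) :=
    isPullback_fibreMap_fst f g (S.fromSpecResidueField s)
  have e := locus_baseChange hP f (g.fiberι s) hsq
  change (∀ y : ↥(g.fiber s), P ((MoreMor.fiberMap f g s).fiberToSpecResidueField y)) ↔ _
  rw [forall_fiber_iff_locus, e]
  constructor
  · rintro h1 ⟨y, hy, rfl⟩
    have hmem : y ∈ Set.range (g.fiberι (g y)) := by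
      rw [Scheme.Hom.range_fiberι]; rfl
    obtain ⟨y', hy'⟩ := hmem
    have : y' ∈ (g.fiberι (g y)) ⁻¹' ConsProp.locus P f := by rw [h1]; trivial
    have h2 : g.fiberι (g y) y' ∈ ConsProp.locus P f := this
    rw [hy'] at h2
    exact hy h2
  · intro h1
    rw [Set.eq_univ_iff_forall]
    intro y'
    by_contra hn
    refine h1 ⟨g.fiberι s y', hn, ?_⟩
    have : g.fiberι s y' ∈ Set.range (g.fiberι s) := ⟨y', rfl⟩
    rw [Scheme.Hom.range_fiberι] at this
    exact this

end Family

section Main

variable {P : ∀ ⦃Y T : Scheme.{u}⦄, (Y ⟶ T) → Prop}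

open Groth.Agent.Lib.Helper16 in
/-- If `P` is an ind-constructible property of algebraic schemes, "all fibres of `f` have `P`"
is an ind-constructible property of morphisms. -/
theorem isIndConsMor_forallFiber (hP : ConsProp.IsIndCons P) :
    ConsProp.IsIndConsMor (fun X Y T f g => ∀ y : ↥Y, P (f.fiberToSpecResidueField y)) := by
  refine ⟨isFieldStableMor_forallFiber hP.1, ?_⟩
  intro X Y S f g _ _ _ _ _ _ hgen
  have : IsLocallyNoetherian Y := LocallyOfFiniteType.isLocallyNoetherian g
  have : IsLocallyNoetherian X := LocallyOfFiniteType.isLocallyNoetherian (f ≫ g)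
  have : LocallyOfFiniteType f := locallyOfFiniteType_of_comp f g
  have : QuasiSeparated g := inferInstance
  have : QuasiCompact f := QuasiCompact.of_comp f g
  have : QuasiSeparated f := inferInstance
  have : LocallyOfFinitePresentation f := inferInstance
  have hEY : ProCons.IsIndConstructible (ConsProp.locus P f) := isIndConstructible_locus f hP
  rw [locusMor_forallFiber_eq hP.1 f g] at hgen ⊢
  have hE' : ProCons.IsIndConstructible (g '' (ConsProp.locus P f)ᶜ)ᶜ :=
    isIndConstructible_compl (isProConstructible_image g _ (isProConstructible_compl hEY))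
  obtain ⟨U, hU, hηU⟩ := exists_affine_nhd (genericPoint S)
  obtain ⟨_, _, _, _, _⟩ := spectral_of_isAffineOpen hU
  refine ⟨genericPoint S, mem_interior_of_forall_specializes hE' U.2 hηU ?_⟩
  intro x' hx'
  have h1 : genericPoint S ⤳ x' := (genericPoint_spec S).specializes (Set.mem_univ x')
  have h2 : x' = genericPoint S := (hx'.antisymm h1).eq
  rw [h2]; exact hgen

open Groth.Agent.Lib.Helper16 in
/-- If `P` is a constructible property of algebraic schemes, "all fibres of `f` have `P`"
is a constructible property of morphisms. -/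
theorem isConsMor_forallFiber (hP : ConsProp.IsCons P) :
    ConsProp.IsConsMor (fun X Y T f g => ∀ y : ↥Y, P (f.fiberToSpecResidueField y)) := by
  refine ⟨isFieldStableMor_forallFiber hP.1, ?_⟩
  intro X Y S f g _ _ _ _ _ _
  have : IsLocallyNoetherian Y := LocallyOfFiniteType.isLocallyNoetherian g
  have : IsLocallyNoetherian X := LocallyOfFiniteType.isLocallyNoetherian (f ≫ g)
  have : LocallyOfFiniteType f := locallyOfFiniteType_of_comp f g
  have : QuasiSeparated g := inferInstance
  have : QuasiCompact f := QuasiCompact.of_comp f g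
  have : QuasiSeparated f := inferInstance
  have : LocallyOfFinitePresentation f := inferInstance
  have : LocallyOfFinitePresentation g := inferInstance
  have hEY : IsLocallyConstructible (ConsProp.locus P f) := isLocallyConstructible_locus f hP
  rw [locusMor_forallFiber_eq hP.1 f g]
  have h2 : IsLocallyConstructible (g '' (ConsProp.locus P f)ᶜ)ᶜ :=
    (g.isLocallyConstructible_image hEY.compl').compl'
  have h3 : IsConstructible (g '' (ConsProp.locus P f)ᶜ)ᶜ := h2.isConstructible
  rcases Groth.Agent.Lib.Helper12.ConstrTop.exists_open_subset_or_compl h3 with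
    ⟨U, hUo, hUne, hsub⟩ | ⟨U, hUo, hUne, hsub⟩
  · left; exact hUne.mono (interior_maximal hsub hUo)
  · right; exact hUne.mono (interior_maximal hsub hUo)

end Main

end Groth.Agent.Lib.Helper23
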