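/-
Helper library (helper23): properties of morphisms with fpqc descent give field-stable relations;
being universally injective is a constructible property (of schemes and of morphisms).
-/
import Mathlib
import Groth.Prelude.Def_EGA4Misc
import Groth.Agent.Lib.Helper23.ConsForallFiber
import Groth.Agent.S3444

set_option autoImplicit false
universe u
open CategoryTheory Limits AlgebraicGeometry Topology MorphismProperty

namespace Groth.Agent.Lib.Helper23

section FieldStable

variable (Q : MorphismProperty Scheme.{u}) [Q.IsStableUnderBaseChange]
  [Q.DescendsAlong (@Surjective ⊓ @Flat ⊓ @QuasiCompact)]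

/-- A morphism from an integral one-point scheme to another is an fpqc covering. -/
theorem fpqc_of_onePoint {T T' : Scheme.{u}} (h : T' ⟶ T) [IsIntegral T] [Subsingleton T]
    [IsIntegral T'] [Subsingleton T'] :
    (@Surjective ⊓ @Flat ⊓ @QuasiCompact : MorphismProperty Scheme.{u}) h := by
  have : IsAffine T := isAffine_of_subsingleton T
  have : IsAffine T' := isAffine_of_subsingleton T'
  refine ⟨⟨⟨fun t => ⟨Classical.arbitrary _, Subsingleton.elim _ _⟩⟩, inferInstance⟩,
    inferInstance⟩

theorem isFieldStableMor_of_descendsAlong :
    ConsProp.IsFieldStableMor (fun _ _ _ f _ => Q f) := by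
  intro X X' Y Y' T T' f g f' g' eX eY h _ _ _ _ _ _ _ _ hY hX
  have hh := fpqc_of_onePoint h
  have heY : (@Surjective ⊓ @Flat ⊓ @QuasiCompact : MorphismProperty Scheme.{u}) eY :=
    MorphismProperty.of_isPullback hY.flip hh
  exact (iff_of_isPullback hX.flip heY).symm

theorem isFieldStable_of_descendsAlong :
    ConsProp.IsFieldStable (fun _ _ g => Q g) := by
  intro Y Y' T T' g g' e h _ _ _ _ _ _ hsq
  have hh := fpqc_of_onePoint h
  exact (iff_of_isPullback hsq.flip hh).symm

end FieldStable

section UnivInj

/-- Dichotomy for a locally constructible subset of an integral Noetherian scheme. -/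
theorem interior_nonempty_or_compl {S : Scheme.{u}} [IsIntegral S] [IsNoetherian S] {E : Set S}
    (hE : IsLocallyConstructible E) :
    (interior E).Nonempty ∨ (interior Eᶜ).Nonempty := by
  have h3 : IsConstructible E := hE.isConstructible
  rcases Groth.Agent.Lib.Helper12.ConstrTop.exists_open_subset_or_compl h3 with
    ⟨U, hUo, hUne, hsub⟩ | ⟨U, hUo, hUne, hsub⟩
  · left; exact hUne.mono (interior_maximal hsub hUo)
  · right; exact hUne.mono (interior_maximal hsub hUo)

/-- Being universally injective is a constructible property of morphisms of algebraic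
schemes. -/
theorem isConsMor_universallyInjective :
    ConsProp.IsConsMor (fun _ _ _ f _ => UniversallyInjective f) := by
  refine ⟨isFieldStableMor_of_descendsAlong @UniversallyInjective, ?_⟩
  intro X Y S f g _ _ _ _ _ _
  have : IsLocallyNoetherian Y := LocallyOfFiniteType.isLocallyNoetherian g
  have : IsLocallyNoetherian X := LocallyOfFiniteType.isLocallyNoetherian (f ≫ g)
  have : QuasiSeparated g := inferInstance
  have : QuasiSeparated (f ≫ g) := inferInstance
  have : LocallyOfFinitePresentation g := inferInstance
  have : LocallyOfFinitePresentation (f ≫ g) := inferInstance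
  exact interior_nonempty_or_compl (Groth.Agent.S3444.result f g)

theorem universallyInjective_fibreMap_id_iff {X S T : Scheme.{u}} (u : X ⟶ S) (β : T ⟶ S) :
    UniversallyInjective (fibreMap u (𝟙 S) β) ↔ UniversallyInjective (pullback.snd u β) := by
  have h1 : fibreMap u (𝟙 S) β ≫ pullback.snd (𝟙 S) β = pullback.snd (u ≫ 𝟙 S) β :=
    pullback.lift_snd _ _ _
  have h2 : UniversallyInjective (fibreMap u (𝟙 S) β) ↔
      UniversallyInjective (fibreMap u (𝟙 S) β ≫ pullback.snd (𝟙 S) β) :=
    (MorphismProperty.cancel_right_of_respectsIso @UniversallyInjective _ _).symm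
  rw [h2, h1]
  have : ∀ (u' : X ⟶ S), u' = u → (UniversallyInjective (pullback.snd u' β) ↔
      UniversallyInjective (pullback.snd u β)) := by
    rintro _ rfl; rfl
  exact this _ (Category.comp_id u)

/-- Being radicial over the base field is a constructible property of algebraic schemes. -/
theorem isCons_universallyInjective :
    ConsProp.IsCons (fun _ _ g => UniversallyInjective g) := by
  refine ⟨isFieldStable_of_descendsAlong @UniversallyInjective, ?_⟩
  intro X S u _ _ _ _
  have : IsLocallyNoetherian X := LocallyOfFiniteType.isLocallyNoetherian u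
  have : QuasiSeparated u := inferInstance
  have : LocallyOfFinitePresentation u := inferInstance
  have h := Groth.Agent.S3444.result u (𝟙 S)
  have e : ConsProp.locus (fun _ _ g => UniversallyInjective g) u =
      {s : S | UniversallyInjective (fibreMap u (𝟙 S) (S.fromSpecResidueField s))} := by
    ext s
    exact (universallyInjective_fibreMap_id_iff u (S.fromSpecResidueField s)).symm
  rw [e]
  exact interior_nonempty_or_compl h

end UnivInj

end Groth.Agent.Lib.Helper23
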