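/-
Helper library (helper23): being quasi-finite (resp. finite) over the base field is a
constructible property of algebraic schemes; being quasi-finite is a constructible property of
morphisms of algebraic schemes.
-/
import Mathlib
import Groth.Prelude.Def_EGA4Misc
import Groth.Agent.Lib.Helper23.ConsDescends

set_option autoImplicit false
universe u
open CategoryTheory Limits AlgebraicGeometry Topology MorphismProperty

namespace Groth.Agent.Lib.Helper23

section Fibre

/-- For a morphism locally of finite type, the fibre over `s` is quasi-finite over `κ(s)` iff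
`u` is quasi-finite at all points over `s`. -/
theorem locallyQuasiFinite_fiber_iff {X S : Scheme.{u}} (u : X ⟶ S) [LocallyOfFiniteType u]
    (s : S) :
    LocallyQuasiFinite (u.fiberToSpecResidueField s) ↔ ∀ x : X, u x = s → u.QuasiFiniteAt x := by
  have i1 : LocallyOfFiniteType (u.fiberToSpecResidueField s) :=
    inferInstanceAs (LocallyOfFiniteType (pullback.snd u (S.fromSpecResidueField s)))
  constructor
  · intro h x hx
    subst hx
    rw [Scheme.Hom.quasiFiniteAt_iff_isOpen_singleton_asFiber]
    have : IsLocallyArtinian (u.fiber (u x)) :=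
      IsLocallyArtinian.of_locallyQuasiFinite (u.fiberToSpecResidueField (u x))
    exact isOpen_discrete _
  · intro h
    rw [locallyQuasiFinite_iff_isDiscrete_preimage_singleton]
    intro t
    have hd : DiscreteTopology (u.fiber s) := by
      rw [discreteTopology_iff_isOpen_singleton]
      intro z
      obtain ⟨⟨x, hx⟩, rfl⟩ := (u.fiberHomeo s).symm.surjective z
      have hx' : u x = s := hx
      subst hx'
      exact Scheme.Hom.quasiFiniteAt_iff_isOpen_singleton_asFiber.mp (h x rfl)
    exact (isDiscrete_univ_iff.mpr hd).mono (Set.subset_univ _)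

theorem locus_locallyQuasiFinite_eq {X S : Scheme.{u}} (u : X ⟶ S) [LocallyOfFiniteType u] :
    ConsProp.locus (fun _ _ g => LocallyQuasiFinite g) u =
      (u '' (u.quasiFiniteLocus : Set X)ᶜ)ᶜ := by
  ext s
  change LocallyQuasiFinite (u.fiberToSpecResidueField s) ↔ _
  rw [locallyQuasiFinite_fiber_iff]
  constructor
  · rintro h ⟨x, hx, rfl⟩
    exact hx (h x rfl)
  · intro h x hx
    by_contra hn
    exact h ⟨x, hn, hx⟩

end Fibre

section FieldStable

theorem isFieldStable_locallyQuasiFinite :
    ConsProp.IsFieldStable (fun _ _ g => LocallyQuasiFinite g) := by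
  intro Y Y' T T' g g' e h _ _ _ _ _ _ hsq
  constructor
  · intro hg
    exact MorphismProperty.of_isPullback hsq hg
  · intro hg'
    have i1 : LocallyOfFiniteType g' := MorphismProperty.of_isPullback hsq ‹_›
    have i2 : QuasiCompact g' := MorphismProperty.of_isPullback hsq ‹_›
    have hsurj : Surjective e := by
      have hh : Surjective h := ⟨fun t => ⟨Classical.arbitrary _, Subsingleton.elim _ _⟩⟩
      exact MorphismProperty.of_isPullback hsq.flip hh
    have hfin := (locallyQuasiFinite_iff_finite_preimage_singleton (f := g')).mp hg'
    have hY' : Finite Y' := by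
      have t' : T' := Classical.arbitrary _
      have h1 : g' ⁻¹' {t'} = Set.univ := by
        ext y; simp only [Set.mem_preimage, Set.mem_singleton_iff, Set.mem_univ, iff_true]
        exact Subsingleton.elim _ _
      have := hfin t'
      rw [h1] at this
      exact Set.finite_univ_iff.mp this
    have hY : Finite Y := Finite.of_surjective _ hsurj.surj
    exact (locallyQuasiFinite_iff_finite_preimage_singleton (f := g)).mpr
      (fun t => Set.toFinite _)

end FieldStable

section Cons

theorem isLocallyConstructible_of_isOpen_of_isNoetherian {X : Scheme.{u}} [IsNoetherian X]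
    {U : Set X} (hU : IsOpen U) : IsLocallyConstructible U := by
  apply IsRetrocompact.isLocallyConstructible hU
  intro V _ _
  exact TopologicalSpace.NoetherianSpace.isCompact _

/-- Being quasi-finite over the base field is a constructible property of algebraic schemes. -/
theorem isCons_locallyQuasiFinite :
    ConsProp.IsCons (fun _ _ g => LocallyQuasiFinite g) := by
  refine ⟨isFieldStable_locallyQuasiFinite, ?_⟩
  intro X S u _ _ _ _
  have : IsLocallyNoetherian X := LocallyOfFiniteType.isLocallyNoetherian u
  have : CompactSpace X := QuasiCompact.compactSpace_of_compactSpace u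
  have : IsNoetherian X := {}
  have : QuasiSeparated u := inferInstance
  have : LocallyOfFinitePresentation u := inferInstance
  rw [locus_locallyQuasiFinite_eq]
  apply interior_nonempty_or_compl
  have hc : IsLocallyConstructible ((u.quasiFiniteLocus : Set X)ᶜ) :=
    (isLocallyConstructible_of_isOpen_of_isNoetherian u.quasiFiniteLocus.isOpen).compl'
  exact (u.isLocallyConstructible_image hc).compl'

end Cons

section Congr

variable {P P' : ∀ ⦃X Y T : Scheme.{u}⦄, (X ⟶ Y) → (Y ⟶ T) → Prop}

/-- Two relations on morphisms which agree on morphisms of schemes of finite type over a locally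
Noetherian base are simultaneously constructible. -/
theorem isConsMor_congr
    (h : ∀ ⦃X Y T : Scheme.{u}⦄ (f : X ⟶ Y) (g : Y ⟶ T) [IsLocallyNoetherian T]
      [LocallyOfFiniteType g] [QuasiCompact g] [LocallyOfFiniteType (f ≫ g)]
      [QuasiCompact (f ≫ g)], P f g ↔ P' f g)
    (hP : ConsProp.IsConsMor P) : ConsProp.IsConsMor P' := by
  refine ⟨?_, ?_⟩
  · intro X X' Y Y' T T' f g f' g' eX eY hh _ _ _ _ _ _ _ _ hY hX
    have : IsLocallyNoetherian T := isLocallyNoetherian_of_subsingleton T
    have : IsLocallyNoetherian T' := isLocallyNoetherian_of_subsingleton T'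
    have i1 : LocallyOfFiniteType g' := MorphismProperty.of_isPullback hY ‹_›
    have i2 : QuasiCompact g' := MorphismProperty.of_isPullback hY ‹_›
    have hXY : IsPullback eX (f' ≫ g') (f ≫ g) hh := hX.paste_vert hY
    have i3 : LocallyOfFiniteType (f' ≫ g') := MorphismProperty.of_isPullback hXY ‹_›
    have i4 : QuasiCompact (f' ≫ g') := MorphismProperty.of_isPullback hXY ‹_›
    rw [← h f g, ← h f' g']
    exact hP.1 f g f' g' eX eY hh hY hX
  · intro X Y S f g _ _ _ _ _ _
    have e : ConsProp.locusMor P' f g = ConsProp.locusMor P f g := by
      ext s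
      have j1 : LocallyOfFiniteType (g.fiberToSpecResidueField s) :=
        inferInstanceAs (LocallyOfFiniteType (pullback.snd g (S.fromSpecResidueField s)))
      have j2 : QuasiCompact (g.fiberToSpecResidueField s) :=
        inferInstanceAs (QuasiCompact (pullback.snd g (S.fromSpecResidueField s)))
      have j3 : LocallyOfFiniteType
          (MoreMor.fiberMap f g s ≫ g.fiberToSpecResidueField s) := by
        rw [fiberMap_fiberToSpecResidueField]
        exact inferInstanceAs
          (LocallyOfFiniteType (pullback.snd (f ≫ g) (S.fromSpecResidueField s)))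
      have j4 : QuasiCompact (MoreMor.fiberMap f g s ≫ g.fiberToSpecResidueField s) := by
        rw [fiberMap_fiberToSpecResidueField]
        exact inferInstanceAs (QuasiCompact (pullback.snd (f ≫ g) (S.fromSpecResidueField s)))
      exact (h (MoreMor.fiberMap f g s) (g.fiberToSpecResidueField s)).symm
    rw [e]
    exact hP.2 f g

end Congr

section Mor

theorem locallyQuasiFinite_iff_forall_fiber {X Y : Scheme.{u}} (f : X ⟶ Y) :
    LocallyQuasiFinite f ↔ ∀ y : ↥Y, LocallyQuasiFinite (f.fiberToSpecResidueField y) :=
  ⟨fun _ y => inferInstanceAs (LocallyQuasiFinite (pullback.snd f (Y.fromSpecResidueField y))),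
    fun h => LocallyQuasiFinite.of_fiberToSpecResidueField f h⟩

/-- Being quasi-finite is a constructible property of morphisms of algebraic schemes. -/
theorem isConsMor_locallyQuasiFinite :
    ConsProp.IsConsMor (fun _ _ _ f _ => LocallyQuasiFinite f) := by
  refine isConsMor_congr ?_ (isConsMor_forallFiber isCons_locallyQuasiFinite)
  intro X Y T f g _ _ _ _ _
  exact (locallyQuasiFinite_iff_forall_fiber f).symm

/-- Being quasi-finite (of finite type with finite fibres) is a constructible property of
morphisms of algebraic schemes. -/
theorem isConsMor_quasiFinite :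
    ConsProp.IsConsMor (fun _ _ _ f _ => LocallyOfFiniteType f ∧ QuasiCompact f ∧
      LocallyQuasiFinite f) := by
  refine isConsMor_congr ?_ isConsMor_locallyQuasiFinite
  intro X Y T f g _ _ _ _ _
  have : IsLocallyNoetherian Y := LocallyOfFiniteType.isLocallyNoetherian g
  have : LocallyOfFiniteType f := locallyOfFiniteType_of_comp f g
  have : QuasiSeparated g := inferInstance
  have : QuasiCompact f := QuasiCompact.of_comp f g
  exact ⟨fun h => ⟨‹_›, ‹_›, h⟩, fun h => h.2.2⟩

end Mor

section Finite

theorem isLocallyArtinian_of_subsingleton (T : Scheme.{u}) [IsIntegral T] [Subsingleton T] :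
    IsLocallyArtinian T := by
  have := isLocallyNoetherian_of_subsingleton T
  exact IsLocallyArtinian.of_isLocallyNoetherian_of_discreteTopology

theorem isFinite_iff_locallyQuasiFinite_of_subsingleton {Y T : Scheme.{u}} (g : Y ⟶ T)
    [IsIntegral T] [Subsingleton T] [QuasiCompact g] :
    IsFinite g ↔ LocallyQuasiFinite g := by
  have := isLocallyArtinian_of_subsingleton T
  exact ⟨fun _ => inferInstance, fun _ => IsFinite.of_locallyQuasiFinite g⟩

/-- Being finite over the base field is a constructible property of algebraic schemes. -/
theorem isCons_isFinite :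
    ConsProp.IsCons (fun (_ _ : Scheme.{u}) g => IsFinite g) := by
  obtain ⟨h1, h2⟩ := isCons_locallyQuasiFinite.{u}
  refine ⟨?_, ?_⟩
  · intro Y Y' T T' g g' e h _ _ _ _ _ _ hsq
    have i2 : QuasiCompact g' := MorphismProperty.of_isPullback hsq ‹_›
    change IsFinite g ↔ IsFinite g'
    rw [isFinite_iff_locallyQuasiFinite_of_subsingleton g,
      isFinite_iff_locallyQuasiFinite_of_subsingleton g']
    exact h1 g g' e h hsq
  · intro X S u _ _ _ _
    have e : ConsProp.locus (fun _ _ g => IsFinite g) u =
        ConsProp.locus (fun _ _ g => LocallyQuasiFinite g) u := by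
      ext s
      have j2 : QuasiCompact (u.fiberToSpecResidueField s) :=
        inferInstanceAs (QuasiCompact (pullback.snd u (S.fromSpecResidueField s)))
      exact isFinite_iff_locallyQuasiFinite_of_subsingleton (u.fiberToSpecResidueField s)
    rw [e]
    exact h2 u

end Finite

end Groth.Agent.Lib.Helper23
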