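/-
Helper library (helper23): generic density in fibres, algebraic core.  For a finite type algebra
`B` over a domain `R` and a nonzerodivisor `b` of `B`, the element `1 ⊗ b` is a nonzerodivisor in
`K ⊗[R] B` for every `R`-algebra `K` in which some fixed nonzero `a : R` becomes invertible
(generic freeness of `B ⧸ (b)`).  Consequences for the fibres of `Spec B ⟶ Spec R`.
-/
import Mathlib
import Groth.Agent.Lib.Helper91.GenericFreeness

set_option autoImplicit false
universe u
open TensorProduct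

namespace Groth.Agent.Lib.Helper23

section LemmaA

variable {R : Type u} [CommRing R] [IsDomain R] {B : Type u} [CommRing B] [Algebra R B]
  [Algebra.FiniteType R B]

/-- **Generic nonzerodivisors.** -/
theorem exists_nzd_tensor (b : B) (hb : b ∈ nonZeroDivisors B) :
    ∃ a : R, a ≠ 0 ∧ ∀ (K : Type u) [CommRing K] [Algebra R K], IsUnit (algebraMap R K a) →
      ∀ y : K ⊗[R] B, (1 ⊗ₜ[R] b : K ⊗[R] B) * y = 0 → y = 0 := by
  classical
  obtain ⟨a, ha0, hfree, -, -, -⟩ :=
    Groth.Agent.Lib.Helper91.generic_freeness (R := R) (S := B) (M := B ⧸ Ideal.span {b})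
  refine ⟨a, ha0, ?_⟩
  intro K _ _ hunit y hy
  let Ra := Localization.Away a
  letI algK : Algebra Ra K := (IsLocalization.Away.lift a hunit).toAlgebra
  haveI : IsScalarTower R Ra K := IsScalarTower.of_algebraMap_eq (fun x => by
    change _ = (IsLocalization.Away.lift a hunit) (algebraMap R Ra x)
    rw [IsLocalization.Away.lift_eq])
  let g : B →ₗ[R] B := LinearMap.mulLeft R b
  let f : B →ₗ[R] (B ⧸ Ideal.span {b}) := (Ideal.Quotient.mkₐ R (Ideal.span {b})).toLinearMap
  have hg : Function.Injective g := fun x y hxy => by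
    have h1 : b * (x - y) = 0 := by
      rw [mul_sub]; exact sub_eq_zero.mpr hxy
    have := (mul_left_mem_nonZeroDivisors_eq_zero_iff hb).mp h1
    exact sub_eq_zero.mp this
  have hf : Function.Surjective f := Ideal.Quotient.mk_surjective
  have hex : Function.Exact g f := by
    intro x
    change Ideal.Quotient.mk _ x = 0 ↔ x ∈ Set.range g
    rw [Ideal.Quotient.eq_zero_iff_mem, Ideal.mem_span_singleton']
    constructor
    · rintro ⟨c, rfl⟩; exact ⟨c, mul_comm _ _⟩
    · rintro ⟨c, rfl⟩; exact ⟨c, mul_comm _ _⟩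
  let g' : Ra ⊗[R] B →ₗ[Ra] Ra ⊗[R] B := g.baseChange Ra
  let f' : Ra ⊗[R] B →ₗ[Ra] Ra ⊗[R] (B ⧸ Ideal.span {b}) := f.baseChange Ra
  have hg' : Function.Injective g' := by
    have := Module.Flat.lTensor_preserves_injective_linearMap (M := Ra) g hg
    exact this
  have hf' : Function.Surjective f' := LinearMap.lTensor_surjective Ra hf
  have hex' : Function.Exact g' f' := lTensor_exact Ra hex hf
  haveI : Module.Flat Ra (Ra ⊗[R] (B ⧸ Ideal.span {b})) := inferInstance
  have hinj : Function.Injective (g'.lTensor K) :=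
    LinearMap.lTensor_injective_of_exact_of_flat f' hf' g' hg' hex' K
  let e := TensorProduct.AlgebraTensorModule.cancelBaseChange R Ra K K B
  have hcomm : ∀ z : K ⊗[Ra] (Ra ⊗[R] B), e (g'.lTensor K z) = (1 ⊗ₜ[R] b : K ⊗[R] B) * e z := by
    intro z
    induction z using TensorProduct.induction_on with
    | zero => simp
    | add x y hx hy => simp only [map_add, hx, hy, mul_add]
    | tmul k w =>
      induction w using TensorProduct.induction_on with
      | zero => simp
      | add x y hx hy =>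
        simp only [TensorProduct.tmul_add, map_add, mul_add] at hx hy ⊢
        rw [hx, hy]
      | tmul r x =>
        simp only [LinearMap.lTensor_tmul, g', LinearMap.baseChange_tmul, e,
          TensorProduct.AlgebraTensorModule.cancelBaseChange_tmul, g, LinearMap.mulLeft_apply,
          Algebra.TensorProduct.tmul_mul_tmul, one_mul]
  have h1 : g'.lTensor K (e.symm y) = 0 := by
    apply e.injective
    rw [hcomm, LinearEquiv.apply_symm_apply, hy, map_zero]
  have h2 : e.symm y = 0 := hinj (by rw [h1, map_zero])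
  simpa using congrArg e h2

end LemmaA

section LemmaB

variable {R : Type u} [CommRing R] {B : Type u} [CommRing B] [Algebra R B]

/-- If `1 ⊗ b` is a nonzerodivisor on the fibre ring `κ(p) ⊗ B`, every prime `q` of `B` over `p`
contains a prime `q'` over `p` not containing `b`. -/
theorem exists_le_not_mem_of_nzd_fibre (b : B) (p : PrimeSpectrum R)
    (h : ∀ y : p.asIdeal.Fiber B, (1 ⊗ₜ[R] b : p.asIdeal.Fiber B) * y = 0 → y = 0)
    (q : PrimeSpectrum B) (hq : PrimeSpectrum.comap (algebraMap R B) q = p) :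
    ∃ q' : PrimeSpectrum B, PrimeSpectrum.comap (algebraMap R B) q' = p ∧ q' ≤ q ∧
      b ∉ q'.asIdeal := by
  let e := PrimeSpectrum.preimageOrderIsoFiber R B p
  let Q : PrimeSpectrum (p.asIdeal.Fiber B) := e ⟨q, hq⟩
  obtain ⟨Q', hQ'min, hQ'le⟩ := Ideal.exists_minimalPrimes_le (bot_le : (⊥ : Ideal _) ≤ Q.asIdeal)
  have hQ'prime : Q'.IsPrime := hQ'min.1.1
  have hnzd : (1 ⊗ₜ[R] b : p.asIdeal.Fiber B) ∈ nonZeroDivisors (p.asIdeal.Fiber B) := by
    rw [mem_nonZeroDivisors_iff_right]
    intro y hy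
    exact h y (by rw [mul_comm]; exact hy)
  have hb' : (1 ⊗ₜ[R] b : p.asIdeal.Fiber B) ∉ Q' := by
    intro hmem
    exact (Ideal.disjoint_nonZeroDivisors_of_mem_minimalPrimes hQ'min).le_bot ⟨hmem, hnzd⟩
  let Q'' : PrimeSpectrum (p.asIdeal.Fiber B) := ⟨Q', hQ'prime⟩
  refine ⟨(e.symm Q'').1, (e.symm Q'').2, ?_, ?_⟩
  · have h1 : e.symm Q'' ≤ e.symm Q := e.symm.monotone (show Q'' ≤ Q from hQ'le)
    have h2 : e.symm Q = ⟨q, hq⟩ := e.symm_apply_apply _
    rw [h2] at h1
    exact h1
  · intro hmem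
    apply hb'
    have : (e.symm Q'').1.asIdeal =
        Q'.comap (Algebra.TensorProduct.includeRight : B →ₐ[R] p.asIdeal.Fiber B).toRingHom := rfl
    rw [this] at hmem
    exact hmem

end LemmaB

section LemmaC

variable {R : Type u} [CommRing R] [IsDomain R] {B : Type u} [CommRing B] [Algebra R B]
  [Algebra.FiniteType R B]

/-- One minimal prime: a basic open neighbourhood of the generic point of `V(P)` is fibrewise
dense in `V(P)` over a nonempty open of `Spec R`. -/
theorem exists_generic_specialization_prime (P : Ideal B) [P.IsPrime] (b₀ : B) (hb₀ : b₀ ∉ P) :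
    ∃ a : R, a ≠ 0 ∧ ∀ q : PrimeSpectrum B, P ≤ q.asIdeal →
      a ∉ (PrimeSpectrum.comap (algebraMap R B) q).asIdeal →
      ∃ q' : PrimeSpectrum B, b₀ ∉ q'.asIdeal ∧ P ≤ q'.asIdeal ∧ q' ≤ q ∧
        PrimeSpectrum.comap (algebraMap R B) q' = PrimeSpectrum.comap (algebraMap R B) q := by
  haveI : Algebra.FiniteType R (B ⧸ P) :=
    Algebra.FiniteType.of_surjective (Ideal.Quotient.mkₐ R P) Ideal.Quotient.mk_surjective
  let π : B →+* B ⧸ P := Ideal.Quotient.mk P
  have hπ : Function.Surjective π := Ideal.Quotient.mk_surjective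
  have hb : π b₀ ∈ nonZeroDivisors (B ⧸ P) := by
    apply mem_nonZeroDivisors_of_ne_zero
    intro h0
    exact hb₀ (Ideal.Quotient.eq_zero_iff_mem.mp h0)
  obtain ⟨a, ha0, hA⟩ := exists_nzd_tensor (R := R) (π b₀) hb
  refine ⟨a, ha0, ?_⟩
  intro q hPq haq
  let p := PrimeSpectrum.comap (algebraMap R B) q
  have hker : RingHom.ker π ≤ q.asIdeal := by rw [Ideal.mk_ker]; exact hPq
  have hqbar : (q.asIdeal.map π).IsPrime := Ideal.map_isPrime_of_surjective hπ hker
  let qbar : PrimeSpectrum (B ⧸ P) := ⟨q.asIdeal.map π, hqbar⟩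
  have hcm : (q.asIdeal.map π).comap π = q.asIdeal := by
    rw [Ideal.comap_map_of_surjective π hπ]
    have : Ideal.comap π ⊥ = RingHom.ker π := rfl
    rw [this]
    exact sup_eq_left.mpr hker
  have hcomp : algebraMap R (B ⧸ P) = π.comp (algebraMap R B) := rfl
  have hqbar_over : PrimeSpectrum.comap (algebraMap R (B ⧸ P)) qbar = p := by
    apply PrimeSpectrum.ext
    change (q.asIdeal.map π).comap (algebraMap R (B ⧸ P)) = q.asIdeal.comap (algebraMap R B)
    rw [hcomp, ← Ideal.comap_comap, hcm]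
  have hunit : IsUnit (algebraMap R p.asIdeal.ResidueField a) := by
    rw [isUnit_iff_ne_zero]
    intro h0
    exact haq ((Ideal.algebraMap_residueField_eq_zero).mp h0)
  obtain ⟨qbar', h1, h2, h3⟩ := exists_le_not_mem_of_nzd_fibre (R := R) (B := B ⧸ P) (π b₀) p
    (hA p.asIdeal.ResidueField hunit) qbar hqbar_over
  refine ⟨PrimeSpectrum.comap π qbar', ?_, ?_, ?_, ?_⟩
  · exact h3
  · intro x hx
    change π x ∈ qbar'.asIdeal
    rw [Ideal.Quotient.eq_zero_iff_mem.mpr hx]
    exact Ideal.zero_mem _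
  · intro x hx
    have : π x ∈ qbar.asIdeal := h2 hx
    have h4 : x ∈ (q.asIdeal.map π).comap π := this
    rw [hcm] at h4
    exact h4
  · change _ = p
    rw [← h1]
    apply PrimeSpectrum.ext
    change (qbar'.asIdeal.comap π).comap (algebraMap R B) =
      qbar'.asIdeal.comap (algebraMap R (B ⧸ P))
    rw [hcomp, Ideal.comap_comap]

variable [IsNoetherianRing R]

/-- **Generic density, affine form.**  If `D` is open and `D ∩ V(I)` is dense in `V(I)`, then
over a nonempty open of `Spec R` every point of `V(I)` is a specialization of a point of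
`D ∩ V(I)` in the same fibre. -/
theorem exists_generic_specialization (I : Ideal B) (D : Set (PrimeSpectrum B)) (hD : IsOpen D)
    (hdense : PrimeSpectrum.zeroLocus (I : Set B) ⊆
      closure (D ∩ PrimeSpectrum.zeroLocus (I : Set B))) :
    ∃ a : R, a ≠ 0 ∧ ∀ q : PrimeSpectrum B, I ≤ q.asIdeal →
      a ∉ (PrimeSpectrum.comap (algebraMap R B) q).asIdeal →
      ∃ q' : PrimeSpectrum B, q' ∈ D ∧ I ≤ q'.asIdeal ∧ q' ≤ q ∧
        PrimeSpectrum.comap (algebraMap R B) q' = PrimeSpectrum.comap (algebraMap R B) q := by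
  classical
  haveI hB : IsNoetherianRing B := Algebra.FiniteType.isNoetherianRing R B
  have hfin : I.minimalPrimes.Finite := Ideal.finite_minimalPrimes_of_isNoetherianRing B I
  -- each minimal prime lies in `D`
  have hmem : ∀ P (hP : P ∈ I.minimalPrimes), (⟨P, hP.1.1⟩ : PrimeSpectrum B) ∈ D := by
    intro P hP
    let z : PrimeSpectrum B := ⟨P, hP.1.1⟩
    have hz : z ∈ PrimeSpectrum.zeroLocus (I : Set B) := hP.1.2
    let N : Set (PrimeSpectrum B) :=
      (⋃ P' ∈ I.minimalPrimes \ {P}, PrimeSpectrum.zeroLocus (P' : Set B))ᶜ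
    have hNopen : IsOpen N := by
      have hcl : IsClosed (⋃ P' ∈ I.minimalPrimes \ {P}, PrimeSpectrum.zeroLocus (P' : Set B)) :=
        (hfin.subset Set.sdiff_subset).isClosed_biUnion
          (fun P' _ => PrimeSpectrum.isClosed_zeroLocus _)
      exact hcl.isOpen_compl
    have hzN : z ∈ N := by
      intro hmemU
      simp only [Set.mem_iUnion, exists_prop] at hmemU
      obtain ⟨P', ⟨hP'min, hP'ne⟩, hP'le⟩ := hmemU
      have hle : P' ≤ P := hP'le
      exact hP'ne (le_antisymm hle (hP.2 hP'min.1 hle))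
    obtain ⟨z', hz'N, hz'D, hz'I⟩ := mem_closure_iff.mp (hdense hz) N hNopen hzN
    obtain ⟨P'', hP''min, hP''le⟩ := Ideal.exists_minimalPrimes_le (show I ≤ z'.asIdeal from hz'I)
    have hP''eq : P'' = P := by
      by_contra hne
      apply hz'N
      simp only [Set.mem_iUnion, exists_prop]
      exact ⟨P'', ⟨hP''min, hne⟩, hP''le⟩
    have hzz' : z ≤ z' := by
      change P ≤ z'.asIdeal
      rw [← hP''eq]; exact hP''le
    have hspec : z ⤳ z' := (PrimeSpectrum.le_iff_specializes z z').mp hzz'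
    exact hspec.mem_open hD hz'D
  -- a good element for every minimal prime
  have hex : ∀ P ∈ I.minimalPrimes, ∃ a : R, a ≠ 0 ∧ ∀ q : PrimeSpectrum B, P ≤ q.asIdeal →
      a ∉ (PrimeSpectrum.comap (algebraMap R B) q).asIdeal →
      ∃ q' : PrimeSpectrum B, q' ∈ D ∧ P ≤ q'.asIdeal ∧ q' ≤ q ∧
        PrimeSpectrum.comap (algebraMap R B) q' = PrimeSpectrum.comap (algebraMap R B) q := by
    intro P hP
    haveI := hP.1.1
    obtain ⟨_, ⟨b₀, rfl⟩, hzb, hsub⟩ :=
      PrimeSpectrum.isTopologicalBasis_basic_opens.exists_subset_of_mem_open (hmem P hP) hD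
    have hb₀ : b₀ ∉ P := hzb
    obtain ⟨a, ha0, ha⟩ := exists_generic_specialization_prime (R := R) P b₀ hb₀
    refine ⟨a, ha0, fun q hPq haq => ?_⟩
    obtain ⟨q', h1, h2, h3, h4⟩ := ha q hPq haq
    exact ⟨q', hsub h1, h2, h3, h4⟩
  choose! aP haP0 haP using hex
  refine ⟨∏ P ∈ hfin.toFinset, aP P, ?_, ?_⟩
  · rw [Finset.prod_ne_zero_iff]
    intro P hP
    exact haP0 P ((Set.Finite.mem_toFinset hfin).mp hP)
  · intro q hIq haq
    obtain ⟨P, hPmin, hPle⟩ := Ideal.exists_minimalPrimes_le hIq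
    have hdvd : aP P ∣ ∏ P ∈ hfin.toFinset, aP P :=
      Finset.dvd_prod_of_mem _ ((Set.Finite.mem_toFinset hfin).mpr hPmin)
    have haq' : aP P ∉ (PrimeSpectrum.comap (algebraMap R B) q).asIdeal := by
      intro hmem'
      exact haq (Ideal.mem_of_dvd _ hdvd hmem')
    obtain ⟨q', h1, h2, h3, h4⟩ := haP P hPmin q hPle haq'
    exact ⟨q', h1, hPmin.1.2.trans h2, h3, h4⟩

end LemmaC

end Groth.Agent.Lib.Helper23
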