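/-
Helper library (helper23): generic density in fibres (EGA IV 9.5.1–9.5.3 type statements) over an
integral Noetherian base, via generic freeness.
-/
import Mathlib
import Groth.Agent.Lib.Helper23.GenericDenseAlg
import Groth.Agent.Lib.Helper23.ConsDescends

set_option autoImplicit false
universe u
open CategoryTheory Limits AlgebraicGeometry Topology

namespace Groth.Agent.Lib.Helper23

section Chart

variable {W S : Scheme.{u}} [IsIntegral S] [IsLocallyNoetherian S] (g : W ⟶ S)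
  [LocallyOfFiniteType g]

/-- Generic density on one affine chart. -/
theorem exists_section_forall_exists_specializes {S₀ : S.Opens} (hS₀ : IsAffineOpen S₀)
    [Nonempty S₀] {W₀ : W.Opens} (hW₀ : IsAffineOpen W₀) (hle : W₀ ≤ g ⁻¹ᵁ S₀) (Z D : Set W)
    (hZ : IsClosed Z) (hD : IsOpen D) (hdense : Z ⊆ closure (D ∩ Z)) :
    ∃ a : Γ(S, S₀), a ≠ 0 ∧ ∀ x ∈ Z, x ∈ W₀ → g x ∈ S.basicOpen a →
      ∃ x' ∈ D ∩ Z, g x' = g x ∧ x' ⤳ x := by
  have hft : (g.appLE S₀ W₀ hle).hom.FiniteType := g.finiteType_appLE hS₀ hW₀ hle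
  algebraize [(g.appLE S₀ W₀ hle).hom]
  haveI : IsNoetherianRing Γ(S, S₀) := IsLocallyNoetherian.component_noetherian ⟨S₀, hS₀⟩
  let j := hW₀.fromSpec
  let Z₀ : Set (PrimeSpectrum Γ(W, W₀)) := j ⁻¹' Z
  let D₀ : Set (PrimeSpectrum Γ(W, W₀)) := j ⁻¹' D
  have hZ₀ : IsClosed Z₀ := hZ.preimage j.continuous
  have hD₀ : IsOpen D₀ := hD.preimage j.continuous
  let I := PrimeSpectrum.vanishingIdeal Z₀
  have hI : PrimeSpectrum.zeroLocus (I : Set Γ(W, W₀)) = Z₀ := by
    rw [PrimeSpectrum.zeroLocus_vanishingIdeal_eq_closure, hZ₀.closure_eq]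
  have hdense₀ : PrimeSpectrum.zeroLocus (I : Set Γ(W, W₀)) ⊆
      closure (D₀ ∩ PrimeSpectrum.zeroLocus (I : Set Γ(W, W₀))) := by
    rw [hI]
    have h2 := j.isOpenEmbedding.isOpenMap.preimage_closure_eq_closure_preimage j.continuous
      (D ∩ Z)
    intro q hq
    have h3 : q ∈ j ⁻¹' closure (D ∩ Z) := hdense hq
    rw [h2] at h3
    exact h3
  obtain ⟨a, ha0, ha⟩ := exists_generic_specialization (R := Γ(S, S₀)) I D₀ hD₀ hdense₀
  refine ⟨a, ha0, ?_⟩
  have hkey : ∀ q : PrimeSpectrum Γ(W, W₀),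
      hS₀.fromSpec (PrimeSpectrum.comap (algebraMap Γ(S, S₀) Γ(W, W₀)) q) = g (j q) := by
    intro q
    have := IsAffineOpen.SpecMap_appLE_fromSpec g hS₀ hW₀ hle
    have h2 := congrArg (fun f => f q) this
    simp only [Scheme.Hom.comp_apply] at h2
    exact h2
  intro x hxZ hxW hgx
  let q := hW₀.primeIdealOf ⟨x, hxW⟩
  have hq : j q = x := hW₀.fromSpec_primeIdealOf ⟨x, hxW⟩
  have hqZ : q ∈ Z₀ := by change j q ∈ Z; rw [hq]; exact hxZ
  have hIq : I ≤ q.asIdeal := by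
    have : q ∈ PrimeSpectrum.zeroLocus (I : Set Γ(W, W₀)) := by rw [hI]; exact hqZ
    exact this
  have haq : a ∉ (PrimeSpectrum.comap (algebraMap Γ(S, S₀) Γ(W, W₀)) q).asIdeal := by
    have h1 : hS₀.fromSpec (PrimeSpectrum.comap (algebraMap Γ(S, S₀) Γ(W, W₀)) q) ∈
        S.basicOpen a := by rw [hkey, hq]; exact hgx
    have h2 : PrimeSpectrum.comap (algebraMap Γ(S, S₀) Γ(W, W₀)) q ∈
        hS₀.fromSpec ⁻¹ᵁ S.basicOpen a := h1
    rw [hS₀.fromSpec_preimage_basicOpen] at h2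
    exact h2
  obtain ⟨q', hq'D, hq'I, hq'le, hq'c⟩ := ha q hIq haq
  refine ⟨j q', ⟨hq'D, ?_⟩, ?_, ?_⟩
  · have : q' ∈ PrimeSpectrum.zeroLocus (I : Set Γ(W, W₀)) := hq'I
    rw [hI] at this
    exact this
  · rw [← hkey, hq'c, hkey, hq]
  · rw [← hq]
    exact ((PrimeSpectrum.le_iff_specializes q' q).mp hq'le).map j.continuous

end Chart

section Global

variable {W S : Scheme.{u}} [IsIntegral S] [IsLocallyNoetherian S] (g : W ⟶ S)
  [LocallyOfFiniteType g] [QuasiCompact g]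

/-- **Generic density (EGA IV 9.5.1–9.5.2).**  Let `Z` be closed in `W` and `D` an open subset
with `D ∩ Z` dense in `Z`.  Over a nonempty open of `S`, every point of `Z` is a specialization
of a point of `D ∩ Z` of the same fibre. -/
theorem exists_open_forall_exists_specializes (Z D : Set W) (hZ : IsClosed Z) (hD : IsOpen D)
    (hdense : Z ⊆ closure (D ∩ Z)) :
    ∃ U : S.Opens, (U : Set S).Nonempty ∧ ∀ x ∈ Z, g x ∈ U →
      ∃ x' ∈ D ∩ Z, g x' = g x ∧ x' ⤳ x := by
  classical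
  obtain ⟨_, ⟨S₀, hS₀, rfl⟩, hη, -⟩ := S.isBasis_affineOpens.exists_subset_of_mem_open
    (Set.mem_univ (genericPoint S)) isOpen_univ
  haveI : Nonempty S₀ := ⟨⟨genericPoint S, hη⟩⟩
  obtain ⟨s, hsfin, hs⟩ := (isCompact_and_isOpen_iff_finite_and_eq_biUnion_affineOpens
    (U := ((g ⁻¹ᵁ S₀ : W.Opens) : Set W))).mp
    ⟨g.isCompact_preimage hS₀.isCompact, (g ⁻¹ᵁ S₀).2⟩
  have hle : ∀ i : W.affineOpens, i ∈ s → (i : W.Opens) ≤ g ⁻¹ᵁ S₀ := by
    intro i hi x hx
    have : x ∈ ⋃ i ∈ s, ((i : W.Opens) : Set W) := Set.mem_biUnion hi hx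
    rw [← hs] at this
    exact this
  have hex : ∀ i : W.affineOpens, i ∈ s → ∃ a : Γ(S, S₀), a ≠ 0 ∧ ∀ x ∈ Z, x ∈ (i : W.Opens) →
      g x ∈ S.basicOpen a → ∃ x' ∈ D ∩ Z, g x' = g x ∧ x' ⤳ x := by
    intro i hi
    exact exists_section_forall_exists_specializes g hS₀ i.2 (hle i hi) Z D hZ hD hdense
  choose! a ha0 ha using hex
  refine ⟨S.basicOpen (∏ i ∈ hsfin.toFinset, a i), ?_, ?_⟩
  · have hne : (∏ i ∈ hsfin.toFinset, a i) ≠ 0 := by
      rw [Finset.prod_ne_zero_iff]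
      intro i hi
      exact ha0 i ((Set.Finite.mem_toFinset hsfin).mp hi)
    have h1 : S.basicOpen (∏ i ∈ hsfin.toFinset, a i) ≠ ⊥ := by
      intro h0
      exact hne ((basicOpen_eq_bot_iff _).mp h0)
    by_contra hemp
    apply h1
    ext x
    simp only [TopologicalSpace.Opens.coe_bot, Set.mem_empty_iff_false, iff_false]
    intro hx
    exact hemp ⟨x, hx⟩
  · intro x hxZ hgx
    have hxS₀ : g x ∈ S₀ := S.basicOpen_le _ hgx
    have hxpre : x ∈ ((g ⁻¹ᵁ S₀ : W.Opens) : Set W) := hxS₀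
    rw [hs] at hxpre
    obtain ⟨i, hi, hxi⟩ := Set.mem_iUnion₂.mp hxpre
    have hdvd : a i ∣ ∏ i ∈ hsfin.toFinset, a i :=
      Finset.dvd_prod_of_mem _ ((Set.Finite.mem_toFinset hsfin).mpr hi)
    obtain ⟨c, hc⟩ := hdvd
    have hgx' : g x ∈ S.basicOpen (a i) := by
      rw [hc, Scheme.basicOpen_mul] at hgx
      exact hgx.1
    exact ha i hi x hxZ hxi hgx'

end Global

section FibreClosure

/-- Induction principle for constructible sets: differences of open sets and finite unions. -/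
theorem isConstructible_sdiff_union_induction {X : Type*} [TopologicalSpace X]
    {P : Set X → Prop} (sdiff : ∀ U V : Set X, IsOpen U → IsOpen V → P (U \ V))
    (union : ∀ s t : Set X, P s → P t → P (s ∪ t)) {s : Set X} (hs : IsConstructible s) : P s := by
  induction s, hs using BooleanSubalgebra.closure_sdiff_sup_induction with
  | isSublattice =>
    exact ⟨fun s hs t ht ↦ ⟨hs.1.union ht.1, hs.2.union ht.2⟩,
      fun s hs t ht ↦ ⟨hs.1.inter ht.1, hs.2.inter_isOpen ht.2 ht.1⟩⟩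
  | bot_mem => exact ⟨isOpen_empty, .empty⟩
  | top_mem => exact ⟨isOpen_univ, .univ⟩
  | sdiff U hU V hV => exact sdiff U V hU.1 hV.1
  | sup s _ t _ hs' ht' => exact union _ _ hs' ht'

variable {W S : Scheme.{u}} [IsIntegral S] [IsLocallyNoetherian S] (g : W ⟶ S)
  [LocallyOfFiniteType g] [QuasiCompact g]

theorem exists_open_closure_inter_fiber_subset_sdiff (U V : Set W) (hU : IsOpen U)
    (hV : IsOpen V) :
    ∃ O : S.Opens, (O : Set S).Nonempty ∧
      ∀ s ∈ O, closure (U \ V) ∩ g ⁻¹' {s} ⊆ closure ((U \ V) ∩ g ⁻¹' {s}) := by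
  have hdense : closure (U \ V) ⊆ closure (U ∩ closure (U \ V)) :=
    closure_mono (fun x hx => ⟨hx.1, subset_closure hx⟩)
  obtain ⟨O, hO, h⟩ := exists_open_forall_exists_specializes g (closure (U \ V)) U
    isClosed_closure hU hdense
  refine ⟨O, hO, ?_⟩
  rintro s hs x ⟨hxZ, hxs⟩
  have hxs' : g x = s := hxs
  obtain ⟨x', ⟨hx'U, hx'Z⟩, hgx', hspec⟩ := h x hxZ (by rw [hxs']; exact hs)
  have hx'V : x' ∉ V := by
    have h1 : closure (U \ V) ⊆ Vᶜ :=
      closure_minimal (fun y hy => hy.2) hV.isClosed_compl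
    exact h1 hx'Z
  have hx'mem : x' ∈ (U \ V) ∩ g ⁻¹' {s} := ⟨⟨hx'U, hx'V⟩, by
    change g x' = s; rw [hgx', hxs']⟩
  exact closure_mono (Set.singleton_subset_iff.mpr hx'mem) (specializes_iff_mem_closure.mp hspec)

/-- **Closure commutes generically with passage to fibres (EGA IV 9.5.3 type).**  For a
constructible subset `C` of a scheme of finite type over an integral Noetherian scheme `S`, over
a nonempty open of `S` the closure of `C ∩ g⁻¹(s)` contains `closure C ∩ g⁻¹(s)`. -/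
theorem exists_open_closure_inter_fiber_subset (C : Set W) (hC : IsConstructible C) :
    ∃ O : S.Opens, (O : Set S).Nonempty ∧
      ∀ s ∈ O, closure C ∩ g ⁻¹' {s} ⊆ closure (C ∩ g ⁻¹' {s}) := by
  refine isConstructible_sdiff_union_induction
    (P := fun C : Set W => ∃ O : S.Opens, (O : Set S).Nonempty ∧
      ∀ s ∈ O, closure C ∩ g ⁻¹' {s} ⊆ closure (C ∩ g ⁻¹' {s})) ?_ ?_ hC
  · intro U V hU hV
    exact exists_open_closure_inter_fiber_subset_sdiff g U V hU hV
  · rintro s t ⟨O₁, hO₁, h₁⟩ ⟨O₂, hO₂, h₂⟩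
    refine ⟨O₁ ⊓ O₂, nonempty_preirreducible_inter O₁.2 O₂.2 hO₁ hO₂, ?_⟩
    rintro x ⟨hx1, hx2⟩ y ⟨hy, hyx⟩
    rw [closure_union] at hy
    rw [Set.union_inter_distrib_right, closure_union]
    rcases hy with hy | hy
    · exact Or.inl (h₁ x hx1 ⟨hy, hyx⟩)
    · exact Or.inr (h₂ x hx2 ⟨hy, hyx⟩)

end FibreClosure

section Dichotomy

/-- A subset of an integral Noetherian scheme which agrees with a locally constructible set on a
nonempty open satisfies the generic dichotomy. -/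
theorem interior_nonempty_or_compl_of_eqOn {S : Scheme.{u}} [IsIntegral S] [IsNoetherian S]
    {E F : Set S} (hF : IsLocallyConstructible F) (O : S.Opens) (hO : (O : Set S).Nonempty)
    (h : ∀ s ∈ O, s ∈ E ↔ s ∈ F) :
    (interior E).Nonempty ∨ (interior Eᶜ).Nonempty := by
  rcases interior_nonempty_or_compl hF with h1 | h1
  · left
    have h2 := nonempty_preirreducible_inter isOpen_interior O.2 h1 hO
    refine h2.mono (interior_maximal ?_ (isOpen_interior.inter O.2))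
    rintro s ⟨hs1, hs2⟩
    exact (h s hs2).mpr (interior_subset hs1)
  · right
    have h2 := nonempty_preirreducible_inter isOpen_interior O.2 h1 hO
    refine h2.mono (interior_maximal ?_ (isOpen_interior.inter O.2))
    rintro s ⟨hs1, hs2⟩ hsE
    exact interior_subset hs1 ((h s hs2).mp hsE)

end Dichotomy

section Range

theorem range_snd_of_isPullback {P X Y Z : Scheme.{u}} {fst : P ⟶ X} {snd : P ⟶ Y} {f : X ⟶ Z}
    {g : Y ⟶ Z} (h : IsPullback fst snd f g) : Set.range snd = g ⁻¹' Set.range f := by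
  rw [← Scheme.Pullback.range_snd, ← h.isoPullback_hom_snd, Scheme.Hom.comp_base,
    TopCat.coe_comp, Set.range_comp, Set.range_eq_univ.mpr h.isoPullback.hom.surjective,
    Set.image_univ]

theorem range_fst_of_isPullback {P X Y Z : Scheme.{u}} {fst : P ⟶ X} {snd : P ⟶ Y} {f : X ⟶ Z}
    {g : Y ⟶ Z} (h : IsPullback fst snd f g) : Set.range fst = f ⁻¹' Set.range g :=
  range_snd_of_isPullback h.flip

end Range

end Groth.Agent.Lib.Helper23
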