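/-
Helper library (helper23): being dominant is a constructible property of morphisms of algebraic
schemes (EGA IV 9.6.1 (ii)-type statement), via generic density in fibres.
-/
import Mathlib
import Groth.Prelude.Def_EGA4Misc
import Groth.Agent.Lib.Helper23.GenericDense
import Groth.Agent.Lib.Helper23.ConsQuasiFinite

set_option autoImplicit false
universe u
open CategoryTheory Limits AlgebraicGeometry Topology MorphismProperty

namespace Groth.Agent.Lib.Helper23

section Fibre

/-- Closure in a fibre, computed in the total space. -/
theorem closure_preimage_fiberι {Y S : Scheme.{u}} (g : Y ⟶ S) (s : S) (A : Set Y) :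
    closure ((g.fiberι s) ⁻¹' A) = (g.fiberι s) ⁻¹' closure (A ∩ g ⁻¹' {s}) := by
  rw [(g.fiberι s).isEmbedding.toIsInducing.closure_eq_preimage_closure_image,
    Set.image_preimage_eq_inter_range, Scheme.Hom.range_fiberι]

theorem range_fiberMap {X Y S : Scheme.{u}} (f : X ⟶ Y) (g : Y ⟶ S) (s : S) :
    Set.range (MoreMor.fiberMap f g s) = (g.fiberι s) ⁻¹' Set.range f :=
  range_snd_of_isPullback (isPullback_fibreMap_fst f g (S.fromSpecResidueField s))

theorem isDominant_fiberMap_iff {X Y S : Scheme.{u}} (f : X ⟶ Y) (g : Y ⟶ S) (s : S) :
    IsDominant (MoreMor.fiberMap f g s) ↔ g ⁻¹' {s} ⊆ closure (Set.range f ∩ g ⁻¹' {s}) := by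
  rw [isDominant_iff, DenseRange, dense_iff_closure_eq, range_fiberMap, closure_preimage_fiberι,
    Set.preimage_eq_univ_iff, Scheme.Hom.range_fiberι]

end Fibre

section FieldStable

theorem isFieldStableMor_isDominant :
    ConsProp.IsFieldStableMor (fun _ _ _ f _ => IsDominant f) := by
  intro X X' Y Y' T T' f g f' g' eX eY h _ _ _ _ _ _ _ _ hY hX
  have hopen : UniversallyOpen eY := MorphismProperty.of_isPullback hY.flip
    (inferInstance : UniversallyOpen h)
  have hsurj : Surjective eY := by
    have hh : Surjective h := ⟨fun t => ⟨Classical.arbitrary _, Subsingleton.elim _ _⟩⟩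
    exact MorphismProperty.of_isPullback hY.flip hh
  have hr : Set.range f' = eY ⁻¹' Set.range f := range_snd_of_isPullback hX
  have hcl : closure (Set.range f') = eY ⁻¹' closure (Set.range f) := by
    rw [hr, eY.isOpenMap.preimage_closure_eq_closure_preimage eY.continuous]
  change IsDominant f ↔ IsDominant f'
  rw [isDominant_iff, isDominant_iff, DenseRange, DenseRange, dense_iff_closure_eq,
    dense_iff_closure_eq, hcl]
  constructor
  · intro h1; rw [h1]; rfl
  · intro h1
    rw [Set.preimage_eq_univ_iff, Set.range_eq_univ.mpr hsurj.surj] at h1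
    exact Set.univ_subset_iff.mp h1

end FieldStable

section Main

/-- Being dominant is a constructible property of morphisms of algebraic schemes. -/
theorem isConsMor_isDominant :
    ConsProp.IsConsMor (fun _ _ _ f _ => IsDominant f) := by
  refine ⟨isFieldStableMor_isDominant, ?_⟩
  intro X Y S f g _ _ _ _ _ _
  have : IsLocallyNoetherian Y := LocallyOfFiniteType.isLocallyNoetherian g
  have : CompactSpace Y := QuasiCompact.compactSpace_of_compactSpace g
  have : IsNoetherian Y := {}
  have : IsLocallyNoetherian X := LocallyOfFiniteType.isLocallyNoetherian (f ≫ g)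
  have : LocallyOfFiniteType f := locallyOfFiniteType_of_comp f g
  have : QuasiSeparated g := inferInstance
  have : QuasiCompact f := QuasiCompact.of_comp f g
  have : LocallyOfFinitePresentation f := inferInstance
  have : LocallyOfFinitePresentation g := inferInstance
  have hC : IsConstructible (Set.range f) := by
    have := f.isLocallyConstructible_image IsLocallyConstructible.univ
    rw [Set.image_univ] at this
    exact this.isConstructible
  obtain ⟨O, hO, hOs⟩ := exists_open_closure_inter_fiber_subset g (Set.range f) hC
  have hF : IsLocallyConstructible (g '' (closure (Set.range f))ᶜ)ᶜ :=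
    (g.isLocallyConstructible_image
      (isLocallyConstructible_of_isOpen_of_isNoetherian isClosed_closure.isOpen_compl)).compl'
  apply interior_nonempty_or_compl_of_eqOn hF O hO
  intro s hs
  change IsDominant (MoreMor.fiberMap f g s) ↔ _
  rw [isDominant_fiberMap_iff]
  constructor
  · rintro h1 ⟨y, hy, rfl⟩
    exact hy (closure_mono Set.inter_subset_left (h1 rfl))
  · intro h1 y hy
    apply hOs s hs
    refine ⟨?_, hy⟩
    by_contra hn
    exact h1 ⟨y, hn, hy⟩

end Main

end Groth.Agent.Lib.Helper23
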