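/-
Helper library (helper23): being separated is a constructible property of morphisms of
algebraic schemes (EGA IV 9.6.1-type statement), via generic density in fibres.
-/
import Mathlib
import Groth.Prelude.Def_EGA4Misc
import Groth.Agent.Lib.Helper23.GenericDense
import Groth.Agent.Lib.Helper23.ConsQuasiFinite
import Groth.Agent.Lib.Helper13.LimDescent2

set_option autoImplicit false
universe u
open CategoryTheory Limits AlgebraicGeometry Topology MorphismProperty
open Groth.Agent.Lib.Helper13.LimDescent

namespace Groth.Agent.Lib.Helper23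

section Top

theorem isClosed_preimage_iff_of_isEmbedding {α β : Type*} [TopologicalSpace α]
    [TopologicalSpace β] {m : α → β} (hm : IsEmbedding m) (A : Set β) :
    IsClosed (m ⁻¹' A) ↔ closure (A ∩ Set.range m) ∩ Set.range m ⊆ A := by
  rw [← closure_subset_iff_isClosed, hm.toIsInducing.closure_eq_preimage_closure_image,
    Set.image_preimage_eq_inter_range]
  constructor
  · rintro h y ⟨hy, x, rfl⟩
    exact h hy
  · intro h x hx
    exact h ⟨hx, x, rfl⟩

theorem isLocallyConstructible_of_isClosed_of_isNoetherian {X : Scheme.{u}} [IsNoetherian X]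
    {K : Set X} (hK : IsClosed K) : IsLocallyConstructible K := by
  have := (isLocallyConstructible_of_isOpen_of_isNoetherian hK.isOpen_compl).compl'
  rwa [compl_compl] at this

end Top

section Sep

theorem isSeparated_iff_isClosed_range_diagonal {X Y : Scheme.{u}} (f : X ⟶ Y) :
    IsSeparated f ↔ IsClosed (Set.range (pullback.diagonal f)) :=
  ⟨fun _ => (pullback.diagonal f).isClosedEmbedding.isClosed_range,
    fun h => ⟨IsClosedImmersion.of_isPreimmersion _ h⟩⟩

theorem isSeparated_iff_universallyClosed_diagonal {X Y : Scheme.{u}} (f : X ⟶ Y) :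
    IsSeparated f ↔ (MorphismProperty.diagonal @UniversallyClosed) f := by
  constructor
  · intro _
    change UniversallyClosed (pullback.diagonal f)
    infer_instance
  · intro h
    have : UniversallyClosed (pullback.diagonal f) := h
    rw [isSeparated_iff_isClosed_range_diagonal]
    exact (pullback.diagonal f).isClosedMap.isClosed_range

/-- Separatedness of a base change along a preimmersion, in terms of the diagonal of the
original morphism. -/
theorem isSeparated_iff_of_isPullback_of_isPreimmersion {X' X Y' Y : Scheme.{u}} {p : X' ⟶ X}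
    {f' : X' ⟶ Y'} {f : X ⟶ Y} {j : Y' ⟶ Y} (hsq : IsPullback p f' f j) [IsPreimmersion p] :
    IsSeparated f' ↔
      closure (Set.range (pullback.diagonal f) ∩ (pullback.fst f f) ⁻¹' Set.range p) ∩
        (pullback.fst f f) ⁻¹' Set.range p ⊆ Set.range (pullback.diagonal f) := by
  have hm1 := isPullback_diagonal hsq
  have hm2 := isPullback_diagMap_fst hsq
  have : IsPreimmersion (diagMap hsq) := MorphismProperty.of_isPullback hm2.flip ‹_›
  have hr1 : Set.range (pullback.diagonal f') =
      (diagMap hsq) ⁻¹' Set.range (pullback.diagonal f) := range_snd_of_isPullback hm1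
  have hr2 : Set.range (diagMap hsq) = (pullback.fst f f) ⁻¹' Set.range p :=
    range_fst_of_isPullback hm2
  rw [isSeparated_iff_isClosed_range_diagonal, hr1,
    isClosed_preimage_iff_of_isEmbedding (diagMap hsq).isEmbedding, hr2]

end Sep

section FieldStable

theorem isFieldStableMor_isSeparated :
    ConsProp.IsFieldStableMor (fun _ _ _ f _ => IsSeparated f) := by
  intro X X' Y Y' T T' f g f' g' eX eY h _ _ _ _ _ _ _ _ hY hX
  change IsSeparated f ↔ IsSeparated f'
  rw [isSeparated_iff_universallyClosed_diagonal, isSeparated_iff_universallyClosed_diagonal]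
  exact isFieldStableMor_of_descendsAlong (MorphismProperty.diagonal @UniversallyClosed)
    f g f' g' eX eY h hY hX

end FieldStable

section Main

/-- Being separated is a constructible property of morphisms of algebraic schemes. -/
theorem isConsMor_isSeparated :
    ConsProp.IsConsMor.{u} (fun _ _ _ f _ => IsSeparated f) := by
  refine ⟨isFieldStableMor_isSeparated, ?_⟩
  intro X Y S f g _ _ _ _ _ _
  have : IsLocallyNoetherian Y := LocallyOfFiniteType.isLocallyNoetherian g
  have : IsLocallyNoetherian X := LocallyOfFiniteType.isLocallyNoetherian (f ≫ g)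
  have : LocallyOfFiniteType f := locallyOfFiniteType_of_comp f g
  have : QuasiSeparated g := inferInstance
  have : QuasiCompact f := QuasiCompact.of_comp f g
  let k : pullback f f ⟶ S := pullback.fst f f ≫ f ≫ g
  have hk1 : LocallyOfFiniteType k := inferInstance
  have hk2 : QuasiCompact k := inferInstance
  have : IsLocallyNoetherian (pullback f f) := LocallyOfFiniteType.isLocallyNoetherian k
  have : CompactSpace ↥(pullback f f : Scheme.{u}) := QuasiCompact.compactSpace_of_compactSpace k
  have : IsNoetherian (pullback f f) := {}
  have : QuasiSeparated k := inferInstance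
  have : LocallyOfFinitePresentation k := inferInstance
  set C : Set ↥(pullback f f : Scheme.{u}) := Set.range (pullback.diagonal f) with hCdef
  have hClc : IsLocallyConstructible C := by
    obtain ⟨U, K, hU, hK, hUK⟩ := (pullback.diagonal f).isLocallyClosed_range
    rw [hCdef, hUK]
    exact (isLocallyConstructible_of_isOpen_of_isNoetherian hU).inter
      (isLocallyConstructible_of_isClosed_of_isNoetherian hK)
  have hC : IsConstructible C := hClc.isConstructible
  obtain ⟨O, hO, hOs⟩ := exists_open_closure_inter_fiber_subset k C hC
  have hF : IsLocallyConstructible (k '' (closure C \ C))ᶜ := by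
    have h1 : IsLocallyConstructible (closure C \ C) := by
      rw [Set.sdiff_eq]
      exact (isLocallyConstructible_of_isClosed_of_isNoetherian isClosed_closure).inter
        hClc.compl'
    exact (k.isLocallyConstructible_image h1).compl'
  apply interior_nonempty_or_compl_of_eqOn hF O hO
  intro s hs
  change IsSeparated (MoreMor.fiberMap f g s) ↔ _
  have hsq : IsPullback ((f ≫ g).fiberι s) (MoreMor.fiberMap f g s) f (g.fiberι s) :=
    isPullback_fibreMap_fst f g (S.fromSpecResidueField s)
  rw [isSeparated_iff_of_isPullback_of_isPreimmersion hsq, Scheme.Hom.range_fiberι]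
  have hT : (pullback.fst f f) ⁻¹' ((f ≫ g) ⁻¹' {s}) = k ⁻¹' {s} := rfl
  rw [hT]
  constructor
  · rintro h1 ⟨z, ⟨hz1, hz2⟩, rfl⟩
    exact hz2 (h1 ⟨hOs _ hs ⟨hz1, rfl⟩, rfl⟩)
  · rintro h1 z ⟨hz1, hz2⟩
    by_contra hn
    exact h1 ⟨z, ⟨closure_mono Set.inter_subset_left hz1, hn⟩, hz2⟩

end Main

end Groth.Agent.Lib.Helper23
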