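/-
Helper library (helper23): "the range of `f_s` is closed / open / locally closed in `Y_s`" are
constructible properties of morphisms of algebraic schemes (EGA IV 9.5.4-type statements), via
generic commutation of closure with passage to fibres.
-/
import Mathlib
import Groth.Prelude.Def_EGA4Misc
import Groth.Agent.Lib.Helper23.GenericDense
import Groth.Agent.Lib.Helper23.ConsQuasiFinite
import Groth.Agent.Lib.Helper23.ConsDominant
import Groth.Agent.Lib.Helper23.ConsSeparated

set_option autoImplicit false
universe u
open CategoryTheory Limits AlgebraicGeometry Topology MorphismProperty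

namespace Groth.Agent.Lib.Helper23

section Top

variable {α α' β : Type*} [TopologicalSpace α] [TopologicalSpace α'] [TopologicalSpace β]

theorem isLocallyClosed_iff_isClosed_closure_diff {s : Set α} :
    IsLocallyClosed s ↔ IsClosed (closure s \ s) := by
  rw [isLocallyClosed_iff_isOpen_coborder, coborder, isOpen_compl_iff]

theorem isLocallyClosed_preimage_iff_of_isEmbedding {m : α → β} (hm : IsEmbedding m)
    (A : Set β) :
    IsLocallyClosed (m ⁻¹' A) ↔ IsClosed (m ⁻¹' (closure (A ∩ Set.range m) \ A)) := by
  rw [isLocallyClosed_iff_isClosed_closure_diff,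
    hm.toIsInducing.closure_eq_preimage_closure_image, Set.image_preimage_eq_inter_range,
    Set.preimage_sdiff]

theorem isClosed_preimage_iff_of_range_eq {m : α → β} {m' : α' → β} (hm : IsEmbedding m)
    (hm' : IsEmbedding m') (hr : Set.range m = Set.range m') (A : Set β) :
    IsClosed (m ⁻¹' A) ↔ IsClosed (m' ⁻¹' A) := by
  rw [isClosed_preimage_iff_of_isEmbedding hm, isClosed_preimage_iff_of_isEmbedding hm', hr]

theorem isOpen_preimage_iff_of_range_eq {m : α → β} {m' : α' → β} (hm : IsEmbedding m)
    (hm' : IsEmbedding m') (hr : Set.range m = Set.range m') (A : Set β) :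
    IsOpen (m ⁻¹' A) ↔ IsOpen (m' ⁻¹' A) := by
  rw [← isClosed_compl_iff, ← isClosed_compl_iff (s := m' ⁻¹' A), ← Set.preimage_compl,
    ← Set.preimage_compl]
  exact isClosed_preimage_iff_of_range_eq hm hm' hr _

theorem isLocallyClosed_preimage_iff_of_range_eq {m : α → β} {m' : α' → β} (hm : IsEmbedding m)
    (hm' : IsEmbedding m') (hr : Set.range m = Set.range m') (A : Set β) :
    IsLocallyClosed (m ⁻¹' A) ↔ IsLocallyClosed (m' ⁻¹' A) := by
  rw [isLocallyClosed_preimage_iff_of_isEmbedding hm, isLocallyClosed_preimage_iff_of_isEmbedding hm',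
    hr]
  exact isClosed_preimage_iff_of_range_eq hm hm' hr _

end Top

section FieldStable

/-- Common part of the field-stability proofs: the base change `eY` is an open quotient map and
the range of `f'` is the preimage of the range of `f`. -/
theorem fieldStable_aux {X X' Y Y' T T' : Scheme.{u}} (f : X ⟶ Y) (g : Y ⟶ T) (f' : X' ⟶ Y')
    (g' : Y' ⟶ T') (eX : X' ⟶ X) (eY : Y' ⟶ Y) (h : T' ⟶ T)
    [IsIntegral T] [Subsingleton T] [IsIntegral T'] [Subsingleton T']
    (hY : IsPullback eY g' g h) (hX : IsPullback eX f' f eY) :
    IsOpenMap eY ∧ Function.Surjective eY ∧ Set.range f' = eY ⁻¹' Set.range f := by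
  have hopen : UniversallyOpen eY := MorphismProperty.of_isPullback hY.flip
    (inferInstance : UniversallyOpen h)
  have hsurj : Surjective eY := by
    have hh : Surjective h := ⟨fun t => ⟨Classical.arbitrary _, Subsingleton.elim _ _⟩⟩
    exact MorphismProperty.of_isPullback hY.flip hh
  exact ⟨eY.isOpenMap, hsurj.surj, range_snd_of_isPullback hX⟩

theorem isFieldStableMor_isClosed_range :
    ConsProp.IsFieldStableMor (fun _ _ _ f _ => IsClosed (Set.range f)) := by
  intro X X' Y Y' T T' f g f' g' eX eY h _ _ _ _ _ _ _ _ hY hX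
  obtain ⟨ho, hs, hr⟩ := fieldStable_aux f g f' g' eX eY h hY hX
  change IsClosed (Set.range f) ↔ IsClosed (Set.range f')
  rw [hr]
  exact (ho.isQuotientMap eY.continuous hs).isClosed_preimage.symm

theorem isFieldStableMor_isOpen_range :
    ConsProp.IsFieldStableMor (fun _ _ _ f _ => IsOpen (Set.range f)) := by
  intro X X' Y Y' T T' f g f' g' eX eY h _ _ _ _ _ _ _ _ hY hX
  obtain ⟨ho, hs, hr⟩ := fieldStable_aux f g f' g' eX eY h hY hX
  change IsOpen (Set.range f) ↔ IsOpen (Set.range f')
  rw [hr]
  exact (ho.isQuotientMap eY.continuous hs).isOpen_preimage.symm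

theorem isFieldStableMor_isLocallyClosed_range :
    ConsProp.IsFieldStableMor (fun _ _ _ f _ => IsLocallyClosed (Set.range f)) := by
  intro X X' Y Y' T T' f g f' g' eX eY h _ _ _ _ _ _ _ _ hY hX
  obtain ⟨ho, hs, hr⟩ := fieldStable_aux f g f' g' eX eY h hY hX
  change IsLocallyClosed (Set.range f) ↔ IsLocallyClosed (Set.range f')
  rw [hr, isLocallyClosed_iff_isClosed_closure_diff, isLocallyClosed_iff_isClosed_closure_diff,
    ← ho.preimage_closure_eq_closure_preimage eY.continuous, ← Set.preimage_sdiff]
  exact (ho.isQuotientMap eY.continuous hs).isClosed_preimage.symm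

end FieldStable

section Dichotomy

variable {Y S : Scheme.{u}} [IsIntegral S] [IsNoetherian S] (g : Y ⟶ S)
  [LocallyOfFiniteType g] [QuasiCompact g]

theorem map_fiberι_apply {Y S : Scheme.{u}} (g : Y ⟶ S) (s : S) (x : (g.fiber s : Scheme.{u})) :
    g (g.fiberι s x) = s := by
  have : g.fiberι s x ∈ Set.range (g.fiberι s) := ⟨x, rfl⟩
  rw [Scheme.Hom.range_fiberι] at this
  exact this

/-- Over a nonempty open of the base, the closure in the fibre of the trace of a constructible
set is the trace of its closure. -/
theorem exists_open_closure_preimage_fiberι (A : Set Y) (hA : IsConstructible A) :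
    ∃ O : S.Opens, (O : Set S).Nonempty ∧ ∀ s ∈ O,
      closure ((g.fiberι s) ⁻¹' A) = (g.fiberι s) ⁻¹' closure A := by
  obtain ⟨O, hO, hOs⟩ := exists_open_closure_inter_fiber_subset g A hA
  refine ⟨O, hO, fun s hs => ?_⟩
  rw [closure_preimage_fiberι]
  ext x
  constructor
  · intro hx
    exact closure_mono Set.inter_subset_left hx
  · intro hx
    exact hOs s hs ⟨hx, map_fiberι_apply g s x⟩

/-- Over a nonempty open of the base, the trace of a constructible set `A` on the fibre at `s`
is closed iff `s` is not in the image of `closure A \ A`. -/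
theorem exists_open_isClosed_preimage_fiberι_iff (A : Set Y) (hA : IsConstructible A) :
    ∃ O : S.Opens, (O : Set S).Nonempty ∧ ∀ s ∈ O,
      (IsClosed ((g.fiberι s) ⁻¹' A) ↔ s ∈ (g '' (closure A \ A))ᶜ) := by
  obtain ⟨O, hO, hOs⟩ := exists_open_closure_preimage_fiberι g A hA
  refine ⟨O, hO, fun s hs => ?_⟩
  rw [← closure_subset_iff_isClosed, hOs s hs]
  constructor
  · rintro h ⟨y, ⟨hy1, hy2⟩, rfl⟩
    obtain ⟨x, hx⟩ : y ∈ Set.range (g.fiberι (g y)) := by
      rw [Scheme.Hom.range_fiberι]; rfl
    rw [← hx] at hy1 hy2
    exact hy2 (h hy1)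
  · intro h x hx
    by_contra hn
    exact h ⟨_, ⟨hx, hn⟩, map_fiberι_apply g s x⟩

omit [IsIntegral S] in
theorem isLocallyConstructible_compl_image_closure_diff (A : Set Y) (hA : IsConstructible A) :
    IsLocallyConstructible (g '' (closure A \ A))ᶜ := by
  have : IsLocallyNoetherian Y := LocallyOfFiniteType.isLocallyNoetherian g
  have : CompactSpace Y := QuasiCompact.compactSpace_of_compactSpace g
  have : IsNoetherian Y := {}
  have : LocallyOfFinitePresentation g := inferInstance
  refine (g.isLocallyConstructible_image ?_).compl'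
  rw [Set.sdiff_eq]
  exact (isLocallyConstructible_of_isClosed_of_isNoetherian isClosed_closure).inter
    hA.isLocallyConstructible.compl'

end Dichotomy

section Main

theorem isConstructible_range_of_noetherian {X Y S : Scheme.{u}} (f : X ⟶ Y) (g : Y ⟶ S)
    [IsNoetherian S] [LocallyOfFiniteType g] [QuasiCompact g]
    [LocallyOfFiniteType (f ≫ g)] [QuasiCompact (f ≫ g)] :
    IsConstructible (Set.range f) := by
  have : IsLocallyNoetherian Y := LocallyOfFiniteType.isLocallyNoetherian g
  have : CompactSpace Y := QuasiCompact.compactSpace_of_compactSpace g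
  have : IsNoetherian Y := {}
  have : IsLocallyNoetherian X := LocallyOfFiniteType.isLocallyNoetherian (f ≫ g)
  have : LocallyOfFiniteType f := locallyOfFiniteType_of_comp f g
  have : QuasiSeparated g := inferInstance
  have : QuasiCompact f := QuasiCompact.of_comp f g
  have : LocallyOfFinitePresentation f := inferInstance
  have := f.isLocallyConstructible_image IsLocallyConstructible.univ
  rw [Set.image_univ] at this
  exact this.isConstructible

/-- Having closed range is a constructible property of morphisms of algebraic schemes. -/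
theorem isConsMor_isClosed_range :
    ConsProp.IsConsMor.{u} (fun _ _ _ f _ => IsClosed (Set.range f)) := by
  refine ⟨isFieldStableMor_isClosed_range, ?_⟩
  intro X Y S f g _ _ _ _ _ _
  have hC : IsConstructible (Set.range f) := isConstructible_range_of_noetherian f g
  obtain ⟨O, hO, hOs⟩ := exists_open_isClosed_preimage_fiberι_iff g _ hC
  apply interior_nonempty_or_compl_of_eqOn
    (isLocallyConstructible_compl_image_closure_diff g _ hC) O hO
  intro s hs
  change IsClosed (Set.range (MoreMor.fiberMap f g s)) ↔ _
  rw [range_fiberMap]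
  exact hOs s hs

/-- Having open range is a constructible property of morphisms of algebraic schemes. -/
theorem isConsMor_isOpen_range :
    ConsProp.IsConsMor.{u} (fun _ _ _ f _ => IsOpen (Set.range f)) := by
  refine ⟨isFieldStableMor_isOpen_range, ?_⟩
  intro X Y S f g _ _ _ _ _ _
  have hC : IsConstructible (Set.range f)ᶜ := (isConstructible_range_of_noetherian f g).compl
  obtain ⟨O, hO, hOs⟩ := exists_open_isClosed_preimage_fiberι_iff g _ hC
  apply interior_nonempty_or_compl_of_eqOn
    (isLocallyConstructible_compl_image_closure_diff g _ hC) O hO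
  intro s hs
  change IsOpen (Set.range (MoreMor.fiberMap f g s)) ↔ _
  rw [range_fiberMap, ← isClosed_compl_iff, ← Set.preimage_compl]
  exact hOs s hs

/-- Having locally closed range is a constructible property of morphisms of algebraic
schemes. -/
theorem isConsMor_isLocallyClosed_range :
    ConsProp.IsConsMor.{u} (fun _ _ _ f _ => IsLocallyClosed (Set.range f)) := by
  refine ⟨isFieldStableMor_isLocallyClosed_range, ?_⟩
  intro X Y S f g _ _ _ _ _ _
  have hC : IsConstructible (Set.range f) := isConstructible_range_of_noetherian f g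
  have : IsLocallyNoetherian Y := LocallyOfFiniteType.isLocallyNoetherian g
  have : CompactSpace Y := QuasiCompact.compactSpace_of_compactSpace g
  have : IsNoetherian Y := {}
  have hC₂ : IsConstructible (closure (Set.range f) \ Set.range f) := by
    rw [Set.sdiff_eq]
    exact ((isLocallyConstructible_of_isClosed_of_isNoetherian
      isClosed_closure).isConstructible).inter hC.compl
  obtain ⟨O₁, hO₁, hOs₁⟩ := exists_open_closure_preimage_fiberι g _ hC
  obtain ⟨O₂, hO₂, hOs₂⟩ := exists_open_isClosed_preimage_fiberι_iff g _ hC₂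
  apply interior_nonempty_or_compl_of_eqOn
    (isLocallyConstructible_compl_image_closure_diff g _ hC₂) (O₁ ⊓ O₂)
    (nonempty_preirreducible_inter O₁.2 O₂.2 hO₁ hO₂)
  rintro s ⟨hs1, hs2⟩
  change IsLocallyClosed (Set.range (MoreMor.fiberMap f g s)) ↔ _
  rw [range_fiberMap, isLocallyClosed_iff_isClosed_closure_diff, hOs₁ s hs1, ← Set.preimage_sdiff]
  exact hOs₂ s hs2

end Main

end Groth.Agent.Lib.Helper23
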