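/-
Helper library (helper23): conjunctions of constructible properties of morphisms; being
unramified and being a monomorphism are constructible properties of morphisms of algebraic
schemes.
-/
import Mathlib
import Groth.Prelude.Def_EGA4Misc
import Groth.Agent.Lib.Helper23.ConsSeparated
import Groth.Agent.Lib.Helper24.UnramifiedLocus

set_option autoImplicit false
universe u
open CategoryTheory Limits AlgebraicGeometry Topology MorphismProperty

namespace Groth.Agent.Lib.Helper23

section And

variable {P Q : ∀ ⦃X Y T : Scheme.{u}⦄, (X ⟶ Y) → (Y ⟶ T) → Prop}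

theorem isConsMor_and (hP : ConsProp.IsConsMor P) (hQ : ConsProp.IsConsMor Q) :
    ConsProp.IsConsMor (fun X Y T f g => P f g ∧ Q f g) := by
  refine ⟨?_, ?_⟩
  · intro X X' Y Y' T T' f g f' g' eX eY h _ _ _ _ _ _ _ _ hY hX
    exact and_congr (hP.1 f g f' g' eX eY h hY hX) (hQ.1 f g f' g' eX eY h hY hX)
  · intro X Y S f g _ _ _ _ _ _
    have : IsLocallyNoetherian Y := LocallyOfFiniteType.isLocallyNoetherian g
    have : IsLocallyNoetherian X := LocallyOfFiniteType.isLocallyNoetherian (f ≫ g)
    have : QuasiSeparated g := inferInstance
    have : QuasiSeparated (f ≫ g) := inferInstance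
    have : LocallyOfFinitePresentation g := inferInstance
    have : LocallyOfFinitePresentation (f ≫ g) := inferInstance
    have h1 := isLocallyConstructible_locusMor f g hP
    have h2 := isLocallyConstructible_locusMor f g hQ
    exact interior_nonempty_or_compl (h1.inter h2)

end And

section Unramified

open Groth.Agent.Lib.Helper24

theorem formallyUnramified_iff_forall_stalkMap {X Y : Scheme.{u}} (f : X ⟶ Y) :
    FormallyUnramified f ↔ ∀ x, (f.stalkMap x).hom.FormallyUnramified :=
  ⟨fun _ x => FormallyUnramified.stalkMap f x,
    fun h => HasRingHomProperty.of_stalkMap RingHom.FormallyUnramified.ofLocalizationPrime h⟩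

theorem formallyUnramified_fiberMap_iff {X Y S : Scheme.{u}} (f : X ⟶ Y) (g : Y ⟶ S)
    [LocallyOfFiniteType f] (s : S) :
    FormallyUnramified (MoreMor.fiberMap f g s) ↔
      ∀ x : X, (f ≫ g) x = s → x ∈ unramifiedLocus f := by
  have hsq : IsPullback ((f ≫ g).fiberι s) (MoreMor.fiberMap f g s) f (g.fiberι s) :=
    isPullback_fibreMap_fst f g (S.fromSpecResidueField s)
  rw [formallyUnramified_iff_forall_stalkMap]
  constructor
  · intro h x hx
    have hx' : x ∈ Set.range ((f ≫ g).fiberι s) := by
      rw [Scheme.Hom.range_fiberι]; exact hx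
    obtain ⟨x', rfl⟩ := hx'
    exact (formallyUnramified_stalkMap_iff_of_isPullback hsq x').mp (h x')
  · intro h x'
    apply (formallyUnramified_stalkMap_iff_of_isPullback hsq x').mpr
    apply h
    have : (f ≫ g).fiberι s x' ∈ Set.range ((f ≫ g).fiberι s) := ⟨x', rfl⟩
    rw [Scheme.Hom.range_fiberι] at this
    exact this

/-- Being unramified is a constructible property of morphisms of algebraic schemes. -/
theorem isConsMor_formallyUnramified :
    ConsProp.IsConsMor.{u} (fun _ _ _ f _ => FormallyUnramified f) := by
  refine ⟨isFieldStableMor_of_descendsAlong @FormallyUnramified, ?_⟩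
  intro X Y S f g _ _ _ _ _ _
  have : IsLocallyNoetherian Y := LocallyOfFiniteType.isLocallyNoetherian g
  have : IsLocallyNoetherian X := LocallyOfFiniteType.isLocallyNoetherian (f ≫ g)
  have : CompactSpace X := QuasiCompact.compactSpace_of_compactSpace (f ≫ g)
  have : IsNoetherian X := {}
  have : LocallyOfFiniteType f := locallyOfFiniteType_of_comp f g
  have : QuasiSeparated (f ≫ g) := inferInstance
  have : LocallyOfFinitePresentation (f ≫ g) := inferInstance
  have hF : IsLocallyConstructible ((f ≫ g) '' ((unramifiedLocus f : Set X))ᶜ)ᶜ :=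
    ((f ≫ g).isLocallyConstructible_image
      (isLocallyConstructible_of_isOpen_of_isNoetherian (unramifiedLocus f).isOpen).compl').compl'
  have e : ConsProp.locusMor (fun _ _ _ f _ => FormallyUnramified f) f g =
      ((f ≫ g) '' ((unramifiedLocus f : Set X))ᶜ)ᶜ := by
    ext s
    change FormallyUnramified (MoreMor.fiberMap f g s) ↔ _
    rw [formallyUnramified_fiberMap_iff]
    constructor
    · rintro h ⟨x, hx, rfl⟩
      exact hx (h x rfl)
    · intro h x hx
      by_contra hn
      exact h ⟨x, hn, hx⟩
  rw [e]
  exact interior_nonempty_or_compl hF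

end Unramified

section Mono

theorem mono_iff_universallyInjective_and_formallyUnramified {X Y : Scheme.{u}} (f : X ⟶ Y)
    [LocallyOfFiniteType f] :
    Mono f ↔ UniversallyInjective f ∧ FormallyUnramified f := by
  constructor
  · intro _
    have : IsIso (pullback.diagonal f) := (pullback.isIso_diagonal_iff f).mpr ‹_›
    exact ⟨inferInstance, inferInstance⟩
  · rintro ⟨h1, h2⟩
    have h3 : Surjective (pullback.diagonal f) := (UniversallyInjective.iff_diagonal f).mp h1
    have h4 : IsOpenImmersion (pullback.diagonal f) := inferInstance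
    have : IsIso (pullback.diagonal f) :=
      (isIso_iff_isOpenImmersion_and_surjective _).mpr ⟨h4, h3⟩
    exact (pullback.isIso_diagonal_iff f).mp this

/-- Being a monomorphism is a constructible property of morphisms of algebraic schemes. -/
theorem isConsMor_mono : ConsProp.IsConsMor.{u} (fun _ _ _ f _ => Mono f) := by
  refine isConsMor_congr ?_
    (isConsMor_and isConsMor_universallyInjective isConsMor_formallyUnramified)
  intro X Y T f g _ _ _ _ _
  have : LocallyOfFiniteType f := locallyOfFiniteType_of_comp f g
  exact (mono_iff_universallyInjective_and_formallyUnramified f).symm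

end Mono

end Groth.Agent.Lib.Helper23
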