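/-
Helper library (helper23): spreading out from the generic fibre.  If a property `P` of morphisms
which descends through limits holds for the generic fibre `f_η` of an `S`-morphism `f : X ⟶ Y` of
schemes of finite presentation over an integral scheme `S`, then it holds for the restriction of
`f` over a nonempty open subscheme of `S` (EGA IV 8.10.5 applied at the generic point).
-/
import Mathlib
import Groth.Agent.Lib.Helper23.FibreIndCons

set_option autoImplicit false
universe u
open CategoryTheory Limits AlgebraicGeometry Topology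

namespace Groth.Agent.Lib.Helper23

section Stage

theorem isOpenImmersion_SpecMap_stageMap {A : CommRingCat.{u}} {K : Type u} [Field K]
    (φ : A →+* K) (hφ : Function.Injective φ) (T : Finset A) :
    IsOpenImmersion (Spec.map (CommRingCat.ofHom (stageMap φ T))) := by
  have hI : Ideal.span (zPart φ T : Set A) = ⊥ := by
    rw [Ideal.span_eq_bot]
    intro x hx
    apply hφ
    rw [((mem_zPart φ).mp hx).2, map_zero]
  have hbij : Function.Bijective (Ideal.Quotient.mk (Ideal.span (zPart φ T : Set A))) := by
    refine ⟨?_, Ideal.Quotient.mk_surjective⟩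
    rw [RingHom.injective_iff_ker_eq_bot, Ideal.mk_ker, hI]
  have hiso : IsIso (CommRingCat.ofHom (Ideal.Quotient.mk (Ideal.span (zPart φ T : Set A)))) :=
    (ConcreteCategory.isIso_iff_bijective _).mpr hbij
  have e : CommRingCat.ofHom (stageMap φ T) =
      CommRingCat.ofHom (Ideal.Quotient.mk (Ideal.span (zPart φ T : Set A))) ≫
        CommRingCat.ofHom (algebraMap (A ⧸ Ideal.span (zPart φ T : Set A)) (StageRing φ T)) := rfl
  rw [e, Spec.map_comp]
  infer_instance

theorem evaluation_genericPoint_injective {S : Scheme.{u}} [IsIntegral S] {U : S.Opens}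
    (hη : genericPoint S ∈ U) :
    Function.Injective (S.evaluation U (genericPoint S) hη).hom := by
  letI : Field (S.presheaf.stalk (genericPoint S)) := inferInstanceAs (Field S.functionField)
  have h1 : Function.Injective (S.presheaf.germ U (genericPoint S) hη).hom :=
    germ_injective_of_isIntegral S (genericPoint S) hη
  have h2 : Function.Injective (S.residue (genericPoint S)).hom :=
    RingHom.injective (S.residue (genericPoint S)).hom
  exact h2.comp h1

end Stage

section Main

variable {X Y S : Scheme.{u}} (f : X ⟶ Y) (g : Y ⟶ S)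

/-- **Spreading out from the generic fibre.** -/
theorem exists_open_fibreMap_of_genericPoint (P : MorphismProperty Scheme.{u})
    [P.IsStableUnderBaseChange] (hdesc : DescendsThroughLimits P) [IsIntegral S]
    [LocallyOfFinitePresentation g] [QuasiCompact g] [QuasiSeparated g]
    [LocallyOfFinitePresentation (f ≫ g)] [QuasiCompact (f ≫ g)] [QuasiSeparated (f ≫ g)]
    (hP : P (fibreMap f g (S.fromSpecResidueField (genericPoint S)))) :
    ∃ V : S.Opens, (V : Set S).Nonempty ∧ IsAffineOpen V ∧ P (fibreMap f g V.ι) := by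
  classical
  obtain ⟨U, hU, hs⟩ := Groth.Agent.Lib.Helper16.exists_affine_nhd (genericPoint S)
  let s := genericPoint S
  -- the limit presentation of `Spec κ(s)`
  let φ : Γ(S, U) →+* S.residueField s := (S.evaluation U s hs).hom
  have hφ : Function.Injective φ := evaluation_genericPoint_injective hs
  let F : Finset Γ(S, U) ⥤ Under Γ(S, U) := resDiagram φ
  let cc : Cocone F := resCocone φ
  have hcc : IsColimit cc := isColimitResCocone φ (evaluation_surj hU s hs)
  let β : ∀ j : (Finset Γ(S, U))ᵒᵖ, (specDiagram F).obj j ⟶ S :=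
    fun j => Spec.map (F.obj j.unop).hom ≫ hU.fromSpec
  have hβ : ∀ {i j : (Finset Γ(S, U))ᵒᵖ} (a : i ⟶ j), (specDiagram F).map a ≫ β j = β i := by
    intro i j a
    have hw : (F.obj j.unop).hom ≫ (F.map a.unop).right = (F.obj i.unop).hom :=
      Under.w (F.map a.unop)
    change Spec.map (F.map a.unop).right ≫ Spec.map (F.obj j.unop).hom ≫ hU.fromSpec =
      Spec.map (F.obj i.unop).hom ≫ hU.fromSpec
    rw [← Category.assoc, ← Spec.map_comp, hw]
  let i₀ : (Finset Γ(S, U))ᵒᵖ := Opposite.op ∅
  have hβc : (specCone F cc).π.app i₀ ≫ β i₀ = S.fromSpecResidueField s := by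
    have hw : (F.obj i₀.unop).hom ≫ (cc.ι.app i₀.unop).right = cc.pt.hom :=
      Under.w (cc.ι.app i₀.unop)
    change Spec.map (cc.ι.app i₀.unop).right ≫ Spec.map (F.obj i₀.unop).hom ≫ hU.fromSpec = _
    rw [← Category.assoc, ← Spec.map_comp, hw]
    exact SpecMap_evaluation_fromSpec hU s hs
  -- the data over the initial stage
  obtain ⟨mX, mY, hYsq, hXsq⟩ := exists_isPullback_fibreMap f g (β i₀)
    (S.fromSpecResidueField s) ((specCone F cc).π.app i₀) hβc
  have h1 : LocallyOfFinitePresentation (pullback.snd g (β i₀)) :=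
    MorphismProperty.pullback_snd _ _ inferInstance
  have h2 : QuasiCompact (pullback.snd g (β i₀)) := MorphismProperty.pullback_snd _ _ inferInstance
  have h3 : QuasiSeparated (pullback.snd g (β i₀)) := MorphismProperty.pullback_snd _ _ inferInstance
  have e0 : fibreMap f g (β i₀) ≫ pullback.snd g (β i₀) = pullback.snd (f ≫ g) (β i₀) :=
    pullback.lift_snd _ _ _
  have h4 : LocallyOfFinitePresentation (fibreMap f g (β i₀) ≫ pullback.snd g (β i₀)) := by
    rw [e0]; exact MorphismProperty.pullback_snd _ _ inferInstance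
  have h5 : QuasiCompact (fibreMap f g (β i₀) ≫ pullback.snd g (β i₀)) := by
    rw [e0]; exact MorphismProperty.pullback_snd _ _ inferInstance
  have h6 : QuasiSeparated (fibreMap f g (β i₀) ≫ pullback.snd g (β i₀)) := by
    rw [e0]; exact MorphismProperty.pullback_snd _ _ inferInstance
  have hinst : ∀ (i j : (Finset Γ(S, U))ᵒᵖ) (a : i ⟶ j), IsAffineHom ((specDiagram F).map a) :=
    fun i j a => inferInstance
  obtain ⟨i, φ', Xi, Yi, fi, gi, pY, pX, hYi, hXi, hPi⟩ :=
    hdesc (specDiagram F) (specCone F cc) (isLimitSpecCone F hcc) i₀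
      (fibreMap f g (β i₀)) (pullback.snd g (β i₀))
      (fibreMap f g (S.fromSpecResidueField s)) (pullback.snd g (S.fromSpecResidueField s))
      mY mX hYsq hXsq hP
  have hPi' : P (fibreMap f g ((specDiagram F).map φ' ≫ β i₀)) :=
    fibreMap_of_stage f g P (β i₀) ((specDiagram F).map φ') fi gi pY pX hYi hXi hPi
  rw [hβ φ'] at hPi'
  -- the stage is an open subscheme of `S`
  have hopen : IsOpenImmersion (β i) := by
    have : IsOpenImmersion (Spec.map (F.obj i.unop).hom) :=
      isOpenImmersion_SpecMap_stageMap φ hφ i.unop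
    change IsOpenImmersion (Spec.map (F.obj i.unop).hom ≫ hU.fromSpec)
    infer_instance
  let V : S.Opens := (β i).opensRange
  have hV : (V : Set S).Nonempty := by
    let pt : Spec (CommRingCat.of (S.residueField s)) := (⊥ : PrimeSpectrum (S.residueField s))
    exact ⟨β i ((specCone F cc).π.app i pt), ⟨_, rfl⟩⟩
  have hVaff : IsAffineOpen V := isAffineOpen_opensRange (β i)
  refine ⟨V, hV, hVaff, ?_⟩
  have he : (β i).isoOpensRange.inv ≫ β i = V.ι :=
    (Iso.inv_comp_eq _).mpr (Scheme.Hom.isoOpensRange_hom_ι (β i)).symm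
  exact fibreMap_baseChange f g P (β i) V.ι (β i).isoOpensRange.inv he hPi'

end Main

end Groth.Agent.Lib.Helper23
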