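/-
Helper library (helper23): general reductions for proving that a property of morphisms, local on
the target, is a constructible property of morphisms of algebraic schemes: compatibility of the
fibre maps with open covers of the target, shrinking the base, finite intersections of generic
dichotomies, and the reduction to an affine target over an affine base after spreading out an
auxiliary property from the generic fibre.
-/
import Mathlib
import Groth.Prelude.Def_EGA4Misc
import Groth.Agent.Lib.Helper23.ConsSpread
import Groth.Agent.Lib.Helper23.ConsLocusMor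
import Groth.Agent.Lib.Helper23.ConsQuasiFinite
import Groth.Agent.Lib.Helper23.ConsMono
import Groth.Agent.Lib.Helper23.GenericDense

set_option autoImplicit false
universe u
open CategoryTheory Limits AlgebraicGeometry Topology MorphismProperty

namespace Groth.Agent.Lib.Helper23

section FibreSquare

variable {X Y S X' Y' T : Scheme.{u}}

/-- The fibre maps of a cartesian square over `Y' ⟶ Y` form a cartesian square. -/
theorem exists_isPullback_fibreMap_of_isPullback {f : X ⟶ Y} {f' : X' ⟶ Y'} {e : X' ⟶ X}
    {c : Y' ⟶ Y} (h : IsPullback e f' f c) (g : Y ⟶ S) (β : T ⟶ S) :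
    ∃ p : pullback (f' ≫ c ≫ g) β ⟶ pullback (f ≫ g) β,
      IsPullback p (fibreMap f' (c ≫ g) β) (fibreMap f g β) (fibreMap c g β) := by
  have H1 := isPullback_fibreMap_fst f' (c ≫ g) β
  have H12 := H1.paste_horiz h
  have H3 := isPullback_fibreMap_fst f g β
  have fac : fibreMap c g β ≫ pullback.fst g β = pullback.fst (c ≫ g) β ≫ c :=
    pullback.lift_fst _ _ _
  obtain ⟨p, -, hp⟩ := exists_isPullback_of_fac H3 H12 (fibreMap c g β) fac
  exact ⟨p, hp⟩

theorem of_isPullback_morphismRestrict_opensRange (P : MorphismProperty Scheme.{u})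
    [P.RespectsIso] {W Z Z' W' : Scheme.{u}} {h : W ⟶ Z} {q : Z' ⟶ Z} [IsOpenImmersion q]
    {p : W' ⟶ W} {f'' : W' ⟶ Z'} (hsq : IsPullback p f'' h q) (H : P f'') :
    P (h ∣_ q.opensRange) := by
  refine (P.arrow_mk_iso_iff (morphismRestrictOpensRange h q)).mpr ?_
  have e : hsq.isoPullback.hom ≫ pullback.snd h q = f'' := hsq.isoPullback_hom_snd
  rw [← e] at H
  exact (P.cancel_left_of_respectsIso _ _).mp H

/-- A property local on the target can be tested on the fibre maps of the members of an open
cover of the target. -/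
theorem fibreMap_iff_of_openCover (P : MorphismProperty Scheme.{u}) [IsZariskiLocalAtTarget P]
    (f : X ⟶ Y) (g : Y ⟶ S) (𝒰 : Y.OpenCover) (β : T ⟶ S) :
    P (fibreMap f g β) ↔ ∀ i, P (fibreMap (pullback.snd f (𝒰.f i)) (𝒰.f i ≫ g) β) := by
  have hopen : ∀ i, IsOpenImmersion (fibreMap (𝒰.f i) g β) := fun i =>
    MorphismProperty.of_isPullback (isPullback_fibreMap_fst (𝒰.f i) g β) inferInstance
  constructor
  · intro H i
    obtain ⟨p, hp⟩ := exists_isPullback_fibreMap_of_isPullback
      (IsPullback.of_hasPullback f (𝒰.f i)) g β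
    haveI := hopen i
    exact IsZariskiLocalAtTarget.of_isPullback hp H
  · intro H
    refine IsZariskiLocalAtTarget.of_iSup_eq_top
      (fun i => haveI := hopen i; (fibreMap (𝒰.f i) g β).opensRange) ?_ ?_
    · rw [eq_top_iff]
      intro y _
      obtain ⟨i, z, hz⟩ := 𝒰.exists_eq (pullback.fst g β y)
      rw [TopologicalSpace.Opens.mem_iSup]
      refine ⟨i, ?_⟩
      have hr := range_snd_of_isPullback (isPullback_fibreMap_fst (𝒰.f i) g β)
      change y ∈ Set.range (fibreMap (𝒰.f i) g β)
      rw [hr]
      exact ⟨z, hz⟩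
    · intro i
      obtain ⟨p, hp⟩ := exists_isPullback_fibreMap_of_isPullback
        (IsPullback.of_hasPullback f (𝒰.f i)) g β
      haveI := hopen i
      exact of_isPullback_morphismRestrict_opensRange P hp (H i)

end FibreSquare

section Shrink

theorem interior_nonempty_of_preimage_isOpenEmbedding {α β : Type*} [TopologicalSpace α]
    [TopologicalSpace β] {m : α → β} (hm : IsOpenEmbedding m) {E : Set β}
    (h : (interior (m ⁻¹' E)).Nonempty) : (interior E).Nonempty := by
  obtain ⟨x, hx⟩ := h
  refine ⟨m x, ?_⟩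
  rw [mem_interior]
  refine ⟨m '' interior (m ⁻¹' E), ?_, hm.isOpenMap _ isOpen_interior, ⟨x, hx, rfl⟩⟩
  rintro _ ⟨y, hy, rfl⟩
  exact (interior_subset hy : y ∈ m ⁻¹' E)

variable {P : ∀ ⦃X Y T : Scheme.{u}⦄, (X ⟶ Y) → (Y ⟶ T) → Prop}

/-- The generic dichotomy can be tested after shrinking the base to an open subscheme. -/
theorem dichotomy_of_baseChange_open (hP : ConsProp.IsFieldStableMor P)
    {X Y S X' Y' : Scheme.{u}} (f : X ⟶ Y) (g : Y ⟶ S)
    [LocallyOfFiniteType g] [QuasiCompact g] [LocallyOfFiniteType (f ≫ g)] [QuasiCompact (f ≫ g)]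
    (V : S.Opens) {f' : X' ⟶ Y'} {g' : Y' ⟶ V.toScheme} {eX : X' ⟶ X} {eY : Y' ⟶ Y}
    (hY : IsPullback eY g' g V.ι) (hX : IsPullback eX f' f eY)
    (h : (interior (ConsProp.locusMor P f' g')).Nonempty ∨
      (interior (ConsProp.locusMor P f' g')ᶜ).Nonempty) :
    (interior (ConsProp.locusMor P f g)).Nonempty ∨
      (interior (ConsProp.locusMor P f g)ᶜ).Nonempty := by
  have e := locusMor_baseChange hP f g V.ι hY hX
  rw [e] at h
  rcases h with h | h
  · exact Or.inl (interior_nonempty_of_preimage_isOpenEmbedding V.ι.isOpenEmbedding h)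
  · rw [← Set.preimage_compl] at h
    exact Or.inr (interior_nonempty_of_preimage_isOpenEmbedding V.ι.isOpenEmbedding h)

theorem dichotomy_iInter {S : Type*} [TopologicalSpace S] [IrreducibleSpace S] {ι : Type*}
    [Finite ι] (E : ι → Set S)
    (h : ∀ i, (interior (E i)).Nonempty ∨ (interior (E i)ᶜ).Nonempty) :
    (interior (⋂ i, E i)).Nonempty ∨ (interior (⋂ i, E i)ᶜ).Nonempty := by
  classical
  by_cases hall : ∀ i, (interior (E i)).Nonempty
  · left
    rw [interior_iInter_of_finite]
    cases nonempty_fintype ι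
    have key : ∀ s : Finset ι, (⋂ i ∈ s, interior (E i)).Nonempty ∧
        IsOpen (⋂ i ∈ s, interior (E i)) := by
      intro s
      induction s using Finset.induction_on with
      | empty => simp
      | insert a s _ ih =>
        rw [Finset.set_biInter_insert]
        exact ⟨nonempty_preirreducible_inter isOpen_interior ih.2 (hall a) ih.1,
          isOpen_interior.inter ih.2⟩
    have := (key Finset.univ).1
    simpa using this
  · right
    rw [not_forall] at hall
    obtain ⟨i, hi⟩ := hall
    have hi' : (interior (E i)ᶜ).Nonempty := by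
      rcases h i with h1 | h1
      · exact absurd h1 hi
      · exact h1
    refine hi'.mono (interior_mono ?_)
    exact Set.compl_subset_compl.mpr (Set.iInter_subset _ i)

end Shrink

section Reduce

variable (P Q : MorphismProperty Scheme.{u})

/-- **Reduction to an affine target over an affine base.**  Let `P` be a property of morphisms,
local on the target and invariant under extension of the base field, and `Q` a constructible
property implied by `P` which descends through limits.  To prove that `P` is a constructible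
property of morphisms of algebraic schemes it suffices to prove the generic dichotomy for
`f : X ⟶ Y`, `g : Y ⟶ S` with `S` and `Y` affine and `Q f`. -/
theorem isConsMor_of_affine_core [IsZariskiLocalAtTarget P] [Q.IsStableUnderBaseChange]
    (hPfs : ConsProp.IsFieldStableMor.{u} (fun _ _ _ f _ => P f))
    (hQ : ConsProp.IsConsMor.{u} (fun _ _ _ f _ => Q f))
    (hQdesc : DescendsThroughLimits Q)
    (hPQ : ∀ ⦃X Y : Scheme.{u}⦄ (f : X ⟶ Y), P f → Q f)
    (core : ∀ ⦃X Y S : Scheme.{u}⦄ (f : X ⟶ Y) (g : Y ⟶ S) [IsIntegral S] [IsNoetherian S]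
      [IsAffine S] [IsAffine Y] [LocallyOfFiniteType g] [QuasiCompact g]
      [LocallyOfFiniteType (f ≫ g)] [QuasiCompact (f ≫ g)], Q f →
      (interior (ConsProp.locusMor (fun _ _ _ f _ => P f) f g)).Nonempty ∨
        (interior (ConsProp.locusMor (fun _ _ _ f _ => P f) f g)ᶜ).Nonempty) :
    ConsProp.IsConsMor.{u} (fun _ _ _ f _ => P f) := by
  refine ⟨hPfs, ?_⟩
  intro X Y S f g _ _ _ _ _ _
  rcases hQ.2 f g with hq | hq
  swap
  · right
    refine hq.mono (interior_mono ?_)
    apply Set.compl_subset_compl.mpr
    intro s hs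
    exact hPQ _ hs
  have hη : genericPoint S ∈ ConsProp.locusMor (fun _ _ _ f _ => Q f) f g := by
    obtain ⟨x, hx⟩ := hq
    refine interior_subset (((genericPoint_spec S).mem_open_set_iff isOpen_interior).mpr ?_)
    exact ⟨x, trivial, hx⟩
  have : IsLocallyNoetherian Y := LocallyOfFiniteType.isLocallyNoetherian g
  have : IsLocallyNoetherian X := LocallyOfFiniteType.isLocallyNoetherian (f ≫ g)
  have : LocallyOfFinitePresentation g := inferInstance
  have : QuasiSeparated g := inferInstance
  have : LocallyOfFinitePresentation (f ≫ g) := inferInstance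
  have : QuasiSeparated (f ≫ g) := inferInstance
  obtain ⟨V, hVne, hVaff, hQV⟩ := exists_open_fibreMap_of_genericPoint f g Q hQdesc hη
  apply dichotomy_of_baseChange_open hPfs f g V (IsPullback.of_hasPullback g V.ι)
    (isPullback_fibreMap_fst f g V.ι)
  -- the base is now the affine open `V`
  haveI : IsAffine V.toScheme := hVaff
  haveI : Nonempty ↥V.toScheme := ⟨⟨hVne.some, hVne.some_mem⟩⟩
  haveI : IsIntegral V.toScheme := isIntegral_of_isOpenImmersion V.ι
  haveI : IsLocallyNoetherian V.toScheme := isLocallyNoetherian_of_isOpenImmersion V.ι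
  haveI : IsNoetherian V.toScheme := {}
  let g' : pullback g V.ι ⟶ V.toScheme := pullback.snd g V.ι
  let f' : pullback (f ≫ g) V.ι ⟶ pullback g V.ι := fibreMap f g V.ι
  have hf'g' : f' ≫ g' = pullback.snd (f ≫ g) V.ι := pullback.lift_snd _ _ _
  haveI k1 : LocallyOfFiniteType g' :=
    inferInstanceAs (LocallyOfFiniteType (pullback.snd g V.ι))
  haveI k2 : QuasiCompact g' := inferInstanceAs (QuasiCompact (pullback.snd g V.ι))
  haveI k3 : LocallyOfFiniteType (f' ≫ g') := by rw [hf'g']; infer_instance
  haveI k4 : QuasiCompact (f' ≫ g') := by rw [hf'g']; infer_instance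
  haveI k5 : QuasiSeparated g' := inferInstance
  haveI k6 : LocallyOfFiniteType f' := locallyOfFiniteType_of_comp f' g'
  haveI k7 : QuasiCompact f' := QuasiCompact.of_comp f' g'
  haveI : CompactSpace ↥(pullback g V.ι) := QuasiCompact.compactSpace_of_compactSpace g'
  let 𝒰 : (pullback g V.ι).OpenCover := (pullback g V.ι).affineCover.finiteSubcover
  have hE : ConsProp.locusMor (fun _ _ _ f _ => P f) f' g' =
      ⋂ i, ConsProp.locusMor (fun _ _ _ f _ => P f) (pullback.snd f' (𝒰.f i)) (𝒰.f i ≫ g') := by
    ext s
    simp only [Set.mem_iInter]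
    exact fibreMap_iff_of_openCover P f' g' 𝒰 (V.toScheme.fromSpecResidueField s)
  change (interior (ConsProp.locusMor (fun _ _ _ f _ => P f) f' g')).Nonempty ∨
    (interior (ConsProp.locusMor (fun _ _ _ f _ => P f) f' g')ᶜ).Nonempty
  rw [hE]
  apply dichotomy_iInter
  intro i
  haveI : IsAffine (𝒰.X i) := by
    change IsAffine ((pullback g V.ι).affineCover.X _)
    infer_instance
  haveI m1 : LocallyOfFiniteType (𝒰.f i ≫ g') := inferInstance
  haveI m2 : QuasiCompact (𝒰.f i ≫ g') := inferInstance
  haveI m3 : LocallyOfFiniteType (pullback.snd f' (𝒰.f i) ≫ 𝒰.f i ≫ g') := inferInstance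
  haveI m4 : QuasiCompact (pullback.snd f' (𝒰.f i) ≫ 𝒰.f i ≫ g') := inferInstance
  exact core (pullback.snd f' (𝒰.f i)) (𝒰.f i ≫ g') (Q.pullback_snd _ _ hQV)

end Reduce

end Groth.Agent.Lib.Helper23
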