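/-
Helper library (helper23): being finite, and being a closed immersion, are constructible
properties of morphisms of algebraic schemes (EGA IV 9.6.1 (vi), (viii)), via Zariski's main
theorem and the constructibility of "the range of `f_s` is closed".
-/
import Mathlib
import Groth.Prelude.Def_EGA4Misc
import Groth.Agent.Lib.Helper23.ConsGenericReduce
import Groth.Agent.Lib.Helper23.ConsClosedRange
import Groth.Agent.Lib.Helper23.ConsSeparated
import Groth.Agent.Lib.Helper23.ConsMono
import Groth.Agent.Lib.Helper23.ZMTFinite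
import Groth.Agent.Lib.Helper23.DescendsInstances

set_option autoImplicit false
universe u
open CategoryTheory Limits AlgebraicGeometry Topology MorphismProperty

namespace Groth.Agent.Lib.Helper23

section FieldStable

theorem isFinite_iff_of_locallyOfFiniteType {X Y : Scheme.{u}} (f : X ⟶ Y)
    [LocallyOfFiniteType f] :
    IsFinite f ↔ (LocallyQuasiFinite f ∧ IsSeparated f) ∧ UniversallyClosed f := by
  constructor
  · intro h
    exact ⟨⟨inferInstance, inferInstance⟩, inferInstance⟩
  · rintro ⟨⟨h1, h2⟩, h3⟩
    haveI : IsProper f := {}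
    exact IsFinite.of_isProper_of_locallyQuasiFinite f

theorem isFieldStableMor_isFinite :
    ConsProp.IsFieldStableMor.{u} (fun _ _ _ f _ => IsFinite f) := by
  intro X X' Y Y' T T' f g f' g' eX eY h _ _ _ _ _ _ _ _ hY hX
  have : IsLocallyNoetherian T := isLocallyNoetherian_of_subsingleton T
  have : IsLocallyNoetherian T' := isLocallyNoetherian_of_subsingleton T'
  have i1 : LocallyOfFiniteType g' := MorphismProperty.of_isPullback hY ‹_›
  have hXY : IsPullback eX (f' ≫ g') (f ≫ g) h := hX.paste_vert hY
  have i3 : LocallyOfFiniteType (f' ≫ g') := MorphismProperty.of_isPullback hXY ‹_›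
  have i5 : LocallyOfFiniteType f := locallyOfFiniteType_of_comp f g
  have i6 : LocallyOfFiniteType f' := locallyOfFiniteType_of_comp f' g'
  change IsFinite f ↔ IsFinite f'
  rw [isFinite_iff_of_locallyOfFiniteType f, isFinite_iff_of_locallyOfFiniteType f']
  exact and_congr (and_congr
    (isConsMor_locallyQuasiFinite.1 f g f' g' eX eY h hY hX)
    (isFieldStableMor_isSeparated f g f' g' eX eY h hY hX))
    (isFieldStableMor_of_descendsAlong @UniversallyClosed f g f' g' eX eY h hY hX)

end FieldStable

section Core

/-- For a factorization `f = j ≫ π` with `j` an open immersion and `π` finite, the fibre map `f_s`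
is finite iff the range of `j_s` is closed. -/
theorem isFinite_fibreMap_comp_iff {X T Y S W : Scheme.{u}} (j : X ⟶ T) (π : T ⟶ Y) (g : Y ⟶ S)
    [IsOpenImmersion j] [IsFinite π] (β : W ⟶ S) :
    IsFinite (fibreMap (j ≫ π) g β) ↔ IsClosed (Set.range (fibreMap j (π ≫ g) β)) := by
  have H_f := isPullback_fibreMap_fst (j ≫ π) g β
  have H_j := isPullback_fibreMap_fst j (π ≫ g) β
  have H_π := isPullback_fibreMap_fst π g β
  have H_jπ := H_j.paste_vert H_π
  have hθ : (H_f.isoIsPullback _ _ H_jπ).hom ≫ (fibreMap j (π ≫ g) β ≫ fibreMap π g β) =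
      fibreMap (j ≫ π) g β := H_f.isoIsPullback_hom_snd _ _ H_jπ
  haveI hπs : IsFinite (fibreMap π g β) := MorphismProperty.of_isPullback H_π ‹_›
  haveI hjs : IsOpenImmersion (fibreMap j (π ≫ g) β) := MorphismProperty.of_isPullback H_j ‹_›
  rw [← hθ, MorphismProperty.cancel_left_of_respectsIso @IsFinite]
  constructor
  · intro h
    haveI : IsFinite (fibreMap j (π ≫ g) β) := IsFinite.of_comp _ (fibreMap π g β)
    exact (fibreMap j (π ≫ g) β).isClosedMap.isClosed_range
  · intro h
    haveI : IsClosedImmersion (fibreMap j (π ≫ g) β) := IsClosedImmersion.of_isPreimmersion _ h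
    infer_instance

theorem finite_core ⦃X Y S : Scheme.{u}⦄ (f : X ⟶ Y) (g : Y ⟶ S) [IsIntegral S] [IsNoetherian S]
    [IsAffine S] [IsAffine Y] [LocallyOfFiniteType g] [QuasiCompact g]
    [LocallyOfFiniteType (f ≫ g)] [QuasiCompact (f ≫ g)]
    (hQ : (@LocallyQuasiFinite ⊓ @IsSeparated : MorphismProperty Scheme.{u}) f) :
    (interior (ConsProp.locusMor (fun _ _ _ f _ => IsFinite f) f g)).Nonempty ∨
      (interior (ConsProp.locusMor (fun _ _ _ f _ => IsFinite f) f g)ᶜ).Nonempty := by
  haveI : LocallyQuasiFinite f := hQ.1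
  haveI : IsSeparated f := hQ.2
  haveI : LocallyOfFiniteType f := locallyOfFiniteType_of_comp f g
  haveI : QuasiCompact f := QuasiCompact.of_comp f g
  obtain ⟨T, j, π, hj, hπ, rfl⟩ := exists_finite_factorization_of_isAffine f
  haveI a1 : LocallyOfFiniteType (π ≫ g) := inferInstance
  haveI a2 : QuasiCompact (π ≫ g) := inferInstance
  haveI a3 : LocallyOfFiniteType (j ≫ π ≫ g) := by rw [← Category.assoc]; infer_instance
  haveI a4 : QuasiCompact (j ≫ π ≫ g) := by rw [← Category.assoc]; infer_instance
  have e : ConsProp.locusMor (fun _ _ _ f _ => IsFinite f) (j ≫ π) g =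
      ConsProp.locusMor (fun _ _ _ f _ => IsClosed (Set.range f)) j (π ≫ g) := by
    ext s
    exact isFinite_fibreMap_comp_iff j π g (S.fromSpecResidueField s)
  rw [e]
  exact isConsMor_isClosed_range.2 j (π ≫ g)

end Core

section Main

/-- Being finite is a constructible property of morphisms of algebraic schemes. -/
theorem isConsMor_isFinite : ConsProp.IsConsMor.{u} (fun _ _ _ f _ => IsFinite f) := by
  refine isConsMor_of_affine_core @IsFinite (@LocallyQuasiFinite ⊓ @IsSeparated)
    isFieldStableMor_isFinite ?_ ?_ ?_ finite_core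
  · exact isConsMor_and isConsMor_locallyQuasiFinite isConsMor_isSeparated
  · exact DescendsThroughLimits.and descends_locallyQuasiFinite descends_isSeparated
  · intro X Y f hf
    exact ⟨inferInstance, inferInstance⟩

/-- Being a closed immersion is a constructible property of morphisms of algebraic schemes. -/
theorem isConsMor_isClosedImmersion :
    ConsProp.IsConsMor.{u} (fun _ _ _ f _ => IsClosedImmersion f) := by
  refine isConsMor_congr ?_ (isConsMor_and isConsMor_isFinite isConsMor_mono)
  intro X Y T f g _ _ _ _ _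
  exact (IsClosedImmersion.iff_isFinite_and_mono f).symm

end Main

end Groth.Agent.Lib.Helper23
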