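/-
Helper library (helper23): algebraic core of "`f_s` is an isomorphism is a constructible property"
for closed immersions.  For a finite type algebra `B` over a domain `R` with `B` Noetherian and an
ideal `I` of `B`, there is a nonzero `a : R` such that either `L ⊗ B ⟶ L ⊗ B/I` is injective for
all fields `L` over `R` in which `a` is invertible, or it is injective for none of them.
-/
import Mathlib
import Groth.Agent.Lib.Helper91.GenericFreeness

set_option autoImplicit false
universe u
open TensorProduct

namespace Groth.Agent.Lib.Helper23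

section IsoAlg

variable {R : Type u} [CommRing R] [IsDomain R] {B : Type u} [CommRing B] [Algebra R B]
  [Algebra.FiniteType R B] [IsNoetherianRing B]

omit [IsDomain R] [Algebra.FiniteType R B] [IsNoetherianRing B] in
/-- Naturality of `cancelBaseChange` in the module variable. -/
theorem cancelBaseChange_lTensor_baseChange {Ra K : Type u} [CommRing Ra] [Algebra R Ra]
    [CommRing K] [Algebra R K] [Algebra Ra K] [IsScalarTower R Ra K] {M N : Type u}
    [AddCommGroup M] [Module R M] [AddCommGroup N] [Module R N] (g : M →ₗ[R] N)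
    (z : K ⊗[Ra] (Ra ⊗[R] M)) :
    TensorProduct.AlgebraTensorModule.cancelBaseChange R Ra K K N
        ((g.baseChange Ra).lTensor K z) =
      g.lTensor K (TensorProduct.AlgebraTensorModule.cancelBaseChange R Ra K K M z) := by
  induction z using TensorProduct.induction_on with
  | zero => simp
  | add x y hx hy => simp only [map_add, hx, hy]
  | tmul k w =>
    induction w using TensorProduct.induction_on with
    | zero => simp
    | add x y hx hy =>
      simp only [TensorProduct.tmul_add, map_add] at hx hy ⊢
      rw [hx, hy]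
    | tmul r x =>
      simp only [LinearMap.lTensor_tmul, LinearMap.baseChange_tmul,
        TensorProduct.AlgebraTensorModule.cancelBaseChange_tmul]

theorem exists_lTensor_quotient_injective_dichotomy (I : Ideal B) :
    ∃ a : R, a ≠ 0 ∧
      ((∀ (L : Type u) [Field L] [Algebra R L], IsUnit (algebraMap R L a) →
          Function.Injective ((Ideal.Quotient.mkₐ R I).toLinearMap.lTensor L)) ∨
       (∀ (L : Type u) [Field L] [Algebra R L], IsUnit (algebraMap R L a) →
          ¬ Function.Injective ((Ideal.Quotient.mkₐ R I).toLinearMap.lTensor L))) := by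
  classical
  obtain ⟨a₁, ha₁, hfree₁, -, -, -⟩ :=
    Groth.Agent.Lib.Helper91.generic_freeness (R := R) (S := B) (M := B ⧸ I)
  obtain ⟨a₂, ha₂, hfree₂, -, -, -⟩ :=
    Groth.Agent.Lib.Helper91.generic_freeness (R := R) (S := B) (M := I)
  let Ra₁ := Localization.Away a₁
  let Ra₂ := Localization.Away a₂
  let g : I →ₗ[R] B := I.subtype.restrictScalars R
  let f : B →ₗ[R] (B ⧸ I) := (Ideal.Quotient.mkₐ R I).toLinearMap
  have hg : Function.Injective g := Subtype.val_injective
  have hf : Function.Surjective f := Ideal.Quotient.mk_surjective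
  have hex : Function.Exact g f := by
    intro x
    change Ideal.Quotient.mk _ x = 0 ↔ x ∈ Set.range g
    rw [Ideal.Quotient.eq_zero_iff_mem]
    constructor
    · intro hx; exact ⟨⟨x, hx⟩, rfl⟩
    · rintro ⟨y, rfl⟩; exact y.2
  refine ⟨a₁ * a₂, mul_ne_zero ha₁ ha₂, ?_⟩
  -- exactness after tensoring with `L`
  have hexL : ∀ (L : Type u) [Field L] [Algebra R L],
      Function.Exact (g.lTensor L) (f.lTensor L) := fun L _ _ => lTensor_exact L hex hf
  -- injectivity of `L ⊗ I ⟶ L ⊗ B`
  have hinjL : ∀ (L : Type u) [Field L] [Algebra R L], IsUnit (algebraMap R L (a₁ * a₂)) →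
      Function.Injective (g.lTensor L) := by
    intro L _ _ hunit
    have hunit₁ : IsUnit (algebraMap R L a₁) := by
      rw [map_mul] at hunit
      exact isUnit_of_mul_isUnit_left hunit
    letI algK : Algebra Ra₁ L := (IsLocalization.Away.lift a₁ hunit₁).toAlgebra
    haveI : IsScalarTower R Ra₁ L := IsScalarTower.of_algebraMap_eq (fun x => by
      change _ = (IsLocalization.Away.lift a₁ hunit₁) (algebraMap R Ra₁ x)
      rw [IsLocalization.Away.lift_eq])
    let g' : Ra₁ ⊗[R] I →ₗ[Ra₁] Ra₁ ⊗[R] B := g.baseChange Ra₁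
    let f' : Ra₁ ⊗[R] B →ₗ[Ra₁] Ra₁ ⊗[R] (B ⧸ I) := f.baseChange Ra₁
    have hg' : Function.Injective g' :=
      Module.Flat.lTensor_preserves_injective_linearMap (M := Ra₁) g hg
    have hf' : Function.Surjective f' := LinearMap.lTensor_surjective Ra₁ hf
    have hex' : Function.Exact g' f' := lTensor_exact Ra₁ hex hf
    haveI : Module.Flat Ra₁ (Ra₁ ⊗[R] (B ⧸ I)) := inferInstance
    have hinj : Function.Injective (g'.lTensor L) :=
      LinearMap.lTensor_injective_of_exact_of_flat f' hf' g' hg' hex' L
    let eI := TensorProduct.AlgebraTensorModule.cancelBaseChange R Ra₁ L L I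
    let eB := TensorProduct.AlgebraTensorModule.cancelBaseChange R Ra₁ L L B
    intro x y hxy
    have h1 : g'.lTensor L (eI.symm x) = g'.lTensor L (eI.symm y) := by
      apply eB.injective
      change eB (g'.lTensor L (eI.symm x)) = eB (g'.lTensor L (eI.symm y))
      rw [cancelBaseChange_lTensor_baseChange, cancelBaseChange_lTensor_baseChange]
      change g.lTensor L (eI (eI.symm x)) = g.lTensor L (eI (eI.symm y))
      rw [LinearEquiv.apply_symm_apply, LinearEquiv.apply_symm_apply, hxy]
    exact eI.symm.injective (hinj h1)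
  by_cases hN : Subsingleton (Ra₂ ⊗[R] I)
  · left
    intro L _ _ hunit
    have hunit₂ : IsUnit (algebraMap R L a₂) := by
      rw [map_mul] at hunit
      exact isUnit_of_mul_isUnit_right hunit
    letI algK : Algebra Ra₂ L := (IsLocalization.Away.lift a₂ hunit₂).toAlgebra
    haveI : IsScalarTower R Ra₂ L := IsScalarTower.of_algebraMap_eq (fun x => by
      change _ = (IsLocalization.Away.lift a₂ hunit₂) (algebraMap R Ra₂ x)
      rw [IsLocalization.Away.lift_eq])
    let eI := TensorProduct.AlgebraTensorModule.cancelBaseChange R Ra₂ L L I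
    haveI : Subsingleton (L ⊗[Ra₂] (Ra₂ ⊗[R] I)) := inferInstance
    haveI : Subsingleton (L ⊗[R] I) := eI.symm.injective.subsingleton
    rw [injective_iff_map_eq_zero]
    intro z hz
    obtain ⟨w, rfl⟩ := (hexL L z).mp hz
    rw [Subsingleton.elim w 0, map_zero]
  · right
    intro L _ _ hunit hinj
    rw [not_subsingleton_iff_nontrivial] at hN
    have hunit₂ : IsUnit (algebraMap R L a₂) := by
      rw [map_mul] at hunit
      exact isUnit_of_mul_isUnit_right hunit
    letI algK : Algebra Ra₂ L := (IsLocalization.Away.lift a₂ hunit₂).toAlgebra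
    haveI : IsScalarTower R Ra₂ L := IsScalarTower.of_algebraMap_eq (fun x => by
      change _ = (IsLocalization.Away.lift a₂ hunit₂) (algebraMap R Ra₂ x)
      rw [IsLocalization.Away.lift_eq])
    let eI := TensorProduct.AlgebraTensorModule.cancelBaseChange R Ra₂ L L I
    haveI : Module.FaithfullyFlat Ra₂ (Ra₂ ⊗[R] I) := inferInstance
    haveI : Nontrivial (L ⊗[Ra₂] (Ra₂ ⊗[R] I)) :=
      (Module.FaithfullyFlat.nontrivial_tensorProduct_iff_left Ra₂ L).mpr inferInstance
    haveI : Nontrivial (L ⊗[R] I) := eI.symm.surjective.nontrivial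
    obtain ⟨z, hz⟩ := exists_ne (0 : L ⊗[R] I)
    have h1 : f.lTensor L (g.lTensor L z) = 0 := (hexL L _).mpr ⟨z, rfl⟩
    have h2 : g.lTensor L z = 0 := hinj (by rw [h1, map_zero])
    exact hz (hinjL L hunit (by rw [h2, map_zero]))

/-- Variant for a surjective algebra homomorphism. -/
theorem exists_lTensor_injective_dichotomy_of_surjective {A : Type u} [CommRing A] [Algebra R A]
    (φ : B →ₐ[R] A) (hφ : Function.Surjective φ) :
    ∃ a : R, a ≠ 0 ∧
      ((∀ (L : Type u) [Field L] [Algebra R L], IsUnit (algebraMap R L a) →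
          Function.Injective (φ.toLinearMap.lTensor L)) ∨
       (∀ (L : Type u) [Field L] [Algebra R L], IsUnit (algebraMap R L a) →
          ¬ Function.Injective (φ.toLinearMap.lTensor L))) := by
  let I : Ideal B := RingHom.ker (φ : B →+* A)
  let e : (B ⧸ I) ≃ₐ[R] A := Ideal.quotientKerAlgEquivOfSurjective hφ
  have hcomp : φ.toLinearMap = e.toLinearEquiv.toLinearMap ∘ₗ (Ideal.Quotient.mkₐ R I).toLinearMap := by
    ext b
    rfl
  have key : ∀ (L : Type u) [Field L] [Algebra R L],
      Function.Injective (φ.toLinearMap.lTensor L) ↔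
        Function.Injective ((Ideal.Quotient.mkₐ R I).toLinearMap.lTensor L) := by
    intro L _ _
    rw [hcomp, LinearMap.lTensor_comp]
    have hbij : Function.Injective (e.toLinearEquiv.toLinearMap.lTensor L) :=
      (e.toLinearEquiv.lTensor L).injective
    constructor
    · intro h
      exact Function.Injective.of_comp h
    · intro h
      exact hbij.comp h
  obtain ⟨a, ha, h | h⟩ := exists_lTensor_quotient_injective_dichotomy (R := R) I
  · exact ⟨a, ha, Or.inl fun L _ _ hu => (key L).mpr (h L hu)⟩
  · exact ⟨a, ha, Or.inr fun L _ _ hu hinj => h L hu ((key L).mp hinj)⟩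

end IsoAlg

end Groth.Agent.Lib.Helper23
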