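/-
Helper library (helper23): being an isomorphism is a constructible property of morphisms of
algebraic schemes (EGA IV 9.6.1 (ix)).
-/
import Mathlib
import Groth.Prelude.Def_EGA4Misc
import Groth.Agent.Lib.Helper23.ConsGenericReduce
import Groth.Agent.Lib.Helper23.ConsFinite
import Groth.Agent.Lib.Helper23.IsoFibreAlg

set_option autoImplicit false
universe u
open CategoryTheory Limits AlgebraicGeometry Topology MorphismProperty TensorProduct

namespace Groth.Agent.Lib.Helper23

section General

/-- The fibre map can be computed with any cartesian squares. -/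
theorem fibreMap_iff_of_isPullback (P : MorphismProperty Scheme.{u}) [P.RespectsIso]
    {X Y S T X' Y' : Scheme.{u}} {f : X ⟶ Y} {g : Y ⟶ S} {β : T ⟶ S} {f' : X' ⟶ Y'}
    {g' : Y' ⟶ T} {eX : X' ⟶ X} {eY : Y' ⟶ Y} (hY : IsPullback eY g' g β)
    (hX : IsPullback eX f' f eY) : P (fibreMap f g β) ↔ P f' := by
  have H3 := isPullback_fibreMap_fst f g β
  have ha : hY.isoPullback.hom ≫ pullback.fst g β = eY := hY.isoPullback_hom_fst
  obtain ⟨p, -, hp⟩ := exists_isPullback_of_fac H3 hX hY.isoPullback.hom ha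
  haveI : IsIso p := hp.isIso_fst_of_isIso
  exact (P.arrow_mk_iso_iff (Arrow.isoMk (asIso p) hY.isoPullback hp.w)).symm

variable {P : ∀ ⦃X Y T : Scheme.{u}⦄, (X ⟶ Y) → (Y ⟶ T) → Prop}

/-- The generic dichotomy can be tested after base change along an open immersion with
nonempty source. -/
theorem dichotomy_of_baseChange_isOpenImmersion (hP : ConsProp.IsFieldStableMor P)
    {X Y S X' Y' S' : Scheme.{u}} (f : X ⟶ Y) (g : Y ⟶ S)
    [LocallyOfFiniteType g] [QuasiCompact g] [LocallyOfFiniteType (f ≫ g)] [QuasiCompact (f ≫ g)]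
    (h : S' ⟶ S) [IsOpenImmersion h] {f' : X' ⟶ Y'} {g' : Y' ⟶ S'} {eX : X' ⟶ X} {eY : Y' ⟶ Y}
    (hY : IsPullback eY g' g h) (hX : IsPullback eX f' f eY)
    (hd : (interior (ConsProp.locusMor P f' g')).Nonempty ∨
      (interior (ConsProp.locusMor P f' g')ᶜ).Nonempty) :
    (interior (ConsProp.locusMor P f g)).Nonempty ∨
      (interior (ConsProp.locusMor P f g)ᶜ).Nonempty := by
  have e := locusMor_baseChange hP f g h hY hX
  rw [e] at hd
  rcases hd with hd | hd
  · exact Or.inl (interior_nonempty_of_preimage_isOpenEmbedding h.isOpenEmbedding hd)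
  · rw [← Set.preimage_compl] at hd
    exact Or.inr (interior_nonempty_of_preimage_isOpenEmbedding h.isOpenEmbedding hd)

end General

section SpecModel

/-- The ring map `R ⟶ κ(s)` for a point `s` of `Spec R`. -/
noncomputable def resMap {R : CommRingCat.{u}} (s : Spec R) : R ⟶ (Spec R).residueField s :=
  Spec.preimage ((Spec R).fromSpecResidueField s)

theorem SpecMap_resMap {R : CommRingCat.{u}} (s : Spec R) :
    Spec.map (resMap s) = (Spec R).fromSpecResidueField s := Spec.map_preimage _

theorem resMap_eq_zero_iff {R : CommRingCat.{u}} (s : Spec R) (a : R) :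
    (resMap s).hom a = 0 ↔ a ∈ (s : PrimeSpectrum R).asIdeal := by
  let pt : Spec ((Spec R).residueField s) := (⊥ : PrimeSpectrum ((Spec R).residueField s))
  have h1 : Spec.map (resMap s) pt = s := by
    rw [SpecMap_resMap]
    exact Scheme.fromSpecResidueField_apply _ _
  have h2 : a ∈ ((Spec.map (resMap s) pt : Spec R) : PrimeSpectrum R).asIdeal ↔
      (resMap s).hom a = 0 := by
    change a ∈ Ideal.comap (resMap s).hom (⊥ : Ideal ((Spec R).residueField s)) ↔ _
    rw [Ideal.mem_comap, Ideal.mem_bot]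
  rw [← h2, h1]

theorem isIso_of_isIso_SpecMap {R S : CommRingCat.{u}} (φ : R ⟶ S) (h : IsIso (Spec.map φ)) :
    IsIso φ := by
  have h' : IsIso (Scheme.Spec.map φ.op) := h
  have : IsIso φ.op := isIso_of_fully_faithful Scheme.Spec φ.op
  exact (isIso_op_iff φ).mp this

section Tensor

variable {R B A L : Type u} [CommRing R] [CommRing B] [CommRing A] [CommRing L] [Algebra R B]
  [Algebra R A] [Algebra R L]

theorem tensorMap_apply_eq_lTensor (φ : B →ₐ[R] A) (z : L ⊗[R] B) :
    Algebra.TensorProduct.map (AlgHom.id R L) φ z = φ.toLinearMap.lTensor L z := by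
  induction z using TensorProduct.induction_on with
  | zero => simp
  | add x y hx hy => rw [map_add, map_add, hx, hy]
  | tmul l b => simp

/-- The fibre map of `Spec A ⟶ Spec B` over `Spec L ⟶ Spec R` is an isomorphism iff
`L ⊗ B ⟶ L ⊗ A` is bijective. -/
theorem isIso_fibreMap_SpecMap_iff (φ : B →ₐ[R] A) :
    IsIso (fibreMap (Spec.map (CommRingCat.ofHom (φ : B →+* A)))
      (Spec.map (CommRingCat.ofHom (algebraMap R B)))
      (Spec.map (CommRingCat.ofHom (algebraMap R L)))) ↔
      Function.Bijective (φ.toLinearMap.lTensor L) := by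
  have sqB := (CommRingCat.isPushout_tensorProduct R L B).flip
  have sqA := (CommRingCat.isPushout_tensorProduct R L A).flip
  let φL : L ⊗[R] B →ₐ[R] L ⊗[R] A := Algebra.TensorProduct.map (AlgHom.id R L) φ
  have e1 : CommRingCat.ofHom (algebraMap R B) ≫ CommRingCat.ofHom (φ : B →+* A) =
      CommRingCat.ofHom (algebraMap R A) := by
    ext r
    exact φ.commutes r
  have e2 : CommRingCat.ofHom (S := L ⊗[R] B) Algebra.TensorProduct.includeLeftRingHom ≫
      CommRingCat.ofHom (φL : L ⊗[R] B →+* L ⊗[R] A) =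
      CommRingCat.ofHom (S := L ⊗[R] A) Algebra.TensorProduct.includeLeftRingHom := by
    ext l
    change φL (l ⊗ₜ[R] 1) = l ⊗ₜ[R] 1
    simp [φL]
  have p : CommRingCat.ofHom (φ : B →+* A) ≫
      CommRingCat.ofHom (S := L ⊗[R] A) (Algebra.TensorProduct.includeRight.toRingHom) =
      CommRingCat.ofHom (S := L ⊗[R] B) (Algebra.TensorProduct.includeRight.toRingHom) ≫
        CommRingCat.ofHom (φL : L ⊗[R] B →+* L ⊗[R] A) := by
    ext b
    change (1 : L) ⊗ₜ[R] φ b = φL (1 ⊗ₜ[R] b)
    simp [φL]
  have s : IsPushout (CommRingCat.ofHom (algebraMap R B) ≫ CommRingCat.ofHom (φ : B →+* A))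
      (CommRingCat.ofHom (algebraMap R L))
      (CommRingCat.ofHom (S := L ⊗[R] A) (Algebra.TensorProduct.includeRight.toRingHom))
      (CommRingCat.ofHom (S := L ⊗[R] B) Algebra.TensorProduct.includeLeftRingHom ≫
        CommRingCat.ofHom (φL : L ⊗[R] B →+* L ⊗[R] A)) := by
    rw [e1, e2]
    exact sqA
  have right := IsPushout.of_left s p sqB
  have hY := isPullback_SpecMap_of_isPushout _ _ _ _ sqB
  have hX := isPullback_SpecMap_of_isPushout _ _ _ _ right
  have h1 := fibreMap_iff_of_isPullback (MorphismProperty.isomorphisms Scheme.{u}) hY hX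
  change IsIso _ ↔ IsIso _ at h1
  rw [h1]
  have h2 : IsIso (Spec.map (CommRingCat.ofHom (φL : L ⊗[R] B →+* L ⊗[R] A))) ↔
      Function.Bijective φL := by
    have h4 := ConcreteCategory.isIso_iff_bijective
      (CommRingCat.ofHom (φL : L ⊗[R] B →+* L ⊗[R] A))
    constructor
    · intro h
      exact h4.mp (isIso_of_isIso_SpecMap _ h)
    · intro h
      haveI := h4.mpr h
      infer_instance
  rw [h2]
  have h3 : (φL : L ⊗[R] B → L ⊗[R] A) = φ.toLinearMap.lTensor L :=
    funext (tensorMap_apply_eq_lTensor φ)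
  rw [h3]

end Tensor

theorem iso_core_spec {R B A : CommRingCat.{u}} [IsDomain R] [IsNoetherianRing R] (γ : R ⟶ B)
    (φ : B ⟶ A) (hγ : γ.hom.FiniteType) (hφ : Function.Surjective φ.hom) :
    (interior (ConsProp.locusMor (fun _ _ _ f _ => IsIso f) (Spec.map φ) (Spec.map γ))).Nonempty ∨
      (interior (ConsProp.locusMor (fun _ _ _ f _ => IsIso f) (Spec.map φ)
        (Spec.map γ))ᶜ).Nonempty := by
  letI : Algebra R B := γ.hom.toAlgebra
  letI : Algebra R A := (γ ≫ φ).hom.toAlgebra
  haveI : Algebra.FiniteType R B := hγ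
  haveI : IsNoetherianRing B := Algebra.FiniteType.isNoetherianRing R B
  let φa : B →ₐ[R] A := ⟨φ.hom, fun r => rfl⟩
  obtain ⟨a, ha, halt⟩ := exists_lTensor_injective_dichotomy_of_surjective φa hφ
  have key : ∀ s : Spec R, a ∉ (s : PrimeSpectrum R).asIdeal →
      ∃ _ : Algebra R ((Spec R).residueField s),
      (s ∈ ConsProp.locusMor (fun _ _ _ f _ => IsIso f) (Spec.map φ) (Spec.map γ) ↔
        Function.Injective (φa.toLinearMap.lTensor ((Spec R).residueField s))) ∧
        IsUnit (algebraMap R ((Spec R).residueField s) a) := by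
    intro s hs
    letI : Algebra R ((Spec R).residueField s) := (resMap s).hom.toAlgebra
    refine ⟨(resMap s).hom.toAlgebra, ?_, ?_⟩
    · have h0 : s ∈ ConsProp.locusMor (fun _ _ _ f _ => IsIso f) (Spec.map φ) (Spec.map γ) ↔
          IsIso (fibreMap (Spec.map φ) (Spec.map γ) ((Spec R).fromSpecResidueField s)) := Iff.rfl
      rw [h0, ← SpecMap_resMap]
      have h1 := isIso_fibreMap_SpecMap_iff (L := (Spec R).residueField s) φa
      have h2 : Function.Surjective (φa.toLinearMap.lTensor ((Spec R).residueField s)) :=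
        LinearMap.lTensor_surjective _ hφ
      exact h1.trans ⟨fun h => h.1, fun h => ⟨h, h2⟩⟩
    · have : (resMap s).hom a ≠ 0 := fun h0 => hs ((resMap_eq_zero_iff s a).mp h0)
      exact this.isUnit
  let O : (Spec R).Opens := PrimeSpectrum.basicOpen a
  have hO : (O : Set (Spec R)).Nonempty := by
    refine ⟨(⟨⊥, Ideal.isPrime_bot⟩ : PrimeSpectrum R), ?_⟩
    change a ∉ (⊥ : Ideal R)
    rwa [Ideal.mem_bot]
  rcases halt with h | h
  · left
    refine hO.mono (interior_maximal ?_ O.2)
    intro s hs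
    obtain ⟨inst, hk1, hk2⟩ := key s hs
    exact hk1.mpr (h _ hk2)
  · right
    refine hO.mono (interior_maximal ?_ O.2)
    intro s hs hmem
    obtain ⟨inst, hk1, hk2⟩ := key s hs
    exact h _ hk2 (hk1.mp hmem)

end SpecModel

section Main

theorem isFieldStableMor_isIso :
    ConsProp.IsFieldStableMor.{u} (fun _ _ _ f _ => IsIso f) :=
  isFieldStableMor_of_descendsAlong (MorphismProperty.isomorphisms Scheme.{u})

theorem iso_core ⦃X Y S : Scheme.{u}⦄ (f : X ⟶ Y) (g : Y ⟶ S) [IsIntegral S] [IsNoetherian S]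
    [IsAffine S] [IsAffine Y] [LocallyOfFiniteType g] [QuasiCompact g]
    [LocallyOfFiniteType (f ≫ g)] [QuasiCompact (f ≫ g)] (hQ : IsClosedImmersion f) :
    (interior (ConsProp.locusMor (fun _ _ _ f _ => IsIso f) f g)).Nonempty ∨
      (interior (ConsProp.locusMor (fun _ _ _ f _ => IsIso f) f g)ᶜ).Nonempty := by
  haveI : IsAffine X := isAffine_of_isAffineHom f
  haveI : IsDomain Γ(S, ⊤) := inferInstance
  haveI : IsNoetherianRing Γ(S, ⊤) :=
    IsLocallyNoetherian.component_noetherian ⟨⊤, isAffineOpen_top S⟩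
  have hγ : g.appTop.hom.FiniteType :=
    (HasRingHomProperty.iff_of_isAffine (P := @LocallyOfFiniteType)).mp inferInstance
  have hφ : Function.Surjective f.appTop.hom :=
    (IsClosedImmersion.isAffine_surjective_of_isAffine f).2
  have hY : IsPullback Y.isoSpec.inv (Spec.map g.appTop) g S.isoSpec.inv :=
    IsPullback.of_horiz_isIso ⟨(Scheme.isoSpec_inv_naturality g).symm⟩
  have hX : IsPullback X.isoSpec.inv (Spec.map f.appTop) f Y.isoSpec.inv :=
    IsPullback.of_horiz_isIso ⟨(Scheme.isoSpec_inv_naturality f).symm⟩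
  exact dichotomy_of_baseChange_isOpenImmersion isFieldStableMor_isIso f g S.isoSpec.inv hY hX
    (iso_core_spec g.appTop f.appTop hγ hφ)

/-- Being an isomorphism is a constructible property of morphisms of algebraic schemes. -/
theorem isConsMor_isIso : ConsProp.IsConsMor.{u} (fun _ _ _ f _ => IsIso f) :=
  isConsMor_of_affine_core (MorphismProperty.isomorphisms Scheme.{u}) @IsClosedImmersion
    isFieldStableMor_isIso isConsMor_isClosedImmersion descends_isClosedImmersion
    (fun _ _ f (_ : IsIso f) => inferInstance)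
    (fun _ _ _ f g _ _ _ _ _ _ _ _ hQ => iso_core f g hQ)

end Main

end Groth.Agent.Lib.Helper23
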