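import Mathlib
import Groth.Prelude.Def_CAlgX

/-!
# Essentially finitely presented algebras (`CAlgX.IsEssFinitePresentation`)

* `essFP_quotient`: quotient of an ess. f.p. algebra by a f.g. ideal is ess. f.p.
* `isNoetherianRing_quotient_of_essFP`: the fibre over a maximal ideal is Noetherian.
* `exists_local_essFP_surjection`: a local ring essentially of finite type over `A` is a quotient of a
  local ring essentially of finite presentation.
-/

set_option autoImplicit false
universe u

namespace Groth.Agent.Lib.Helper23.EssFP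

open CAlgX

section Quotient

variable {A B : Type u} [CommRing A] [CommRing B] [Algebra A B]

/-- The quotient of an essentially finitely presented algebra by a finitely generated ideal is
essentially finitely presented. -/
theorem essFP_quotient (hB : IsEssFinitePresentation A B) (K : Ideal B) (hK : K.FG) :
    IsEssFinitePresentation A (B ⧸ K) := by
  obtain ⟨S₀, _, _, _, _, M, hfp, hloc⟩ := hB
  -- write `K` as the extension of a finitely generated ideal of `S₀`
  obtain ⟨J, hJ, hJK⟩ : ∃ J : Ideal S₀, J.FG ∧ K = J.map (algebraMap S₀ B) := by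
    obtain ⟨s, hs⟩ := hK
    classical
    have hch : ∀ b : B, ∃ (x : S₀) (m : M), b * algebraMap S₀ B m = algebraMap S₀ B x := by
      intro b
      obtain ⟨⟨x, m⟩, h⟩ := IsLocalization.surj M b
      exact ⟨x, m, h⟩
    choose x m hxm using hch
    refine ⟨Ideal.span (s.image x : Set S₀), ⟨s.image x, rfl⟩, ?_⟩
    rw [Ideal.map_span, ← hs]
    apply le_antisymm
    · rw [Ideal.span_le]
      intro b hb
      have hu : IsUnit (algebraMap S₀ B (m b)) := IsLocalization.map_units B (m b)
      have h1 : algebraMap S₀ B (x b) ∈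
          Ideal.span ((algebraMap S₀ B) '' ((s.image x : Finset S₀) : Set S₀)) := by
        apply Ideal.subset_span
        exact ⟨x b, by simpa using ⟨b, hb, rfl⟩, rfl⟩
      rw [← hxm b] at h1
      have h2 := Ideal.mul_mem_right (↑hu.unit⁻¹ : B) _ h1
      rwa [mul_assoc, IsUnit.mul_val_inv, mul_one] at h2
    · rw [Ideal.span_le]
      rintro _ ⟨y, hy, rfl⟩
      simp only [Finset.coe_image, Set.mem_image, Finset.mem_coe] at hy
      obtain ⟨b, hb, rfl⟩ := hy
      rw [← hxm b]
      exact Ideal.mul_mem_right _ _ (Ideal.subset_span hb)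
  subst hJK
  haveI : Algebra.FinitePresentation A S₀ := hfp
  refine ⟨S₀ ⧸ J, inferInstance, inferInstance, inferInstance, ?_,
    Algebra.algebraMapSubmonoid (S₀ ⧸ J) M, Algebra.FinitePresentation.quotient hJ,
    inferInstance⟩
  refine IsScalarTower.of_algebraMap_eq fun a => ?_
  rw [IsScalarTower.algebraMap_apply A S₀ (S₀ ⧸ J), IsScalarTower.algebraMap_apply A B (B ⧸ _),
    IsScalarTower.algebraMap_apply A S₀ B]
  rfl

theorem essFiniteType_of_essFP (hB : IsEssFinitePresentation A B) : Algebra.EssFiniteType A B := by
  obtain ⟨S₀, _, _, _, _, M, hfp, hloc⟩ := hB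
  haveI : Algebra.FinitePresentation A S₀ := hfp
  haveI : Algebra.EssFiniteType S₀ B := Algebra.EssFiniteType.of_isLocalization B M
  exact Algebra.EssFiniteType.comp A S₀ B

/-- The fibre of an essentially finitely presented algebra over a maximal ideal is Noetherian. -/
theorem isNoetherianRing_quotient_of_essFP (hB : IsEssFinitePresentation A B) (m : Ideal A)
    [m.IsMaximal] : IsNoetherianRing (B ⧸ m.map (algebraMap A B)) := by
  haveI := essFiniteType_of_essFP hB
  haveI : Algebra.FiniteType B (B ⧸ m.map (algebraMap A B)) :=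
    Algebra.FiniteType.of_surjective (Algebra.ofId B _) Ideal.Quotient.mk_surjective
  haveI : Algebra.EssFiniteType A (B ⧸ m.map (algebraMap A B)) :=
    Algebra.EssFiniteType.comp A B _
  haveI : Algebra.EssFiniteType (A ⧸ m) (B ⧸ m.map (algebraMap A B)) :=
    Algebra.EssFiniteType.of_comp A (A ⧸ m) _
  letI : Field (A ⧸ m) := Ideal.Quotient.field m
  exact Algebra.EssFiniteType.isNoetherianRing (A ⧸ m) _

end Quotient

section Surjection

variable {A S : Type u} [CommRing A] [CommRing S] [Algebra A S] [IsLocalRing S]

/-- A local ring essentially of finite type over `A` is a quotient of a local ring essentially of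
finite presentation over `A` (a localisation of a polynomial ring at a prime). -/
theorem exists_local_essFP_surjection [Algebra.EssFiniteType A S] :
    ∃ (B : Type u) (_ : CommRing B) (_ : IsLocalRing B) (_ : Algebra A B)
      (_ : IsEssFinitePresentation A B) (θ : B →ₐ[A] S), Function.Surjective θ := by
  obtain ⟨σ, hσ⟩ := (Algebra.essFiniteType_iff A S).mp inferInstance
  let P := MvPolynomial (σ : Set S) A
  let θ₀ : P →ₐ[A] S := MvPolynomial.aeval (fun x : ↥(σ : Set S) => (x : S))
  have hrange : ∀ t : S, t ∈ Algebra.adjoin A (σ : Set S) ↔ ∃ c : P, θ₀ c = t := by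
    intro t
    rw [Algebra.adjoin_eq_range]
    exact AlgHom.mem_range _
  let q : Ideal P := (IsLocalRing.maximalIdeal S).comap θ₀
  haveI : q.IsPrime := Ideal.comap_isPrime _ _
  have hunit : ∀ y : q.primeCompl, IsUnit (θ₀ y) := by
    intro y
    by_contra h
    exact y.2 ((IsLocalRing.mem_maximalIdeal _).mpr h)
  refine ⟨Localization.AtPrime q, inferInstance, inferInstance, inferInstance,
    ⟨P, inferInstance, inferInstance, inferInstance, inferInstance, q.primeCompl, inferInstance,
      inferInstance⟩, IsLocalization.liftAlgHom (M := q.primeCompl) (f := θ₀) hunit, ?_⟩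
  intro t
  obtain ⟨v, hv, hvu, htv⟩ := hσ t
  obtain ⟨v, rfl⟩ := (hrange v).mp hv
  obtain ⟨c, hc⟩ := (hrange _).mp htv
  have hvq : v ∈ q.primeCompl := by
    intro hmem
    exact (IsLocalRing.mem_maximalIdeal _).mp hmem hvu
  refine ⟨IsLocalization.mk' _ c ⟨v, hvq⟩, ?_⟩
  rw [IsLocalization.coe_liftAlgHom, IsLocalization.lift_mk'_spec]
  simp only [AlgHom.toRingHom_eq_coe, RingHom.coe_coe]
  rw [hc, mul_comm]

end Surjection

end Groth.Agent.Lib.Helper23.EssFP
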