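import Mathlib
import Groth.Prelude.Def_CAlgX
import Groth.Agent.Lib.Helper23.EssFP

/-!
# Stalk maps of morphisms locally of finite presentation are essentially finitely presented
-/

set_option autoImplicit false
universe u

namespace Groth.Agent.Lib.Helper23.EssFPStalk

open CAlgX AlgebraicGeometry

/-- `CAlgX.IsEssFinitePresentation` as a property of ring homomorphisms. -/
def EssFP {R S : Type u} [CommRing R] [CommRing S] (f : R →+* S) : Prop :=
  letI := f.toAlgebra
  IsEssFinitePresentation R S

theorem essFP_respectsIso : RingHom.RespectsIso @EssFP := by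
  constructor
  · intro R S T _ _ _ f e hf
    letI := f.toAlgebra
    letI algRT : Algebra R T := (e.toRingHom.comp f).toAlgebra
    obtain ⟨S₀, _, _, _, _, N, hfp, hloc⟩ := hf
    letI algS₀T : Algebra S₀ T := (e.toRingHom.comp (algebraMap S₀ S)).toAlgebra
    haveI : IsScalarTower R S₀ T := by
      refine IsScalarTower.of_algebraMap_eq fun a => ?_
      show e (f a) = e (algebraMap S₀ S (algebraMap R S₀ a))
      rw [← IsScalarTower.algebraMap_apply R S₀ S]
      rfl
    refine ⟨S₀, inferInstance, inferInstance, algS₀T, inferInstance, N, hfp, ?_⟩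
    let e' : S ≃ₐ[S₀] T := { e with commutes' := fun r => rfl }
    exact IsLocalization.isLocalization_of_algEquiv N e'
  · intro R S T _ _ _ f e hf
    letI := f.toAlgebra
    letI algRT : Algebra R T := (f.comp e.toRingHom).toAlgebra
    obtain ⟨S₀, _, algSS₀, _, _, N, hfp, hloc⟩ := hf
    letI algRS₀ : Algebra R S₀ := ((algebraMap S S₀).comp e.toRingHom).toAlgebra
    haveI : IsScalarTower R S₀ T := by
      refine IsScalarTower.of_algebraMap_eq fun a => ?_
      show f (e a) = algebraMap S₀ T (algebraMap S S₀ (e a))
      rw [← IsScalarTower.algebraMap_apply S S₀ T]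
      rfl
    refine ⟨S₀, inferInstance, algRS₀, inferInstance, inferInstance, N, ?_, hloc⟩
    have h1 : (algebraMap S S₀).FinitePresentation := RingHom.finitePresentation_algebraMap.mpr hfp
    have h2 : (e.toRingHom).FinitePresentation :=
      RingHom.FinitePresentation.of_surjective _ e.surjective (by
        have : RingHom.ker e.toRingHom = ⊥ := (RingHom.injective_iff_ker_eq_bot _).mp e.injective
        rw [this]
        exact Submodule.fg_bot)
    exact h1.comp h2

open TensorProduct in
attribute [local instance] Algebra.TensorProduct.rightAlgebra in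
theorem essFP_localRingHom {R S : Type u} [CommRing R] [CommRing S] (f : R →+* S)
    (hf : f.FinitePresentation) (J : Ideal S) [J.IsPrime] :
    EssFP (Localization.localRingHom (J.comap f) J f rfl) := by
  letI algRS : Algebra R S := f.toAlgebra
  haveI : Algebra.FinitePresentation R S := hf
  set p := J.comap f with hp
  letI algAT : Algebra (Localization.AtPrime p) (Localization.AtPrime J) :=
    (Localization.localRingHom p J f rfl).toAlgebra
  haveI : IsScalarTower R (Localization.AtPrime p) (Localization.AtPrime J) := by
    refine IsScalarTower.of_algebraMap_eq fun r => ?_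
    show _ = Localization.localRingHom p J f rfl (algebraMap R _ r)
    rw [Localization.localRingHom_to_map, IsScalarTower.algebraMap_apply R S (Localization.AtPrime J)]
    rfl
  let g : (Localization.AtPrime p) ⊗[R] S →ₐ[Localization.AtPrime p] Localization.AtPrime J :=
    Algebra.TensorProduct.lift (Algebra.ofId _ _) (IsScalarTower.toAlgHom R S _)
      (fun _ _ => Commute.all _ _)
  letI algS₀T : Algebra ((Localization.AtPrime p) ⊗[R] S) (Localization.AtPrime J) :=
    g.toRingHom.toAlgebra
  haveI : IsScalarTower (Localization.AtPrime p) ((Localization.AtPrime p) ⊗[R] S)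
      (Localization.AtPrime J) :=
    IsScalarTower.of_algebraMap_eq fun a => (g.commutes a).symm
  haveI : IsScalarTower S ((Localization.AtPrime p) ⊗[R] S) (Localization.AtPrime J) := by
    refine IsScalarTower.of_algebraMap_eq fun s => ?_
    show _ = g (1 ⊗ₜ s)
    simp [g]
  have hle : Algebra.algebraMapSubmonoid S p.primeCompl ≤ J.primeCompl := by
    rintro _ ⟨r, hr, rfl⟩
    exact hr
  haveI : IsLocalization (Algebra.algebraMapSubmonoid S p.primeCompl)
      ((Localization.AtPrime p) ⊗[R] S) := IsLocalization.tensorRight _ p.primeCompl
  exact ⟨(Localization.AtPrime p) ⊗[R] S, inferInstance, inferInstance, algS₀T, inferInstance,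
    J.primeCompl.map (algebraMap S ((Localization.AtPrime p) ⊗[R] S)), inferInstance,
    IsLocalization.isLocalization_of_submonoid_le _ _
      (Algebra.algebraMapSubmonoid S p.primeCompl) J.primeCompl hle⟩

theorem essFP_localRingHom' {R S : Type u} [CommRing R] [CommRing S] (f : R →+* S)
    (hf : f.FinitePresentation) (J : Ideal S) [J.IsPrime] (I : Ideal R) [I.IsPrime]
    (hIJ : I = J.comap f) : EssFP (Localization.localRingHom I J f hIJ) := by
  subst hIJ
  exact essFP_localRingHom f hf J

theorem essFiniteType_localRingHom {R S : Type u} [CommRing R] [CommRing S] (f : R →+* S)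
    (hf : f.FiniteType) (J : Ideal S) [J.IsPrime] (I : Ideal R) [I.IsPrime]
    (hIJ : I = J.comap f) : (Localization.localRingHom I J f hIJ).EssFiniteType := by
  subst hIJ
  exact RingHom.EssFiniteType.holdsForLocalization.localRingHom
    RingHom.EssFiniteType.stableUnderComposition
    RingHom.EssFiniteType.isStableUnderBaseChange.localizationPreserves _
    (RingHom.FiniteType.essFiniteType hf)

/-- The stalk maps of a morphism locally of finite presentation are essentially finitely
presented. -/
theorem essFP_stalkMap {X Y : Scheme.{u}} (h : X ⟶ Y) [LocallyOfFinitePresentation h] (x : X) :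
    EssFP (h.stalkMap x).hom :=
  HasRingHomProperty.stalkMap_of_respectsIso (P := @LocallyOfFinitePresentation)
    essFP_respectsIso (fun f hf J _ => essFP_localRingHom f hf J) ‹_› x

end Groth.Agent.Lib.Helper23.EssFPStalk
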