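import Mathlib
import Groth.Prelude.Def_CAlgX
import Groth.Agent.Lib.Helper23.EssFP
import Groth.Agent.S2107

/-!
# Critère de platitude par fibres, essentially finite type version (Stacks 10.128.9)

`R → S → S'` local homomorphisms of local rings, `S` essentially of finite **type** over `R`, `S'`
essentially of finite presentation over `R`, `M` a nonzero f.p. `S'`-module flat over `R` with
`M/𝔪M` flat over `S/𝔪S`. Then `S` is flat and essentially of finite presentation over `R` and `M`
is flat over `S`.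

The essentially finitely presented case (`S2106`) is taken as a hypothesis `FibreCritFP`.
-/

set_option autoImplicit false
universe u

namespace Groth.Agent.Lib.Helper23.FibreCritFT

open CAlgX IsLocalRing Groth.Agent.Lib.Helper23.EssFP

/-- The statement of the fibre criterion for essentially finitely presented local algebras
(statement `S2106`). -/
def FibreCritFP : Prop :=
  ∀ {R S S' M : Type u} [CommRing R] [CommRing S] [CommRing S']
    [IsLocalRing R] [IsLocalRing S] [IsLocalRing S'] [Algebra R S] [Algebra S S'] [Algebra R S']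
    [IsScalarTower R S S'] [IsLocalHom (algebraMap R S)] [IsLocalHom (algebraMap S S')]
    (_ : CAlgX.IsEssFinitePresentation R S) (_ : CAlgX.IsEssFinitePresentation R S')
    [AddCommGroup M] [Module S' M] [Module S M] [Module R M] [IsScalarTower S S' M]
    [IsScalarTower R S' M] [IsScalarTower R S M] [Module.FinitePresentation S' M] [Nontrivial M]
    [Module.Flat R M]
    (_ : Module.Flat (S ⧸ (IsLocalRing.maximalIdeal R).map (algebraMap R S))
      (M ⧸ (IsLocalRing.maximalIdeal R).map (algebraMap R S) • (⊤ : Submodule S M))),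
    Module.Flat R S ∧ Module.Flat S M

section Semilinear

/-- Flatness transfers along a semilinear additive equivalence over a bijective ring map. -/
theorem flat_of_semilinearEquiv {R₁ R₂ M₁ M₂ : Type*} [CommRing R₁] [CommRing R₂]
    [AddCommGroup M₁] [AddCommGroup M₂] [Module R₁ M₁] [Module R₂ M₂]
    (e : R₁ →+* R₂) (he : Function.Bijective e) (σ : M₁ ≃+ M₂)
    (hσ : ∀ (r : R₁) (x : M₁), σ (r • x) = e r • σ x) [Module.Flat R₂ M₂] :
    Module.Flat R₁ M₁ := by
  letI : Module R₁ M₂ := Module.compHom M₂ e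
  letI : Algebra R₁ R₂ := e.toAlgebra
  haveI : IsScalarTower R₁ R₂ M₂ := IsScalarTower.of_algebraMap_smul fun r x => rfl
  let σ' : M₁ ≃ₗ[R₁] M₂ := { σ with map_smul' := fun r x => hσ r x }
  haveI : Module.Flat R₁ R₂ :=
    Module.Flat.of_linearEquiv (LinearEquiv.ofBijective (Algebra.linearMap R₁ R₂) he).symm
  haveI : Module.Flat R₁ M₂ := Module.Flat.trans R₁ R₂ M₂
  exact Module.Flat.of_linearEquiv σ'

end Semilinear

section Transfer

variable {A D S M : Type u} [CommRing A] [CommRing D] [CommRing S] [Algebra A D] [Algebra A S]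
  [Algebra D S] [IsScalarTower A D S] [AddCommGroup M] [Module D M] [Module S M]
  [IsScalarTower D S M]

theorem smul_top_restrictScalars (𝔞 : Ideal D) (hsurj : Function.Surjective (algebraMap D S)) :
    ((𝔞.map (algebraMap D S)) • (⊤ : Submodule S M)).restrictScalars D =
      𝔞 • (⊤ : Submodule D M) := by
  apply le_antisymm
  · intro x hx
    rw [Submodule.restrictScalars_mem] at hx
    refine Submodule.smul_induction_on hx ?_ ?_
    · intro b hb y _
      obtain ⟨a, ha, rfl⟩ := (Ideal.mem_map_iff_of_surjective _ hsurj).mp hb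
      rw [algebraMap_smul]
      exact Submodule.smul_mem_smul ha Submodule.mem_top
    · intro x y hx hy
      exact add_mem hx hy
  · rw [Submodule.smul_le]
    intro a ha x _
    rw [Submodule.restrictScalars_mem, ← algebraMap_smul S a x]
    exact Submodule.smul_mem_smul (Ideal.mem_map_of_mem _ ha) Submodule.mem_top

/-- Transfer of fibre flatness along a surjection `D → S` with kernel in `𝔪D`. -/
theorem flat_fibre_of_surjective (m : Ideal A) (hsurj : Function.Surjective (algebraMap D S))
    (hker : RingHom.ker (algebraMap D S) ≤ m.map (algebraMap A D))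
    (h : Module.Flat (S ⧸ m.map (algebraMap A S))
      (M ⧸ m.map (algebraMap A S) • (⊤ : Submodule S M))) :
    Module.Flat (D ⧸ m.map (algebraMap A D))
      (M ⧸ m.map (algebraMap A D) • (⊤ : Submodule D M)) := by
  set 𝔞 := m.map (algebraMap A D) with h𝔞
  set 𝔟 := m.map (algebraMap A S) with h𝔟
  have hab : 𝔟 = 𝔞.map (algebraMap D S) := by
    rw [h𝔞, h𝔟, Ideal.map_map, ← IsScalarTower.algebraMap_eq]
  have hle : 𝔞 ≤ 𝔟.comap (algebraMap D S) := by
    rw [hab]
    exact Ideal.le_comap_map
  let e : D ⧸ 𝔞 →+* S ⧸ 𝔟 := Ideal.quotientMap 𝔟 (algebraMap D S) hle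
  have he : Function.Bijective e := by
    constructor
    · rw [injective_iff_map_eq_zero]
      intro x hx
      obtain ⟨d, rfl⟩ := Ideal.Quotient.mk_surjective x
      rw [Ideal.quotientMap_mk, Ideal.Quotient.eq_zero_iff_mem, hab] at hx
      obtain ⟨a, ha, hda⟩ := (Ideal.mem_map_iff_of_surjective _ hsurj).mp hx
      rw [Ideal.Quotient.eq_zero_iff_mem]
      have h1 : d - a ∈ RingHom.ker (algebraMap D S) := by
        rw [RingHom.mem_ker, map_sub, hda, sub_self]
      have h2 := add_mem (hker h1) ha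
      rwa [sub_add_cancel] at h2
    · exact Ideal.quotientMap_surjective hsurj
  have hsub : 𝔞 • (⊤ : Submodule D M) = (𝔟 • (⊤ : Submodule S M)).restrictScalars D := by
    rw [hab]
    exact (smul_top_restrictScalars 𝔞 hsurj).symm
  let σ : (M ⧸ 𝔞 • (⊤ : Submodule D M)) ≃ₗ[D] (M ⧸ 𝔟 • (⊤ : Submodule S M)) :=
    (Submodule.quotEquivOfEq _ _ hsub).trans
      (Submodule.Quotient.restrictScalarsEquiv D (𝔟 • (⊤ : Submodule S M)))
  haveI := h
  refine flat_of_semilinearEquiv e he σ.toAddEquiv ?_
  intro r x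
  obtain ⟨d, rfl⟩ := Ideal.Quotient.mk_surjective r
  obtain ⟨y, rfl⟩ := Submodule.Quotient.mk_surjective _ x
  have h1 : (Ideal.Quotient.mk 𝔞 d) • (Submodule.Quotient.mk y : M ⧸ 𝔞 • (⊤ : Submodule D M)) =
      Submodule.Quotient.mk (d • y) := rfl
  have h2 : ∀ z : M, σ.toAddEquiv (Submodule.Quotient.mk z) = Submodule.Quotient.mk z := fun z => rfl
  have h3 : (Ideal.Quotient.mk 𝔟 (algebraMap D S d)) •
      (Submodule.Quotient.mk y : M ⧸ 𝔟 • (⊤ : Submodule S M)) =
      Submodule.Quotient.mk (algebraMap D S d • y) := rfl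
  rw [h1, h2, h2]
  show _ = (Ideal.Quotient.mk 𝔟 (algebraMap D S d)) • _
  rw [h3, algebraMap_smul]

end Transfer

section Core

variable {A S C M : Type u} [CommRing A] [CommRing S] [CommRing C] [IsLocalRing A]
  [IsLocalRing S] [IsLocalRing C] [Algebra A S] [Algebra S C] [Algebra A C] [IsScalarTower A S C]
  [IsLocalHom (algebraMap A S)] [IsLocalHom (algebraMap S C)]
  [AddCommGroup M] [Module C M] [Module S M] [Module A M] [IsScalarTower S C M]
  [IsScalarTower A C M] [IsScalarTower A S M]
  [Module.FinitePresentation C M] [Nontrivial M] [Module.Flat A M]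

omit [IsLocalRing C] [IsLocalHom (algebraMap S C)] [Module.FinitePresentation C M] [Nontrivial M]
  [Module.Flat A M] [IsScalarTower A S C] [IsScalarTower S C M] [IsScalarTower A C M]
  [IsLocalRing A] [IsLocalRing S] in
theorem isLocalHom_of_tower {D : Type u} [CommRing D] [Algebra A D] [Algebra D S]
    [IsScalarTower A D S] : IsLocalHom (algebraMap A D) := by
  constructor
  intro a ha
  have h1 : IsUnit (algebraMap A S a) := by
    rw [IsScalarTower.algebraMap_apply A D S]
    exact ha.map _
  exact isUnit_of_map_unit (algebraMap A S) a h1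

/-- The finitely presented fibre criterion applied to an essentially finitely presented local
algebra `D` surjecting onto `S` with kernel in `𝔪D`. -/
theorem flat_of_surjection (H : FibreCritFP.{u}) (hC : IsEssFinitePresentation A C)
    (hfib : Module.Flat (S ⧸ (maximalIdeal A).map (algebraMap A S))
      (M ⧸ (maximalIdeal A).map (algebraMap A S) • (⊤ : Submodule S M)))
    {D : Type u} [CommRing D] [IsLocalRing D] [Algebra A D] [Algebra D S] [IsScalarTower A D S]
    [Module D M] [IsScalarTower D S M]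
    (hD : IsEssFinitePresentation A D) (hsurj : Function.Surjective (algebraMap D S))
    (hker : RingHom.ker (algebraMap D S) ≤ (maximalIdeal A).map (algebraMap A D)) :
    Module.Flat A D ∧ Module.Flat D M := by
  letI algDC : Algebra D C := ((algebraMap S C).comp (algebraMap D S)).toAlgebra
  haveI : IsScalarTower D S C := IsScalarTower.of_algebraMap_eq' rfl
  haveI : IsScalarTower A D C := by
    refine IsScalarTower.of_algebraMap_eq fun a => ?_
    rw [IsScalarTower.algebraMap_apply A S C, IsScalarTower.algebraMap_apply A D S]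
    rfl
  haveI : IsScalarTower D C M := by
    refine ⟨fun d c x => ?_⟩
    rw [Algebra.smul_def, mul_smul, IsScalarTower.algebraMap_apply D S C,
      algebraMap_smul C (algebraMap D S d), algebraMap_smul S d]
  haveI : IsScalarTower A D M := by
    refine ⟨fun a d x => ?_⟩
    rw [← algebraMap_smul S (a • d) x, ← algebraMap_smul S d x, Algebra.smul_def, map_mul,
      ← IsScalarTower.algebraMap_apply A D S, mul_smul, algebraMap_smul]
  haveI : IsLocalHom (algebraMap A D) := isLocalHom_of_tower (S := S)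
  haveI : IsLocalHom (algebraMap D S) := IsLocalHom.of_surjective _ hsurj
  haveI : IsLocalHom (algebraMap D C) := by
    show IsLocalHom ((algebraMap S C).comp (algebraMap D S))
    exact RingHom.isLocalHom_comp _ _
  have hfibD := flat_fibre_of_surjective (M := M) (maximalIdeal A) hsurj hker hfib
  exact H hD hC hfibD

/-- The quotient `B ⧸ K` of an essentially finitely presented local algebra `B` surjecting onto
`S`, for `K` finitely generated with `K ≤ ker θ ≤ K + 𝔪B`, is flat over `A` and `M` is flat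
over it. -/
theorem flat_quotient (H : FibreCritFP.{u}) (hC : IsEssFinitePresentation A C)
    (hfib : Module.Flat (S ⧸ (maximalIdeal A).map (algebraMap A S))
      (M ⧸ (maximalIdeal A).map (algebraMap A S) • (⊤ : Submodule S M)))
    {B : Type u} [CommRing B] [IsLocalRing B] [Algebra A B] (hB : IsEssFinitePresentation A B)
    (θ : B →ₐ[A] S) (hθ : Function.Surjective θ) (K : Ideal B) (hKfg : K.FG)
    (hK : K ≤ RingHom.ker θ)
    (hK' : RingHom.ker θ ≤ K ⊔ (maximalIdeal A).map (algebraMap A B)) :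
    letI algDS : Algebra (B ⧸ K) S :=
      (Ideal.Quotient.lift K θ.toRingHom (fun a ha => hK ha)).toAlgebra
    letI modDM : Module (B ⧸ K) M := Module.compHom M (algebraMap (B ⧸ K) S)
    Module.Flat A (B ⧸ K) ∧ Module.Flat (B ⧸ K) M := by
  letI algDS : Algebra (B ⧸ K) S :=
    (Ideal.Quotient.lift K θ.toRingHom (fun a ha => hK ha)).toAlgebra
  letI modDM : Module (B ⧸ K) M := Module.compHom M (algebraMap (B ⧸ K) S)
  haveI : IsScalarTower (B ⧸ K) S M := IsScalarTower.of_algebraMap_smul fun r x => rfl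
  haveI : IsScalarTower A (B ⧸ K) S := by
    refine IsScalarTower.of_algebraMap_eq fun a => ?_
    rw [IsScalarTower.algebraMap_apply A B (B ⧸ K)]
    exact (θ.commutes a).symm
  have hne : K ≠ ⊤ := by
    intro h
    have h1 : (1 : B) ∈ RingHom.ker θ := hK (h ▸ Submodule.mem_top)
    rw [RingHom.mem_ker, map_one] at h1
    exact one_ne_zero h1
  haveI : Nontrivial (B ⧸ K) := Ideal.Quotient.nontrivial_iff.mpr hne
  haveI : IsLocalRing (B ⧸ K) :=
    IsLocalRing.of_surjective' (Ideal.Quotient.mk K) Ideal.Quotient.mk_surjective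
  have hsurj : Function.Surjective (algebraMap (B ⧸ K) S) := by
    intro t
    obtain ⟨b, rfl⟩ := hθ t
    exact ⟨Ideal.Quotient.mk K b, rfl⟩
  have hker : RingHom.ker (algebraMap (B ⧸ K) S) ≤
      (maximalIdeal A).map (algebraMap A (B ⧸ K)) := by
    intro x hx
    obtain ⟨b, rfl⟩ := Ideal.Quotient.mk_surjective x
    have hb : b ∈ RingHom.ker θ := hx
    obtain ⟨k, hk, c, hc, rfl⟩ := Submodule.mem_sup.mp (hK' hb)
    rw [map_add, Ideal.Quotient.eq_zero_iff_mem.mpr hk, zero_add,
      IsScalarTower.algebraMap_eq A B (B ⧸ K), ← Ideal.map_map]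
    exact Ideal.mem_map_of_mem _ hc
  exact flat_of_surjection H hC hfib (essFP_quotient hB K hKfg) hsurj hker

omit [IsLocalRing A] [IsLocalRing S] [IsLocalRing C] [Algebra S C] [Algebra A C]
  [IsScalarTower A S C] [IsLocalHom (algebraMap A S)] [IsLocalHom (algebraMap S C)]
  [AddCommGroup M] [Module C M] [Module S M] [Module A M] [IsScalarTower S C M]
  [IsScalarTower A C M] [IsScalarTower A S M] [Module.FinitePresentation C M] [Nontrivial M]
  [Module.Flat A M] [Algebra A S] [CommRing A] [CommRing S] [CommRing C] in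
theorem exists_fg_le_sup {B : Type u} [CommRing B] (𝔪 : Ideal B) [IsNoetherianRing (B ⧸ 𝔪)]
    (I : Ideal B) : ∃ K : Ideal B, K.FG ∧ K ≤ I ∧ I ≤ K ⊔ 𝔪 := by
  classical
  obtain ⟨s, hs⟩ := (isNoetherianRing_iff_ideal_fg (B ⧸ 𝔪)).mp inferInstance
    (I.map (Ideal.Quotient.mk 𝔪))
  have hch : ∀ x : B ⧸ 𝔪, x ∈ s → ∃ b : B, b ∈ I ∧ Ideal.Quotient.mk 𝔪 b = x := by
    intro x hx
    have hx' : x ∈ I.map (Ideal.Quotient.mk 𝔪) := hs ▸ Ideal.subset_span hx
    exact (Ideal.mem_map_iff_of_surjective _ Ideal.Quotient.mk_surjective).mp hx'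
  choose! b hbI hbx using hch
  refine ⟨Ideal.span (s.image b : Set B), ⟨s.image b, rfl⟩, ?_, ?_⟩
  · rw [Ideal.span_le]
    intro y hy
    simp only [Finset.coe_image, Set.mem_image, Finset.mem_coe] at hy
    obtain ⟨x, hx, rfl⟩ := hy
    exact hbI x hx
  · intro x hx
    have h1 : Ideal.Quotient.mk 𝔪 x ∈ (Ideal.span (s.image b : Set B)).map (Ideal.Quotient.mk 𝔪) := by
      rw [Ideal.map_span]
      have h2 : (Ideal.Quotient.mk 𝔪) '' ((s.image b : Finset B) : Set B) = (s : Set (B ⧸ 𝔪)) := by
        ext y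
        simp only [Finset.coe_image, Set.mem_image, Finset.mem_coe]
        constructor
        · rintro ⟨_, ⟨z, hz, rfl⟩, rfl⟩
          rw [hbx z hz]
          exact hz
        · intro hy
          exact ⟨b y, ⟨y, hy, rfl⟩, hbx y hy⟩
      rw [h2, hs]
      exact Ideal.mem_map_of_mem _ hx
    obtain ⟨k, hk, hkx⟩ := (Ideal.mem_map_iff_of_surjective _ Ideal.Quotient.mk_surjective).mp h1
    have h3 : x - k ∈ 𝔪 := by
      rw [← Ideal.Quotient.eq_zero_iff_mem, map_sub, hkx, sub_self]
    have : x = k + (x - k) := by ring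
    rw [this]
    exact Submodule.add_mem_sup hk h3

/-- The kernel of `θ` equals any finitely generated `K₀ ≤ ker θ ≤ K₀ + 𝔪B`. -/
theorem ker_le (H : FibreCritFP.{u}) (hC : IsEssFinitePresentation A C)
    (hfib : Module.Flat (S ⧸ (maximalIdeal A).map (algebraMap A S))
      (M ⧸ (maximalIdeal A).map (algebraMap A S) • (⊤ : Submodule S M)))
    {B : Type u} [CommRing B] [IsLocalRing B] [Algebra A B] (hB : IsEssFinitePresentation A B)
    (θ : B →ₐ[A] S) (hθ : Function.Surjective θ) (K₀ : Ideal B) (hK₀fg : K₀.FG)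
    (hK₀ : K₀ ≤ RingHom.ker θ)
    (hK₀' : RingHom.ker θ ≤ K₀ ⊔ (maximalIdeal A).map (algebraMap A B)) :
    RingHom.ker θ ≤ K₀ := by
  intro a ha
  set K : Ideal B := K₀ ⊔ Ideal.span {a} with hKdef
  have hKfg : K.FG := Submodule.FG.sup hK₀fg ⟨{a}, by simp⟩
  have hK : K ≤ RingHom.ker θ := sup_le hK₀ ((Ideal.span_singleton_le_iff_mem _).mpr ha)
  have hK' : RingHom.ker θ ≤ K ⊔ (maximalIdeal A).map (algebraMap A B) :=
    hK₀'.trans (sup_le_sup_right le_sup_left _)
  have hflatK := (flat_quotient (M := M) H hC hfib hB θ hθ K hKfg hK hK').1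
  -- the local ring `D = B ⧸ K₀`
  have hne : K₀ ≠ ⊤ := by
    intro h
    have h1 : (1 : B) ∈ RingHom.ker θ := hK₀ (h ▸ Submodule.mem_top)
    rw [RingHom.mem_ker, map_one] at h1
    exact one_ne_zero h1
  haveI : Nontrivial (B ⧸ K₀) := Ideal.Quotient.nontrivial_iff.mpr hne
  haveI : IsLocalRing (B ⧸ K₀) :=
    IsLocalRing.of_surjective' (Ideal.Quotient.mk K₀) Ideal.Quotient.mk_surjective
  let ψ₀ : B ⧸ K₀ →+* S := Ideal.Quotient.lift K₀ θ.toRingHom (fun a ha => hK₀ ha)
  let ψ₂ : B ⧸ K →+* S := Ideal.Quotient.lift K θ.toRingHom (fun a ha => hK ha)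
  let u : B ⧸ K₀ →+* B ⧸ K := Ideal.Quotient.factor (le_sup_left : K₀ ≤ K)
  have hψu : ∀ x, ψ₂ (u x) = ψ₀ x := by
    intro x
    obtain ⟨b, rfl⟩ := Ideal.Quotient.mk_surjective x
    rfl
  letI algDS : Algebra (B ⧸ K₀) S := ψ₀.toAlgebra
  haveI : IsScalarTower A (B ⧸ K₀) S := by
    refine IsScalarTower.of_algebraMap_eq fun a => ?_
    rw [IsScalarTower.algebraMap_apply A B (B ⧸ K₀)]
    exact (θ.commutes a).symm
  haveI : IsLocalHom (algebraMap A (B ⧸ K₀)) := isLocalHom_of_tower (S := S)
  letI algDD : Algebra (B ⧸ K₀) (B ⧸ K) := u.toAlgebra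
  haveI : IsScalarTower A (B ⧸ K₀) (B ⧸ K) := by
    refine IsScalarTower.of_algebraMap_eq fun a => ?_
    rfl
  haveI : Module.Flat A (B ⧸ K) := hflatK
  have husurj : Function.Surjective u := Ideal.Quotient.factor_surjective _
  haveI : Module.FinitePresentation (B ⧸ K₀) (B ⧸ K) := by
    refine Module.finitePresentation_of_surjective (Algebra.linearMap (B ⧸ K₀) (B ⧸ K)) husurj ?_
    have hker : LinearMap.ker (Algebra.linearMap (B ⧸ K₀) (B ⧸ K)) =
        (K.map (Ideal.Quotient.mk K₀)) := by
      ext x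
      obtain ⟨b, rfl⟩ := Ideal.Quotient.mk_surjective x
      rw [LinearMap.mem_ker]
      show Ideal.Quotient.mk K b = 0 ↔ _
      rw [Ideal.Quotient.eq_zero_iff_mem]
      constructor
      · intro hb
        exact Ideal.mem_map_of_mem _ hb
      · intro hb
        obtain ⟨k, hk, hkb⟩ := (Ideal.mem_map_iff_of_surjective _
          Ideal.Quotient.mk_surjective).mp hb
        have h1 : b - k ∈ K₀ := by
          rw [← Ideal.Quotient.eq_zero_iff_mem, map_sub, hkb, sub_self]
        have : b = k + (b - k) := by ring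
        rw [this]
        exact add_mem hk (le_sup_left (a := K₀) h1)
    rw [hker]
    exact hKfg.map _
  have hψ₀surj : Function.Surjective ψ₀ := by
    intro t
    obtain ⟨b, rfl⟩ := hθ t
    exact ⟨Ideal.Quotient.mk K₀ b, rfl⟩
  have hkerψ₀ : RingHom.ker ψ₀ ≤ (maximalIdeal A).map (algebraMap A (B ⧸ K₀)) := by
    intro x hx
    obtain ⟨b, rfl⟩ := Ideal.Quotient.mk_surjective x
    have hb : b ∈ RingHom.ker θ := hx
    obtain ⟨k, hk, c, hc, rfl⟩ := Submodule.mem_sup.mp (hK₀' hb)
    rw [map_add, Ideal.Quotient.eq_zero_iff_mem.mpr hk, zero_add,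
      IsScalarTower.algebraMap_eq A B (B ⧸ K₀), ← Ideal.map_map]
    exact Ideal.mem_map_of_mem _ hc
  have hmapψ₀ : ((maximalIdeal A).map (algebraMap A (B ⧸ K₀))).map ψ₀ =
      (maximalIdeal A).map (algebraMap A S) := by
    rw [Ideal.map_map]
    congr 1
    ext a
    exact (IsScalarTower.algebraMap_apply A (B ⧸ K₀) S a).symm
  have hu : ∀ x : B ⧸ K₀, (Algebra.linearMap (B ⧸ K₀) (B ⧸ K)) x ∈
      (maximalIdeal A).map (algebraMap A (B ⧸ K₀)) • (⊤ : Submodule (B ⧸ K₀) (B ⧸ K)) →
      x ∈ (maximalIdeal A).map (algebraMap A (B ⧸ K₀)) • (⊤ : Submodule (B ⧸ K₀) (B ⧸ K₀)) := by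
    intro x hx
    have h1 : ∀ z ∈ (maximalIdeal A).map (algebraMap A (B ⧸ K₀)) •
        (⊤ : Submodule (B ⧸ K₀) (B ⧸ K)), ψ₂ z ∈ (maximalIdeal A).map (algebraMap A S) := by
      intro z hz
      refine Submodule.smul_induction_on hz ?_ ?_
      · intro d hd w _
        have : d • w = u d * w := Algebra.smul_def d w
        rw [this, map_mul, hψu]
        refine Ideal.mul_mem_right _ _ ?_
        rw [← hmapψ₀]
        exact Ideal.mem_map_of_mem _ hd
      · intro z w hz hw
        rw [map_add]
        exact add_mem hz hw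
    have h2 : ψ₀ x ∈ (maximalIdeal A).map (algebraMap A S) := by
      rw [← hψu]
      exact h1 _ hx
    rw [← hmapψ₀] at h2
    obtain ⟨y, hy, hyx⟩ := (Ideal.mem_map_iff_of_surjective _ hψ₀surj).mp h2
    have h3 : x - y ∈ RingHom.ker ψ₀ := by
      rw [RingHom.mem_ker, map_sub, hyx, sub_self]
    have h4 := add_mem (hkerψ₀ h3) hy
    rw [sub_add_cancel] at h4
    rw [smul_eq_mul, Ideal.mul_top]
    exact h4
  have hinj := (Groth.Agent.S2107.result (R := A) (S := B ⧸ K₀) (M := B ⧸ K₀) (N := B ⧸ K)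
    (essFP_quotient hB K₀ hK₀fg) (Algebra.linearMap (B ⧸ K₀) (B ⧸ K)) hu).1
  have h5 : (Algebra.linearMap (B ⧸ K₀) (B ⧸ K)) (Ideal.Quotient.mk K₀ a) = 0 := by
    show Ideal.Quotient.mk K a = 0
    rw [Ideal.Quotient.eq_zero_iff_mem]
    exact le_sup_right (a := K₀) (Ideal.mem_span_singleton_self a)
  have h6 : Ideal.Quotient.mk K₀ a = 0 := hinj (h5.trans (map_zero _).symm)
  exact Ideal.Quotient.eq_zero_iff_mem.mp h6

omit [IsLocalRing A] [IsLocalRing S] [IsLocalRing C] [Algebra S C] [Algebra A C]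
  [IsScalarTower A S C] [IsLocalHom (algebraMap A S)] [IsLocalHom (algebraMap S C)]
  [AddCommGroup M] [Module C M] [Module S M] [Module A M] [IsScalarTower S C M]
  [IsScalarTower A C M] [IsScalarTower A S M] [Module.FinitePresentation C M] [Nontrivial M]
  [Module.Flat A M] [CommRing C] in
/-- Essential finite presentation is invariant under algebra isomorphisms. -/
theorem essFP_of_algEquiv {D : Type u} [CommRing D] [Algebra A D]
    (hD : IsEssFinitePresentation A D) (e : D ≃ₐ[A] S) : IsEssFinitePresentation A S := by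
  obtain ⟨S₀, _, _, _, _, N, hfp, hloc⟩ := hD
  letI algS₀S : Algebra S₀ S := (e.toAlgHom.toRingHom.comp (algebraMap S₀ D)).toAlgebra
  haveI : IsScalarTower A S₀ S := by
    refine IsScalarTower.of_algebraMap_eq fun a => ?_
    show algebraMap A S a = e (algebraMap S₀ D (algebraMap A S₀ a))
    rw [← IsScalarTower.algebraMap_apply A S₀ D, e.commutes]
  refine ⟨S₀, inferInstance, inferInstance, algS₀S, inferInstance, N, hfp, ?_⟩
  let e' : D ≃ₐ[S₀] S := { e.toRingEquiv with commutes' := fun r => rfl }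
  exact IsLocalization.isLocalization_of_algEquiv N e'

/-- **Critère de platitude par fibres**, essentially finite type version (Stacks 10.128.9),
assuming the essentially finitely presented version. -/
theorem main (H : FibreCritFP.{u}) [Algebra.EssFiniteType A S]
    (hC : IsEssFinitePresentation A C)
    (hfib : Module.Flat (S ⧸ (maximalIdeal A).map (algebraMap A S))
      (M ⧸ (maximalIdeal A).map (algebraMap A S) • (⊤ : Submodule S M))) :
    Module.Flat A S ∧ Module.Flat S M ∧ IsEssFinitePresentation A S := by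
  obtain ⟨B, _, _, _, hB, θ, hθ⟩ := exists_local_essFP_surjection (A := A) (S := S)
  haveI := isNoetherianRing_quotient_of_essFP hB (maximalIdeal A)
  obtain ⟨K₀, hfg, hle, hsup⟩ :=
    exists_fg_le_sup ((maximalIdeal A).map (algebraMap A B)) (RingHom.ker θ)
  have hker := ker_le (M := M) H hC hfib hB θ hθ K₀ hfg hle hsup
  obtain ⟨h1, h2⟩ := flat_quotient (M := M) H hC hfib hB θ hθ K₀ hfg hle hsup
  letI algDS : Algebra (B ⧸ K₀) S :=
    (Ideal.Quotient.lift K₀ θ.toRingHom (fun a ha => hle ha)).toAlgebra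
  letI modDM : Module (B ⧸ K₀) M := Module.compHom M (algebraMap (B ⧸ K₀) S)
  haveI : IsScalarTower A (B ⧸ K₀) S := by
    refine IsScalarTower.of_algebraMap_eq fun a => ?_
    rw [IsScalarTower.algebraMap_apply A B (B ⧸ K₀)]
    exact (θ.commutes a).symm
  have hbij : Function.Bijective (algebraMap (B ⧸ K₀) S) := by
    constructor
    · rw [injective_iff_map_eq_zero]
      intro x hx
      obtain ⟨b, rfl⟩ := Ideal.Quotient.mk_surjective x
      have hb : b ∈ RingHom.ker θ := hx
      exact Ideal.Quotient.eq_zero_iff_mem.mpr (hker hb)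
    · intro t
      obtain ⟨b, rfl⟩ := hθ t
      exact ⟨Ideal.Quotient.mk K₀ b, rfl⟩
  let e : (B ⧸ K₀) ≃ₐ[A] S := AlgEquiv.ofBijective (IsScalarTower.toAlgHom A (B ⧸ K₀) S) hbij
  refine ⟨?_, ?_, essFP_of_algEquiv (essFP_quotient hB K₀ hfg) e⟩
  · haveI := h1
    exact Module.Flat.of_linearEquiv e.toLinearEquiv.symm
  · haveI := h2
    refine flat_of_semilinearEquiv (R₁ := S) (R₂ := B ⧸ K₀) (M₁ := M) (M₂ := M)
      e.symm.toAlgHom.toRingHom e.symm.bijective (AddEquiv.refl M) ?_
    intro r x
    show r • x = algebraMap (B ⧸ K₀) S (e.symm r) • x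
    congr 1
    exact (e.apply_symm_apply r).symm

end Core

end Groth.Agent.Lib.Helper23.FibreCritFT
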