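import Mathlib
import Groth.Prelude.Def_FlatMod2
import Groth.Prelude.Def_Coh
import Groth.Prelude.Def_CohB1
import Groth.Agent.Lib.Helper23.FibreCritFT
import Groth.Agent.Lib.Helper23.EssFPStalk
import Groth.Agent.Lib.Helper45.QCohStalk
import Groth.Agent.Lib.Helper49.FinitePresentation2

/-!
# Critère de platitude par fibres for a finitely presented module on a scheme (pointwise)
-/

set_option autoImplicit false
universe u

namespace Groth.Agent.Lib.Helper23.FibreCritModule

open AlgebraicGeometry CategoryTheory Limits IsLocalRing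
open Groth.Agent.Lib.Helper23.FibreCritFT Groth.Agent.Lib.Helper23.EssFPStalk

attribute [local instance] Groth.Agent.Lib.Helper45.stalkModuleSections

theorem finitePresentation_stalk_of_isAffineOpen {X : Scheme.{u}} (F : X.Modules)
    [F.IsQuasicoherent] (hF : SheafOfModules.IsFinitePresentation (R := X.ringCatSheaf) F)
    {W : X.Opens} (hW : IsAffineOpen W) (x : W) :
    Module.FinitePresentation (X.presheaf.stalk (x : X)) (F.presheaf.stalk (x : X)) := by
  haveI : Module.FinitePresentation Γ(X, W) Γ(F, W) :=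
    Groth.Agent.Lib.Helper49.finitePresentation_sections_of_isFinitePresentation F hF hW
  haveI hloc := Groth.Agent.Lib.Helper45.isLocalizedModule_germₗ hW F x
  haveI := hW.isLocalization_stalk x
  exact _root_.FinitePresentation.of_isBaseChange (A := X.presheaf.stalk (x : X))
    (Groth.Agent.Lib.Helper45.germₗ F x)
    (IsLocalizedModule.isBaseChange (hW.primeIdealOf x).asIdeal.primeCompl
      (X.presheaf.stalk (x : X)) (Groth.Agent.Lib.Helper45.germₗ F x))

/-- The stalk of a finitely presented quasi-coherent module is a finitely presented module. -/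
theorem finitePresentation_stalk {X : Scheme.{u}} (F : X.Modules) [F.IsQuasicoherent]
    (hF : SheafOfModules.IsFinitePresentation (R := X.ringCatSheaf) F) (x : X) :
    Module.FinitePresentation (X.presheaf.stalk x) (F.presheaf.stalk x) := by
  obtain ⟨W, hW, hxW, -⟩ := exists_isAffineOpen_mem_and_subset (x := x) (U := ⊤) trivial
  exact finitePresentation_stalk_of_isAffineOpen F hF hW ⟨x, hxW⟩

section Quot

variable {R M : Type u} [CommRing R] [AddCommGroup M] [Module R M]

theorem flat_quotient_smul_top [Module.Flat R M] (I : Ideal R) :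
    Module.Flat (R ⧸ I) (M ⧸ I • (⊤ : Submodule R M)) :=
  Module.Flat.of_linearEquiv
    (LinearEquiv.extendScalarsOfSurjective Ideal.Quotient.mk_surjective
      (TensorProduct.quotTensorEquivQuotSMul M I)).symm

end Quot

section Main

variable {X Y S : Scheme.{u}} (f : X ⟶ Y) (g : Y ⟶ S) [LocallyOfFinitePresentation (f ≫ g)]
  [LocallyOfFiniteType g]

omit [LocallyOfFinitePresentation (f ≫ g)] [LocallyOfFiniteType g] in
theorem isFlatOverAt_comp_iff (F : X.Modules) (x : X) :
    FlatMod.IsFlatOverAt (f ≫ g) F x ↔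
      (letI : Module (S.presheaf.stalk (g (f x))) (F.presheaf.stalk x) :=
        Module.compHom (F.presheaf.stalk x) ((f.stalkMap x).hom.comp (g.stalkMap (f x)).hom)
      Module.Flat (S.presheaf.stalk (g (f x))) (F.presheaf.stalk x)) := by
  have hcomp : ((f ≫ g).stalkMap x).hom = (f.stalkMap x).hom.comp (g.stalkMap (f x)).hom := by
    rw [Scheme.Hom.stalkMap_comp]
    rfl
  unfold FlatMod.IsFlatOverAt FlatMod.moduleStalkOver
  rw [hcomp]
  rfl

/-- Pointwise fibre criterion for a finitely presented quasi-coherent module. -/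
theorem critere_module (H : FibreCritFP.{u}) (F : X.Modules) (hq : Coh.IsQCoh F)
    (hfp : CohB1.IsFP F) (x : X) (hx : Nontrivial ↑(F.presheaf.stalk x)) :
    letI := FlatMod.moduleStalkOver f F x
    (FlatMod.IsFlatOverAt (f ≫ g) F x ∧
      Module.Flat (↑(Y.presheaf.stalk (f x)) ⧸ Ideal.map (g.stalkMap (f x)).hom
          (IsLocalRing.maximalIdeal ↑(S.presheaf.stalk (g (f x)))))
        (↑(F.presheaf.stalk x) ⧸ (Ideal.map (g.stalkMap (f x)).hom
          (IsLocalRing.maximalIdeal ↑(S.presheaf.stalk (g (f x)))) •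
          (⊤ : Submodule ↑(Y.presheaf.stalk (f x)) ↑(F.presheaf.stalk x))))) ↔
    ((g.stalkMap (f x)).hom.Flat ∧ FlatMod.IsFlatOverAt f F x) := by
  letI modBM := FlatMod.moduleStalkOver f F x
  rw [isFlatOverAt_comp_iff]
  letI algAB : Algebra (S.presheaf.stalk (g (f x))) (Y.presheaf.stalk (f x)) :=
    (g.stalkMap (f x)).hom.toAlgebra
  letI algBC : Algebra (Y.presheaf.stalk (f x)) (X.presheaf.stalk x) :=
    (f.stalkMap x).hom.toAlgebra
  letI algAC : Algebra (S.presheaf.stalk (g (f x))) (X.presheaf.stalk x) :=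
    ((f.stalkMap x).hom.comp (g.stalkMap (f x)).hom).toAlgebra
  haveI : IsScalarTower (S.presheaf.stalk (g (f x))) (Y.presheaf.stalk (f x))
      (X.presheaf.stalk x) := IsScalarTower.of_algebraMap_eq' rfl
  letI modAM : Module (S.presheaf.stalk (g (f x))) (F.presheaf.stalk x) :=
    Module.compHom (F.presheaf.stalk x) ((f.stalkMap x).hom.comp (g.stalkMap (f x)).hom)
  haveI : IsScalarTower (Y.presheaf.stalk (f x)) (X.presheaf.stalk x) (F.presheaf.stalk x) :=
    IsScalarTower.of_algebraMap_smul fun r m => rfl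
  haveI : IsScalarTower (S.presheaf.stalk (g (f x))) (X.presheaf.stalk x) (F.presheaf.stalk x) :=
    IsScalarTower.of_algebraMap_smul fun r m => rfl
  haveI : IsScalarTower (S.presheaf.stalk (g (f x))) (Y.presheaf.stalk (f x))
      (F.presheaf.stalk x) := IsScalarTower.of_algebraMap_smul fun r m => rfl
  haveI : IsLocalHom (algebraMap (S.presheaf.stalk (g (f x))) (Y.presheaf.stalk (f x))) :=
    inferInstanceAs (IsLocalHom (g.stalkMap (f x)).hom)
  haveI : IsLocalHom (algebraMap (Y.presheaf.stalk (f x)) (X.presheaf.stalk x)) :=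
    inferInstanceAs (IsLocalHom (f.stalkMap x).hom)
  haveI : F.IsQuasicoherent := hq
  haveI : Module.FinitePresentation (X.presheaf.stalk x) (F.presheaf.stalk x) :=
    finitePresentation_stalk F hfp x
  haveI : Algebra.EssFiniteType (S.presheaf.stalk (g (f x))) (Y.presheaf.stalk (f x)) :=
    LocallyOfFiniteType.stalkMap g (f x)
  have hcomp : ((f ≫ g).stalkMap x).hom = (f.stalkMap x).hom.comp (g.stalkMap (f x)).hom := by
    rw [Scheme.Hom.stalkMap_comp]
    rfl
  have hγ : CAlgX.IsEssFinitePresentation (S.presheaf.stalk (g (f x))) (X.presheaf.stalk x) := by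
    have := essFP_stalkMap (f ≫ g) x
    rw [hcomp] at this
    exact this
  constructor
  · rintro ⟨h1, h2⟩
    haveI : Module.Flat (S.presheaf.stalk (g (f x))) (F.presheaf.stalk x) := h1
    obtain ⟨h3, h4, -⟩ := main (A := S.presheaf.stalk (g (f x))) (S := Y.presheaf.stalk (f x))
      (C := X.presheaf.stalk x) (M := F.presheaf.stalk x) H hγ h2
    exact ⟨h3, h4⟩
  · rintro ⟨h1, h2⟩
    haveI : Module.Flat (S.presheaf.stalk (g (f x))) (Y.presheaf.stalk (f x)) := h1
    haveI : Module.Flat (Y.presheaf.stalk (f x)) (F.presheaf.stalk x) := h2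
    exact ⟨Module.Flat.trans _ (Y.presheaf.stalk (f x)) _, flat_quotient_smul_top _⟩

end Main

end Groth.Agent.Lib.Helper23.FibreCritModule
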