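import Mathlib
import Groth.Prelude.Def_FlatMod2
import Groth.Prelude.Def_Coh
import Groth.Prelude.Def_CohB1
import Groth.Agent.S2107
import Groth.Agent.Lib.Helper23.EssFPStalk
import Groth.Agent.Lib.Helper23.FibreCritModule
import Groth.Agent.Lib.Helper49.StalkKerCoker
import Groth.Agent.Lib.Helper49.FlatSES

/-!
# Injectivity with flat cokernel, tested on the fibre (EGA IV 11.3.7)
-/

set_option autoImplicit false
universe u

namespace Groth.Agent.Lib.Helper23.CokerFlat

open AlgebraicGeometry CategoryTheory Limits IsLocalRing TensorProduct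

section Ring

/-- If `0 → M' → M → C → 0` is exact with `C` flat, then `M'/IM' → M/IM` is injective. -/
theorem mem_smul_top_of_flat_coker {A : Type*} [CommRing A] (I : Ideal A) {M' M C : Type*}
    [AddCommGroup M'] [Module A M'] [AddCommGroup M] [Module A M] [AddCommGroup C] [Module A C]
    (i : M' →ₗ[A] M) (p : M →ₗ[A] C) (hi : Function.Injective i) (hp : Function.Surjective p)
    (H : Function.Exact i p) [Module.Flat A C] (m : M')
    (hm : i m ∈ I • (⊤ : Submodule A M)) : m ∈ I • (⊤ : Submodule A M') := by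
  have hinj := LinearMap.lTensor_injective_of_exact_of_flat p hp i hi H (A ⧸ I)
  have h1 : i.lTensor (A ⧸ I) ((1 : A ⧸ I) ⊗ₜ[A] m) = 0 := by
    rw [LinearMap.lTensor_tmul]
    have : (quotTensorEquivQuotSMul M I) ((1 : A ⧸ I) ⊗ₜ[A] i m) = 0 := by
      rw [quotTensorEquivQuotSMul_mk_one_tmul]
      exact (Submodule.Quotient.mk_eq_zero _).mpr hm
    exact (quotTensorEquivQuotSMul M I).injective (this.trans (map_zero _).symm)
  have h2 : (1 : A ⧸ I) ⊗ₜ[A] m = 0 := hinj (h1.trans (map_zero _).symm)
  have h3 : (quotTensorEquivQuotSMul M' I) ((1 : A ⧸ I) ⊗ₜ[A] m) = 0 := by rw [h2, map_zero]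
  rw [quotTensorEquivQuotSMul_mk_one_tmul] at h3
  exact (Submodule.Quotient.mk_eq_zero _).mp h3

variable {A B M' M C : Type u} [CommRing A] [CommRing B] [IsLocalRing A] [IsLocalRing B]
  [Algebra A B] [IsLocalHom (algebraMap A B)]
  [AddCommGroup M'] [Module B M'] [Module A M'] [IsScalarTower A B M']
  [AddCommGroup M] [Module B M] [Module A M] [IsScalarTower A B M]
  [AddCommGroup C] [Module B C] [Module A C] [IsScalarTower A B C]

omit [IsLocalRing A] [IsLocalRing B] [IsLocalHom (algebraMap A B)] in
theorem mem_map_smul_top_iff (I : Ideal A) (m : M) :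
    m ∈ I.map (algebraMap A B) • (⊤ : Submodule B M) ↔ m ∈ I • (⊤ : Submodule A M) := by
  have h := Ideal.smul_restrictScalars (R := A) (S := B) (M := M) I (⊤ : Submodule B M)
  rw [Submodule.restrictScalars_top] at h
  rw [← h, Submodule.restrictScalars_mem]

/-- EGA IV 11.3.7, local form. -/
theorem ring_iff (hB : CAlgX.IsEssFinitePresentation A B)
    [Module.FinitePresentation B M'] [Module.FinitePresentation B M] [Module.Flat A M]
    (u : M' →ₗ[B] M) (p : M →ₗ[B] C) (hp : Function.Surjective p) (H : Function.Exact u p) :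
    (Function.Injective u ∧ Module.Flat A C) ↔
      ∀ m : M', u m ∈ (maximalIdeal A).map (algebraMap A B) • (⊤ : Submodule B M) →
        m ∈ (maximalIdeal A).map (algebraMap A B) • (⊤ : Submodule B M') := by
  constructor
  · rintro ⟨hinj, hflat⟩ m hm
    rw [mem_map_smul_top_iff] at hm ⊢
    exact mem_smul_top_of_flat_coker (maximalIdeal A) (u.restrictScalars A) (p.restrictScalars A)
      hinj hp H m hm
  · intro h
    obtain ⟨h1, h2⟩ := Groth.Agent.S2107.result hB u h
    refine ⟨h1, ?_⟩
    have hker : LinearMap.ker p = LinearMap.range u := LinearMap.exact_iff.mp H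
    let e : (M ⧸ LinearMap.range u) ≃ₗ[B] C :=
      (Submodule.quotEquivOfEq _ _ hker.symm).trans (LinearMap.quotKerEquivOfSurjective p hp)
    exact Module.Flat.of_linearEquiv (e.restrictScalars A).symm

end Ring

section Scheme

open Groth.Agent.Lib.Helper49

variable {X Y : Scheme.{u}}

/-- The stalk of the cokernel: `F'_x → F_x → (Coker u)_x → 0` is exact. -/
theorem stalkMap_cokernel_exact {F F' : X.Modules} (u : F' ⟶ F) (x : X) :
    Function.Exact (stalkMap u x).hom (stalkMap (cokernel.π u) x).hom := by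
  intro b
  constructor
  · intro hb
    have hS : (ShortComplex.mk (kernel.ι (cokernel.π u)) (cokernel.π u)
        (kernel.condition _)).ShortExact :=
      ⟨ShortComplex.exact_of_f_is_kernel _ (kernelIsKernel _)⟩
    obtain ⟨c, rfl⟩ := (stalkMap_exact_of_shortExact _ hS x b).mp hb
    have hepi : Epi (Abelian.factorThruImage u) := inferInstance
    obtain ⟨a, rfl⟩ := stalkMap_surjective_of_epi (Abelian.factorThruImage u) x c
    refine ⟨a, ?_⟩
    have h2 : (stalkMap u x).hom a =
        (stalkMap (Abelian.factorThruImage u ≫ kernel.ι (cokernel.π u)) x).hom a := by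
      rw [show Abelian.factorThruImage u ≫ kernel.ι (cokernel.π u) = u from Abelian.image.fac u]
    exact h2.trans (stalkMap_comp_apply' _ _ x a)
  · rintro ⟨a, rfl⟩
    exact stalkMap_eq_zero_of_comp_eq_zero _ _ (cokernel.condition u) x a

/-- **S4850.** -/
theorem stalkMap_injective_and_coker_flat_iff (f : X ⟶ Y) [LocallyOfFinitePresentation f]
    (F F' : X.Modules) [F.IsQuasicoherent] [F'.IsQuasicoherent]
    (hF : SheafOfModules.IsFinitePresentation (R := X.ringCatSheaf) F)
    (hF' : SheafOfModules.IsFinitePresentation (R := X.ringCatSheaf) F') (u : F' ⟶ F) (x : X)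
    (hflat : FlatMod.IsFlatOverAt f F x) :
    (Function.Injective (stalkMap u x).hom ∧ FlatMod.IsFlatOverAt f (cokernel u) x) ↔
      ∀ m : ↑(F'.presheaf.stalk x),
        (stalkMap u x).hom m ∈ (Ideal.map (f.stalkMap x).hom
            (IsLocalRing.maximalIdeal ↑(Y.presheaf.stalk (f x))) •
          (⊤ : Submodule ↑(X.presheaf.stalk x) ↑(F.presheaf.stalk x))) →
        m ∈ (Ideal.map (f.stalkMap x).hom
            (IsLocalRing.maximalIdeal ↑(Y.presheaf.stalk (f x))) •
          (⊤ : Submodule ↑(X.presheaf.stalk x) ↑(F'.presheaf.stalk x))) := by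
  letI algAB : Algebra (Y.presheaf.stalk (f x)) (X.presheaf.stalk x) :=
    (f.stalkMap x).hom.toAlgebra
  letI modF := FlatMod.moduleStalkOver f F x
  letI modF' := FlatMod.moduleStalkOver f F' x
  letI modC := FlatMod.moduleStalkOver f (cokernel u) x
  haveI : IsScalarTower (Y.presheaf.stalk (f x)) (X.presheaf.stalk x) (F.presheaf.stalk x) :=
    IsScalarTower.of_algebraMap_smul fun r m => rfl
  haveI : IsScalarTower (Y.presheaf.stalk (f x)) (X.presheaf.stalk x) (F'.presheaf.stalk x) :=
    IsScalarTower.of_algebraMap_smul fun r m => rfl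
  haveI : IsScalarTower (Y.presheaf.stalk (f x)) (X.presheaf.stalk x)
      ((cokernel u).presheaf.stalk x) :=
    IsScalarTower.of_algebraMap_smul fun r m => rfl
  haveI : IsLocalHom (algebraMap (Y.presheaf.stalk (f x)) (X.presheaf.stalk x)) :=
    inferInstanceAs (IsLocalHom (f.stalkMap x).hom)
  haveI : Module.FinitePresentation (X.presheaf.stalk x) (F.presheaf.stalk x) :=
    Groth.Agent.Lib.Helper23.FibreCritModule.finitePresentation_stalk F hF x
  haveI : Module.FinitePresentation (X.presheaf.stalk x) (F'.presheaf.stalk x) :=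
    Groth.Agent.Lib.Helper23.FibreCritModule.finitePresentation_stalk F' hF' x
  haveI : Module.Flat (Y.presheaf.stalk (f x)) (F.presheaf.stalk x) := hflat
  have hB : CAlgX.IsEssFinitePresentation (Y.presheaf.stalk (f x)) (X.presheaf.stalk x) :=
    Groth.Agent.Lib.Helper23.EssFPStalk.essFP_stalkMap f x
  exact ring_iff hB (stalkMapLinear u x) (stalkMapLinear (cokernel.π u) x)
    (stalkMap_surjective_of_epi (cokernel.π u) x) (stalkMap_cokernel_exact u x)

end Scheme

end Groth.Agent.Lib.Helper23.CokerFlat
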