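import Mathlib
import Groth.Agent.Lib.Helper23.CokerFlat
import Groth.Agent.H76.FlatLocusSheaf
import Groth.Agent.H76.KerFPSheaf
import Groth.Agent.Lib.Helper18.FPPullEpi

/-!
# Openness of the locus where `u_x` is injective with `f`-flat cokernel (EGA IV 11.3.7)
-/

set_option autoImplicit false
set_option linter.style.haveILetI false
universe u

namespace Groth.Agent.Lib.Helper23.CokerFlatOpen

open AlgebraicGeometry CategoryTheory Limits

section Alg

variable {B : Type*} [CommRing B] {M' M : Type*} [AddCommGroup M'] [Module B M']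
  [AddCommGroup M] [Module B M] (φ : M' →ₗ[B] M)

theorem exists_notMem_smul_ker_eq_zero (hfg : (LinearMap.ker φ).FG) (q : Ideal B) [q.IsPrime]
    {L' L : Type*} [AddCommGroup L'] [Module B L'] [AddCommGroup L] [Module B L]
    (g' : M' →ₗ[B] L') (g : M →ₗ[B] L) [IsLocalizedModule q.primeCompl g']
    (ψ : L' →ₗ[B] L) (hψ : ∀ m, ψ (g' m) = g (φ m)) (hinj : Function.Injective ψ) :
    ∃ b : B, b ∉ q ∧ ∀ k ∈ LinearMap.ker φ, b • k = 0 := by
  haveI : Module.Finite B (LinearMap.ker φ) := Module.Finite.iff_fg.mpr hfg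
  have hns : (⟨q, inferInstance⟩ : PrimeSpectrum B) ∉ Module.support B (LinearMap.ker φ) := by
    rw [Module.notMem_support_iff']
    intro k
    have h0 : g' k.1 = 0 := by
      apply hinj
      rw [hψ, LinearMap.mem_ker.mp k.2, map_zero, map_zero]
    obtain ⟨c, hc⟩ := (IsLocalizedModule.eq_zero_iff q.primeCompl g').mp h0
    exact ⟨c.1, c.2, Subtype.ext hc⟩
  rw [Module.mem_support_iff_of_finite] at hns
  obtain ⟨b, hb, hbq⟩ := SetLike.not_le_iff_exists.mp hns
  refine ⟨b, hbq, fun k hk => ?_⟩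
  have := Module.mem_annihilator.mp hb ⟨k, hk⟩
  exact congrArg Subtype.val this

theorem injective_of_smul_ker_eq_zero (b : B) (hb : ∀ k ∈ LinearMap.ker φ, b • k = 0)
    (q : Ideal B) [q.IsPrime] (hbq : b ∉ q)
    {L' L : Type*} [AddCommGroup L'] [Module B L'] [AddCommGroup L] [Module B L]
    (g' : M' →ₗ[B] L') (g : M →ₗ[B] L) [IsLocalizedModule q.primeCompl g']
    [IsLocalizedModule q.primeCompl g]
    (ψ : L' →ₗ[B] L) (hψ : ∀ m, ψ (g' m) = g (φ m)) : Function.Injective ψ := by
  rw [injective_iff_map_eq_zero]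
  intro a ha
  obtain ⟨⟨m, s⟩, hms⟩ := IsLocalizedModule.surj q.primeCompl g' a
  have hms' : (s : B) • a = g' m := hms
  have h1 : g (φ m) = 0 := by rw [← hψ, ← hms', map_smul, ha, smul_zero]
  obtain ⟨t, ht⟩ := (IsLocalizedModule.eq_zero_iff q.primeCompl g).mp h1
  have h2 : t.1 • m ∈ LinearMap.ker φ := by
    rw [LinearMap.mem_ker, map_smul]
    exact ht
  have h3 : b • (t.1 • m) = 0 := hb _ h2
  have h4 : g' m = 0 := by
    rw [IsLocalizedModule.eq_zero_iff q.primeCompl g']
    refine ⟨⟨b * t.1, q.primeCompl.mul_mem hbq t.2⟩, ?_⟩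
    rw [Submonoid.mk_smul, mul_smul]
    exact h3
  rw [h4] at hms'
  apply IsLocalizedModule.smul_injective g' s
  change s • a = s • 0
  rw [Submonoid.smul_def, Submonoid.smul_def, hms', smul_zero]

end Alg

section Scheme

open Groth.Agent.Lib Groth.Agent.Lib.Helper49 Groth.Agent.Lib.Helper45 Groth.Agent.Lib.Helper12.FlatOver

attribute [local instance] Groth.Agent.Lib.Helper45.stalkModuleSections

variable {X Y : Scheme.{u}}

set_option backward.isDefEq.respectTransparency false in
theorem isFiniteType_of_isFinitePresentation (F : X.Modules)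
    (hF : SheafOfModules.IsFinitePresentation (R := X.ringCatSheaf) F) :
    SheafOfModules.IsFiniteType (R := X.ringCatSheaf) F := by
  haveI := hF
  infer_instance

/-- Sections over an affine open of `F' → F → Coker u → 0` are exact. -/
theorem range_app_eq_ker {F F' : X.Modules} [F.IsQuasicoherent] [F'.IsQuasicoherent] (u : F' ⟶ F)
    {W : X.Opens} (hW : IsAffineOpen W) :
    LinearMap.range (Helper45.appₗ u W) = LinearMap.ker (Helper45.appₗ (cokernel.π u) W) := by
  have hCq : (cokernel u).IsQuasicoherent :=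
    isQuasicoherent_cokernel u inferInstance inferInstance
  haveI hIq : (kernel (cokernel.π u)).IsQuasicoherent :=
    isQuasicoherent_kernel _ inferInstance hCq
  have hS : (ShortComplex.mk (kernel.ι (cokernel.π u)) (cokernel.π u)
      (kernel.condition _)).ShortExact :=
    ⟨ShortComplex.exact_of_f_is_kernel _ (kernelIsKernel _)⟩
  have hex := Groth.Agent.Lib.Helper45.app_exact_of_shortExact _ hS W
  have hepi : Epi (Abelian.factorThruImage u) := inferInstance
  have hsurj : Function.Surjective ((Abelian.factorThruImage u).app W) :=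
    Groth.Agent.Lib.Helper42.app_surjective_of_epi (Abelian.factorThruImage u) hW
  have hfac : ∀ a : Γ(F', W), u.app W a =
      (kernel.ι (cokernel.π u)).app W ((Abelian.factorThruImage u).app W a) := by
    intro a
    have h2 : Abelian.factorThruImage u ≫ kernel.ι (cokernel.π u) = u := Abelian.image.fac u
    conv_lhs => rw [← h2]
    rfl
  ext b
  rw [LinearMap.mem_range, LinearMap.mem_ker]
  constructor
  · rintro ⟨a, rfl⟩
    change (cokernel.π u).app W (u.app W a) = 0
    rw [hfac]
    exact (hex _).mpr ⟨_, rfl⟩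
  · intro hb
    obtain ⟨c, hc⟩ := (hex b).mp hb
    obtain ⟨a, rfl⟩ := hsurj c
    exact ⟨a, (hfac a).trans hc⟩

theorem exists_notMem_of_stalkMap_injective {F F' : X.Modules} [F.IsQuasicoherent]
    [F'.IsQuasicoherent] (u : F' ⟶ F) {W : X.Opens} (hW : IsAffineOpen W)
    (hfg : (LinearMap.ker (Helper45.appₗ u W)).FG) (x : W)
    (hinj : Function.Injective (stalkMap u (x : X)).hom) :
    ∃ b : Γ(X, W), b ∉ (hW.primeIdealOf x).asIdeal ∧
      ∀ k ∈ LinearMap.ker (Helper45.appₗ u W), b • k = 0 := by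
  haveI := isLocalizedModule_germₗ hW F' x
  haveI := isLocalizedModule_germₗ hW F x
  exact exists_notMem_smul_ker_eq_zero (Helper45.appₗ u W) hfg
    (hW.primeIdealOf x).asIdeal (germₗ F' x) (germₗ F x)
    (stalkMapₗ u x) (fun m => stalkMap_germ u W x x.2 m) hinj

theorem stalkMap_injective_of_notMem {F F' : X.Modules} [F.IsQuasicoherent]
    [F'.IsQuasicoherent] (u : F' ⟶ F) {W : X.Opens} (hW : IsAffineOpen W)
    (b : Γ(X, W)) (hb : ∀ k ∈ LinearMap.ker (Helper45.appₗ u W), b • k = 0) (x : W)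
    (hbx : b ∉ (hW.primeIdealOf x).asIdeal) :
    Function.Injective (stalkMap u (x : X)).hom := by
  haveI := isLocalizedModule_germₗ hW F' x
  haveI := isLocalizedModule_germₗ hW F x
  exact injective_of_smul_ker_eq_zero (Helper45.appₗ u W) b hb
    (hW.primeIdealOf x).asIdeal hbx (germₗ F' x) (germₗ F x)
    (stalkMapₗ u x) (fun m => stalkMap_germ u W x x.2 m)

/-- **S4851.** -/
theorem isOpen_setOf_injective_and_coker_flat (f : X ⟶ Y) [LocallyOfFinitePresentation f]
    (F F' : X.Modules) [F.IsQuasicoherent] [F'.IsQuasicoherent]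
    (hF : SheafOfModules.IsFinitePresentation (R := X.ringCatSheaf) F)
    (hF' : SheafOfModules.IsFinitePresentation (R := X.ringCatSheaf) F') (u : F' ⟶ F) :
    IsOpen {x : X | Function.Injective (stalkMap u x).hom ∧
      FlatMod.IsFlatOverAt f (cokernel u) x} := by
  haveI hCq : (cokernel u).IsQuasicoherent :=
    isQuasicoherent_cokernel u inferInstance inferInstance
  have hF't := isFiniteType_of_isFinitePresentation F' hF'
  have hC : SheafOfModules.IsFinitePresentation (R := X.ringCatSheaf) (cokernel u) :=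
    Groth.Agent.Lib.Helper18.FPPullEpi.isFinitePresentation_cokernel u hF't hF
  have hO₁ : IsOpen {x : X | FlatMod.IsFlatOverAt f (cokernel u) x} :=
    Groth.Agent.H76.FlatLocusSheaf.isOpen_isFlatOverAt f (cokernel u) hC
  rw [isOpen_iff_mem_nhds]
  rintro x ⟨hxinj, hxflat⟩
  obtain ⟨V, hV, hxV, -⟩ := exists_isAffineOpen_mem_and_subset (x := f x) (U := ⊤) trivial
  obtain ⟨W, hW, hxW, hWle⟩ := exists_isAffineOpen_mem_and_subset (x := x)
    (U := f ⁻¹ᵁ V ⊓ ⟨_, hO₁⟩) ⟨hxV, hxflat⟩
  have hWV : W ≤ f ⁻¹ᵁ V := hWle.trans inf_le_left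
  have hWflat : ∀ x' : W, FlatMod.IsFlatOverAt f (cokernel u) (x' : X) := fun x' => (hWle x'.2).2
  letI algAB : Algebra Γ(Y, V) Γ(X, W) := (f.appLE V W hWV).hom.toAlgebra
  letI modAN : Module Γ(Y, V) Γ(cokernel u, W) := Module.compHom _ (f.appLE V W hWV).hom
  haveI : IsScalarTower Γ(Y, V) Γ(X, W) Γ(cokernel u, W) := IsScalarTower.of_compHom _ _ _
  have hfp : (f.appLE V W hWV).hom.FinitePresentation :=
    HasRingHomProperty.appLE (P := @LocallyOfFinitePresentation) f inferInstance ⟨V, hV⟩ ⟨W, hW⟩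
      hWV
  haveI : Algebra.FinitePresentation Γ(Y, V) Γ(X, W) := hfp
  haveI : Module.FinitePresentation Γ(X, W) Γ(F, W) :=
    finitePresentation_sections_of_isFinitePresentation F hF hW
  haveI : Module.FinitePresentation Γ(X, W) Γ(F', W) :=
    finitePresentation_sections_of_isFinitePresentation F' hF' hW
  haveI : Module.FinitePresentation Γ(X, W) Γ(cokernel u, W) :=
    finitePresentation_sections_of_isFinitePresentation (cokernel u) hC hW
  haveI : Module.Flat Γ(Y, V) Γ(cokernel u, W) :=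
    flat_sections_of_isFlatOverAt f (cokernel u) hV hW hWV hWflat
  have hπsurj : Function.Surjective (Helper45.appₗ (cokernel.π u) W) :=
    Groth.Agent.Lib.Helper42.app_surjective_of_epi (cokernel.π u) hW
  haveI hkfp : Module.FinitePresentation Γ(X, W) (LinearMap.ker (Helper45.appₗ (cokernel.π u) W)) :=
    Groth.Agent.H76.FlatKerFP.finitePresentation_ker Γ(Y, V) (Helper45.appₗ (cokernel.π u) W) hπsurj
  have hrange := range_app_eq_ker u hW
  have hfg : (LinearMap.ker (Helper45.appₗ u W)).FG := by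
    let φ' : Γ(F', W) →ₗ[Γ(X, W)] LinearMap.ker (Helper45.appₗ (cokernel.π u) W) :=
      (Helper45.appₗ u W).codRestrict _ (fun m => by rw [← hrange]; exact ⟨m, rfl⟩)
    have hφ' : Function.Surjective φ' := by
      rintro ⟨k, hk⟩
      rw [← hrange] at hk
      obtain ⟨m, hm⟩ := hk
      exact ⟨m, Subtype.ext hm⟩
    have := Module.FinitePresentation.fg_ker φ' hφ'
    rwa [LinearMap.ker_codRestrict] at this
  -- spread out from `x`
  obtain ⟨b, hbq, hb⟩ := exists_notMem_of_stalkMap_injective u hW hfg ⟨x, hxW⟩ hxinj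
  have hopen : IsOpen (hW.fromSpec '' (PrimeSpectrum.basicOpen b : Set (PrimeSpectrum Γ(X, W)))) :=
    hW.fromSpec.isOpenEmbedding.isOpenMap _ (PrimeSpectrum.basicOpen b).2
  refine Filter.mem_of_superset (hopen.mem_nhds ?_) ?_
  · exact ⟨hW.primeIdealOf ⟨x, hxW⟩, hbq, hW.fromSpec_primeIdealOf ⟨x, hxW⟩⟩
  · rintro _ ⟨q, hq, rfl⟩
    have hyW : hW.fromSpec q ∈ W := by
      have : hW.fromSpec q ∈ Set.range hW.fromSpec := ⟨q, rfl⟩
      rw [hW.range_fromSpec] at this
      exact this
    have hq' : hW.primeIdealOf ⟨hW.fromSpec q, hyW⟩ = q := by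
      apply hW.fromSpec.isOpenEmbedding.injective
      exact hW.fromSpec_primeIdealOf ⟨hW.fromSpec q, hyW⟩
    refine ⟨?_, hWflat ⟨_, hyW⟩⟩
    have hbq' : b ∉ (hW.primeIdealOf ⟨hW.fromSpec q, hyW⟩).asIdeal := by
      rw [hq']
      exact hq
    exact stalkMap_injective_of_notMem u hW b hb ⟨hW.fromSpec q, hyW⟩ hbq'

end Scheme

end Groth.Agent.Lib.Helper23.CokerFlatOpen
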