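/-
Helper library (helper23): spreading out geometric reducedness from the generic fibre
(EGA IV 9.7.7 (iii), positive direction), ring form.  Over a domain `A` with fraction field `F`, if
`B` is an `A`-algebra of finite type with `F ⊗ B` geometrically reduced over `F`, then there is a
nonzero `a : A` such that `k ⊗ B` is reduced for every field `k` over `A` in which `a` is
invertible.
-/
import Mathlib
import Groth.Agent.Lib.Helper91.GenericFreeness
import Groth.Agent.Lib.Helper13.GenSplit
import Groth.Agent.Lib.Helper50.GeomReducedLoc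
import Groth.Agent.Lib.Helper54.Reduced
import Groth.Agent.S2451

set_option autoImplicit false
universe u
open TensorProduct

namespace Groth.Agent.Lib.Helper23.GeomRedSpread

section Field

/-- A smooth algebra over a field is reduced. -/
theorem isReduced_of_smooth_field (k T : Type u) [Field k] [CommRing T] [Algebra k T]
    [Algebra.Smooth k T] : IsReduced T := by
  open AlgebraicGeometry CategoryTheory in
  have hsm : Smooth (Spec.map (CommRingCat.ofHom (algebraMap k T))) := by
    rw [HasRingHomProperty.Spec_iff (P := @Smooth)]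
    exact RingHom.smooth_algebraMap.mpr inferInstance
  haveI : AlgebraicGeometry.IsReduced (Spec (CommRingCat.of k)) := inferInstance
  have := Groth.Agent.Lib.Helper54.isReduced_of_smooth_scheme
    (Spec.map (CommRingCat.ofHom (algebraMap k T)))
  exact (affine_isReduced_iff (CommRingCat.of T)).mp this

/-- The local ring of a reduced ring at a minimal prime is a field. -/
theorem isField_localization_of_mem_minimalPrimes {C : Type u} [CommRing C] [IsReduced C]
    (q : Ideal C) [q.IsPrime] (hq : q ∈ minimalPrimes C) :
    IsField (Localization.AtPrime q) := by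
  rw [IsLocalRing.isField_iff_maximalIdeal_eq]
  have h := IsLocalization.AtPrime.radical_map_of_mem_minimalPrimes (Localization.AtPrime q) q ⊥ hq
  rw [Ideal.map_bot, IsLocalization.AtPrime.map_eq_maximalIdeal q (Localization.AtPrime q)] at h
  rw [← h]
  exact nilradical_eq_zero _

/-- A geometrically reduced algebra over a field is smooth at its minimal primes. -/
theorem isSmoothAt_of_mem_minimalPrimes {F C : Type u} [Field F] [CommRing C] [Algebra F C]
    [Algebra.IsGeometricallyReduced F C] (q : Ideal C) [q.IsPrime] (hq : q ∈ minimalPrimes C) :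
    Algebra.IsSmoothAt F q := by
  haveI : IsReduced C := Algebra.isReduced_of_isGeometricallyReduced (k := F)
  have hfield := isField_localization_of_mem_minimalPrimes q hq
  haveI : Algebra.IsGeometricallyReduced F (Localization.AtPrime q) :=
    Groth.Agent.Lib.Helper50.isGeometricallyReduced_of_isLocalization (k := F) (A := C)
      q.primeCompl
  letI := hfield.toField
  exact Groth.Agent.S2451.result.mpr inferInstance

end Field

section Core

variable {A B : Type u} [CommRing A] [IsDomain A] [CommRing B] [Algebra A B]
variable (F : Type u) [Field F] [Algebra A F] [IsFractionRing A F]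

attribute [local instance] Algebra.TensorProduct.rightAlgebra

omit [IsDomain A] in
/-- The smooth points of the generic fibre are smooth points of `B` over `A`. -/
theorem mem_smoothLocus_comap [Algebra.FinitePresentation A B]
    (q : Ideal (F ⊗[A] B)) [q.IsPrime]
    (hq : Algebra.IsSmoothAt F q) :
    (⟨q.comap (algebraMap B (F ⊗[A] B)), inferInstance⟩ : PrimeSpectrum B) ∈
      Algebra.smoothLocus A B := by
  set C := F ⊗[A] B
  haveI hloc : IsLocalization (Algebra.algebraMapSubmonoid B (nonZeroDivisors A)) C :=
    IsLocalization.tensorRight (R := A) (S := B) F (nonZeroDivisors A)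
  haveI : IsLocalization.AtPrime (Localization.AtPrime q) (q.comap (algebraMap B C)) :=
    IsLocalization.isLocalization_isLocalization_atPrime_isLocalization
      (Algebra.algebraMapSubmonoid B (nonZeroDivisors A)) (Localization.AtPrime q) q
  haveI : Algebra.FormallySmooth F (Localization.AtPrime q) := hq
  haveI : Algebra.FormallySmooth A F := Algebra.FormallySmooth.of_isLocalization (nonZeroDivisors A)
  haveI : Algebra.FormallySmooth A (Localization.AtPrime q) :=
    Algebra.FormallySmooth.comp A F (Localization.AtPrime q)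
  let e : Localization.AtPrime q ≃ₐ[B] Localization.AtPrime (q.comap (algebraMap B C)) :=
    IsLocalization.algEquiv (q.comap (algebraMap B C)).primeCompl _ _
  change Algebra.FormallySmooth A (Localization.AtPrime (q.comap (algebraMap B C)))
  exact Algebra.FormallySmooth.of_equiv (A := Localization.AtPrime q) (e.restrictScalars A)

omit [IsDomain A] in
/-- If the generic fibre of a flat finitely presented algebra over a domain is geometrically
reduced, there is a non-zero-divisor `b : B` with `B[1/b]` smooth over `A`. -/
theorem exists_smooth_away_of_isGeometricallyReduced [Algebra.FinitePresentation A B]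
    [Module.Flat A B]
    [Algebra.IsGeometricallyReduced F (F ⊗[A] B)] :
    ∃ b : B, Algebra.Smooth A (Localization.Away b) ∧ ∀ x : B, b * x = 0 → x = 0 := by
  classical
  set C := F ⊗[A] B
  haveI : IsReduced C := Algebra.isReduced_of_isGeometricallyReduced (k := F)
  haveI : IsNoetherianRing C := Algebra.FiniteType.isNoetherianRing F C
  have hfin : (minimalPrimes C).Finite := minimalPrimes.finite_of_isNoetherianRing C
  -- the complement of the smooth locus of `B` over `A`
  let Z : Set (PrimeSpectrum B) := (Algebra.smoothLocus A B)ᶜ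
  have hZ : IsClosed Z := Algebra.isOpen_smoothLocus.isClosed_compl
  let J : Ideal B := PrimeSpectrum.vanishingIdeal Z
  have hJ : PrimeSpectrum.zeroLocus (J : Set B) = Z := by
    rw [PrimeSpectrum.zeroLocus_vanishingIdeal_eq_closure, hZ.closure_eq]
  let t : Finset (Ideal B) := hfin.toFinset.image (Ideal.comap (algebraMap B C))
  have htprime : ∀ Q ∈ t, Q.IsPrime := by
    intro Q hQ
    obtain ⟨q, hq, rfl⟩ := Finset.mem_image.mp hQ
    have hq' : q ∈ minimalPrimes C := hfin.mem_toFinset.mp hq
    haveI := hq'.1.1
    infer_instance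
  have hnot : ¬ ((J : Set B) ⊆ ⋃ Q ∈ (t : Set (Ideal B)), (Q : Set B)) := by
    intro hsub
    obtain ⟨Q, hQt, hJQ⟩ := (Ideal.subset_union_prime (f := fun Q : Ideal B => Q) ⊥ ⊥
      (fun Q hQ _ _ => htprime Q hQ)).mp hsub
    obtain ⟨q, hq, rfl⟩ := Finset.mem_image.mp hQt
    have hq' : q ∈ minimalPrimes C := hfin.mem_toFinset.mp hq
    haveI := hq'.1.1
    have hsm := mem_smoothLocus_comap F q (isSmoothAt_of_mem_minimalPrimes q hq')
    have hmem : (⟨q.comap (algebraMap B C), inferInstance⟩ : PrimeSpectrum B) ∈
        PrimeSpectrum.zeroLocus (J : Set B) := hJQ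
    rw [hJ] at hmem
    exact hmem hsm
  obtain ⟨b, hbJ, hbt⟩ := Set.not_subset.mp hnot
  refine ⟨b, ?_, ?_⟩
  · rw [← Algebra.basicOpen_subset_smoothLocus_iff_smooth]
    intro p hp
    by_contra hps
    have hpZ : p ∈ PrimeSpectrum.zeroLocus (J : Set B) := by rw [hJ]; exact hps
    exact hp (hpZ hbJ)
  · intro x hx
    have hinj : Function.Injective (algebraMap B C) :=
      Algebra.TensorProduct.includeRight_injective (IsFractionRing.injective A F)
    apply hinj
    rw [map_zero]
    by_contra hne
    have hnil : algebraMap B C x ∉ nilradical C := by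
      rw [nilradical_eq_zero]; exact hne
    rw [nilradical, ← Ideal.sInf_minimalPrimes, Ideal.mem_sInf] at hnil
    push Not at hnil
    obtain ⟨q, hq, hxq⟩ := hnil
    haveI := hq.1.1
    have h0 : algebraMap B C b * algebraMap B C x ∈ q := by
      rw [← map_mul, hx, map_zero]; exact q.zero_mem
    rcases Ideal.IsPrime.mem_or_mem inferInstance h0 with h1 | h1
    · apply hbt
      simp only [Set.mem_iUnion]
      refine ⟨q.comap (algebraMap B C), ?_, h1⟩
      exact Finset.mem_coe.mpr (Finset.mem_image.mpr ⟨q, hfin.mem_toFinset.mpr hq, rfl⟩)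
    · exact hxq h1

omit [IsDomain A] F in
/-- If `b` acts injectively on `k ⊗ B` and `B[1/b]` is smooth over `A`, then `k ⊗ B` is reduced
(`k` a field). -/
theorem isReduced_tensor_of_smooth_away (k : Type u) [Field k] [Algebra A k] (b : B)
    [Algebra.Smooth A (Localization.Away b)]
    (hinj : Function.Injective
      (LinearMap.lTensor k ((LinearMap.mulLeft B b).restrictScalars A))) :
    IsReduced (k ⊗[A] B) := by
  let D := Localization.Away b
  letI : Algebra (k ⊗[A] B) (k ⊗[A] D) :=
    (Algebra.TensorProduct.map (AlgHom.id k k) (IsScalarTower.toAlgHom A B D)).toRingHom.toAlgebra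
  haveI hST : IsScalarTower k (k ⊗[A] B) (k ⊗[A] D) :=
    IsScalarTower.of_algebraMap_eq' (by
      ext x
      simp [RingHom.algebraMap_toAlgebra, Algebra.TensorProduct.algebraMap_apply])
  have hloc := IsLocalization.tensorProduct_tensorProduct_right A k (Submonoid.powers b) D (by
    ext x
    simp [RingHom.algebraMap_toAlgebra])
  haveI : IsReduced (k ⊗[A] D) := isReduced_of_smooth_field k (k ⊗[A] D)
  have hle : (Submonoid.powers b).map (Algebra.TensorProduct.includeRight (R := A) (A := k)) ≤
      nonZeroDivisors (k ⊗[A] B) := by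
    rintro _ ⟨_, ⟨n, rfl⟩, rfl⟩
    rw [map_pow]
    apply pow_mem
    rw [mem_nonZeroDivisors_iff_right]
    intro z hz
    apply hinj
    rw [map_zero]
    rw [mul_comm] at hz
    rw [← hz]
    clear hz
    induction z using TensorProduct.induction_on with
    | zero => simp
    | add x y hx hy => rw [map_add, mul_add, hx, hy]
    | tmul c x =>
      rw [LinearMap.lTensor_tmul, Algebra.TensorProduct.includeRight_apply,
        Algebra.TensorProduct.tmul_mul_tmul, one_mul]
      rfl
  have hι : Function.Injective (algebraMap (k ⊗[A] B) (k ⊗[A] D)) :=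
    IsLocalization.injective _ hle
  exact isReduced_of_injective (algebraMap (k ⊗[A] B) (k ⊗[A] D)) hι

/-- Spreading out geometric reducedness, flat finitely presented case. -/
theorem exists_forall_isReduced_tensor_of_fp [Algebra.FinitePresentation A B] [Module.Flat A B]
    [Algebra.IsGeometricallyReduced F (F ⊗[A] B)] :
    ∃ a : A, a ≠ 0 ∧ ∀ (k : Type u) [Field k] [Algebra A k], algebraMap A k a ≠ 0 →
      IsReduced (k ⊗[A] B) := by
  obtain ⟨b, hsm, hb⟩ := exists_smooth_away_of_isGeometricallyReduced (A := A) (B := B) F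
  have hφ : Function.Injective (LinearMap.mulLeft B b) := by
    rw [injective_iff_map_eq_zero]
    intro x hx
    exact hb x hx
  obtain ⟨a, ha, hA⟩ := Groth.Agent.Lib.Helper13.GenSplit.exists_forall_lTensor_injective
    (R := A) (S' := B) (LinearMap.mulLeft B b) hφ
  refine ⟨a, ha, fun k _ _ hk => ?_⟩
  exact isReduced_tensor_of_smooth_away k b (hA k (isUnit_iff_ne_zero.mpr hk))

/-- Spreading out geometric reducedness, finite type case over a domain. -/
theorem exists_forall_isReduced_tensor_of_ft [Algebra.FiniteType A B]
    [Algebra.IsGeometricallyReduced F (F ⊗[A] B)] :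
    ∃ a : A, a ≠ 0 ∧ ∀ (k : Type u) [Field k] [Algebra A k], algebraMap A k a ≠ 0 →
      IsReduced (k ⊗[A] B) := by
  obtain ⟨f, hf0, -, hfree, hfp, -⟩ :=
    Groth.Agent.Lib.Helper91.generic_freeness (R := A) (S := B) (M := B)
  have hfu : IsUnit (algebraMap A F f) :=
    isUnit_iff_ne_zero.mpr (by
      rw [Ne, map_eq_zero_iff _ (IsFractionRing.injective A F)]; exact hf0)
  letI algF : Algebra (Localization.Away f) F := (IsLocalization.Away.lift f hfu).toAlgebra
  haveI : IsScalarTower A (Localization.Away f) F :=
    IsScalarTower.of_algebraMap_eq' (IsLocalization.Away.lift_comp f hfu).symm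
  have hle : Submonoid.powers f ≤ nonZeroDivisors A :=
    Submonoid.powers_le.mpr (mem_nonZeroDivisors_of_ne_zero hf0)
  haveI : IsDomain (Localization.Away f) :=
    IsLocalization.isDomain_localization hle
  haveI : IsFractionRing (Localization.Away f) F :=
    IsFractionRing.isFractionRing_of_isDomain_of_isLocalization (Submonoid.powers f)
      (Localization.Away f) F
  let e : F ⊗[Localization.Away f] (Localization.Away f ⊗[A] B) ≃ₐ[F] F ⊗[A] B :=
    Algebra.TensorProduct.cancelBaseChange A (Localization.Away f) F F B
  haveI : Algebra.IsGeometricallyReduced F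
      (F ⊗[Localization.Away f] (Localization.Away f ⊗[A] B)) :=
    Algebra.IsGeometricallyReduced.of_injective e.toAlgHom e.injective
  obtain ⟨a₁, ha₁, h₁⟩ := exists_forall_isReduced_tensor_of_fp (A := Localization.Away f)
    (B := Localization.Away f ⊗[A] B) F
  obtain ⟨⟨a', ⟨_, n, rfl⟩⟩, h⟩ := IsLocalization.surj (Submonoid.powers f) a₁
  simp only at h
  have ha' : a' ≠ 0 := by
    rintro rfl
    rw [map_zero] at h
    rcases mul_eq_zero.mp h with h | h
    · exact ha₁ h
    · have := (IsLocalization.map_units (Localization.Away f)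
        (⟨f ^ n, n, rfl⟩ : Submonoid.powers f)).ne_zero
      exact this h
  refine ⟨f * a', mul_ne_zero hf0 ha', fun k _ _ hk => ?_⟩
  rw [map_mul] at hk
  have hfk : IsUnit (algebraMap A k f) := isUnit_iff_ne_zero.mpr (left_ne_zero_of_mul hk)
  letI algk : Algebra (Localization.Away f) k := (IsLocalization.Away.lift f hfk).toAlgebra
  haveI : IsScalarTower A (Localization.Away f) k :=
    IsScalarTower.of_algebraMap_eq' (IsLocalization.Away.lift_comp f hfk).symm
  have hk₁ : algebraMap (Localization.Away f) k a₁ ≠ 0 := by
    intro h0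
    have h2 := congrArg (algebraMap (Localization.Away f) k) h
    rw [map_mul, h0, zero_mul, ← IsScalarTower.algebraMap_apply] at h2
    exact right_ne_zero_of_mul hk h2.symm
  haveI := h₁ k hk₁
  let ek : k ⊗[Localization.Away f] (Localization.Away f ⊗[A] B) ≃ₐ[k] k ⊗[A] B :=
    Algebra.TensorProduct.cancelBaseChange A (Localization.Away f) k k B
  exact isReduced_of_injective ek.symm.toAlgHom.toRingHom ek.symm.injective

end Core

section RingForm

variable {A B : Type u} [CommRing A] [CommRing B] [Algebra A B]

/-- Geometric reducedness of the generic fibre from reducedness over the algebraic closure. -/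
theorem isGeometricallyReduced_tensor_of_isReduced {A₀ : Type u} [CommRing A₀] [Algebra A A₀]
    (F : Type u) [Field F] [Algebra A₀ F] [Algebra A F] [IsScalarTower A A₀ F]
    (h : IsReduced (AlgebraicClosure F ⊗[A] B)) :
    Algebra.IsGeometricallyReduced F (F ⊗[A₀] (A₀ ⊗[A] B)) := by
  rw [Algebra.isGeometricallyReduced_field_iff]
  let e1 : AlgebraicClosure F ⊗[F] (F ⊗[A₀] (A₀ ⊗[A] B)) ≃ₐ[AlgebraicClosure F]
      AlgebraicClosure F ⊗[A₀] (A₀ ⊗[A] B) :=
    Algebra.TensorProduct.cancelBaseChange A₀ F (AlgebraicClosure F) (AlgebraicClosure F)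
      (A₀ ⊗[A] B)
  let e2 : AlgebraicClosure F ⊗[A₀] (A₀ ⊗[A] B) ≃ₐ[AlgebraicClosure F]
      AlgebraicClosure F ⊗[A] B :=
    Algebra.TensorProduct.cancelBaseChange A A₀ (AlgebraicClosure F) (AlgebraicClosure F) B
  haveI : IsReduced (AlgebraicClosure F ⊗[A₀] (A₀ ⊗[A] B)) :=
    isReduced_of_injective e2.toAlgHom.toRingHom e2.injective
  exact isReduced_of_injective e1.toAlgHom.toRingHom e1.injective

/-- **Spreading geometric reducedness**, ring form with prime nilradical: if `B ⊗ K` is reduced
for every field `K` over the generic point of `Spec A`, then the same holds for all fields over a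
neighbourhood `D(a)` of the generic point. -/
theorem exists_forall_ringHom_isReduced [Algebra.FiniteType A B]
    (hp : (nilradical A).IsPrime)
    (h : ∀ (K : Type u) [Field K] (ψ₀ : A →+* K), RingHom.ker ψ₀ = nilradical A →
      (letI := ψ₀.toAlgebra; IsReduced (B ⊗[A] K))) :
    ∃ a : A, a ∉ nilradical A ∧ ∀ (k : Type u) [Field k] (ψ : A →+* k), ψ a ≠ 0 →
      (letI := ψ.toAlgebra; IsReduced (B ⊗[A] k)) := by
  haveI := hp
  have hker : RingHom.ker (algebraMap A (AlgebraicClosure (FractionRing (A ⧸ nilradical A)))) =
      nilradical A := by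
    ext x
    rw [RingHom.mem_ker, IsScalarTower.algebraMap_apply A (A ⧸ nilradical A)
        (AlgebraicClosure (FractionRing (A ⧸ nilradical A))),
      IsScalarTower.algebraMap_apply (A ⧸ nilradical A) (FractionRing (A ⧸ nilradical A))
        (AlgebraicClosure (FractionRing (A ⧸ nilradical A))),
      map_eq_zero_iff _ (algebraMap (FractionRing (A ⧸ nilradical A))
        (AlgebraicClosure (FractionRing (A ⧸ nilradical A)))).injective,
      map_eq_zero_iff _ (IsFractionRing.injective (A ⧸ nilradical A)
        (FractionRing (A ⧸ nilradical A))), Ideal.Quotient.algebraMap_eq,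
      Ideal.Quotient.eq_zero_iff_mem]
  have h1 := h (AlgebraicClosure (FractionRing (A ⧸ nilradical A))) (algebraMap A _) hker
  have halg : (algebraMap A (AlgebraicClosure (FractionRing (A ⧸ nilradical A)))).toAlgebra =
      AlgebraicClosure.instAlgebra (FractionRing (A ⧸ nilradical A)) :=
    Algebra.algebra_ext _ _ (fun r => rfl)
  rw [halg] at h1
  have h2 : IsReduced (B ⊗[A] AlgebraicClosure (FractionRing (A ⧸ nilradical A))) := h1
  haveI : IsReduced (AlgebraicClosure (FractionRing (A ⧸ nilradical A)) ⊗[A] B) := by
    let e3 := Algebra.TensorProduct.comm A (AlgebraicClosure (FractionRing (A ⧸ nilradical A))) B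
    exact isReduced_of_injective e3.toAlgHom.toRingHom e3.injective
  haveI := isGeometricallyReduced_tensor_of_isReduced (A := A) (B := B)
    (A₀ := A ⧸ nilradical A) (FractionRing (A ⧸ nilradical A)) inferInstance
  obtain ⟨a₀, ha₀, H⟩ := exists_forall_isReduced_tensor_of_ft (A := A ⧸ nilradical A)
    (B := (A ⧸ nilradical A) ⊗[A] B) (FractionRing (A ⧸ nilradical A))
  obtain ⟨a, rfl⟩ := Ideal.Quotient.mk_surjective a₀
  refine ⟨a, fun hmem => ha₀ (Ideal.Quotient.eq_zero_iff_mem.mpr hmem), fun k _ ψ hψ => ?_⟩
  letI := ψ.toAlgebra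
  have hle : ∀ x ∈ nilradical A, ψ x = 0 := by
    intro x hx
    exact (IsNilpotent.map hx ψ).eq_zero
  letI algk : Algebra (A ⧸ nilradical A) k :=
    (Ideal.Quotient.lift (nilradical A) ψ hle).toAlgebra
  haveI : IsScalarTower A (A ⧸ nilradical A) k := IsScalarTower.of_algebraMap_eq' (by
    ext x
    rfl)
  haveI := H k (by
    show Ideal.Quotient.lift (nilradical A) ψ hle (Ideal.Quotient.mk _ a) ≠ 0
    rw [Ideal.Quotient.lift_mk]; exact hψ)
  let e2 : k ⊗[A ⧸ nilradical A] ((A ⧸ nilradical A) ⊗[A] B) ≃ₐ[k] k ⊗[A] B :=
    Algebra.TensorProduct.cancelBaseChange A (A ⧸ nilradical A) k k B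
  let e3 : B ⊗[A] k ≃ₐ[A] k ⊗[A] B := Algebra.TensorProduct.comm A B k
  haveI : IsReduced (k ⊗[A] B) :=
    isReduced_of_injective e2.symm.toAlgHom.toRingHom e2.symm.injective
  exact isReduced_of_injective e3.toAlgHom.toRingHom e3.injective

end RingForm

end Groth.Agent.Lib.Helper23.GeomRedSpread
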