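import Mathlib
import Groth.Agent.Lib.Helper23.CokerFlatOpen

/-!
# Openness of the locus where global sections form a regular sequence on the fibre module
(EGA IV 11.3.8, openness part)
-/

set_option autoImplicit false
set_option linter.style.haveILetI false
universe u

namespace Groth.Agent.Lib.Helper23.FibreRegularOpen

open AlgebraicGeometry CategoryTheory Limits RingTheory.Sequence
open scoped Pointwise

section Alg

variable {B : Type*} [CommRing B] (J : Ideal B) {M M₁ : Type*} [AddCommGroup M] [Module B M]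
  [AddCommGroup M₁] [Module B M₁]

theorem isSMulRegular_quotient_iff (r : B) :
    IsSMulRegular (M ⧸ (J • (⊤ : Submodule B M))) r ↔
      ∀ m : M, r • m ∈ J • (⊤ : Submodule B M) → m ∈ J • (⊤ : Submodule B M) := by
  rw [isSMulRegular_iff_right_eq_zero_of_smul]
  constructor
  · intro h m hm
    have := h (Submodule.Quotient.mk m) (by
      rw [← Submodule.Quotient.mk_smul]
      exact (Submodule.Quotient.mk_eq_zero _).mpr hm)
    exact (Submodule.Quotient.mk_eq_zero _).mp this
  · intro h x hx
    obtain ⟨m, rfl⟩ := Submodule.Quotient.mk_surjective _ x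
    rw [← Submodule.Quotient.mk_smul, Submodule.Quotient.mk_eq_zero] at hx
    exact (Submodule.Quotient.mk_eq_zero _).mpr (h m hx)

/-- `(M/JM)/r(M/JM) ≃ M₁/JM₁` when `M₁ = M/rM`. -/
noncomputable def quotEquiv (r : B) (π : M →ₗ[B] M₁) (hπ : Function.Surjective π)
    (hker : LinearMap.ker π = LinearMap.range (LinearMap.lsmul B M r)) :
    QuotSMulTop r (M ⧸ (J • (⊤ : Submodule B M))) ≃ₗ[B] (M₁ ⧸ (J • (⊤ : Submodule B M₁))) := by
  let p₁ : M →ₗ[B] (M₁ ⧸ (J • (⊤ : Submodule B M₁))) := (J • (⊤ : Submodule B M₁)).mkQ ∘ₗ π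
  let p₂ : M →ₗ[B] QuotSMulTop r (M ⧸ (J • (⊤ : Submodule B M))) :=
    (r • (⊤ : Submodule B (M ⧸ (J • (⊤ : Submodule B M))))).mkQ ∘ₗ (J • (⊤ : Submodule B M)).mkQ
  have hp₁ : Function.Surjective p₁ := (Submodule.mkQ_surjective _).comp hπ
  have hp₂ : Function.Surjective p₂ :=
    (Submodule.mkQ_surjective _).comp (Submodule.mkQ_surjective _)
  have hk₁ : LinearMap.ker p₁ = J • (⊤ : Submodule B M) ⊔ r • (⊤ : Submodule B M) := by
    have h1 : J • (⊤ : Submodule B M₁) = (J • (⊤ : Submodule B M)).map π := by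
      rw [Submodule.map_smul'', Submodule.map_top, LinearMap.range_eq_top.mpr hπ]
    have hr : r • (⊤ : Submodule B M) = LinearMap.ker π := by
      rw [hker]
      ext m
      simp only [Submodule.mem_smul_pointwise_iff_exists, Submodule.mem_top, true_and,
        LinearMap.mem_range, LinearMap.lsmul_apply]
    rw [LinearMap.ker_comp, Submodule.ker_mkQ, h1, Submodule.comap_map_eq, hr]
  have hk₂ : LinearMap.ker p₂ = J • (⊤ : Submodule B M) ⊔ r • (⊤ : Submodule B M) := by
    have h1 : r • (⊤ : Submodule B (M ⧸ (J • (⊤ : Submodule B M)))) =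
        (r • (⊤ : Submodule B M)).map (J • (⊤ : Submodule B M)).mkQ := by
      rw [Submodule.map_pointwise_smul, Submodule.map_top, Submodule.range_mkQ]
    rw [LinearMap.ker_comp, Submodule.ker_mkQ, h1, Submodule.comap_map_eq, Submodule.ker_mkQ,
      sup_comm]
  exact ((LinearMap.quotKerEquivOfSurjective p₂ hp₂).symm.trans
    (Submodule.quotEquivOfEq _ _ (hk₂.trans hk₁.symm))).trans
      (LinearMap.quotKerEquivOfSurjective p₁ hp₁)

end Alg

section Scheme

open Groth.Agent.Lib Groth.Agent.Lib.Helper49 Groth.Agent.Lib.Helper45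

variable {X Y : Scheme.{u}}

/-- Multiplication by a global section, as an endomorphism of an `O_X`-module. -/
noncomputable def smulHom (r : Γ(X, ⊤)) (F : X.Modules) : F ⟶ F :=
  (⟨PresheafOfModules.homMk
    { app := fun U => F.smul (X.presheaf.map (homOfLE (le_top : U.unop ≤ ⊤)).op r)
      naturality := fun U V i => by
        have h := F.map_comp_smul (U := V.unop) (V := U.unop) i.unop
          (X.presheaf.map (homOfLE (le_top : U.unop ≤ ⊤)).op r)
        rw [← CommRingCat.comp_apply, ← X.presheaf.map_comp] at h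
        exact h.symm }
    (fun U s m => by
      let r' : Γ(X, U.unop) := X.presheaf.map (homOfLE (le_top : U.unop ≤ ⊤)).op r
      let s' : Γ(X, U.unop) := s
      let m' : Γ(F, U.unop) := m
      change r' • (s' • m') = s' • (r' • m')
      rw [smul_smul, smul_smul, mul_comm])⟩ : SheafOfModules.Hom F F)

theorem smulHom_app (r : Γ(X, ⊤)) (F : X.Modules) (U : X.Opens) (m : Γ(F, U)) :
    (smulHom r F).app U m = (X.presheaf.map (homOfLE (le_top : U ≤ ⊤)).op r) • m := rfl

theorem stalkMap_smulHom (r : Γ(X, ⊤)) (F : X.Modules) (x : X) (a : ↑(F.presheaf.stalk x)) :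
    (stalkMap (smulHom r F) x).hom a = (X.presheaf.germ ⊤ x trivial r) • a := by
  obtain ⟨U, hxU, m, rfl⟩ := TopCat.Presheaf.exists_germ_eq F.presheaf a
  rw [stalkMap_germ, smulHom_app, Helper45.germ_smul, TopCat.Presheaf.germ_res_apply]

theorem stalkMapLinear_smulHom (r : Γ(X, ⊤)) (F : X.Modules) (x : X) :
    stalkMapLinear (smulHom r F) x =
      LinearMap.lsmul (X.presheaf.stalk x) (F.presheaf.stalk x) (X.presheaf.germ ⊤ x trivial r) := by
  ext a
  exact stalkMap_smulHom r F x a

/-- Pointwise step of the induction. -/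
theorem pointwise_iff (f : X ⟶ Y) [LocallyOfFinitePresentation f] (F : X.Modules)
    [F.IsQuasicoherent] (hF : SheafOfModules.IsFinitePresentation (R := X.ringCatSheaf) F)
    (r : Γ(X, ⊤)) (x : X) (hflat : FlatMod.IsFlatOverAt f F x)
    (rs : List (X.presheaf.stalk x)) :
    IsWeaklyRegular (↑(F.presheaf.stalk x) ⧸ (Ideal.map (f.stalkMap x).hom
        (IsLocalRing.maximalIdeal ↑(Y.presheaf.stalk (f x))) •
        (⊤ : Submodule ↑(X.presheaf.stalk x) ↑(F.presheaf.stalk x))))
      ((X.presheaf.germ ⊤ x trivial r) :: rs) ↔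
    (Function.Injective (stalkMap (smulHom r F) x).hom ∧
      FlatMod.IsFlatOverAt f (cokernel (smulHom r F)) x) ∧
    IsWeaklyRegular (↑((cokernel (smulHom r F)).presheaf.stalk x) ⧸ (Ideal.map (f.stalkMap x).hom
        (IsLocalRing.maximalIdeal ↑(Y.presheaf.stalk (f x))) •
        (⊤ : Submodule ↑(X.presheaf.stalk x) ↑((cokernel (smulHom r F)).presheaf.stalk x)))) rs := by
  have hA := Groth.Agent.Lib.Helper23.CokerFlat.stalkMap_injective_and_coker_flat_iff f F F hF hF
    (smulHom r F) x hflat
  have hker : LinearMap.ker (stalkMapLinear (cokernel.π (smulHom r F)) x) =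
      LinearMap.range (LinearMap.lsmul (X.presheaf.stalk x) (F.presheaf.stalk x)
        (X.presheaf.germ ⊤ x trivial r)) := by
    rw [← stalkMapLinear_smulHom]
    exact LinearMap.exact_iff.mp
      (Groth.Agent.Lib.Helper23.CokerFlat.stalkMap_cokernel_exact (smulHom r F) x)
  let e := quotEquiv (Ideal.map (f.stalkMap x).hom
      (IsLocalRing.maximalIdeal ↑(Y.presheaf.stalk (f x)))) (X.presheaf.germ ⊤ x trivial r)
    (stalkMapLinear (cokernel.π (smulHom r F)) x)
    (Helper49.stalkMap_surjective_of_epi (cokernel.π (smulHom r F)) x) hker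
  rw [isWeaklyRegular_cons_iff, isSMulRegular_quotient_iff, e.isWeaklyRegular_congr rs, hA]
  refine and_congr_left fun _ => ?_
  refine forall_congr' fun m => ?_
  rw [stalkMap_smulHom]

set_option backward.isDefEq.respectTransparency false in
theorem isFiniteType_of_isFinitePresentation (F : X.Modules)
    (hF : SheafOfModules.IsFinitePresentation (R := X.ringCatSheaf) F) :
    SheafOfModules.IsFiniteType (R := X.ringCatSheaf) F := by
  haveI := hF
  infer_instance

/-- The locus where `F` is `f`-flat and the germs of `g` form a weakly regular sequence on the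
fibre module is open. -/
theorem isOpen_aux (f : X ⟶ Y) [LocallyOfFinitePresentation f] :
    ∀ (n : ℕ) (F : X.Modules) [F.IsQuasicoherent]
      (_ : SheafOfModules.IsFinitePresentation (R := X.ringCatSheaf) F) (g : Fin n → Γ(X, ⊤)),
    IsOpen {x : X | FlatMod.IsFlatOverAt f F x ∧
      IsWeaklyRegular (↑(F.presheaf.stalk x) ⧸ (Ideal.map (f.stalkMap x).hom
          (IsLocalRing.maximalIdeal ↑(Y.presheaf.stalk (f x))) •
          (⊤ : Submodule ↑(X.presheaf.stalk x) ↑(F.presheaf.stalk x))))
        (List.ofFn fun i => (X.presheaf.germ ⊤ x trivial) (g i))}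
  | 0, F, _, hF, g => by
    simp only [List.ofFn_zero, IsWeaklyRegular.nil, and_true]
    exact Groth.Agent.H76.FlatLocusSheaf.isOpen_isFlatOverAt f F hF
  | n + 1, F, _, hF, g => by
    haveI hCq : (cokernel (smulHom (g 0) F)).IsQuasicoherent :=
      isQuasicoherent_cokernel _ inferInstance inferInstance
    have hC : SheafOfModules.IsFinitePresentation (R := X.ringCatSheaf)
        (cokernel (smulHom (g 0) F)) :=
      Groth.Agent.Lib.Helper18.FPPullEpi.isFinitePresentation_cokernel _
        (isFiniteType_of_isFinitePresentation F hF) hF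
    have h1 := Groth.Agent.H76.FlatLocusSheaf.isOpen_isFlatOverAt f F hF
    have h2 := Groth.Agent.Lib.Helper23.CokerFlatOpen.isOpen_setOf_injective_and_coker_flat f F F
      hF hF (smulHom (g 0) F)
    have h3 := isOpen_aux f n (cokernel (smulHom (g 0) F)) hC (fun i => g i.succ)
    convert (h1.inter h2).inter h3 using 1
    ext x
    simp only [Set.mem_ofPred_eq, Set.mem_inter_iff, List.ofFn_succ]
    constructor
    · rintro ⟨hfl, hreg⟩
      have := (pointwise_iff f F hF (g 0) x hfl _).mp hreg
      exact ⟨⟨hfl, this.1⟩, this.1.2, this.2⟩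
    · rintro ⟨⟨hfl, hic⟩, -, hreg⟩
      exact ⟨hfl, (pointwise_iff f F hF (g 0) x hfl _).mpr ⟨hic, hreg⟩⟩

/-- **S4866.** -/
theorem isOpen_setOf_fibre_isWeaklyRegular [IsLocallyNoetherian Y] (f : X ⟶ Y)
    [LocallyOfFiniteType f] (F : X.Modules) (hF : Coh.IsCoh F) (hflat : FlatMod.IsFlatOver f F)
    (n : ℕ) (g : Fin n → Γ(X, ⊤)) :
    IsOpen {x : X |
      IsWeaklyRegular
        (↑(F.presheaf.stalk x) ⧸ (Ideal.map (f.stalkMap x).hom
          (IsLocalRing.maximalIdeal ↑(Y.presheaf.stalk (f x))) •
          (⊤ : Submodule ↑(X.presheaf.stalk x) ↑(F.presheaf.stalk x))))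
        (List.ofFn fun i => (X.presheaf.germ ⊤ x trivial) (g i))} := by
  haveI hX : IsLocallyNoetherian X := LocallyOfFiniteType.isLocallyNoetherian f
  haveI : F.IsQuasicoherent := hF.1
  have hfp : SheafOfModules.IsFinitePresentation (R := X.ringCatSheaf) F :=
    isFinitePresentation_of_isFiniteType_of_noetherian F hF.2
  have := isOpen_aux f n F hfp g
  convert this using 1
  ext x
  simp only [Set.mem_ofPred_eq]
  exact ⟨fun h => ⟨hflat x, h⟩, fun h => h.2⟩

end Scheme

end Groth.Agent.Lib.Helper23.FibreRegularOpen
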