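/-
Helper library (helper23): constructible subsets and cofiltered limits of schemes with affine
transition maps (compactness statements in the spirit of EGA IV 8.3.2, 8.3.3).
-/
import Mathlib

set_option autoImplicit false
universe u
open CategoryTheory AlgebraicGeometry Limits Topology

namespace Groth.Agent.Lib.Helper23

section Topology

variable {X : Type*} [TopologicalSpace X]

/-- Induction principle: constructible sets are finite unions of differences of retrocompact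
opens. -/
theorem isConstructible_sdiff_union_induction {p : Set X → Prop}
    (sdiff : ∀ U V : Set X, IsOpen U → IsRetrocompact U → IsOpen V → IsRetrocompact V → p (U \ V))
    (union : ∀ s t : Set X, IsConstructible s → IsConstructible t → p s → p t → p (s ∪ t))
    {s : Set X} (hs : IsConstructible s) : p s := by
  induction s, hs using BooleanSubalgebra.closure_sdiff_sup_induction with
  | isSublattice =>
    exact ⟨fun s hs t ht ↦ ⟨hs.1.union ht.1, hs.2.union ht.2⟩,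
      fun s hs t ht ↦ ⟨hs.1.inter ht.1, hs.2.inter_isOpen ht.2 ht.1⟩⟩
  | bot_mem => exact ⟨isOpen_empty, .empty⟩
  | top_mem => exact ⟨isOpen_univ, .univ⟩
  | sdiff U hU V hV => exact sdiff U V hU.1 hU.2 hV.1 hV.2
  | sup s hs t ht hs' ht' => exact union s t hs ht hs' ht'

/-- The intersection of a constructible set with a compact open is compact. -/
theorem IsConstructible.isCompact_inter {s W : Set X} (hs : IsConstructible s)
    (hW : IsCompact W) (hWo : IsOpen W) : IsCompact (s ∩ W) := by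
  refine isConstructible_sdiff_union_induction (p := fun s => IsCompact (s ∩ W)) ?_ ?_ hs
  · intro U V hU hU' hV hV'
    have h1 : IsCompact (U ∩ W) := hU' hW hWo
    have h2 : (U \ V) ∩ W = (U ∩ W) ∩ Vᶜ := by
      ext x; simp only [Set.mem_inter_iff, Set.mem_sdiff, Set.mem_compl_iff]; tauto
    rw [h2]
    exact h1.inter_right hV.isClosed_compl
  · intro s t hs ht hs' ht'
    rw [Set.union_inter_distrib_right]
    exact hs'.union ht'

end Topology

section Lim

variable {I : Type u} [Category.{u} I] [IsCofiltered I] (D : I ⥤ Scheme.{u}) (c : Cone D)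
  (hc : IsLimit c) [∀ {i j : I} (f : i ⟶ j), IsAffineHom (D.map f)]

omit [IsCofiltered I] [∀ {i j : I} (f : i ⟶ j), IsAffineHom (D.map f)] in
theorem map_comp_apply {i j k : I} (a : k ⟶ j) (b : j ⟶ i) (x : D.obj k) :
    D.map (a ≫ b) x = D.map b (D.map a x) := by
  rw [D.map_comp, Scheme.Hom.comp_apply]

omit [IsCofiltered I] [∀ {i j : I} (f : i ⟶ j), IsAffineHom (D.map f)] in
theorem map_π_apply {i j : I} (a : j ⟶ i) (x : c.pt) :
    D.map a (c.π.app j x) = c.π.app i x := by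
  rw [← Scheme.Hom.comp_apply, c.w]

include hc in
/-- If the preimage in the limit of a constructible set (cut by a compact open) is contained in
the preimage of an open, the same holds at some stage. -/
theorem exists_map_preimage_subset_of_isConstructible {i : I} (T : Set (D.obj i))
    (hT : IsConstructible T) (W : (D.obj i).Opens) (hW : IsCompact (W : Set (D.obj i)))
    (V : (D.obj i).Opens)
    (H : c.π.app i ⁻¹' (T ∩ W) ⊆ c.π.app i ⁻¹' V) :
    ∃ (j : I) (φ : j ⟶ i), D.map φ ⁻¹' (T ∩ W) ⊆ D.map φ ⁻¹' V := by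
  revert V
  refine isConstructible_sdiff_union_induction (p := fun T => ∀ V : (D.obj i).Opens,
    c.π.app i ⁻¹' (T ∩ W) ⊆ c.π.app i ⁻¹' V →
      ∃ (j : I) (φ : j ⟶ i), D.map φ ⁻¹' (T ∩ W) ⊆ D.map φ ⁻¹' V) ?_ ?_ hT
  · intro U U' hU hU' hU'o _ V H
    let UW : (D.obj i).Opens := ⟨U ∩ W, hU.inter W.2⟩
    have hUW : IsCompact (UW : Set (D.obj i)) := hU' hW W.2
    let V' : (D.obj i).Opens := ⟨U', hU'o⟩ ⊔ V
    have H' : c.π.app i ⁻¹ᵁ UW ≤ c.π.app i ⁻¹ᵁ V' := by
      intro x hx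
      have hx' : c.π.app i x ∈ U ∩ W := hx
      by_cases hxU' : c.π.app i x ∈ U'
      · exact Or.inl hxU'
      · exact Or.inr (H (show c.π.app i x ∈ (U \ U') ∩ W from ⟨⟨hx'.1, hxU'⟩, hx'.2⟩))
    obtain ⟨j, φ, h⟩ := exists_map_preimage_le_map_preimage D c hc hUW H'
    refine ⟨j, φ, ?_⟩
    rintro x ⟨⟨hxU, hxU'⟩, hxW⟩
    have h1 : D.map φ x ∈ U' ∨ D.map φ x ∈ V := h (show D.map φ x ∈ U ∩ W from ⟨hxU, hxW⟩)
    rcases h1 with h1 | h1
    · exact absurd h1 hxU'
    · exact h1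
  · intro s t _ _ hs ht V H
    obtain ⟨j₁, φ₁, h₁⟩ := hs V (fun x hx => H ⟨Or.inl hx.1, hx.2⟩)
    obtain ⟨j₂, φ₂, h₂⟩ := ht V (fun x hx => H ⟨Or.inr hx.1, hx.2⟩)
    obtain ⟨k, a, b, e⟩ := IsCofiltered.cospan φ₁ φ₂
    refine ⟨k, a ≫ φ₁, ?_⟩
    rintro x ⟨hx | hx, hxW⟩
    · have h3 : D.map a x ∈ D.map φ₁ ⁻¹' V := h₁ (by
        refine ⟨?_, ?_⟩
        · simpa only [Set.mem_preimage, map_comp_apply] using hx
        · simpa only [Set.mem_preimage, map_comp_apply] using hxW)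
      simpa only [Set.mem_preimage, map_comp_apply] using h3
    · rw [e] at hx hxW ⊢
      have h3 : D.map b x ∈ D.map φ₂ ⁻¹' V := h₂ (by
        refine ⟨?_, ?_⟩
        · simpa only [Set.mem_preimage, map_comp_apply] using hx
        · simpa only [Set.mem_preimage, map_comp_apply] using hxW)
      simpa only [Set.mem_preimage, map_comp_apply] using h3

include hc in
/-- EGA IV 8.3.2 for sets of the form (closed) ∩ (constructible ∩ compact open): a compatible
family of nonempty such sets has a common point in the limit. -/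
theorem exists_mem_of_isClosed_inter_isConstructible (i₁ : I) (Z₁ : Set (D.obj i₁))
    (hZ₁ : IsConstructible Z₁) (W₁ : (D.obj i₁).Opens) (hW₁ : IsCompact (W₁ : Set (D.obj i₁)))
    (F : ∀ j : Over i₁, Set (D.obj j.left)) (hFc : ∀ j, IsClosed (F j))
    (hstab : ∀ {j k : Over i₁} (ψ : k ⟶ j), Set.MapsTo (D.map ψ.left) (F k) (F j))
    (hne : ∀ j : Over i₁, (F j ∩ D.map j.hom ⁻¹' (Z₁ ∩ W₁)).Nonempty) :
    ∃ s : c.pt, c.π.app i₁ s ∈ Z₁ ∩ W₁ ∧ ∀ j : Over i₁, c.π.app j.left s ∈ F j := by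
  by_contra hcon
  push Not at hcon
  have hπaff := isAffineHom_π_app D c hc i₁
  have hK : IsCompact (c.π.app i₁ ⁻¹' (Z₁ ∩ W₁)) := by
    rw [Set.preimage_inter]
    apply IsConstructible.isCompact_inter
    · exact (c.π.app i₁).isConstructible_preimage hZ₁
    · exact QuasiCompact.isCompact_preimage (f := c.π.app i₁) _ W₁.2 hW₁
    · exact W₁.2.preimage (c.π.app i₁).continuous
  obtain ⟨t, ht⟩ := hK.elim_finite_subcover (fun j : Over i₁ => (c.π.app j.left ⁻¹' (F j))ᶜ)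
    (fun j => ((hFc j).preimage (c.π.app j.left).continuous).isOpen_compl)
    (fun s hs => by
      obtain ⟨j, hj⟩ := hcon s hs
      exact Set.mem_iUnion.mpr ⟨j, hj⟩)
  obtain ⟨k, hk⟩ := IsCofiltered.inf_objs_exists t
  have h1 : c.π.app k.left ⁻¹' (D.map k.hom ⁻¹' Z₁ ∩ (D.map k.hom ⁻¹ᵁ W₁ : (D.obj k.left).Opens)) ⊆
      c.π.app k.left ⁻¹' ((⟨(F k)ᶜ, (hFc k).isOpen_compl⟩ : (D.obj k.left).Opens) :
        Set (D.obj k.left)) := by
    intro s hs
    have hs' : s ∈ c.π.app i₁ ⁻¹' (Z₁ ∩ W₁) := by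
      have h3 : D.map k.hom (c.π.app k.left s) ∈ Z₁ ∧ D.map k.hom (c.π.app k.left s) ∈ W₁ := hs
      rw [map_π_apply] at h3
      exact h3
    obtain ⟨a, hat, ha⟩ := Set.mem_iUnion₂.mp (ht hs')
    obtain ⟨ψ⟩ := hk hat
    intro hsk
    apply ha
    have h4 := hstab ψ hsk
    rwa [map_π_apply] at h4
  obtain ⟨l, ψ, h2⟩ := exists_map_preimage_subset_of_isConstructible D c hc
    (D.map k.hom ⁻¹' Z₁) ((D.map k.hom).isConstructible_preimage hZ₁) (D.map k.hom ⁻¹ᵁ W₁)
    (QuasiCompact.isCompact_preimage (f := D.map k.hom) _ W₁.2 hW₁) _ h1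
  let l' : Over i₁ := Over.mk (ψ ≫ k.hom)
  obtain ⟨x, hxF, hxZ⟩ := hne l'
  have hx1 : D.map ψ x ∈ (F k)ᶜ := h2 (by
    have h5 : D.map (ψ ≫ k.hom) x ∈ Z₁ ∩ W₁ := hxZ
    rw [map_comp_apply] at h5
    exact h5)
  exact hx1 (hstab (Over.homMk ψ : l' ⟶ k) hxF)

include hc in
/-- EGA IV 8.3.3 (one inclusion) for constructible sets: a point of the limit all of whose
projections lie in the closures of the preimages of `Z₁` lies in the closure of the preimage of
`Z₁`. -/
theorem mem_closure_preimage_of_forall_mem_closure (i₁ : I) (Z₁ : Set (D.obj i₁))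
    (hZ₁ : IsConstructible Z₁) (s : c.pt)
    (hs : ∀ j : Over i₁, c.π.app j.left s ∈ closure (D.map j.hom ⁻¹' Z₁)) :
    s ∈ closure (c.π.app i₁ ⁻¹' Z₁) := by
  rw [mem_closure_iff]
  intro O hO hsO
  obtain ⟨_, ⟨i, V, hV, rfl⟩, hsV, hVO⟩ :=
    TopologicalSpace.Opens.isBasis_iff_nbhd.mp (isBasis_preimage_isAffineOpen D c hc)
      (U := ⟨O, hO⟩) hsO
  let k := IsCofiltered.min i i₁
  let a : k ⟶ i := IsCofiltered.minToLeft i i₁
  let b : k ⟶ i₁ := IsCofiltered.minToRight i i₁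
  by_contra hempty
  have h1 : c.π.app k ⁻¹' (D.map b ⁻¹' Z₁ ∩ (D.map a ⁻¹ᵁ V : (D.obj k).Opens)) ⊆
      c.π.app k ⁻¹' ((⊥ : (D.obj k).Opens) : Set (D.obj k)) := by
    intro x hx
    exfalso
    apply hempty
    refine ⟨x, hVO ?_, ?_⟩
    · have h3 : D.map a (c.π.app k x) ∈ V := hx.2
      rwa [map_π_apply] at h3
    · have h3 : D.map b (c.π.app k x) ∈ Z₁ := hx.1
      rwa [map_π_apply] at h3
  obtain ⟨l, ψ, h2⟩ := exists_map_preimage_subset_of_isConstructible D c hc _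
    ((D.map b).isConstructible_preimage hZ₁) (D.map a ⁻¹ᵁ V) ((hV.preimage (D.map a)).isCompact)
    ⊥ h1
  have h3 := hs (Over.mk (ψ ≫ b))
  rw [mem_closure_iff] at h3
  obtain ⟨y, hyV, hyZ⟩ := h3 (D.map (ψ ≫ a) ⁻¹' V) (V.2.preimage (D.map (ψ ≫ a)).continuous) (by
    change D.map (ψ ≫ a) (c.π.app l s) ∈ V
    rw [map_π_apply]
    exact hsV)
  refine h2 (a := y) ⟨?_, ?_⟩
  · have h4 : D.map (ψ ≫ b) y ∈ Z₁ := hyZ
    rwa [map_comp_apply] at h4
  · have h4 : D.map (ψ ≫ a) y ∈ V := hyV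
    rwa [map_comp_apply] at h4

omit [IsCofiltered I] [∀ {i j : I} (f : i ⟶ j), IsAffineHom (D.map f)] in
theorem over_map_apply {i₁ : I} {j k : Over i₁} (ψ : k ⟶ j) (x : D.obj k.left) :
    D.map j.hom (D.map ψ.left x) = D.map k.hom x := by
  rw [← map_comp_apply, Over.w]

omit [IsCofiltered I] [∀ {i j : I} (f : i ⟶ j), IsAffineHom (D.map f)] in
theorem mapsTo_closure_preimage {i₁ : I} (A : Set (D.obj i₁)) {j k : Over i₁} (ψ : k ⟶ j) :
    Set.MapsTo (D.map ψ.left) (closure (D.map k.hom ⁻¹' A)) (closure (D.map j.hom ⁻¹' A)) := by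
  intro x hx
  refine map_mem_closure (D.map ψ.left).continuous hx ?_
  intro y hy
  change D.map j.hom (D.map ψ.left y) ∈ A
  rw [over_map_apply]
  exact hy

include hc in
/-- If the preimage in the limit of a constructible set is open, so is its preimage at some
stage. -/
theorem exists_isOpen_map_preimage_of_isOpen_preimage (i₁ : I) [CompactSpace (D.obj i₁)]
    (Z₁ : Set (D.obj i₁)) (hZ₁ : IsConstructible Z₁) (h : IsOpen (c.π.app i₁ ⁻¹' Z₁)) :
    ∃ (j : I) (φ : j ⟶ i₁), IsOpen (D.map φ ⁻¹' Z₁) := by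
  by_contra hcon
  push Not at hcon
  have hne : ∀ j : Over i₁, (closure (D.map j.hom ⁻¹' Z₁ᶜ) ∩
      D.map j.hom ⁻¹' (Z₁ ∩ ((⊤ : (D.obj i₁).Opens) : Set (D.obj i₁)))).Nonempty := by
    intro j
    by_contra hemp
    rw [Set.not_nonempty_iff_eq_empty] at hemp
    apply hcon j.left j.hom
    have hcl : IsClosed (D.map j.hom ⁻¹' Z₁ᶜ) := by
      rw [← closure_subset_iff_isClosed]
      intro x hx
      by_contra hx'
      have h1 : x ∈ (∅ : Set (D.obj j.left)) := by
        rw [← hemp]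
        refine ⟨hx, ?_, trivial⟩
        by_contra h2
        exact hx' h2
      exact h1
    rw [Set.preimage_compl, isClosed_compl_iff] at hcl
    exact hcl
  obtain ⟨s, hsZ, hsF⟩ := exists_mem_of_isClosed_inter_isConstructible D c hc i₁ Z₁ hZ₁ ⊤
    isCompact_univ (fun j => closure (D.map j.hom ⁻¹' Z₁ᶜ)) (fun j => isClosed_closure)
    (fun ψ => mapsTo_closure_preimage D Z₁ᶜ ψ) hne
  have h1 := mem_closure_preimage_of_forall_mem_closure D c hc i₁ Z₁ᶜ hZ₁.compl s hsF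
  rw [Set.preimage_compl, closure_compl, h.interior_eq] at h1
  exact h1 hsZ.1

omit [IsCofiltered I] [∀ {i j : I} (f : i ⟶ j), IsAffineHom (D.map f)] in
theorem map_comp_preimage {i j k : I} (a : k ⟶ j) (b : j ⟶ i) (A : Set (D.obj i)) :
    D.map (a ≫ b) ⁻¹' A = D.map a ⁻¹' (D.map b ⁻¹' A) := by
  ext x
  simp only [Set.mem_preimage, map_comp_apply]

omit [IsCofiltered I] [∀ {i j : I} (f : i ⟶ j), IsAffineHom (D.map f)] in
theorem π_preimage_map_preimage {i j : I} (a : j ⟶ i) (A : Set (D.obj i)) :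
    c.π.app j ⁻¹' (D.map a ⁻¹' A) = c.π.app i ⁻¹' A := by
  ext x
  simp only [Set.mem_preimage, map_π_apply]

include hc in
/-- If the preimage in the limit of a constructible set is locally closed, so is its preimage at
some stage. -/
theorem exists_isLocallyClosed_map_preimage_of_isLocallyClosed_preimage (i₁ : I)
    [CompactSpace (D.obj i₁)] (Z₁ : Set (D.obj i₁)) (hZ₁ : IsConstructible Z₁)
    (h : IsLocallyClosed (c.π.app i₁ ⁻¹' Z₁)) :
    ∃ (j : I) (φ : j ⟶ i₁), IsLocallyClosed (D.map φ ⁻¹' Z₁) := by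
  by_contra hcon
  push Not at hcon
  -- the "border" sets
  let T : ∀ j : Over i₁, Set (D.obj j.left) := fun j =>
    closure (D.map j.hom ⁻¹' Z₁) \ (D.map j.hom ⁻¹' Z₁)
  have hne : ∀ j : Over i₁, (closure (T j) ∩
      D.map j.hom ⁻¹' (Z₁ ∩ ((⊤ : (D.obj i₁).Opens) : Set (D.obj i₁)))).Nonempty := by
    intro j
    by_contra hemp
    rw [Set.not_nonempty_iff_eq_empty] at hemp
    apply hcon j.left j.hom
    rw [isLocallyClosed_iff_isOpen_coborder, coborder, isOpen_compl_iff,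
      ← closure_subset_iff_isClosed]
    intro x hx
    have hx1 : x ∈ closure (D.map j.hom ⁻¹' Z₁) :=
      closure_minimal Set.sdiff_subset isClosed_closure hx
    refine ⟨hx1, fun hx2 => ?_⟩
    have h1 : x ∈ (∅ : Set (D.obj j.left)) := by
      rw [← hemp]
      exact ⟨hx, hx2, trivial⟩
    exact h1
  have hstabT : ∀ {j k : Over i₁} (ψ : k ⟶ j), Set.MapsTo (D.map ψ.left) (T k) (T j) := by
    intro j k ψ x hx
    refine ⟨mapsTo_closure_preimage D Z₁ ψ hx.1, fun hx2 => hx.2 ?_⟩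
    have h3 : D.map j.hom (D.map ψ.left x) ∈ Z₁ := hx2
    rwa [over_map_apply] at h3
  obtain ⟨s, hsZ, hsF⟩ := exists_mem_of_isClosed_inter_isConstructible D c hc i₁ Z₁ hZ₁ ⊤
    isCompact_univ (fun j => closure (T j)) (fun j => isClosed_closure)
    (fun ψ x hx => map_mem_closure (D.map ψ.left).continuous hx (hstabT ψ)) hne
  -- an open neighbourhood `O` of `s` with `O ∩ closure Z ⊆ Z`
  have h4 : ∀ x ∈ (c.π.app i₁ ⁻¹' Z₁ : Set c.pt), ∃ U, x ∈ U ∧ IsOpen U ∧
      U ∩ closure (c.π.app i₁ ⁻¹' Z₁) ⊆ c.π.app i₁ ⁻¹' Z₁ :=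
    ((isLocallyClosed_tfae (c.π.app i₁ ⁻¹' Z₁ : Set c.pt)).out 0 3).mp h
  obtain ⟨O, hsO, hO, hOZ⟩ := h4 s hsZ.1
  obtain ⟨_, ⟨i, V, hV, rfl⟩, hsV, hVO⟩ :=
    TopologicalSpace.Opens.isBasis_iff_nbhd.mp (isBasis_preimage_isAffineOpen D c hc)
      (U := ⟨O, hO⟩) hsO
  let k₀ := IsCofiltered.min i i₁
  let a : k₀ ⟶ i := IsCofiltered.minToLeft i i₁
  let b : k₀ ⟶ i₁ := IsCofiltered.minToRight i i₁
  have hne' : ∀ k : Over k₀, (closure (D.map k.hom ⁻¹' (D.map b ⁻¹' Z₁)) ∩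
      D.map k.hom ⁻¹' ((D.map b ⁻¹' Z₁)ᶜ ∩ ((D.map a ⁻¹ᵁ V : (D.obj k₀).Opens) :
        Set (D.obj k₀)))).Nonempty := by
    intro k
    have h1 := hsF (Over.mk (k.hom ≫ b))
    rw [mem_closure_iff] at h1
    obtain ⟨y, hyV, hyT⟩ := h1 (D.map (k.hom ≫ a) ⁻¹' V)
      (V.2.preimage (D.map (k.hom ≫ a)).continuous) (by
        change D.map (k.hom ≫ a) (c.π.app k.left s) ∈ V
        rw [map_π_apply]
        exact hsV)
    refine ⟨y, ?_, ?_, ?_⟩
    · have h2 := hyT.1
      simp only [Over.mk_hom, Over.mk_left] at h2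
      rwa [map_comp_preimage] at h2
    · intro h2
      apply hyT.2
      change D.map (k.hom ≫ b) y ∈ Z₁
      rw [map_comp_apply]
      exact h2
    · change D.map a (D.map k.hom y) ∈ V
      rw [← map_comp_apply]
      exact hyV
  obtain ⟨s', hs'Z, hs'F⟩ := exists_mem_of_isClosed_inter_isConstructible D c hc k₀
    (D.map b ⁻¹' Z₁)ᶜ ((D.map b).isConstructible_preimage hZ₁).compl (D.map a ⁻¹ᵁ V)
    ((hV.preimage (D.map a)).isCompact)
    (fun k => closure (D.map k.hom ⁻¹' (D.map b ⁻¹' Z₁))) (fun k => isClosed_closure)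
    (fun ψ => mapsTo_closure_preimage D (D.map b ⁻¹' Z₁) ψ) hne'
  have h2 := mem_closure_preimage_of_forall_mem_closure D c hc k₀ (D.map b ⁻¹' Z₁)
    ((D.map b).isConstructible_preimage hZ₁) s' hs'F
  rw [π_preimage_map_preimage] at h2
  have h3 : s' ∈ O := by
    apply hVO
    change c.π.app i s' ∈ V
    have h4 : D.map a (c.π.app k₀ s') ∈ V := hs'Z.2
    rwa [map_π_apply] at h4
  have h5 : c.π.app i₁ s' ∈ Z₁ := hOZ ⟨h3, h2⟩
  apply hs'Z.1
  change D.map b (c.π.app k₀ s') ∈ Z₁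
  rw [map_π_apply]
  exact h5

end Lim

end Groth.Agent.Lib.Helper23
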