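/-
Helper library (helper23): topological lemmas on pro-constructible and ind-constructible sets
(in the local sense of `Groth.Prelude.Def_ProCons`) and on the constructible topology.
-/
import Mathlib
import Groth.Prelude.Def_ProCons

set_option autoImplicit false
open Topology

namespace Groth.Agent.Lib.Helper23

section Restrict

variable {X Y : Type*} [TopologicalSpace X] [TopologicalSpace Y]

/-- Pro-constructibility is preserved by restriction along an open embedding. -/
theorem isProConstructible_preimage_of_isOpenEmbedding {f : Y → X} (hf : IsOpenEmbedding f)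
    {E : Set X} (hE : ProCons.IsProConstructible E) : ProCons.IsProConstructible (f ⁻¹' E) := by
  intro y
  obtain ⟨N, hN, hyN, 𝒯, h𝒯, hE𝒯⟩ := hE (f y)
  refine ⟨f ⁻¹' N, hN.preimage hf.continuous, hyN,
    (fun T => (N.restrictPreimage f) ⁻¹' T) '' 𝒯, ?_, ?_⟩
  · rintro _ ⟨T, hT, rfl⟩
    exact (h𝒯 T hT).preimage_of_isOpenEmbedding (hf.restrictPreimage N)
  · ext z
    have h1 : (N.restrictPreimage f z : X) = f z := rfl
    have h2 : (N.restrictPreimage f z) ∈ (Subtype.val ⁻¹' E : Set ↥N) ↔ f z ∈ E := Iff.rfl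
    rw [hE𝒯] at h2
    simp only [Set.mem_preimage, Set.sInter_image, Set.mem_iInter]
    rw [← h2, Set.mem_sInter]

/-- Ind-constructibility is preserved by restriction along an open embedding. -/
theorem isIndConstructible_preimage_of_isOpenEmbedding {f : Y → X} (hf : IsOpenEmbedding f)
    {E : Set X} (hE : ProCons.IsIndConstructible E) : ProCons.IsIndConstructible (f ⁻¹' E) := by
  intro y
  obtain ⟨N, hN, hyN, 𝒯, h𝒯, hE𝒯⟩ := hE (f y)
  refine ⟨f ⁻¹' N, hN.preimage hf.continuous, hyN,
    (fun T => (N.restrictPreimage f) ⁻¹' T) '' 𝒯, ?_, ?_⟩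
  · rintro _ ⟨T, hT, rfl⟩
    exact (h𝒯 T hT).preimage_of_isOpenEmbedding (hf.restrictPreimage N)
  · ext z
    have h2 : (N.restrictPreimage f z) ∈ (Subtype.val ⁻¹' E : Set ↥N) ↔ f z ∈ E := Iff.rfl
    rw [hE𝒯] at h2
    simp only [Set.mem_preimage, Set.sUnion_image, Set.mem_iUnion]
    rw [← h2, Set.mem_sUnion]
    constructor
    · rintro ⟨T, hT, hz⟩
      exact ⟨T, hT, hz⟩
    · rintro ⟨T, hT, hz⟩
      exact ⟨T, hT, hz⟩

end Restrict

section Separation

variable {X : Type*} [TopologicalSpace X] [PrespectralSpace X] [QuasiSeparatedSpace X]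

/-- Auxiliary: given a locally constructible subset `T` of an open subspace `N` and a point `y`
of `N`, there is a compact open `W ⊆ N` containing `y` such that the part of `T` (and of its
complement) lying in `W` is constructible in the ambient space. -/
theorem exists_isCompact_isOpen_isConstructible_image {N : Set X} (hN : IsOpen N) {y : X}
    (hyN : y ∈ N) {T : Set ↥N} (hT : IsLocallyConstructible T) :
    ∃ (W : Set X) (hWN : W ⊆ N), IsOpen W ∧ IsCompact W ∧ y ∈ W ∧
      IsConstructible (Subtype.val '' (Set.inclusion hWN ⁻¹' T)) ∧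
      IsConstructible (Subtype.val '' (Set.inclusion hWN ⁻¹' T)ᶜ) := by
  obtain ⟨W, ⟨hWo, hWc⟩, hyW, hWN⟩ :=
    PrespectralSpace.isTopologicalBasis.mem_nhds_iff.mp (hN.mem_nhds hyN)
  have hg : IsOpenEmbedding (Set.inclusion hWN) := IsOpenEmbedding.id.restrict hWN hWo
  have hTW : IsLocallyConstructible (Set.inclusion hWN ⁻¹' T) := hT.preimage_of_isOpenEmbedding hg
  have h1 : CompactSpace ↥W := isCompact_iff_compactSpace.mp hWc
  have h2 : PrespectralSpace ↥W := hWo.isOpenEmbedding_subtypeVal.prespectralSpace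
  have h3 : QuasiSeparatedSpace ↥W := hWo.isOpenEmbedding_subtypeVal.quasiSeparatedSpace
  have hTWc : IsConstructible (Set.inclusion hWN ⁻¹' T) := hTW.isConstructible
  have hr : IsRetrocompact (Set.range (Subtype.val : ↥W → X)) := by
    simpa using hWc.isRetrocompact hWo
  exact ⟨W, hWN, hWo, hWc, hyW, hTWc.image_of_isOpenEmbedding hWo.isOpenEmbedding_subtypeVal hr,
    hTWc.compl.image_of_isOpenEmbedding hWo.isOpenEmbedding_subtypeVal hr⟩

/-- A point outside a pro-constructible set is separated from it by a constructible set. -/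
theorem exists_isConstructible_disjoint_of_isProConstructible {E : Set X}
    (hE : ProCons.IsProConstructible E) {y : X} (hy : y ∉ E) :
    ∃ C : Set X, IsConstructible C ∧ y ∈ C ∧ Disjoint C E := by
  obtain ⟨N, hN, hyN, 𝒯, h𝒯, hE𝒯⟩ := hE y
  have h0 : (⟨y, hyN⟩ : ↥N) ∉ ⋂₀ 𝒯 := by
    rw [← hE𝒯]
    exact hy
  obtain ⟨T, hT, hyT⟩ : ∃ T ∈ 𝒯, (⟨y, hyN⟩ : ↥N) ∉ T := by
    simpa only [Set.mem_sInter, not_forall, exists_prop] using h0
  obtain ⟨W, hWN, -, -, hyW, -, hC⟩ :=
    exists_isCompact_isOpen_isConstructible_image hN hyN (h𝒯 T hT)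
  refine ⟨_, hC, ⟨⟨y, hyW⟩, hyT, rfl⟩, ?_⟩
  rw [Set.disjoint_left]
  rintro _ ⟨z, hz, rfl⟩ hzE
  apply hz
  have h4 : Set.inclusion hWN z ∈ (Subtype.val ⁻¹' E : Set ↥N) := hzE
  rw [hE𝒯] at h4
  exact h4 T hT

/-- A point of an ind-constructible set lies in a constructible subset of it. -/
theorem exists_isConstructible_subset_of_isIndConstructible {F : Set X}
    (hF : ProCons.IsIndConstructible F) {y : X} (hy : y ∈ F) :
    ∃ C : Set X, IsConstructible C ∧ y ∈ C ∧ C ⊆ F := by
  obtain ⟨N, hN, hyN, 𝒯, h𝒯, hF𝒯⟩ := hF y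
  have h0 : (⟨y, hyN⟩ : ↥N) ∈ ⋃₀ 𝒯 := by
    rw [← hF𝒯]
    exact hy
  obtain ⟨T, hT, hyT⟩ := h0
  obtain ⟨W, hWN, -, -, hyW, hC, -⟩ :=
    exists_isCompact_isOpen_isConstructible_image hN hyN (h𝒯 T hT)
  refine ⟨_, hC, ⟨⟨y, hyW⟩, hyT, rfl⟩, ?_⟩
  rintro _ ⟨z, hz, rfl⟩
  have h4 : Set.inclusion hWN z ∈ ⋃₀ 𝒯 := ⟨T, hT, hz⟩
  rw [← hF𝒯] at h4
  exact h4

end Separation

section ConsTop

variable {X : Type*} [TopologicalSpace X]

/-- In a compact space, constructible sets are open and closed for the constructible topology. -/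
theorem isOpen_constructibleTopology_of_isConstructible [CompactSpace X] {s : Set X}
    (hs : IsConstructible s) :
    IsOpen[constructibleTopology X] s ∧ IsOpen[constructibleTopology X] sᶜ := by
  induction hs using IsConstructible.empty_union_induction with
  | open_retrocompact U hUopen hUcomp =>
    have hUc : IsCompact U := hUcomp.isCompact
    refine ⟨hUc.isOpen_constructibleTopology_of_isOpen hUopen, ?_⟩
    apply IsCompact.isOpen_constructibleTopology_of_isClosed
    · rwa [compl_compl]
    · exact hUopen.isClosed_compl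
  | union s hs t ht hs' ht' =>
    refine ⟨@IsOpen.union X s t (constructibleTopology X) hs'.1 ht'.1, ?_⟩
    rw [Set.compl_union]
    exact @IsOpen.inter X (constructibleTopology X) sᶜ tᶜ hs'.2 ht'.2
  | compl s hs hs' =>
    refine ⟨hs'.2, ?_⟩
    rw [compl_compl]
    exact hs'.1

/-- Compactness of the constructible topology: a cover of a quasi-compact quasi-separated
prespectral quasi-sober space by constructible sets has a finite subcover. -/
theorem exists_finset_iUnion_eq_univ_of_isConstructible [CompactSpace X] [QuasiSober X]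
    [PrespectralSpace X] [QuasiSeparatedSpace X] {ι : Type*} (C : ι → Set X)
    (hC : ∀ a, IsConstructible (C a)) (hcov : ∀ x, ∃ a, x ∈ C a) :
    ∃ t : Finset ι, ∀ x, ∃ a ∈ t, x ∈ C a := by
  have hcpt : IsCompact (Set.univ : Set (WithConstructibleTopology X)) := isCompact_univ
  obtain ⟨t, ht⟩ := hcpt.elim_finite_subcover
    (fun a => (WithTopology.ofTopology ⁻¹' (C a) : Set (WithConstructibleTopology X)))
    (fun a => by
      rw [WithConstructibleTopology.isOpen_iff]
      exact (isOpen_constructibleTopology_of_isConstructible (hC a)).1)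
    (fun x _ => by
      obtain ⟨a, ha⟩ := hcov (WithTopology.ofTopology x)
      exact Set.mem_iUnion.mpr ⟨a, ha⟩)
  refine ⟨t, fun x => ?_⟩
  have h1 := ht (Set.mem_univ (WithTopology.toTopology (constructibleTopology X) x))
  obtain ⟨a, hat, ha⟩ := Set.mem_iUnion₂.mp h1
  exact ⟨a, hat, ha⟩

end ConsTop

end Groth.Agent.Lib.Helper23
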