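/-
Helper library (helper23): EGA IV 8.3.2 for pro-constructible subsets of a cofiltered limit of
schemes with affine transition maps.
-/
import Mathlib
import Groth.Prelude.Def_ProCons
import Groth.Agent.Lib.Helper23.LimConstructible
import Groth.Agent.Lib.Helper23.ProConsTopology

set_option autoImplicit false
universe u
open CategoryTheory AlgebraicGeometry Limits Topology

namespace Groth.Agent.Lib.Helper23

section QCQS

variable {I : Type u} [Category.{u} I] [IsCofiltered I] (D : I ⥤ Scheme.{u}) (c : Cone D)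
  (hc : IsLimit c) [∀ {i j : I} (f : i ⟶ j), IsAffineHom (D.map f)]

include hc in
/-- EGA IV 8.3.2 when all stages are quasi-compact and quasi-separated, for sets that can be
separated from outside points by constructible sets. -/
theorem exists_mem_of_forall_nonempty_of_sep
    [∀ i, CompactSpace (D.obj i)] [∀ i, QuasiSeparatedSpace (D.obj i)]
    (G : ∀ i : I, Set (D.obj i))
    (hsep : ∀ i (y : D.obj i), y ∉ G i →
      ∃ C : Set (D.obj i), IsConstructible C ∧ y ∈ C ∧ Disjoint C (G i))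
    (hGm : ∀ {i j : I} (φ : i ⟶ j), Set.MapsTo (D.map φ) (G i) (G j))
    (hne : ∀ i, (G i).Nonempty) : ∃ x : c.pt, ∀ i, c.π.app i x ∈ G i := by
  classical
  by_contra hcon
  push Not at hcon
  obtain ⟨i₀⟩ := IsCofiltered.nonempty (C := I)
  have hcpt : CompactSpace c.pt := Scheme.compactSpace_of_isLimit D c hc
  have hπaff := isAffineHom_π_app D c hc i₀
  have hqs : QuasiSeparatedSpace c.pt := quasiSeparatedSpace_of_quasiSeparated (c.π.app i₀)
  choose i hi using hcon
  choose C hC hyC hCG using fun x => hsep (i x) (c.π.app (i x) x) (hi x)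
  let 𝒞 : c.pt → Set c.pt := fun x => c.π.app (i x) ⁻¹' C x
  have h𝒞 : ∀ x, IsConstructible (𝒞 x) := fun x =>
    (c.π.app (i x)).isConstructible_preimage (hC x)
  have h𝒞' : ∀ x : c.pt, ∃ a, x ∈ 𝒞 a := fun x => ⟨x, hyC x⟩
  obtain ⟨t, ht⟩ := exists_finset_iUnion_eq_univ_of_isConstructible 𝒞 h𝒞 h𝒞'
  obtain ⟨k, hk⟩ := IsCofiltered.inf_objs_exists (t.image i)
  have ψ : ∀ x : (t : Set c.pt), k ⟶ i x.1 := fun x =>
    (hk (Finset.mem_image_of_mem i x.2)).some
  let C'' : Set (D.obj k) := ⋃ x : (t : Set c.pt), D.map (ψ x) ⁻¹' C x.1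
  have hC'' : IsConstructible C'' :=
    .iUnion fun x => (D.map (ψ x)).isConstructible_preimage (hC x.1)
  have hcov : ∀ z : c.pt, c.π.app k z ∈ C'' := by
    intro z
    obtain ⟨x, hxt, hz⟩ := ht z
    refine Set.mem_iUnion.mpr ⟨⟨x, hxt⟩, ?_⟩
    change D.map (ψ ⟨x, hxt⟩) (c.π.app k z) ∈ C x
    rw [map_π_apply]
    exact hz
  have hdisj : ∀ y ∈ G k, y ∉ C'' := by
    intro y hy hy'
    obtain ⟨x, hx⟩ := Set.mem_iUnion.mp hy'
    exact Set.disjoint_left.mp (hCG x.1) hx (hGm (ψ x) hy)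
  have H : c.π.app k ⁻¹' (C''ᶜ ∩ ((⊤ : (D.obj k).Opens) : Set (D.obj k))) ⊆
      c.π.app k ⁻¹' ((⊥ : (D.obj k).Opens) : Set (D.obj k)) := by
    intro z hz
    exact absurd (hcov z) hz.1
  obtain ⟨l, χ, h2⟩ := exists_map_preimage_subset_of_isConstructible D c hc C''ᶜ hC''.compl ⊤
    isCompact_univ ⊥ H
  obtain ⟨y, hy⟩ := hne l
  have h3 : D.map χ y ∈ G k := hGm χ hy
  exact h2 (a := y) ⟨hdisj _ h3, trivial⟩

end QCQS

section General

variable {I : Type u} [Category.{u} I] [IsCofiltered I] (D : I ⥤ Scheme.{u}) (c : Cone D)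
  (hc : IsLimit c) [∀ {i j : I} (f : i ⟶ j), IsAffineHom (D.map f)]

include hc in
/-- EGA IV 8.3.2: a compatible family of nonempty sets of the form (pro-constructible) minus
(ind-constructible) has a common point in the limit, as soon as one stage is quasi-compact. -/
theorem exists_mem_of_forall_nonempty_of_isProConstructible_diff (i₀ : I)
    [CompactSpace (D.obj i₀)] (E F : ∀ i : I, Set (D.obj i))
    (hE : ∀ i, ProCons.IsProConstructible (E i)) (hF : ∀ i, ProCons.IsIndConstructible (F i))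
    (hGm : ∀ {i j : I} (φ : i ⟶ j), Set.MapsTo (D.map φ) (E i \ F i) (E j \ F j))
    (hne : ∀ i, (E i \ F i).Nonempty) : ∃ x : c.pt, ∀ i, c.π.app i x ∈ E i \ F i := by
  classical
  -- a finite affine cover of the quasi-compact stage
  obtain ⟨t, ht⟩ := isCompact_univ.elim_finite_subcover
    (fun U : (D.obj i₀).affineOpens => ((U : (D.obj i₀).Opens) : Set (D.obj i₀)))
    (fun U => U.1.2) (fun x _ => by
      have h1 : x ∈ (⨆ U : (D.obj i₀).affineOpens, (U : (D.obj i₀).Opens)) := by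
        rw [iSup_affineOpens_eq_top]; trivial
      obtain ⟨U, hU⟩ := TopologicalSpace.Opens.mem_iSup.mp h1
      exact Set.mem_iUnion.mpr ⟨U, hU⟩)
  -- pigeonhole: one member of the cover meets all the sets
  have hA : ∃ U ∈ t, ∀ j : Over i₀, ∃ y ∈ E j.left \ F j.left,
      D.map j.hom y ∈ (U : (D.obj i₀).Opens) := by
    by_contra hcon
    push Not at hcon
    have hnon : Nonempty (Over i₀) := ⟨Over.mk (𝟙 i₀)⟩
    choose! j hj using hcon
    obtain ⟨k, hk⟩ := IsCofiltered.inf_objs_exists (t.image j)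
    obtain ⟨y, hy⟩ := hne k.left
    obtain ⟨U, hUt, hyU⟩ := Set.mem_iUnion₂.mp (ht (Set.mem_univ (D.map k.hom y)))
    obtain ⟨ψ⟩ := hk (Finset.mem_image_of_mem j hUt)
    apply hj U hUt (D.map ψ.left y) (hGm ψ.left hy)
    rw [over_map_apply]
    exact hyU
  obtain ⟨⟨U, hU⟩, -, hUne⟩ := hA
  -- restrict the system to `U`
  have haff : ∀ j : Over i₀, IsAffine ((opensDiagram D i₀ U).obj j) := fun j => hU.preimage _
  have hcpt : ∀ j : Over i₀, CompactSpace ((opensDiagram D i₀ U).obj j) := fun j => inferInstance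
  have hqs : ∀ j : Over i₀, QuasiSeparatedSpace ((opensDiagram D i₀ U).obj j) :=
    fun j => inferInstance
  let ι : ∀ j : Over i₀, (opensDiagram D i₀ U).obj j ⟶ D.obj j.left :=
    fun j => (opensDiagramι D i₀ U).app j
  have hι : ∀ j : Over i₀, IsOpenEmbedding (ι j) := fun j =>
    Scheme.Hom.isOpenEmbedding ((opensDiagramι D i₀ U).app j)
  let G' : ∀ j : Over i₀, Set ((opensDiagram D i₀ U).obj j) :=
    fun j => (ι j) ⁻¹' (E j.left \ F j.left)
  have hsep' : ∀ (j : Over i₀) (y : (opensDiagram D i₀ U).obj j), y ∉ G' j →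
      ∃ C : Set ((opensDiagram D i₀ U).obj j), IsConstructible C ∧ y ∈ C ∧ Disjoint C (G' j) := by
    intro j y hy
    by_cases hyE : ι j y ∈ E j.left
    · have hyF : ι j y ∈ F j.left := by
        by_contra h1
        exact hy ⟨hyE, h1⟩
      obtain ⟨C, hC, hyC, hCF⟩ := exists_isConstructible_subset_of_isIndConstructible
        (isIndConstructible_preimage_of_isOpenEmbedding (hι j) (hF j.left)) (y := y) hyF
      refine ⟨C, hC, hyC, ?_⟩
      rw [Set.disjoint_left]
      intro z hz hz'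
      exact hz'.2 (hCF hz)
    · obtain ⟨C, hC, hyC, hCE⟩ := exists_isConstructible_disjoint_of_isProConstructible
        (isProConstructible_preimage_of_isOpenEmbedding (hι j) (hE j.left)) (y := y) hyE
      refine ⟨C, hC, hyC, ?_⟩
      rw [Set.disjoint_left] at hCE ⊢
      intro z hz hz'
      exact hCE hz hz'.1
  have hGm' : ∀ {j k : Over i₀} (ψ : j ⟶ k),
      Set.MapsTo ((opensDiagram D i₀ U).map ψ) (G' j) (G' k) := by
    intro j k ψ y hy
    change ι k ((opensDiagram D i₀ U).map ψ y) ∈ E k.left \ F k.left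
    have h1 : (opensDiagram D i₀ U).map ψ ≫ ι k = ι j ≫ D.map ψ.left :=
      (opensDiagramι D i₀ U).naturality ψ
    rw [← Scheme.Hom.comp_apply, h1, Scheme.Hom.comp_apply]
    exact hGm ψ.left hy
  have hne' : ∀ j : Over i₀, (G' j).Nonempty := by
    intro j
    obtain ⟨y, hy, hyU⟩ := hUne j
    exact ⟨⟨y, hyU⟩, hy⟩
  obtain ⟨x', hx'⟩ := exists_mem_of_forall_nonempty_of_sep (opensDiagram D i₀ U)
    (opensCone D c i₀ U) (isLimitOpensCone D c hc i₀ U) G' hsep' hGm' hne'
  refine ⟨(c.π.app i₀ ⁻¹ᵁ U).ι x', fun i => ?_⟩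
  let k : Over i₀ := Over.mk (IsCofiltered.minToRight i i₀)
  have h1 : ι k ((opensCone D c i₀ U).π.app k x') ∈ E k.left \ F k.left := hx' k
  have h2 : (opensCone D c i₀ U).π.app k ≫ ι k = (c.π.app i₀ ⁻¹ᵁ U).ι ≫ c.π.app k.left :=
    Scheme.Hom.resLE_comp_ι _ _
  have h4 : ι k ((opensCone D c i₀ U).π.app k x') =
      c.π.app k.left ((c.π.app i₀ ⁻¹ᵁ U).ι x') := by
    have h5 := congrArg (fun f : (opensCone D c i₀ U).pt ⟶ D.obj k.left => f x') h2
    exact h5
  rw [h4] at h1
  have h3 := hGm (IsCofiltered.minToLeft i i₀) h1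
  have h6 := map_π_apply D c (IsCofiltered.minToLeft i i₀) ((c.π.app i₀ ⁻¹ᵁ U).ι x')
  rw [← h6]
  exact h3

end General

end Groth.Agent.Lib.Helper23
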