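/-
Helper library (helper23): the points of a cofiltered limit of schemes with affine transition maps
are the compatible families of points of the stages (EGA IV 8.2.9).
-/
import Mathlib
import Groth.Agent.Lib.Helper23.LimProCons

set_option autoImplicit false
universe u
open CategoryTheory AlgebraicGeometry Limits Topology

namespace Groth.Agent.Lib.Helper23

/-- In a quasi-separated scheme, two distinct points can be separated by a constructible set. -/
theorem exists_isConstructible_mem_not_mem {X : Scheme.{u}} [QuasiSeparatedSpace X] {x y : X}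
    (h : y ≠ x) : ∃ C : Set X, IsConstructible C ∧ y ∈ C ∧ x ∉ C := by
  obtain ⟨U, hU, hxor⟩ := exists_isOpen_xor_mem h
  rcases hxor with ⟨hy, hx⟩ | ⟨hx, hy⟩
  · obtain ⟨_, ⟨W, hW : IsAffineOpen W, rfl⟩, hyW, hWU⟩ :=
      X.isBasis_affineOpens.exists_subset_of_mem_open hy hU
    exact ⟨W, hW.isCompact.isConstructible W.2, hyW, fun hxW => hx (hWU hxW)⟩
  · obtain ⟨_, ⟨W, hW : IsAffineOpen W, rfl⟩, hxW, hWU⟩ :=
      X.isBasis_affineOpens.exists_subset_of_mem_open hx hU
    exact ⟨(W : Set X)ᶜ, (hW.isCompact.isConstructible W.2).compl, fun hyW => hy (hWU hyW),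
      fun hxW' => hxW' hxW⟩

section

variable {I : Type u} [Category.{u} I] [IsCofiltered I] (D : I ⥤ Scheme.{u}) (c : Cone D)
  (hc : IsLimit c) [∀ {i j : I} (f : i ⟶ j), IsAffineHom (D.map f)]

include hc in
/-- Preimages of (affine) opens of the stages form a basis of the limit. -/
theorem exists_preimage_subset_of_mem_isOpen {U : Set c.pt} (hU : IsOpen U) {x : c.pt}
    (hx : x ∈ U) : ∃ (i : I) (V : (D.obj i).Opens), IsAffineOpen V ∧ c.π.app i x ∈ V ∧
      (c.π.app i) ⁻¹' (V : Set (D.obj i)) ⊆ U := by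
  obtain ⟨_, ⟨_, ⟨i, V, hV, rfl⟩, rfl⟩, hxV, hVU⟩ :=
    (isBasis_preimage_isAffineOpen D c hc).exists_subset_of_mem_open hx hU
  exact ⟨i, V, hV, hxV, hVU⟩

include hc in
/-- Specialization in the limit can be checked at all the stages. -/
theorem specializes_of_forall_π_app {z s : c.pt} (h : ∀ i, c.π.app i z ⤳ c.π.app i s) :
    z ⤳ s := by
  rw [specializes_iff_forall_open]
  intro U hU hs
  obtain ⟨i, V, -, hsV, hVU⟩ := exists_preimage_subset_of_mem_isOpen D c hc hU hs
  exact hVU ((h i).mem_open V.2 hsV)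

include hc in
/-- Points of the limit are determined by their images in all the stages. -/
theorem eq_of_forall_π_app_eq {p q : c.pt} (h : ∀ i, c.π.app i p = c.π.app i q) : p = q := by
  have h1 : p ⤳ q := specializes_of_forall_π_app D c hc fun i => by rw [h i]
  have h2 : q ⤳ p := specializes_of_forall_π_app D c hc fun i => by rw [h i]
  exact (h1.antisymm h2).eq

include hc in
/-- Every compatible family of points of the stages comes from a point of the limit. -/
theorem exists_point_of_compatible (x : ∀ i, D.obj i)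
    (hx : ∀ {i j : I} (f : i ⟶ j), D.map f (x i) = x j) :
    ∃ p : c.pt, ∀ i, c.π.app i p = x i := by
  obtain ⟨i₀⟩ := IsCofiltered.nonempty (C := I)
  obtain ⟨_, ⟨U, hU : IsAffineOpen U, rfl⟩, hxU, -⟩ :=
    (D.obj i₀).isBasis_affineOpens.exists_subset_of_mem_open (Set.mem_univ (x i₀)) isOpen_univ
  have haff (j : Over i₀) : IsAffine ((opensDiagram D i₀ U).obj j) := hU.preimage _
  have hmem (j : Over i₀) : x j.left ∈ D.map j.hom ⁻¹ᵁ U := by
    change D.map j.hom (x j.left) ∈ U
    rw [hx]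
    exact hxU
  obtain ⟨p, hp⟩ := exists_mem_of_forall_nonempty_of_sep (opensDiagram D i₀ U)
    (opensCone D c i₀ U) (isLimitOpensCone D c hc i₀ U)
    (fun j => ({(⟨x j.left, hmem j⟩ : ↥(D.map j.hom ⁻¹ᵁ U))} : Set _))
    (fun j y hy => by
      obtain ⟨C, hC, hyC, hxC⟩ := exists_isConstructible_mem_not_mem
        (X := (opensDiagram D i₀ U).obj j) (x := ⟨x j.left, hmem j⟩) (y := y) hy
      exact ⟨C, hC, hyC, Set.disjoint_singleton_right.mpr hxC⟩)
    (fun {j k} φ => by
      rintro _ rfl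
      apply Subtype.ext
      have e : (opensDiagram D i₀ U).map φ ≫ (D.map k.hom ⁻¹ᵁ U).ι =
          (D.map j.hom ⁻¹ᵁ U).ι ≫ D.map φ.left := Scheme.Hom.resLE_comp_ι _ _
      have e2 := congr($e ⟨x j.left, hmem j⟩)
      rw [Scheme.Hom.comp_apply, Scheme.Hom.comp_apply] at e2
      exact e2.trans (hx φ.left))
    (fun j => Set.singleton_nonempty _)
  refine ⟨(c.π.app i₀ ⁻¹ᵁ U).ι p, fun i => ?_⟩
  have key (j : Over i₀) : c.π.app j.left ((c.π.app i₀ ⁻¹ᵁ U).ι p) = x j.left := by
    have h1 : (opensCone D c i₀ U).π.app j p = ⟨x j.left, hmem j⟩ := hp j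
    have h2 : ((opensCone D c i₀ U).π.app j ≫ (D.map j.hom ⁻¹ᵁ U).ι) p = x j.left := by
      rw [Scheme.Hom.comp_apply, h1]
      rfl
    have e : (opensCone D c i₀ U).π.app j ≫ (D.map j.hom ⁻¹ᵁ U).ι =
        (c.π.app i₀ ⁻¹ᵁ U).ι ≫ c.π.app j.left := Scheme.Hom.resLE_comp_ι _ _
    rw [e] at h2
    exact h2
  let k := IsCofiltered.min i i₀
  have h3 := key (Over.mk (IsCofiltered.minToRight i i₀))
  have h4 : c.π.app i ((c.π.app i₀ ⁻¹ᵁ U).ι p) =
      D.map (IsCofiltered.minToLeft i i₀) (c.π.app k ((c.π.app i₀ ⁻¹ᵁ U).ι p)) := by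
    rw [← Scheme.Hom.comp_apply (c.π.app k), c.w]
  rw [h4]
  change D.map _ (c.π.app (Over.mk (IsCofiltered.minToRight i i₀)).left _) = _
  rw [h3]
  exact hx _

end

end Groth.Agent.Lib.Helper23
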