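/-
Helper library (helper23): reducedness in cofiltered limits of schemes with affine transition maps.
-/
import Mathlib.AlgebraicGeometry.AffineTransitionLimit
import Mathlib.AlgebraicGeometry.Properties

set_option autoImplicit false
open CategoryTheory CategoryTheory.Limits AlgebraicGeometry
universe u

namespace Groth.Agent.Lib.Helper23

/-- Affine case: if a cofiltered limit of affine schemes is not reduced, then from some index on
no stage is reduced. -/
theorem exists_forall_not_isReduced_of_isAffine {I : Type u} [Category.{u} I] [IsCofiltered I]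
    (D : I ⥤ Scheme.{u}) (c : Cone D) (hc : IsLimit c) [∀ i, IsAffine (D.obj i)]
    (h : ¬ IsReduced c.pt) :
    ∃ (i : I), ∀ (j : I) (_ : j ⟶ i), ¬ IsReduced (D.obj j) := by
  have : IsAffine c.pt := Scheme.isAffine_of_isLimit _ hc
  have h' : ¬ _root_.IsReduced Γ(c.pt, ⊤) := fun hr => h (isReduced_of_isAffine_isReduced (X := c.pt))
  rw [isReduced_iff] at h'
  push Not at h'
  obtain ⟨s, ⟨n, hn⟩, hs0⟩ := h'
  obtain ⟨i, t, rfl⟩ := exists_appTop_π_eq_of_isAffine_of_isLimit D c hc s
  have hn' : (c.π.app i).appTop (t ^ n) = 0 := by rw [map_pow]; exact hn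
  obtain ⟨j, f, hj⟩ := exists_appTop_map_eq_zero_of_isAffine_of_isLimit D c hc i (t ^ n) hn'
  refine ⟨j, fun k g hred => hs0 ?_⟩
  have h1 : (D.map (g ≫ f)).appTop t ^ n = 0 := by
    rw [← map_pow, D.map_comp, Scheme.Hom.comp_appTop, CommRingCat.comp_apply, hj, map_zero]
  have h2 : (D.map (g ≫ f)).appTop t = 0 := IsNilpotent.eq_zero ⟨n, h1⟩
  have h3 : (c.π.app i).appTop t = (c.π.app k).appTop ((D.map (g ≫ f)).appTop t) := by
    rw [← CommRingCat.comp_apply, ← Scheme.Hom.comp_appTop, c.w]
  rw [h3, h2, map_zero]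

end Groth.Agent.Lib.Helper23
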