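/-
Helper library (helper23): constructible subsets of a scheme of finite presentation over a
cofiltered limit descend to a stage (EGA IV 8.3.11 in the relative form), and Noetherian models of
a scheme of finite presentation over an affine base together with two constructible subsets.
-/
import Mathlib
import Groth.Agent.Lib.Helper23.BaseChangeLim
import Groth.Agent.Lib.Helper23.FpDescentHom
import Groth.Agent.Lib.Helper23.FpDescentOpen
import Groth.Agent.Lib.Helper23.NoethApprox
import Groth.Agent.S4759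

set_option autoImplicit false
universe u
open CategoryTheory Limits AlgebraicGeometry Topology

namespace Groth.Agent.Lib.Helper23

section SetDescent

variable {I : Type u} [SmallCategory I] [IsCofiltered I] (D : I ⥤ Scheme.{u}) (c : Cone D)
  (hc : IsLimit c) [∀ {i j : I} (f : i ⟶ j), IsAffineHom (D.map f)]

include hc in
/-- A constructible subset of a scheme pulled back from stage `i` is the preimage of a
constructible subset of the canonical model over some later stage. -/
theorem exists_constructible_descend {i : I} {Ui U : Scheme.{u}} {ui : Ui ⟶ D.obj i}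
    {u : U ⟶ c.pt} {qU : U ⟶ Ui} (hU : IsPullback qU u ui (c.π.app i))
    [CompactSpace ↥Ui] [QuasiSeparatedSpace ↥Ui] (Z : Set U) (hZ : IsConstructible Z) :
    ∃ (j : I) (φ : j ⟶ i) (Zj : Set ↥(pullback ui (D.map φ))),
      IsConstructible Zj ∧ (toStage D c hU φ) ⁻¹' Zj = Z := by
  let ε : U ≅ pullback (c.π.app i) ui := hU.flip.isoPullback
  have hε1 : ε.hom ≫ pullback.fst (c.π.app i) ui = u := hU.flip.isoPullback_hom_fst
  have hε2 : ε.hom ≫ pullback.snd (c.π.app i) ui = qU := hU.flip.isoPullback_hom_snd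
  let Z' : Set (bcCone D c i ui).pt := ε.inv ⁻¹' Z
  have hZ' : IsConstructible Z' := ε.inv.isConstructible_preimage hZ
  let i₀ : Over i := Over.mk (𝟙 i)
  have hiso : IsIso (D.map (𝟙 i)) := by rw [D.map_id]; infer_instance
  have hsnd : IsIso (pullback.snd (D.map (𝟙 i)) ui) := inferInstance
  have hsnd1 : QuasiCompact (pullback.snd (D.map (𝟙 i)) ui) := inferInstance
  have hsnd2 : QuasiSeparated (pullback.snd (D.map (𝟙 i)) ui) := inferInstance
  have hcs' : CompactSpace ↥(pullback (D.map (𝟙 i)) ui) :=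
    QuasiCompact.compactSpace_of_compactSpace (pullback.snd (D.map (𝟙 i)) ui)
  have hqs' : QuasiSeparatedSpace ↥(pullback (D.map (𝟙 i)) ui) :=
    quasiSeparatedSpace_of_quasiSeparated (pullback.snd (D.map (𝟙 i)) ui)
  have hcs : CompactSpace ↥((bcDiagram D i ui).obj i₀) := hcs'
  have hqs : QuasiSeparatedSpace ↥((bcDiagram D i ui).obj i₀) := hqs'
  obtain ⟨j, -, Zj, hZj, hpre⟩ := Groth.Agent.S4759.result (bcDiagram D i ui) (bcCone D c i ui)
    (isLimitBcCone D c i ui hc) i₀ Z' hZ'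
  let P : Scheme.{u} := pullback (c.π.app i) ui
  let Tj : Scheme.{u} := pullback (D.map j.hom) ui
  let πj : P ⟶ Tj := (bcCone D c i ui).π.app j
  have hπ1 : πj ≫ pullback.fst (D.map j.hom) ui =
      pullback.fst (c.π.app i) ui ≫ c.π.app j.left := bcCone_π_fst D c i ui j
  have hπ2 : πj ≫ pullback.snd (D.map j.hom) ui = pullback.snd (c.π.app i) ui :=
    bcCone_π_snd D c i ui j
  let Zj' : Set ↥Tj := Zj
  have hZj' : IsConstructible Zj' := hZj
  have hpre' : πj ⁻¹' Zj' = (ε.inv ⁻¹' Z : Set ↥P) := hpre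
  let σ : pullback ui (D.map j.hom) ≅ Tj := pullbackSymmetry _ _
  have hσ1 : σ.hom ≫ pullback.fst (D.map j.hom) ui = pullback.snd ui (D.map j.hom) :=
    pullbackSymmetry_hom_comp_fst _ _
  have hσ2 : σ.hom ≫ pullback.snd (D.map j.hom) ui = pullback.fst ui (D.map j.hom) :=
    pullbackSymmetry_hom_comp_snd _ _
  refine ⟨j.left, j.hom, σ.hom ⁻¹' Zj', σ.hom.isConstructible_preimage hZj', ?_⟩
  have hcomm : toStage D c hU j.hom ≫ σ.hom = ε.hom ≫ πj := by
    apply pullback.hom_ext
    · rw [Category.assoc, hσ1, toStage_snd, Category.assoc, hπ1, ← Category.assoc, hε1]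
    · rw [Category.assoc, hσ2, toStage_fst, Category.assoc, hπ2, hε2]
  rw [← Set.preimage_comp, ← TopCat.coe_comp, ← Scheme.Hom.comp_base, hcomm, Scheme.Hom.comp_base,
    TopCat.coe_comp, Set.preimage_comp, hpre', ← Set.preimage_comp, ← TopCat.coe_comp,
    ← Scheme.Hom.comp_base, Iso.hom_inv_id]
  rfl

omit [IsCofiltered I] [∀ {i j : I} (f : i ⟶ j), IsAffineHom (D.map f)] in
/-- Transition between canonical models. -/
theorem exists_stage_transition {i : I} {Ui U : Scheme.{u}} {ui : Ui ⟶ D.obj i}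
    {u : U ⟶ c.pt} {qU : U ⟶ Ui} (hU : IsPullback qU u ui (c.π.app i)) {j k : I} (φ : j ⟶ i)
    (ψ : k ⟶ j) (χ : k ⟶ i) (hχ : ψ ≫ φ = χ) :
    ∃ t : pullback ui (D.map χ) ⟶ pullback ui (D.map φ),
      toStage D c hU χ ≫ t = toStage D c hU φ := by
  subst hχ
  refine ⟨pullback.lift (pullback.fst _ _) (pullback.snd _ _ ≫ D.map ψ)
    (by rw [Category.assoc, ← D.map_comp]; exact pullback.condition), ?_⟩
  apply pullback.hom_ext
  · rw [Category.assoc, pullback.lift_fst, toStage_fst, toStage_fst]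
  · rw [Category.assoc, pullback.lift_snd, toStage_snd_assoc, toStage_snd, c.w]

include hc in
/-- Two constructible subsets descend to a common stage. -/
theorem exists_constructible_descend₂ {i : I} {Ui U : Scheme.{u}} {ui : Ui ⟶ D.obj i}
    {u : U ⟶ c.pt} {qU : U ⟶ Ui} (hU : IsPullback qU u ui (c.π.app i))
    [CompactSpace ↥Ui] [QuasiSeparatedSpace ↥Ui] (Z Z' : Set U) (hZ : IsConstructible Z)
    (hZ' : IsConstructible Z') :
    ∃ (j : I) (φ : j ⟶ i) (Zj Zj' : Set ↥(pullback ui (D.map φ))),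
      IsConstructible Zj ∧ IsConstructible Zj' ∧ (toStage D c hU φ) ⁻¹' Zj = Z ∧
        (toStage D c hU φ) ⁻¹' Zj' = Z' := by
  obtain ⟨j₁, φ₁, Z₁, hZ₁, e₁⟩ := exists_constructible_descend D c hc hU Z hZ
  obtain ⟨j₂, φ₂, Z₂, hZ₂, e₂⟩ := exists_constructible_descend D c hc hU Z' hZ'
  obtain ⟨k, ψ₁, ψ₂, hψ⟩ := IsCofiltered.cospan φ₁ φ₂
  obtain ⟨t₁, ht₁⟩ := exists_stage_transition D c hU φ₁ ψ₁ (ψ₁ ≫ φ₁) rfl
  obtain ⟨t₂, ht₂⟩ := exists_stage_transition D c hU φ₂ ψ₂ (ψ₁ ≫ φ₁) hψ.symm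
  refine ⟨k, ψ₁ ≫ φ₁, t₁ ⁻¹' Z₁, t₂ ⁻¹' Z₂, t₁.isConstructible_preimage hZ₁,
    t₂.isConstructible_preimage hZ₂, ?_, ?_⟩
  · rw [← Set.preimage_comp, ← TopCat.coe_comp, ← Scheme.Hom.comp_base, ht₁, e₁]
  · rw [← Set.preimage_comp, ← TopCat.coe_comp, ← Scheme.Hom.comp_base, ht₂, e₂]

end SetDescent

section Model

variable {S : Scheme.{u}} [IsAffine S]

/-- **Noetherian model of a scheme of finite presentation over an affine scheme together with
two constructible subsets.** -/
theorem exists_noetherian_model_sets {X : Scheme.{u}} (f : X ⟶ S)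
    [LocallyOfFinitePresentation f] [QuasiCompact f] [QuasiSeparated f]
    (Z Z' : Set X) (hZ : IsConstructible Z) (hZ' : IsConstructible Z') :
    ∃ (A₀ : CommRingCat.{u}) (_ : IsNoetherianRing A₀) (π : S ⟶ Spec A₀) (X₀ : Scheme.{u})
      (f₀ : X₀ ⟶ Spec A₀) (q : X ⟶ X₀) (Z₀ Z₀' : Set X₀),
      LocallyOfFinitePresentation f₀ ∧ QuasiCompact f₀ ∧ QuasiSeparated f₀ ∧
      IsPullback q f f₀ π ∧ IsConstructible Z₀ ∧ IsConstructible Z₀' ∧
      q ⁻¹' Z₀ = Z ∧ q ⁻¹' Z₀' = Z' := by
  obtain ⟨i₁, X₁, f₁, q₁, a1, a2, a3, h₁⟩ := descends_noeth f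
  have : CompactSpace ↥X₁ := QuasiCompact.compactSpace_of_compactSpace f₁
  have : QuasiSeparatedSpace ↥X₁ := quasiSeparatedSpace_of_quasiSeparated f₁
  obtain ⟨j, φ, Z₀, Z₀', hZ₀, hZ₀', e, e'⟩ := exists_constructible_descend₂ (noethDiagram S)
    (noethCone S) (isLimitNoethCone S) h₁ Z Z' hZ hZ'
  have c1 : LocallyOfFinitePresentation (pullback.snd f₁ ((noethDiagram S).map φ)) :=
    inferInstance
  have c2 : QuasiCompact (pullback.snd f₁ ((noethDiagram S).map φ)) := inferInstance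
  have c3 : QuasiSeparated (pullback.snd f₁ ((noethDiagram S).map φ)) := inferInstance
  exact ⟨noethRing S j, isNoetherianRing_noethRing S j, (noethCone S).π.app j,
    pullback f₁ ((noethDiagram S).map φ), pullback.snd f₁ ((noethDiagram S).map φ),
    toStage (noethDiagram S) (noethCone S) h₁ φ, Z₀, Z₀', c1, c2, c3,
    isPullback_toStage (noethDiagram S) (noethCone S) h₁ φ, hZ₀, hZ₀', e, e'⟩

end Model

end Groth.Agent.Lib.Helper23
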