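/-
Helper library (helper23): for `f : X ⟶ S` of finite presentation and two locally constructible
subsets `Z`, `Z'` of `X`, the set of `s` such that `Z' ∩ f⁻¹(s) ⊆ closure (Z ∩ f⁻¹(s))` is locally
constructible (EGA IV 9.5.3).
-/
import Mathlib
import Groth.Prelude.Def_EGA4Misc
import Groth.Agent.Lib.Helper23.ConsClosedRange
import Groth.Agent.Lib.Helper23.ConsLocusMor
import Groth.Agent.Lib.Helper23.ConsDescendSets

set_option autoImplicit false
universe u
open CategoryTheory Limits AlgebraicGeometry Topology MorphismProperty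

namespace Groth.Agent.Lib.Helper23

/-- The set of points `s` of the base such that `Z' ∩ f⁻¹(s)` is contained in the closure of
`Z ∩ f⁻¹(s)`. -/
def denseLocus {X S : Scheme.{u}} (f : X ⟶ S) (Z Z' : Set X) : Set S :=
  {s | Z' ∩ f ⁻¹' {s} ⊆ closure (Z ∩ f ⁻¹' {s})}

section BaseChange

theorem mem_denseLocus_iff {X S : Scheme.{u}} (f : X ⟶ S) (Z Z' : Set X) (s : S) :
    s ∈ denseLocus f Z Z' ↔ (f.fiberι s) ⁻¹' Z' ⊆ closure ((f.fiberι s) ⁻¹' Z) := by
  rw [closure_preimage_fiberι]
  constructor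
  · intro h x hx
    exact h ⟨hx, map_fiberι_apply f s x⟩
  · rintro h y ⟨hy, hys⟩
    obtain ⟨x, hx⟩ : y ∈ Set.range (f.fiberι s) := by
      rw [Scheme.Hom.range_fiberι]; exact hys
    rw [← hx] at hy ⊢
    exact h hy

/-- Compatibility of the dense locus with base change. -/
theorem denseLocus_baseChange {X S X' S' : Scheme.{u}} {f : X ⟶ S} {f' : X' ⟶ S'} {e : X' ⟶ X}
    {b : S' ⟶ S} (h : IsPullback e f' f b) (Z Z' : Set X) :
    denseLocus f' (e ⁻¹' Z) (e ⁻¹' Z') = b ⁻¹' denseLocus f Z Z' := by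
  ext s'
  rw [Set.mem_preimage, mem_denseLocus_iff, mem_denseLocus_iff]
  obtain ⟨pX, hpX, hpb⟩ := exists_isPullback_fiber' f b h s'
  have hopen : UniversallyOpen pX := MorphismProperty.of_isPullback hpb.flip
    (inferInstance : UniversallyOpen (Spec.map (b.residueFieldMap s')))
  have hsurj : Surjective pX := by
    have hh : Surjective (Spec.map (b.residueFieldMap s')) :=
      ⟨fun t => ⟨Classical.arbitrary _, Subsingleton.elim _ _⟩⟩
    exact MorphismProperty.of_isPullback hpb.flip hh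
  have key : ∀ A : Set X, (f'.fiberι s') ⁻¹' (e ⁻¹' A) = pX ⁻¹' ((f.fiberι (b s')) ⁻¹' A) := by
    intro A
    rw [← Set.preimage_comp, ← Set.preimage_comp, ← TopCat.coe_comp, ← TopCat.coe_comp,
      ← Scheme.Hom.comp_base, ← Scheme.Hom.comp_base, hpX]
  rw [key, key, ← pX.isOpenMap.preimage_closure_eq_closure_preimage pX.continuous,
    hsurj.surj.preimage_subset_preimage_iff]

end BaseChange

section Dichotomy

theorem denseLocus_dichotomy {X S : Scheme.{u}} [IsIntegral S] [IsNoetherian S] (f : X ⟶ S)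
    [LocallyOfFiniteType f] [QuasiCompact f] (Z Z' : Set X) (hZ : IsConstructible Z)
    (hZ' : IsConstructible Z') :
    (interior (denseLocus f Z Z')).Nonempty ∨ (interior (denseLocus f Z Z')ᶜ).Nonempty := by
  have : IsLocallyNoetherian X := LocallyOfFiniteType.isLocallyNoetherian f
  have : CompactSpace X := QuasiCompact.compactSpace_of_compactSpace f
  have : IsNoetherian X := {}
  have : LocallyOfFinitePresentation f := inferInstance
  obtain ⟨O, hO, hOs⟩ := exists_open_closure_inter_fiber_subset f Z hZ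
  have hF : IsLocallyConstructible (f '' (Z' \ closure Z))ᶜ := by
    refine (f.isLocallyConstructible_image ?_).compl'
    rw [Set.sdiff_eq]
    exact hZ'.isLocallyConstructible.inter
      (isLocallyConstructible_of_isClosed_of_isNoetherian isClosed_closure).compl'
  apply interior_nonempty_or_compl_of_eqOn hF O hO
  intro s hs
  constructor
  · rintro h ⟨y, ⟨hy1, hy2⟩, rfl⟩
    exact hy2 (closure_mono Set.inter_subset_left (h ⟨hy1, rfl⟩))
  · rintro h y ⟨hy, hys⟩
    apply hOs s hs
    refine ⟨?_, hys⟩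
    by_contra hn
    exact h ⟨y, ⟨hy, hn⟩, hys⟩

end Dichotomy

section Main

/-- **EGA IV 9.5.3.** -/
theorem isLocallyConstructible_denseLocus {X S : Scheme.{u}} (f : X ⟶ S)
    [LocallyOfFinitePresentation f] [QuasiCompact f] [QuasiSeparated f] (Z Z' : Set X)
    (hZ : IsLocallyConstructible Z) (hZ' : IsLocallyConstructible Z') :
    IsLocallyConstructible (denseLocus f Z Z') := by
  apply isLocallyConstructible_of_affine_models
  intro U hU
  have : IsAffine U.toScheme := hU
  have : CompactSpace ↥(f ⁻¹ᵁ U).toScheme := QuasiCompact.compactSpace_of_compactSpace (f ∣_ U)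
  have : QuasiSeparatedSpace ↥(f ⁻¹ᵁ U).toScheme :=
    quasiSeparatedSpace_of_quasiSeparated (f ∣_ U)
  have e1 := denseLocus_baseChange (isPullback_morphismRestrict f U).flip Z Z'
  have hZU : IsConstructible ((f ⁻¹ᵁ U).ι ⁻¹' Z) :=
    (hZ.preimage_of_isOpenEmbedding (f ⁻¹ᵁ U).ι.isOpenEmbedding).isConstructible
  have hZU' : IsConstructible ((f ⁻¹ᵁ U).ι ⁻¹' Z') :=
    (hZ'.preimage_of_isOpenEmbedding (f ⁻¹ᵁ U).ι.isOpenEmbedding).isConstructible
  obtain ⟨A₀, hA₀, π, X₀, f₀, q, Z₀, Z₀', a1, a2, a3, hq, hZ₀, hZ₀', e, e'⟩ :=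
    exists_noetherian_model_sets (f ∣_ U) _ _ hZU hZU'
  have e2 := denseLocus_baseChange hq Z₀ Z₀'
  rw [e, e'] at e2
  refine ⟨A₀, hA₀, π, denseLocus f₀ Z₀ Z₀', e1.symm.trans e2, ?_⟩
  intro p hp
  have hsq : IsPullback (pullback.fst f₀ (primeIncl A₀ p)) (pullback.snd f₀ (primeIncl A₀ p))
      f₀ (primeIncl A₀ p) := IsPullback.of_hasPullback _ _
  rw [← denseLocus_baseChange hsq Z₀ Z₀']
  have : IsDomain (A₀ ⧸ p) := Ideal.Quotient.isDomain p
  exact denseLocus_dichotomy (pullback.snd f₀ (primeIncl A₀ p)) _ _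
    ((pullback.fst f₀ (primeIncl A₀ p)).isConstructible_preimage hZ₀)
    ((pullback.fst f₀ (primeIncl A₀ p)).isConstructible_preimage hZ₀')

end Main

end Groth.Agent.Lib.Helper23
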