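/-
Helper library (helper23): constructibility of the locus of a (ind-)constructible property of a
scheme of finite presentation with a finitely presented module over an arbitrary base
(EGA IV 9.2.3, module form).
-/
import Mathlib
import Groth.Prelude.Def_EGA4Misc
import Groth.Agent.Lib.Helper23.ConsLocusGeneric
import Groth.Agent.Lib.Helper23.ConsLocusPair
import Groth.Agent.Lib.Helper23.ConsDescendSets
import Groth.Agent.Lib.Helper23.NoethApprox
import Groth.Agent.Lib.Helper49.PrinPartFP
import Groth.Agent.S4788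

set_option autoImplicit false
universe u
open CategoryTheory Limits AlgebraicGeometry Topology

namespace Groth.Agent.Lib.Helper23.ConsLocusMod

open Groth.Agent.Lib.Helper23

section PullbackIso

variable {X Y Z W : Scheme.{u}}

/-- `f^* g^* M ≅ (f ≫ g)^* M`. -/
noncomputable def pbComp (f : X ⟶ Y) (g : Y ⟶ Z) (M : Z.Modules) :
    (Scheme.Modules.pullback f).obj ((Scheme.Modules.pullback g).obj M) ≅
      (Scheme.Modules.pullback (f ≫ g)).obj M :=
  (Scheme.Modules.pullbackComp f g).app M

/-- Pullbacks along equal morphisms. -/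
noncomputable def pbCongr {f g : X ⟶ Y} (h : f = g) (M : Y.Modules) :
    (Scheme.Modules.pullback f).obj M ≅ (Scheme.Modules.pullback g).obj M :=
  (Scheme.Modules.pullbackCongr h).app M

/-- Pullbacks along the two sides of a commutative square. -/
noncomputable def pbSquare {f : X ⟶ Y} {g : Y ⟶ Z} {f' : X ⟶ W} {g' : W ⟶ Z}
    (h : f ≫ g = f' ≫ g') (M : Z.Modules) :
    (Scheme.Modules.pullback f).obj ((Scheme.Modules.pullback g).obj M) ≅
      (Scheme.Modules.pullback f').obj ((Scheme.Modules.pullback g').obj M) :=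
  pbComp f g M ≪≫ pbCongr h M ≪≫ (pbComp f' g' M).symm

/-- Pullback along an identity. -/
noncomputable def pbId (M : X.Modules) : (Scheme.Modules.pullback (𝟙 X)).obj M ≅ M :=
  (Scheme.Modules.pullbackId X).app M

theorem isQCoh_pullback (f : X ⟶ Y) (M : Y.Modules) [M.IsQuasicoherent] :
    ((Scheme.Modules.pullback f).obj M).IsQuasicoherent :=
  Groth.Agent.Lib.Helper16.FlatPull.isQuasicoherent_pullback f M

theorem isFP_pullback (f : X ⟶ Y) (M : Y.Modules) [M.IsQuasicoherent]
    (hM : SheafOfModules.IsFinitePresentation (R := Y.ringCatSheaf) M) :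
    SheafOfModules.IsFinitePresentation (R := X.ringCatSheaf)
      ((Scheme.Modules.pullback f).obj M) :=
  Groth.Agent.Lib.Helper49.PrinPartFP.isFinitePresentation_pullback f M hM

set_option backward.isDefEq.respectTransparency false in
theorem isFiniteType_of_isFP (F : X.Modules)
    (hF : SheafOfModules.IsFinitePresentation (R := X.ringCatSheaf) F) :
    SheafOfModules.IsFiniteType (R := X.ringCatSheaf) F := by
  haveI := hF
  infer_instance

theorem isCoh_pullback (f : X ⟶ Y) (M : Y.Modules) [M.IsQuasicoherent]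
    (hM : SheafOfModules.IsFinitePresentation (R := Y.ringCatSheaf) M) :
    Coh.IsCoh ((Scheme.Modules.pullback f).obj M) :=
  ⟨isQCoh_pullback f M, isFiniteType_of_isFP _ (isFP_pullback f M hM)⟩

end PullbackIso

section ModDescent

variable {I : Type u} [SmallCategory I] [IsCofiltered I] (D : I ⥤ Scheme.{u}) (c : Cone D)
  (hc : IsLimit c) [∀ {i j : I} (f : i ⟶ j), IsAffineHom (D.map f)]

include hc in
/-- A finitely presented quasi-coherent module on a scheme pulled back from stage `i` is the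
pullback of a finitely presented quasi-coherent module on the canonical model over a later
stage. -/
theorem exists_module_descend {i : I} {Ui U : Scheme.{u}} {ui : Ui ⟶ D.obj i}
    {u : U ⟶ c.pt} {qU : U ⟶ Ui} (hU : IsPullback qU u ui (c.π.app i))
    [CompactSpace ↥Ui] [QuasiSeparatedSpace ↥Ui] (F : U.Modules) [F.IsQuasicoherent]
    (hF : SheafOfModules.IsFinitePresentation (R := U.ringCatSheaf) F) :
    ∃ (j : I) (φ : j ⟶ i) (Fj : (pullback ui (D.map φ)).Modules), Fj.IsQuasicoherent ∧
      SheafOfModules.IsFinitePresentation (R := (pullback ui (D.map φ)).ringCatSheaf) Fj ∧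
      Nonempty ((Scheme.Modules.pullback (toStage D c hU φ)).obj Fj ≅ F) := by
  let ε : U ≅ pullback (c.π.app i) ui := hU.flip.isoPullback
  have hε1 : ε.hom ≫ pullback.fst (c.π.app i) ui = u := hU.flip.isoPullback_hom_fst
  have hε2 : ε.hom ≫ pullback.snd (c.π.app i) ui = qU := hU.flip.isoPullback_hom_snd
  let F' : (bcCone D c i ui).pt.Modules := (Scheme.Modules.pullback ε.inv).obj F
  haveI hF'q : F'.IsQuasicoherent := isQCoh_pullback ε.inv F
  have hF'fp : SheafOfModules.IsFinitePresentation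
      (R := (bcCone D c i ui).pt.ringCatSheaf) F' := isFP_pullback ε.inv F hF
  let i₀ : Over i := Over.mk (𝟙 i)
  have hiso : IsIso (D.map (𝟙 i)) := by rw [D.map_id]; infer_instance
  have hsnd : IsIso (pullback.snd (D.map (𝟙 i)) ui) := inferInstance
  have hsnd1 : QuasiCompact (pullback.snd (D.map (𝟙 i)) ui) := inferInstance
  have hsnd2 : QuasiSeparated (pullback.snd (D.map (𝟙 i)) ui) := inferInstance
  have hcs' : CompactSpace ↥(pullback (D.map (𝟙 i)) ui) :=
    QuasiCompact.compactSpace_of_compactSpace (pullback.snd (D.map (𝟙 i)) ui)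
  have hqs' : QuasiSeparatedSpace ↥(pullback (D.map (𝟙 i)) ui) :=
    quasiSeparatedSpace_of_quasiSeparated (pullback.snd (D.map (𝟙 i)) ui)
  have hcs : CompactSpace ↥((bcDiagram D i ui).obj i₀) := hcs'
  have hqs : QuasiSeparatedSpace ↥((bcDiagram D i ui).obj i₀) := hqs'
  obtain ⟨j, -, Fj, hFjq, hFjfp, ⟨eFj⟩⟩ := Groth.Agent.S4788.result (bcDiagram D i ui)
    (bcCone D c i ui) (isLimitBcCone D c i ui hc) i₀ F' hF'fp
  let P : Scheme.{u} := pullback (c.π.app i) ui
  let Tj : Scheme.{u} := pullback (D.map j.hom) ui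
  let πj : P ⟶ Tj := (bcCone D c i ui).π.app j
  have hπ1 : πj ≫ pullback.fst (D.map j.hom) ui =
      pullback.fst (c.π.app i) ui ≫ c.π.app j.left := bcCone_π_fst D c i ui j
  have hπ2 : πj ≫ pullback.snd (D.map j.hom) ui = pullback.snd (c.π.app i) ui :=
    bcCone_π_snd D c i ui j
  let Fj' : Tj.Modules := Fj
  haveI : Fj'.IsQuasicoherent := hFjq
  have hFj'fp : SheafOfModules.IsFinitePresentation (R := Tj.ringCatSheaf) Fj' := hFjfp
  let eFj' : (Scheme.Modules.pullback πj).obj Fj' ≅ (Scheme.Modules.pullback ε.inv).obj F := eFj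
  let σ : pullback ui (D.map j.hom) ≅ Tj := pullbackSymmetry _ _
  have hσ1 : σ.hom ≫ pullback.fst (D.map j.hom) ui = pullback.snd ui (D.map j.hom) :=
    pullbackSymmetry_hom_comp_fst _ _
  have hσ2 : σ.hom ≫ pullback.snd (D.map j.hom) ui = pullback.fst ui (D.map j.hom) :=
    pullbackSymmetry_hom_comp_snd _ _
  have hcomm : toStage D c hU j.hom ≫ σ.hom = ε.hom ≫ πj := by
    apply pullback.hom_ext
    · rw [Category.assoc, hσ1, toStage_snd, Category.assoc, hπ1, ← Category.assoc, hε1]
    · rw [Category.assoc, hσ2, toStage_fst, Category.assoc, hπ2, hε2]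
  refine ⟨j.left, j.hom, (Scheme.Modules.pullback σ.hom).obj Fj', isQCoh_pullback σ.hom Fj',
    isFP_pullback σ.hom Fj' hFj'fp, ⟨?_⟩⟩
  exact pbSquare hcomm Fj' ≪≫ (Scheme.Modules.pullback ε.hom).mapIso eFj' ≪≫
    pbComp ε.hom ε.inv F ≪≫ pbCongr ε.hom_inv_id F ≪≫ pbId F

end ModDescent

section Model

variable {S : Scheme.{u}} [IsAffine S]

/-- **Noetherian model** of a scheme of finite presentation over an affine scheme together with a
finitely presented quasi-coherent module. -/
theorem exists_noetherian_model_mod {X : Scheme.{u}} (u : X ⟶ S)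
    [LocallyOfFinitePresentation u] [QuasiCompact u] [QuasiSeparated u]
    (F : X.Modules) [F.IsQuasicoherent]
    (hF : SheafOfModules.IsFinitePresentation (R := X.ringCatSheaf) F) :
    ∃ (A₀ : CommRingCat.{u}) (_ : IsNoetherianRing A₀) (π : S ⟶ Spec A₀) (X₀ : Scheme.{u})
      (u₀ : X₀ ⟶ Spec A₀) (qX : X ⟶ X₀) (F₀ : X₀.Modules),
      LocallyOfFinitePresentation u₀ ∧ QuasiCompact u₀ ∧ QuasiSeparated u₀ ∧
      IsPullback qX u u₀ π ∧ F₀.IsQuasicoherent ∧
      SheafOfModules.IsFinitePresentation (R := X₀.ringCatSheaf) F₀ ∧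
      Nonempty ((Scheme.Modules.pullback qX).obj F₀ ≅ F) := by
  obtain ⟨i₁, X₁, u₁, q₁, a1, a2, a3, h₁⟩ := descends_noeth u
  have hcs : CompactSpace ↥X₁ := QuasiCompact.compactSpace_of_compactSpace u₁
  have hqs : QuasiSeparatedSpace ↥X₁ := quasiSeparatedSpace_of_quasiSeparated u₁
  obtain ⟨j, φ, Fj, hFjq, hFjfp, hiso⟩ :=
    exists_module_descend (noethDiagram S) (noethCone S) (isLimitNoethCone S) h₁ F hF
  have c1 : LocallyOfFinitePresentation (pullback.snd u₁ ((noethDiagram S).map φ)) :=
    inferInstance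
  have c2 : QuasiCompact (pullback.snd u₁ ((noethDiagram S).map φ)) := inferInstance
  have c3 : QuasiSeparated (pullback.snd u₁ ((noethDiagram S).map φ)) := inferInstance
  exact ⟨noethRing S j, isNoetherianRing_noethRing S j, (noethCone S).π.app j,
    pullback u₁ ((noethDiagram S).map φ), pullback.snd u₁ ((noethDiagram S).map φ),
    toStage (noethDiagram S) (noethCone S) h₁ φ, Fj, c1, c2, c3,
    isPullback_toStage (noethDiagram S) (noethCone S) h₁ φ, hFjq, hFjfp, hiso⟩

end Model

section BaseChange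

variable {P : ∀ ⦃Y T : Scheme.{u}⦄, (Y ⟶ T) → Y.Modules → Prop}

/-- The square comparing the fibre of a base change with the fibre of the original family,
together with the compatibility of the inclusions of the fibres. -/
theorem exists_isPullback_fiber' {X S X' S' : Scheme.{u}} (u : X ⟶ S) (h : S' ⟶ S) {u' : X' ⟶ S'}
    {eX : X' ⟶ X} (hX : IsPullback eX u' u h) (s' : S') :
    ∃ pX : u'.fiber s' ⟶ u.fiber (h s'),
      pX ≫ u.fiberι (h s') = u'.fiberι s' ≫ eX ∧
      IsPullback pX (u'.fiberToSpecResidueField s') (u.fiberToSpecResidueField (h s'))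
        (Spec.map (h.residueFieldMap s')) := by
  have hh : Spec.map (h.residueFieldMap s') ≫ S.fromSpecResidueField (h s') =
      S'.fromSpecResidueField s' ≫ h :=
    Scheme.Hom.SpecMap_residueFieldMap_fromSpecResidueField h s'
  have hX₁ : IsPullback (u.fiberι (h s')) (u.fiberToSpecResidueField (h s')) u
      (S.fromSpecResidueField (h s')) := IsPullback.of_hasPullback _ _
  have hX₂' : IsPullback (u'.fiberι s') (u'.fiberToSpecResidueField s') u'
      (S'.fromSpecResidueField s') := IsPullback.of_hasPullback _ _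
  have hX₂ : IsPullback (u'.fiberι s' ≫ eX) (u'.fiberToSpecResidueField s') u
      (S'.fromSpecResidueField s' ≫ h) := hX₂'.paste_horiz hX
  obtain ⟨pX, hpX1, hpX⟩ := exists_isPullback_of_fac hX₁ hX₂ _ hh
  exact ⟨pX, hpX1, hpX⟩

/-- **Compatibility of the locus with base change**, for a field-stable relation with a module. -/
theorem locusMod_baseChange (hP : ConsProp.IsFieldStableMod P)
    {X S X' S' : Scheme.{u}} (u : X ⟶ S) [LocallyOfFiniteType u] [QuasiCompact u]
    (F : X.Modules) [F.IsQuasicoherent]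
    (hF : SheafOfModules.IsFinitePresentation (R := X.ringCatSheaf) F)
    (h : S' ⟶ S) {u' : X' ⟶ S'} {eX : X' ⟶ X} (hX : IsPullback eX u' u h)
    (F' : X'.Modules) (eF : F' ≅ (Scheme.Modules.pullback eX).obj F) :
    ConsProp.locusMod P u' F' = h ⁻¹' ConsProp.locusMod P u F := by
  ext s'
  obtain ⟨pX, hpX1, hpX⟩ := exists_isPullback_fiber' u h hX s'
  have i1 : LocallyOfFiniteType (u.fiberToSpecResidueField (h s')) :=
    inferInstanceAs (LocallyOfFiniteType (pullback.snd u (S.fromSpecResidueField (h s'))))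
  have i2 : QuasiCompact (u.fiberToSpecResidueField (h s')) :=
    inferInstanceAs (QuasiCompact (pullback.snd u (S.fromSpecResidueField (h s'))))
  have hcoh : Coh.IsCoh ((Scheme.Modules.pullback (u.fiberι (h s'))).obj F) :=
    isCoh_pullback _ F hF
  have e : (Scheme.Modules.pullback (u'.fiberι s')).obj F' ≅
      (Scheme.Modules.pullback pX).obj ((Scheme.Modules.pullback (u.fiberι (h s'))).obj F) :=
    (Scheme.Modules.pullback (u'.fiberι s')).mapIso eF ≪≫ pbSquare hpX1.symm F
  exact (hP (u.fiberToSpecResidueField (h s')) (u'.fiberToSpecResidueField s') pX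
    (Spec.map (h.residueFieldMap s')) hpX _ _ hcoh e).symm

end BaseChange

section Main

variable {P : ∀ ⦃Y T : Scheme.{u}⦄, (Y ⟶ T) → Y.Modules → Prop}
  {X S : Scheme.{u}} (u : X ⟶ S)
  [LocallyOfFinitePresentation u] [QuasiCompact u] [QuasiSeparated u]
  (F : X.Modules) [F.IsQuasicoherent]
  (hF : SheafOfModules.IsFinitePresentation (R := X.ringCatSheaf) F)

include hF in
theorem exists_model_locusMod (hP : ConsProp.IsFieldStableMod P) (U : S.Opens)
    (hU : IsAffineOpen U) :
    ∃ (A₀ : CommRingCat.{u}) (_ : IsNoetherianRing A₀) (π : U.toScheme ⟶ Spec A₀)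
      (X₀ : Scheme.{u}) (u₀ : X₀ ⟶ Spec A₀) (F₀ : X₀.Modules),
      LocallyOfFinitePresentation u₀ ∧ QuasiCompact u₀ ∧ QuasiSeparated u₀ ∧
      F₀.IsQuasicoherent ∧ SheafOfModules.IsFinitePresentation (R := X₀.ringCatSheaf) F₀ ∧
      U.ι ⁻¹' ConsProp.locusMod P u F = π ⁻¹' ConsProp.locusMod P u₀ F₀ := by
  have : IsAffine U.toScheme := hU
  set FU : (pullback u U.ι).Modules := (Scheme.Modules.pullback (pullback.fst u U.ι)).obj F
    with hFU
  haveI : FU.IsQuasicoherent := isQCoh_pullback _ F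
  have hFUfp : SheafOfModules.IsFinitePresentation (R := (pullback u U.ι).ringCatSheaf) FU :=
    isFP_pullback _ F hF
  have e1 : ConsProp.locusMod P (pullback.snd u U.ι) FU = U.ι ⁻¹' ConsProp.locusMod P u F :=
    locusMod_baseChange hP u F hF U.ι (IsPullback.of_hasPullback u U.ι) FU (Iso.refl _)
  obtain ⟨A₀, hA₀, π, X₀, u₀, qX, F₀, a1, a2, a3, hX, hF₀q, hF₀fp, ⟨eF⟩⟩ :=
    exists_noetherian_model_mod (pullback.snd u U.ι) FU hFUfp
  haveI := hF₀q
  have e2 : ConsProp.locusMod P (pullback.snd u U.ι) FU = π ⁻¹' ConsProp.locusMod P u₀ F₀ :=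
    locusMod_baseChange hP u₀ F₀ hF₀fp π hX FU eF.symm
  exact ⟨A₀, hA₀, π, X₀, u₀, F₀, a1, a2, a3, hF₀q, hF₀fp, e1.symm.trans e2⟩

include hF in
/-- **EGA IV 9.2.3, ind-constructible case, module form.** -/
theorem isIndConstructible_locusMod (hP : ConsProp.IsIndConsMod P) :
    ProCons.IsIndConstructible (ConsProp.locusMod P u F) := by
  apply isIndConstructible_of_affine_models
  intro U hU
  obtain ⟨A₀, hA₀, π, X₀, u₀, F₀, a1, a2, a3, hF₀q, hF₀fp, e⟩ :=
    exists_model_locusMod u F hF hP.1 U hU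
  haveI := hF₀q
  refine ⟨A₀, hA₀, π, ConsProp.locusMod P u₀ F₀, e, ?_⟩
  intro p hp hgen
  have e3 : ConsProp.locusMod P (pullback.snd u₀ (primeIncl A₀ p))
      ((Scheme.Modules.pullback (pullback.fst u₀ (primeIncl A₀ p))).obj F₀) =
      (primeIncl A₀ p) ⁻¹' ConsProp.locusMod P u₀ F₀ :=
    locusMod_baseChange hP.1 u₀ F₀ hF₀fp (primeIncl A₀ p) (IsPullback.of_hasPullback u₀ _) _
      (Iso.refl _)
  have := hP.2 (pullback.snd u₀ (primeIncl A₀ p))
    ((Scheme.Modules.pullback (pullback.fst u₀ (primeIncl A₀ p))).obj F₀)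
    (isCoh_pullback _ F₀ hF₀fp) (by rw [e3]; exact hgen)
  rwa [e3] at this

include hF in
/-- **EGA IV 9.2.3, constructible case, module form.** -/
theorem isLocallyConstructible_locusMod (hP : ConsProp.IsConsMod P) :
    IsLocallyConstructible (ConsProp.locusMod P u F) := by
  apply isLocallyConstructible_of_affine_models
  intro U hU
  obtain ⟨A₀, hA₀, π, X₀, u₀, F₀, a1, a2, a3, hF₀q, hF₀fp, e⟩ :=
    exists_model_locusMod u F hF hP.1 U hU
  haveI := hF₀q
  refine ⟨A₀, hA₀, π, ConsProp.locusMod P u₀ F₀, e, ?_⟩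
  intro p hp
  have e3 : ConsProp.locusMod P (pullback.snd u₀ (primeIncl A₀ p))
      ((Scheme.Modules.pullback (pullback.fst u₀ (primeIncl A₀ p))).obj F₀) =
      (primeIncl A₀ p) ⁻¹' ConsProp.locusMod P u₀ F₀ :=
    locusMod_baseChange hP.1 u₀ F₀ hF₀fp (primeIncl A₀ p) (IsPullback.of_hasPullback u₀ _) _
      (Iso.refl _)
  have := hP.2 (pullback.snd u₀ (primeIncl A₀ p))
    ((Scheme.Modules.pullback (pullback.fst u₀ (primeIncl A₀ p))).obj F₀)
    (isCoh_pullback _ F₀ hF₀fp)
  rwa [e3] at this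

end Main

end Groth.Agent.Lib.Helper23.ConsLocusMod
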