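/-
Helper library (helper23): constructibility of the locus of a constructible relation
`P(f, X, Y, F, k)` on a morphism `f : X ⟶ Y` of schemes of finite presentation over an arbitrary
base together with a finitely presented module `F` on `X` (EGA IV 9.2.3, mixed form).
-/
import Mathlib
import Groth.Prelude.Def_EGA4Misc
import Groth.Agent.Lib.Helper23.ConsLocusMod
import Groth.Agent.Lib.Helper23.ConsLocusMor

set_option autoImplicit false
universe u
open CategoryTheory Limits AlgebraicGeometry Topology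

namespace Groth.Agent.Lib.Helper23.ConsLocusModMor

open Groth.Agent.Lib.Helper23 Groth.Agent.Lib.Helper23.ConsLocusMod

/-- Invariance of a relation `P(f, X, Y, F, k)` under extension of the base field. -/
def IsFieldStableModMor
    (P : ∀ ⦃X Y T : Scheme.{u}⦄, (X ⟶ Y) → (Y ⟶ T) → X.Modules → Prop) : Prop :=
  ∀ ⦃X X' Y Y' T T' : Scheme.{u}⦄ (f : X ⟶ Y) (g : Y ⟶ T) (f' : X' ⟶ Y') (g' : Y' ⟶ T')
    (eX : X' ⟶ X) (eY : Y' ⟶ Y) (h : T' ⟶ T)
    [IsIntegral T] [Subsingleton T] [IsIntegral T'] [Subsingleton T']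
    [LocallyOfFiniteType g] [QuasiCompact g] [LocallyOfFiniteType (f ≫ g)] [QuasiCompact (f ≫ g)],
    IsPullback eY g' g h → IsPullback eX f' f eY → ∀ (F : X.Modules) (F' : X'.Modules),
      Coh.IsCoh F → (F' ≅ (Scheme.Modules.pullback eX).obj F) → (P f g F ↔ P f' g' F')

/-- The set of points of the base at which `P` holds for the morphism of fibres and the fibre
module. -/
def locusModMor (P : ∀ ⦃X Y T : Scheme.{u}⦄, (X ⟶ Y) → (Y ⟶ T) → X.Modules → Prop)
    {X Y S : Scheme.{u}} (f : X ⟶ Y) (g : Y ⟶ S) (F : X.Modules) : Set S :=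
  {s | P (MoreMor.fiberMap f g s) (g.fiberToSpecResidueField s)
    ((Scheme.Modules.pullback ((f ≫ g).fiberι s)).obj F)}

/-- `P(f, X, Y, F, k)` is a constructible property. -/
def IsConsModMor (P : ∀ ⦃X Y T : Scheme.{u}⦄, (X ⟶ Y) → (Y ⟶ T) → X.Modules → Prop) : Prop :=
  IsFieldStableModMor P ∧
    ∀ ⦃X Y S : Scheme.{u}⦄ (f : X ⟶ Y) (g : Y ⟶ S) [IsIntegral S] [IsNoetherian S]
      [LocallyOfFiniteType g] [QuasiCompact g] [LocallyOfFiniteType (f ≫ g)]
      [QuasiCompact (f ≫ g)] (F : X.Modules), Coh.IsCoh F →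
      (interior (locusModMor P f g F)).Nonempty ∨ (interior (locusModMor P f g F)ᶜ).Nonempty

section Model

variable {S : Scheme.{u}} [IsAffine S]

/-- **Noetherian model of a morphism with a module** over an affine scheme. -/
theorem exists_noetherian_model_mormod {X Y : Scheme.{u}} (f : X ⟶ Y) (g : Y ⟶ S)
    [LocallyOfFinitePresentation g] [QuasiCompact g] [QuasiSeparated g]
    [LocallyOfFinitePresentation (f ≫ g)] [QuasiCompact (f ≫ g)] [QuasiSeparated (f ≫ g)]
    (F : X.Modules) [F.IsQuasicoherent]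
    (hF : SheafOfModules.IsFinitePresentation (R := X.ringCatSheaf) F) :
    ∃ (A₀ : CommRingCat.{u}) (_ : IsNoetherianRing A₀) (π : S ⟶ Spec A₀) (X₀ Y₀ : Scheme.{u})
      (f₀ : X₀ ⟶ Y₀) (g₀ : Y₀ ⟶ Spec A₀) (qX : X ⟶ X₀) (qY : Y ⟶ Y₀) (F₀ : X₀.Modules),
      LocallyOfFinitePresentation g₀ ∧ QuasiCompact g₀ ∧ QuasiSeparated g₀ ∧
      LocallyOfFinitePresentation (f₀ ≫ g₀) ∧ QuasiCompact (f₀ ≫ g₀) ∧ QuasiSeparated (f₀ ≫ g₀) ∧
      IsPullback qY g g₀ π ∧ IsPullback qX f f₀ qY ∧ F₀.IsQuasicoherent ∧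
      SheafOfModules.IsFinitePresentation (R := X₀.ringCatSheaf) F₀ ∧
      Nonempty ((Scheme.Modules.pullback qX).obj F₀ ≅ F) := by
  have hAff : ∀ (i j : (Finset Γ(S, ⊤))ᵒᵖ) (a : i ⟶ j), IsAffineHom ((noethDiagram S).map a) :=
    fun _ _ a => inferInstance
  obtain ⟨i₁, Y₁, g₁, q₁, a1, a2, a3, h₁⟩ := descends_noeth g
  obtain ⟨i₂, X₂, w₂, q₂, b1, b2, b3, h₂⟩ := descends_noeth (f ≫ g)
  let j := IsCofiltered.min i₁ i₂
  let φ₁ : j ⟶ i₁ := IsCofiltered.minToLeft i₁ i₂
  let φ₂ : j ⟶ i₂ := IsCofiltered.minToRight i₁ i₂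
  let gj : pullback g₁ ((noethDiagram S).map φ₁) ⟶ (noethDiagram S).obj j :=
    pullback.snd g₁ ((noethDiagram S).map φ₁)
  let wj : pullback w₂ ((noethDiagram S).map φ₂) ⟶ (noethDiagram S).obj j :=
    pullback.snd w₂ ((noethDiagram S).map φ₂)
  have c1 : LocallyOfFinitePresentation gj :=
    inferInstanceAs (LocallyOfFinitePresentation (pullback.snd g₁ ((noethDiagram S).map φ₁)))
  have c2 : QuasiCompact gj :=
    inferInstanceAs (QuasiCompact (pullback.snd g₁ ((noethDiagram S).map φ₁)))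
  have c3 : QuasiSeparated gj :=
    inferInstanceAs (QuasiSeparated (pullback.snd g₁ ((noethDiagram S).map φ₁)))
  have d1 : LocallyOfFinitePresentation wj :=
    inferInstanceAs (LocallyOfFinitePresentation (pullback.snd w₂ ((noethDiagram S).map φ₂)))
  have d2 : QuasiCompact wj :=
    inferInstanceAs (QuasiCompact (pullback.snd w₂ ((noethDiagram S).map φ₂)))
  have d3 : QuasiSeparated wj :=
    inferInstanceAs (QuasiSeparated (pullback.snd w₂ ((noethDiagram S).map φ₂)))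
  have hYj : IsPullback (toStage (noethDiagram S) (noethCone S) h₁ φ₁) g gj
      ((noethCone S).π.app j) := isPullback_toStage (noethDiagram S) (noethCone S) h₁ φ₁
  have hXj : IsPullback (toStage (noethDiagram S) (noethCone S) h₂ φ₂) (f ≫ g) wj
      ((noethCone S).π.app j) := isPullback_toStage (noethDiagram S) (noethCone S) h₂ φ₂
  -- descent of the module
  have hcs : CompactSpace ↥(pullback w₂ ((noethDiagram S).map φ₂)) :=
    QuasiCompact.compactSpace_of_compactSpace wj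
  have hqs : QuasiSeparatedSpace ↥(pullback w₂ ((noethDiagram S).map φ₂)) :=
    quasiSeparatedSpace_of_quasiSeparated wj
  obtain ⟨j', ψ, Fj', hFj'q, hFj'fp, ⟨eFj'⟩⟩ :=
    exists_module_descend (noethDiagram S) (noethCone S) (isLimitNoethCone S) hXj F hF
  -- descent of the morphism
  obtain ⟨k, φ, H⟩ := exists_hom_descend_eventually (noethDiagram S) (noethCone S)
    (isLimitNoethCone S) ⊤ descends_top.{u} j wj gj (f ≫ g) g _ _ hXj hYj f rfl trivial
  -- a common stage
  let l := IsCofiltered.min j' k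
  let α : l ⟶ j' := IsCofiltered.minToLeft j' k
  let β : l ⟶ k := IsCofiltered.minToRight j' k
  obtain ⟨m', hm', -, hsq⟩ := H l (α ≫ ψ) β (Subsingleton.elim _ _)
  -- the module at the common stage
  let t : pullback wj ((noethDiagram S).map (α ≫ ψ)) ⟶ pullback wj ((noethDiagram S).map ψ) :=
    pullback.lift (pullback.fst _ _) (pullback.snd _ _ ≫ (noethDiagram S).map α)
      (by rw [pullback.condition, Category.assoc, ← Functor.map_comp])
  have ht : toStage (noethDiagram S) (noethCone S) hXj (α ≫ ψ) ≫ t =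
      toStage (noethDiagram S) (noethCone S) hXj ψ := by
    apply pullback.hom_ext
    · rw [Category.assoc, pullback.lift_fst, toStage_fst, toStage_fst]
    · rw [Category.assoc, pullback.lift_snd, toStage_snd_assoc, toStage_snd, Cone.w]
  haveI := hFj'q
  let Fl : (pullback wj ((noethDiagram S).map (α ≫ ψ))).Modules :=
    (Scheme.Modules.pullback t).obj Fj'
  have hFlq : Fl.IsQuasicoherent := isQCoh_pullback t Fj'
  have hFlfp : SheafOfModules.IsFinitePresentation
      (R := (pullback wj ((noethDiagram S).map (α ≫ ψ))).ringCatSheaf) Fl :=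
    isFP_pullback t Fj' hFj'fp
  have eFl : (Scheme.Modules.pullback
      (toStage (noethDiagram S) (noethCone S) hXj (α ≫ ψ))).obj Fl ≅ F :=
    ConsLocusMod.pbComp _ t Fj' ≪≫ ConsLocusMod.pbCongr ht Fj' ≪≫ eFj'
  have e1 : LocallyOfFinitePresentation (pullback.snd gj ((noethDiagram S).map (α ≫ ψ))) :=
    inferInstance
  have e2 : QuasiCompact (pullback.snd gj ((noethDiagram S).map (α ≫ ψ))) := inferInstance
  have e3 : QuasiSeparated (pullback.snd gj ((noethDiagram S).map (α ≫ ψ))) := inferInstance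
  have e4 : LocallyOfFinitePresentation
      (m' ≫ pullback.snd gj ((noethDiagram S).map (α ≫ ψ))) := by
    rw [hm']; infer_instance
  have e5 : QuasiCompact (m' ≫ pullback.snd gj ((noethDiagram S).map (α ≫ ψ))) := by
    rw [hm']; infer_instance
  have e6 : QuasiSeparated (m' ≫ pullback.snd gj ((noethDiagram S).map (α ≫ ψ))) := by
    rw [hm']; infer_instance
  exact ⟨noethRing S l, isNoetherianRing_noethRing S l, (noethCone S).π.app l,
    pullback wj ((noethDiagram S).map (α ≫ ψ)), pullback gj ((noethDiagram S).map (α ≫ ψ)), m',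
    pullback.snd gj ((noethDiagram S).map (α ≫ ψ)),
    toStage (noethDiagram S) (noethCone S) hXj (α ≫ ψ),
    toStage (noethDiagram S) (noethCone S) hYj (α ≫ ψ), Fl,
    e1, e2, e3, e4, e5, e6, isPullback_toStage (noethDiagram S) (noethCone S) hYj (α ≫ ψ), hsq,
    hFlq, hFlfp, ⟨eFl⟩⟩

end Model

section BaseChange

variable {P : ∀ ⦃X Y T : Scheme.{u}⦄, (X ⟶ Y) → (Y ⟶ T) → X.Modules → Prop}

/-- **Compatibility of the locus with base change.** -/
theorem locusModMor_baseChange (hP : IsFieldStableModMor P)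
    {X Y S X' Y' S' : Scheme.{u}} (f : X ⟶ Y) (g : Y ⟶ S)
    [LocallyOfFiniteType g] [QuasiCompact g] [LocallyOfFiniteType (f ≫ g)] [QuasiCompact (f ≫ g)]
    (F : X.Modules) [F.IsQuasicoherent]
    (hF : SheafOfModules.IsFinitePresentation (R := X.ringCatSheaf) F)
    (h : S' ⟶ S) {f' : X' ⟶ Y'} {g' : Y' ⟶ S'} {eX : X' ⟶ X} {eY : Y' ⟶ Y}
    (hY : IsPullback eY g' g h) (hX : IsPullback eX f' f eY)
    (F' : X'.Modules) (eF : F' ≅ (Scheme.Modules.pullback eX).obj F) :
    locusModMor P f' g' F' = h ⁻¹' locusModMor P f g F := by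
  ext s'
  obtain ⟨pY, hpY1, hpY⟩ := exists_isPullback_fiber' g h hY s'
  obtain ⟨pX, hpX1, hpX⟩ := exists_isPullback_fiber' (f ≫ g) h (hX.paste_vert hY) s'
  have i1 : LocallyOfFiniteType (g.fiberToSpecResidueField (h s')) :=
    inferInstanceAs (LocallyOfFiniteType (pullback.snd g (S.fromSpecResidueField (h s'))))
  have i2 : QuasiCompact (g.fiberToSpecResidueField (h s')) :=
    inferInstanceAs (QuasiCompact (pullback.snd g (S.fromSpecResidueField (h s'))))
  have i3 : LocallyOfFiniteType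
      (MoreMor.fiberMap f g (h s') ≫ g.fiberToSpecResidueField (h s')) := by
    rw [fiberMap_fiberToSpecResidueField]
    exact inferInstanceAs
      (LocallyOfFiniteType (pullback.snd (f ≫ g) (S.fromSpecResidueField (h s'))))
  have i4 : QuasiCompact
      (MoreMor.fiberMap f g (h s') ≫ g.fiberToSpecResidueField (h s')) := by
    rw [fiberMap_fiberToSpecResidueField]
    exact inferInstanceAs (QuasiCompact (pullback.snd (f ≫ g) (S.fromSpecResidueField (h s'))))
  have hcomm : pX ≫ MoreMor.fiberMap f g (h s') = MoreMor.fiberMap f' g' s' ≫ pY := by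
    apply pullback.hom_ext
    · change (pX ≫ MoreMor.fiberMap f g (h s')) ≫ g.fiberι (h s') =
        (MoreMor.fiberMap f' g' s' ≫ pY) ≫ g.fiberι (h s')
      have l1 : (pX ≫ MoreMor.fiberMap f g (h s')) ≫ g.fiberι (h s') =
          (f' ≫ g').fiberι s' ≫ eX ≫ f := by
        rw [Category.assoc, fiberMap_fiberι, ← Category.assoc, hpX1, Category.assoc]
      have l2 : (MoreMor.fiberMap f' g' s' ≫ pY) ≫ g.fiberι (h s') =
          (f' ≫ g').fiberι s' ≫ f' ≫ eY := by
        rw [Category.assoc, hpY1, ← Category.assoc, fiberMap_fiberι, Category.assoc]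
      rw [l1, l2, hX.w]
    · change (pX ≫ MoreMor.fiberMap f g (h s')) ≫ g.fiberToSpecResidueField (h s') =
        (MoreMor.fiberMap f' g' s' ≫ pY) ≫ g.fiberToSpecResidueField (h s')
      rw [Category.assoc, fiberMap_fiberToSpecResidueField, Category.assoc, hpY.w,
        ← Category.assoc, fiberMap_fiberToSpecResidueField]
      exact hpX.w
  have hsq : IsPullback pX (MoreMor.fiberMap f' g' s') (MoreMor.fiberMap f g (h s')) pY := by
    refine IsPullback.of_bot ?_ hcomm hpY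
    rw [fiberMap_fiberToSpecResidueField, fiberMap_fiberToSpecResidueField]
    exact hpX
  have hcoh : Coh.IsCoh ((Scheme.Modules.pullback ((f ≫ g).fiberι (h s'))).obj F) :=
    isCoh_pullback _ F hF
  have e : (Scheme.Modules.pullback ((f' ≫ g').fiberι s')).obj F' ≅
      (Scheme.Modules.pullback pX).obj
        ((Scheme.Modules.pullback ((f ≫ g).fiberι (h s'))).obj F) :=
    (Scheme.Modules.pullback ((f' ≫ g').fiberι s')).mapIso eF ≪≫ ConsLocusMod.pbSquare hpX1.symm F
  exact (hP (MoreMor.fiberMap f g (h s')) (g.fiberToSpecResidueField (h s'))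
    (MoreMor.fiberMap f' g' s') (g'.fiberToSpecResidueField s') pX pY
    (Spec.map (h.residueFieldMap s')) hpY hsq _ _ hcoh e).symm

end BaseChange

section Main

variable {P : ∀ ⦃X Y T : Scheme.{u}⦄, (X ⟶ Y) → (Y ⟶ T) → X.Modules → Prop}
  {X Y S : Scheme.{u}} (f : X ⟶ Y) (g : Y ⟶ S)
  [LocallyOfFinitePresentation g] [QuasiCompact g] [QuasiSeparated g]
  [LocallyOfFinitePresentation (f ≫ g)] [QuasiCompact (f ≫ g)] [QuasiSeparated (f ≫ g)]
  (F : X.Modules) [F.IsQuasicoherent]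
  (hF : SheafOfModules.IsFinitePresentation (R := X.ringCatSheaf) F)

include hF in
/-- Common reduction to a Noetherian model. -/
theorem exists_model_locusModMor (hP : IsFieldStableModMor P) (U : S.Opens)
    (hU : IsAffineOpen U) :
    ∃ (A₀ : CommRingCat.{u}) (_ : IsNoetherianRing A₀) (π : U.toScheme ⟶ Spec A₀)
      (X₀ Y₀ : Scheme.{u}) (f₀ : X₀ ⟶ Y₀) (g₀ : Y₀ ⟶ Spec A₀) (F₀ : X₀.Modules),
      LocallyOfFinitePresentation g₀ ∧ QuasiCompact g₀ ∧ QuasiSeparated g₀ ∧
      LocallyOfFinitePresentation (f₀ ≫ g₀) ∧ QuasiCompact (f₀ ≫ g₀) ∧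
      QuasiSeparated (f₀ ≫ g₀) ∧ F₀.IsQuasicoherent ∧
      SheafOfModules.IsFinitePresentation (R := X₀.ringCatSheaf) F₀ ∧
      U.ι ⁻¹' locusModMor P f g F = π ⁻¹' locusModMor P f₀ g₀ F₀ := by
  have : IsAffine U.toScheme := hU
  let gU : pullback g U.ι ⟶ U.toScheme := pullback.snd g U.ι
  let fU : pullback (f ≫ g) U.ι ⟶ pullback g U.ι := fibreMap f g U.ι
  have hfU : fU ≫ gU = pullback.snd (f ≫ g) U.ι := pullback.lift_snd _ _ _
  have hYU : IsPullback (pullback.fst g U.ι) gU g U.ι := IsPullback.of_hasPullback g U.ι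
  have hXU : IsPullback (pullback.fst (f ≫ g) U.ι) fU f (pullback.fst g U.ι) := by
    refine IsPullback.of_bot ?_ (pullback.lift_fst _ _ _).symm hYU
    rw [hfU]
    exact IsPullback.of_hasPullback (f ≫ g) U.ι
  have k1 : LocallyOfFinitePresentation gU :=
    inferInstanceAs (LocallyOfFinitePresentation (pullback.snd g U.ι))
  have k2 : QuasiCompact gU := inferInstanceAs (QuasiCompact (pullback.snd g U.ι))
  have k3 : QuasiSeparated gU := inferInstanceAs (QuasiSeparated (pullback.snd g U.ι))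
  have k4 : LocallyOfFinitePresentation (fU ≫ gU) := by rw [hfU]; infer_instance
  have k5 : QuasiCompact (fU ≫ gU) := by rw [hfU]; infer_instance
  have k6 : QuasiSeparated (fU ≫ gU) := by rw [hfU]; infer_instance
  set FU : (pullback (f ≫ g) U.ι).Modules :=
    (Scheme.Modules.pullback (pullback.fst (f ≫ g) U.ι)).obj F with hFU
  haveI : FU.IsQuasicoherent := isQCoh_pullback _ F
  have hFUfp : SheafOfModules.IsFinitePresentation
      (R := (pullback (f ≫ g) U.ι).ringCatSheaf) FU := isFP_pullback _ F hF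
  have e1 : locusModMor P fU gU FU = U.ι ⁻¹' locusModMor P f g F :=
    locusModMor_baseChange hP f g F hF U.ι hYU hXU FU (Iso.refl _)
  obtain ⟨A₀, hA₀, π, X₀, Y₀, f₀, g₀, qX, qY, F₀, a1, a2, a3, b1, b2, b3, hY, hX, hF₀q, hF₀fp,
    ⟨eF⟩⟩ := exists_noetherian_model_mormod fU gU FU hFUfp
  haveI := hF₀q
  have e2 : locusModMor P fU gU FU = π ⁻¹' locusModMor P f₀ g₀ F₀ :=
    locusModMor_baseChange hP f₀ g₀ F₀ hF₀fp π hY hX FU eF.symm
  exact ⟨A₀, hA₀, π, X₀, Y₀, f₀, g₀, F₀, a1, a2, a3, b1, b2, b3, hF₀q, hF₀fp,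
    e1.symm.trans e2⟩

/-- Trace of the locus on `Spec (A₀/p)`. -/
theorem exists_trace_locusModMor (hP : IsFieldStableModMor P) {A₀ : CommRingCat.{u}}
    {X₀ Y₀ : Scheme.{u}} (f₀ : X₀ ⟶ Y₀) (g₀ : Y₀ ⟶ Spec A₀)
    [LocallyOfFinitePresentation g₀] [QuasiCompact g₀]
    [LocallyOfFinitePresentation (f₀ ≫ g₀)] [QuasiCompact (f₀ ≫ g₀)]
    (F₀ : X₀.Modules) [F₀.IsQuasicoherent]
    (hF₀ : SheafOfModules.IsFinitePresentation (R := X₀.ringCatSheaf) F₀) (p : Ideal A₀) :
    ∃ (X₁ Y₁ : Scheme.{u}) (f₁ : X₁ ⟶ Y₁) (g₁ : Y₁ ⟶ Spec (CommRingCat.of (A₀ ⧸ p)))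
      (F₁ : X₁.Modules),
      LocallyOfFiniteType g₁ ∧ QuasiCompact g₁ ∧ LocallyOfFiniteType (f₁ ≫ g₁) ∧
      QuasiCompact (f₁ ≫ g₁) ∧ Coh.IsCoh F₁ ∧
      locusModMor P f₁ g₁ F₁ = (primeIncl A₀ p) ⁻¹' locusModMor P f₀ g₀ F₀ := by
  let i := primeIncl A₀ p
  let g₁ : pullback g₀ i ⟶ Spec (CommRingCat.of (A₀ ⧸ p)) := pullback.snd g₀ i
  let f₁ : pullback (f₀ ≫ g₀) i ⟶ pullback g₀ i := fibreMap f₀ g₀ i
  have hf₁ : f₁ ≫ g₁ = pullback.snd (f₀ ≫ g₀) i := pullback.lift_snd _ _ _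
  have hY₁ : IsPullback (pullback.fst g₀ i) g₁ g₀ i := IsPullback.of_hasPullback g₀ i
  have hX₁ : IsPullback (pullback.fst (f₀ ≫ g₀) i) f₁ f₀ (pullback.fst g₀ i) := by
    refine IsPullback.of_bot ?_ (pullback.lift_fst _ _ _).symm hY₁
    rw [hf₁]
    exact IsPullback.of_hasPullback (f₀ ≫ g₀) i
  have k1 : LocallyOfFiniteType g₁ := inferInstanceAs (LocallyOfFiniteType (pullback.snd g₀ i))
  have k2 : QuasiCompact g₁ := inferInstanceAs (QuasiCompact (pullback.snd g₀ i))
  have k4 : LocallyOfFiniteType (f₁ ≫ g₁) := by rw [hf₁]; infer_instance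
  have k5 : QuasiCompact (f₁ ≫ g₁) := by rw [hf₁]; infer_instance
  exact ⟨_, _, f₁, g₁, (Scheme.Modules.pullback (pullback.fst (f₀ ≫ g₀) i)).obj F₀, k1, k2, k4,
    k5, isCoh_pullback _ F₀ hF₀,
    locusModMor_baseChange hP f₀ g₀ F₀ hF₀ i hY₁ hX₁ _ (Iso.refl _)⟩

include hF in
/-- **EGA IV 9.2.3, constructible case, morphism-with-module form.** -/
theorem isLocallyConstructible_locusModMor (hP : IsConsModMor P) :
    IsLocallyConstructible (locusModMor P f g F) := by
  apply isLocallyConstructible_of_affine_models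
  intro U hU
  obtain ⟨A₀, hA₀, π, X₀, Y₀, f₀, g₀, F₀, a1, a2, a3, b1, b2, b3, hF₀q, hF₀fp, e⟩ :=
    exists_model_locusModMor f g F hF hP.1 U hU
  haveI := hF₀q
  refine ⟨A₀, hA₀, π, locusModMor P f₀ g₀ F₀, e, ?_⟩
  intro p hp
  obtain ⟨X₁, Y₁, f₁, g₁, F₁, k1, k2, k4, k5, hcoh, e3⟩ :=
    exists_trace_locusModMor hP.1 f₀ g₀ F₀ hF₀fp p
  have := hP.2 f₁ g₁ F₁ hcoh
  rwa [e3] at this

end Main

end Groth.Agent.Lib.Helper23.ConsLocusModMor
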