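/-
Helper library (helper23): flatness of a base-changed module over a base-changed ring, in terms of
quotients (semilinear transfer).
-/
import Mathlib
import Groth.Agent.Lib.Helper23.FibreCritFT

set_option autoImplicit false
set_option linter.style.haveILetI false
universe u

namespace Groth.Agent.Lib.Helper23.FibreFlatAlg

open Groth.Agent.Lib.Helper23.FibreCritFT

/-- Let `ρY : B₀ → B'` and `ρX : C₀ → C'` be surjective ring maps fitting in a commutative square
with `β₀ : B₀ → C₀` and `φ' : B' → C'`, with `ker ρY = I`. Let `M` be a `C₀`-module, `M'` a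
`C'`-module and `ψ : M → M'` a `ρX`-semilinear surjection with kernel `(I C₀) M`. Then `M'` is flat
over `B'` iff `M / I M` is flat over `B₀ / I`. -/
theorem flat_iff_of_surjective_module {B₀ B' C₀ C' M M' : Type u} [CommRing B₀] [CommRing B']
    [CommRing C₀] [CommRing C'] [AddCommGroup M] [AddCommGroup M'] [Module C₀ M] [Module C' M']
    (ρY : B₀ →+* B') (hY : Function.Surjective ρY) (ρX : C₀ →+* C') (β₀ : B₀ →+* C₀)
    (φ' : B' →+* C') (hcomm : φ'.comp ρY = ρX.comp β₀) (I : Ideal B₀)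
    (hkY : RingHom.ker ρY = I)
    (ψ : M →+ M') (hψ : ∀ (c : C₀) (m : M), ψ (c • m) = ρX c • ψ m)
    (hψs : Function.Surjective ψ)
    (hker : ∀ m, ψ m = 0 ↔ m ∈ (I.map β₀) • (⊤ : Submodule C₀ M)) :
    (letI := Module.compHom M' φ'
     Module.Flat B' M') ↔
      (letI := Module.compHom M β₀
       Module.Flat (B₀ ⧸ I) (M ⧸ I • (⊤ : Submodule B₀ M))) := by
  subst hkY
  letI modB₀M : Module B₀ M := Module.compHom M β₀
  letI modB'M' : Module B' M' := Module.compHom M' φ'
  letI algB₀C₀ : Algebra B₀ C₀ := β₀.toAlgebra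
  haveI : IsScalarTower B₀ C₀ M := IsScalarTower.of_compHom _ _ _
  set N : Submodule B₀ M := RingHom.ker ρY • ⊤ with hN
  have hkerN : ∀ m, ψ m = 0 ↔ m ∈ N := by
    intro m
    rw [hker]
    have := Ideal.smul_restrictScalars (RingHom.ker ρY) (⊤ : Submodule C₀ M)
    rw [Submodule.restrictScalars_top] at this
    rw [hN, ← this]
    rfl
  let e : B₀ ⧸ RingHom.ker ρY ≃+* B' := RingHom.quotientKerEquivOfSurjective hY
  letI modB₀M' : Module B₀ M' := Module.compHom M' (ρX.comp β₀)
  let ψₗ : M →ₗ[B₀] M' :=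
    { toFun := ψ
      map_add' := ψ.map_add
      map_smul' := fun b m => hψ (β₀ b) m }
  have hle : N ≤ LinearMap.ker ψₗ := fun m hm => (hkerN m).mpr hm
  let ψq : (M ⧸ N) →ₗ[B₀] M' := N.liftQ ψₗ hle
  have hinj : Function.Injective ψq := by
    rw [← LinearMap.ker_eq_bot]
    apply Submodule.ker_liftQ_eq_bot
    intro m hm
    exact (hkerN m).mp hm
  have hsurj : Function.Surjective ψq := fun y => by
    obtain ⟨m, hm⟩ := hψs y
    exact ⟨Submodule.Quotient.mk m, hm⟩
  let σ : (M ⧸ N) ≃+ M' := (LinearEquiv.ofBijective ψq ⟨hinj, hsurj⟩).toAddEquiv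
  have hσmk : ∀ m : M, σ (Submodule.Quotient.mk m) = ψ m := fun m => rfl
  have hσ : ∀ (r : B₀ ⧸ RingHom.ker ρY) (x : M ⧸ N), σ (r • x) = e r • σ x := by
    intro r x
    obtain ⟨r, rfl⟩ := Ideal.Quotient.mk_surjective r
    obtain ⟨m, rfl⟩ := Submodule.Quotient.mk_surjective N x
    have h1 : (Ideal.Quotient.mk (RingHom.ker ρY) r) • (Submodule.Quotient.mk m : M ⧸ N) =
        Submodule.Quotient.mk (r • m) := rfl
    rw [h1, hσmk, hσmk]
    have h2 : e (Ideal.Quotient.mk (RingHom.ker ρY) r) = ρY r := rfl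
    rw [h2]
    show ψ (β₀ r • m) = φ' (ρY r) • ψ m
    rw [hψ]
    congr 1
    exact (RingHom.congr_fun hcomm r).symm
  constructor
  · intro hfl
    haveI : Module.Flat B' M' := hfl
    exact flat_of_semilinearEquiv e.toRingHom e.bijective σ hσ
  · intro hfl
    haveI : Module.Flat (B₀ ⧸ RingHom.ker ρY) (M ⧸ N) := hfl
    refine flat_of_semilinearEquiv e.symm.toRingHom e.symm.bijective σ.symm ?_
    intro r x
    apply σ.injective
    rw [AddEquiv.apply_symm_apply, hσ]
    show r • x = e (e.symm r) • σ (σ.symm x)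
    rw [RingEquiv.apply_symm_apply, AddEquiv.apply_symm_apply]

end Groth.Agent.Lib.Helper23.FibreFlatAlg
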