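import Mathlib
import Groth.Agent.Lib.Helper13.ChevalleyAlg
import Groth.Agent.S2141
import Groth.Agent.Lib.Helper55.LocalDimAffine
import Groth.Agent.Lib.Helper55.DimTrdeg
import Groth.Agent.Lib.Helper55.LocalADF

/-!
# Fibre dimension and transcendence degree for flat local homomorphisms (helper23)

For a flat local homomorphism `A → B` of local domains, essentially of finite type,
`dim (B / 𝔪_A B) + trdeg_{κ(A)} κ(B) = trdeg_A B`.
-/

set_option autoImplicit false

namespace Groth.Agent.Lib.Helper23.FlatDimTrdeg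

universe u

open IsLocalRing TensorProduct

section PropA

variable {A D : Type u} [CommRing A] [CommRing D] [Algebra A D]

/-- `aeval x` is injective iff the monomials in `x` are linearly independent. -/
theorem algebraicIndependent_iff_linearIndependent_monomials {ι : Type*} (x : ι → D) :
    AlgebraicIndependent A x ↔
      LinearIndependent A (fun m : ι →₀ ℕ => m.prod fun i n => x i ^ n) := by
  classical
  have hf : (MvPolynomial.aeval x : MvPolynomial ι A →ₐ[A] D).toLinearMap =
      (Finsupp.linearCombination A (fun m : ι →₀ ℕ => m.prod fun i n => x i ^ n)) ∘ₗ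
        (MvPolynomial.basisMonomials ι A).repr.toLinearMap := by
    refine (MvPolynomial.basisMonomials ι A).ext fun m => ?_
    have h1 : (MvPolynomial.basisMonomials ι A).repr ((MvPolynomial.basisMonomials ι A) m) =
        Finsupp.single m 1 := (MvPolynomial.basisMonomials ι A).repr_self m
    rw [LinearMap.comp_apply, LinearEquiv.coe_coe, h1]
    simp [MvPolynomial.coe_basisMonomials, MvPolynomial.aeval_monomial]
  rw [AlgebraicIndependent, linearIndependent_iff_injective_finsuppLinearCombination]
  have h2 : ⇑(MvPolynomial.aeval x : MvPolynomial ι A →ₐ[A] D) =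
      ⇑(Finsupp.linearCombination A (fun m : ι →₀ ℕ => m.prod fun i n => x i ^ n)) ∘
        ⇑(MvPolynomial.basisMonomials ι A).repr := by
    ext p
    exact congrArg (fun g => g p) hf
  rw [h2]
  constructor
  · intro h
    exact (Function.Injective.of_comp_iff' _ (MvPolynomial.basisMonomials ι A).repr.bijective).mp h
  · intro h
    exact h.comp (MvPolynomial.basisMonomials ι A).repr.injective

/-- **Independence lifts along flat local homomorphisms**: if `A → D` is a flat local homomorphism
of local rings and the residues of `x` are algebraically independent over `κ(A)`, then `x` is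
algebraically independent over `A`. -/
theorem algebraicIndependent_of_flat_of_residue [IsLocalRing A] [IsLocalRing D]
    [IsLocalHom (algebraMap A D)] [Module.Flat A D] {ι : Type u} (x : ι → D)
    (hx : AlgebraicIndependent (ResidueField A) (fun i => residue D (x i))) :
    AlgebraicIndependent A x := by
  rw [algebraicIndependent_iff_linearIndependent_monomials] at hx ⊢
  apply Module.IsLocalRing.linearIndependent_of_flat
  let g : ResidueField A ⊗[A] D →ₗ[ResidueField A] ResidueField D :=
    (Algebra.TensorProduct.lift (Algebra.ofId (ResidueField A) (ResidueField D))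
      (IsScalarTower.toAlgHom A D (ResidueField D)) (fun _ _ => .all _ _)).toLinearMap
  refine LinearIndependent.of_comp g ?_
  have hfun : (g ∘ (TensorProduct.mk A (ResidueField A) D 1 ∘
      fun m : ι →₀ ℕ => m.prod fun i n => x i ^ n)) =
      fun m : ι →₀ ℕ => m.prod fun i n => residue D (x i) ^ n := by
    ext m
    simp [g, map_finsuppProd]
  rw [hfun]
  exact hx

/-- For a flat local homomorphism of local rings, the transcendence degree of the residue field
extension is at most the transcendence degree of the ring extension. -/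
theorem trdeg_residueField_le_of_flat [IsLocalRing A] [IsLocalRing D]
    [IsLocalHom (algebraMap A D)] [Module.Flat A D] :
    Algebra.trdeg (ResidueField A) (ResidueField D) ≤ Algebra.trdeg A D := by
  obtain ⟨s, hs⟩ := exists_isTranscendenceBasis (ResidueField A) (ResidueField D)
  rw [← hs.cardinalMk_eq_trdeg]
  choose y hy using fun i : s => residue_surjective (R := D) (i : ResidueField D)
  have hy' : (fun i : s => residue D (y i)) = Subtype.val := funext hy
  have h1 : AlgebraicIndependent A y :=
    algebraicIndependent_of_flat_of_residue y (hy' ▸ hs.1)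
  exact h1.cardinalMk_le_trdeg

end PropA

section Plumbing

variable {A C : Type u} [CommRing A] [CommRing C] [Algebra A C] (p : Ideal A) [p.IsPrime]

set_option maxHeartbeats 1000000 in
/-- (L1) The transcendence degree of `C/q` over `A/p` agrees with that of `F/Q` over `κ(p)`, where
`F = κ(p) ⊗ C` is the fibre and `q` is the contraction of `Q`. -/
theorem trdeg_quotient_eq_trdeg_fiber_quotient (Q : Ideal (p.Fiber C)) [Q.IsPrime] :
    Algebra.trdeg (A ⧸ p)
        (C ⧸ Q.comap (Algebra.TensorProduct.includeRight : C →ₐ[A] p.Fiber C)) =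
      Algebra.trdeg p.ResidueField (p.Fiber C ⧸ Q) := by
  set ι : C →ₐ[A] p.Fiber C := Algebra.TensorProduct.includeRight with hι
  set q : Ideal C := Q.comap ι with hq
  let φ : C ⧸ q →+* p.Fiber C ⧸ Q := Ideal.quotientMap Q ι.toRingHom (le_refl _)
  letI : Algebra (C ⧸ q) (p.Fiber C ⧸ Q) :=
    @RingHom.toAlgebra _ _ _ (Ideal.Quotient.commRing Q).toCommSemiring φ
  letI i3 : Algebra (A ⧸ p) (p.Fiber C ⧸ Q) := Ideal.Quotient.algebra (A ⧸ p)
  haveI : IsScalarTower (A ⧸ p) p.ResidueField (p.Fiber C ⧸ Q) :=
    Ideal.Quotient.isScalarTower (A ⧸ p) p.ResidueField Q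
  haveI : IsScalarTower (A ⧸ p) (C ⧸ q) (p.Fiber C ⧸ Q) := by
    refine IsScalarTower.of_algebraMap_eq fun x => ?_
    obtain ⟨a, rfl⟩ := Ideal.Quotient.mk_surjective x
    show _ = φ _
    have h1 : algebraMap (A ⧸ p) (C ⧸ q) (Ideal.Quotient.mk p a) =
        Ideal.Quotient.mk q (algebraMap A C a) := rfl
    rw [h1]
    have h2 : φ (Ideal.Quotient.mk q (algebraMap A C a)) =
        Ideal.Quotient.mk Q (ι (algebraMap A C a)) := rfl
    rw [h2]
    have h3 : algebraMap (A ⧸ p) (p.Fiber C ⧸ Q) (Ideal.Quotient.mk p a) =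
        Ideal.Quotient.mk Q (algebraMap (A ⧸ p) (p.Fiber C) (Ideal.Quotient.mk p a)) :=
      (Ideal.Quotient.mk_algebraMap (A ⧸ p) Q _).symm
    rw [h3]
    congr 1
    rw [AlgHom.commutes]
    rfl
  haveI : FaithfulSMul (C ⧸ q) (p.Fiber C ⧸ Q) := by
    rw [faithfulSMul_iff_algebraMap_injective]
    exact Ideal.quotientMap_injective' (le_refl _)
  haveI : FaithfulSMul (A ⧸ p) p.ResidueField := by
    rw [faithfulSMul_iff_algebraMap_injective]
    exact Ideal.injective_algebraMap_quotient_residueField p
  haveI : Algebra.IsAlgebraic (A ⧸ p) p.ResidueField :=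
    IsLocalization.isAlgebraic p.ResidueField (nonZeroDivisors (A ⧸ p))
  haveI : Algebra.IsAlgebraic (C ⧸ q) (p.Fiber C ⧸ Q) := by
    refine ⟨fun z => ?_⟩
    obtain ⟨z, rfl⟩ := Ideal.Quotient.mk_surjective z
    obtain ⟨r, hr, s, hs⟩ := Ideal.Fiber.exists_smul_eq_one_tmul p z
    have hrq : algebraMap A C r ∉ q := by
      intro h
      apply hr
      rw [Ideal.LiesOver.over (P := q) (p := p)]
      exact h
    refine ⟨Polynomial.C (Ideal.Quotient.mk q (algebraMap A C r)) * Polynomial.X -
      Polynomial.C (Ideal.Quotient.mk q s), ?_, ?_⟩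
    · intro h
      have h1 := congrArg (fun f => Polynomial.coeff f 1) h
      simp only [Polynomial.coeff_sub, Polynomial.coeff_C_mul, Polynomial.coeff_X_one, mul_one,
        Polynomial.coeff_C_succ, sub_zero, Polynomial.coeff_zero] at h1
      exact hrq (Ideal.Quotient.eq_zero_iff_mem.mp h1)
    · simp only [map_sub, map_mul, Polynomial.aeval_C, Polynomial.aeval_X]
      show φ _ * _ - φ _ = 0
      have h2 : φ (Ideal.Quotient.mk q (algebraMap A C r)) =
          Ideal.Quotient.mk Q (ι (algebraMap A C r)) := rfl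
      have h3 : φ (Ideal.Quotient.mk q s) = Ideal.Quotient.mk Q (ι s) := rfl
      rw [h2, h3, ← map_mul, ← map_sub, Ideal.Quotient.eq_zero_iff_mem]
      have h4 : ι (algebraMap A C r) * z - ι s = 0 := by
        rw [AlgHom.commutes, ← Algebra.smul_def, hs, sub_eq_zero]
        rfl
      rw [h4]
      exact Q.zero_mem
  exact Groth.Agent.Lib.Helper55.trdeg_eq_of_isAlgebraic' (A ⧸ p) (C ⧸ q) p.ResidueField
    (p.Fiber C ⧸ Q)

set_option maxHeartbeats 1000000 in
/-- (L2) For local rings `A`, `B` with `B = C_q`, `trdeg (A/𝔪) (C/q) = trdeg κ(A) κ(B)`. -/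
theorem trdeg_quotient_eq_trdeg_residueField {A C B : Type u} [CommRing A] [CommRing C]
    [CommRing B] [Algebra A C] [Algebra C B] [Algebra A B] [IsScalarTower A C B]
    [IsLocalRing A] [IsLocalRing B] [IsLocalHom (algebraMap A B)]
    (q : Ideal C) [q.IsPrime] [IsLocalization.AtPrime B q]
    (p : Ideal A) [p.IsPrime] [q.LiesOver p] (hp : p = maximalIdeal A) :
    Algebra.trdeg (A ⧸ p) (C ⧸ q) = Algebra.trdeg (ResidueField A) (ResidueField B) := by
  subst hp
  have hker : ∀ c : C, c ∈ q → ((residue B).comp (algebraMap C B)) c = 0 := by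
    intro c hc
    rw [RingHom.comp_apply, residue_eq_zero_iff]
    exact (IsLocalization.AtPrime.to_map_mem_maximal_iff B q c).mpr hc
  let φ : C ⧸ q →+* ResidueField B := Ideal.Quotient.lift q _ hker
  letI : Algebra (C ⧸ q) (ResidueField B) := φ.toAlgebra
  letI i1 : Algebra (ResidueField A) (C ⧸ q) :=
    Ideal.Quotient.algebraOfLiesOver q (maximalIdeal A)
  haveI i2 : FaithfulSMul (ResidueField A) (C ⧸ q) :=
    inferInstanceAs (FaithfulSMul (A ⧸ maximalIdeal A) (C ⧸ q))
  show @Algebra.trdeg (ResidueField A) (C ⧸ q) _ _ i1 = _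
  haveI : IsScalarTower (ResidueField A) (C ⧸ q) (ResidueField B) := by
    refine IsScalarTower.of_algebraMap_eq fun x => ?_
    obtain ⟨a, rfl⟩ := residue_surjective x
    show _ = φ _
    have h1 : algebraMap (ResidueField A) (C ⧸ q) (residue A a) =
        Ideal.Quotient.mk q (algebraMap A C a) := rfl
    rw [h1]
    have h2 : φ (Ideal.Quotient.mk q (algebraMap A C a)) =
        residue B (algebraMap C B (algebraMap A C a)) := rfl
    rw [h2, ← IsScalarTower.algebraMap_apply]
    rfl
  haveI : FaithfulSMul (C ⧸ q) (ResidueField B) := by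
    rw [faithfulSMul_iff_algebraMap_injective]
    show Function.Injective φ
    rw [injective_iff_map_eq_zero]
    intro x hx
    obtain ⟨c, rfl⟩ := Ideal.Quotient.mk_surjective x
    have h2 : φ (Ideal.Quotient.mk q c) = residue B (algebraMap C B c) := rfl
    rw [h2, residue_eq_zero_iff, IsLocalization.AtPrime.to_map_mem_maximal_iff B q c] at hx
    exact Ideal.Quotient.eq_zero_iff_mem.mpr hx
  haveI : Algebra.IsAlgebraic (C ⧸ q) (ResidueField B) := by
    refine ⟨fun z => ?_⟩
    obtain ⟨b, rfl⟩ := residue_surjective z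
    obtain ⟨c, s, rfl⟩ := IsLocalization.exists_mk'_eq q.primeCompl b
    refine ⟨Polynomial.C (Ideal.Quotient.mk q (s : C)) * Polynomial.X -
      Polynomial.C (Ideal.Quotient.mk q c), ?_, ?_⟩
    · intro h
      have h1 := congrArg (fun f => Polynomial.coeff f 1) h
      simp only [Polynomial.coeff_sub, Polynomial.coeff_C_mul, Polynomial.coeff_X_one, mul_one,
        Polynomial.coeff_C_succ, sub_zero, Polynomial.coeff_zero] at h1
      exact s.2 (Ideal.Quotient.eq_zero_iff_mem.mp h1)
    · simp only [map_sub, map_mul, Polynomial.aeval_C, Polynomial.aeval_X]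
      show φ _ * _ - φ _ = 0
      have h2 : φ (Ideal.Quotient.mk q (s : C)) = residue B (algebraMap C B s) := rfl
      have h3 : φ (Ideal.Quotient.mk q c) = residue B (algebraMap C B c) := rfl
      rw [h2, h3, ← map_mul, ← map_sub, IsLocalization.mul_mk'_eq_mk'_of_mul,
        IsLocalization.mk'_mul_cancel_left, sub_self, map_zero]
  exact Groth.Agent.Lib.Helper55.trdeg_eq_of_isAlgebraic' (ResidueField A) (C ⧸ q)
    (ResidueField A) (ResidueField B)

/-- (L3) -/
theorem trdeg_quotient_eq_trdeg_ideal_residueField {k F : Type u} [Field k] [CommRing F]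
    [Algebra k F] (Q : Ideal F) [Q.IsPrime] :
    Algebra.trdeg k (F ⧸ Q) = Algebra.trdeg k Q.ResidueField := by
  haveI : FaithfulSMul (F ⧸ Q) Q.ResidueField := by
    rw [faithfulSMul_iff_algebraMap_injective]
    exact Ideal.injective_algebraMap_quotient_residueField Q
  haveI : Algebra.IsAlgebraic (F ⧸ Q) Q.ResidueField :=
    IsLocalization.isAlgebraic Q.ResidueField (nonZeroDivisors (F ⧸ Q))
  exact Groth.Agent.Lib.Helper55.trdeg_eq_of_isAlgebraic' k (F ⧸ Q) k Q.ResidueField

/-- (L0) -/
theorem trdeg_quotient_bot {A C : Type u} [CommRing A] [CommRing C] [IsDomain A] [IsDomain C]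
    [Algebra A C] [FaithfulSMul A C] (p₀ : Ideal A) (q₀ : Ideal C) [p₀.IsPrime] [q₀.IsPrime]
    [q₀.LiesOver p₀] (hq : q₀ = ⊥) :
    Algebra.trdeg (A ⧸ p₀) (C ⧸ q₀) = Algebra.trdeg A C := by
  have hp : p₀ = ⊥ := by
    rw [Ideal.LiesOver.over (P := q₀) (p := p₀), hq]
    exact Ideal.under_bot A C
  haveI : FaithfulSMul A (A ⧸ p₀) := by
    rw [faithfulSMul_iff_algebraMap_injective]
    show Function.Injective (Ideal.Quotient.mk p₀)
    rw [injective_iff_map_eq_zero]
    intro a ha
    rw [Ideal.Quotient.eq_zero_iff_mem, hp] at ha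
    exact ha
  haveI : FaithfulSMul C (C ⧸ q₀) := by
    rw [faithfulSMul_iff_algebraMap_injective]
    show Function.Injective (Ideal.Quotient.mk q₀)
    rw [injective_iff_map_eq_zero]
    intro a ha
    rw [Ideal.Quotient.eq_zero_iff_mem, hq] at ha
    exact ha
  haveI : Algebra.IsIntegral A (A ⧸ p₀) :=
    Algebra.isIntegral_of_surjective Ideal.Quotient.mk_surjective
  haveI : Algebra.IsAlgebraic A (A ⧸ p₀) := Algebra.IsIntegral.isAlgebraic
  haveI : Algebra.IsIntegral C (C ⧸ q₀) :=
    Algebra.isIntegral_of_surjective Ideal.Quotient.mk_surjective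
  haveI : Algebra.IsAlgebraic C (C ⧸ q₀) := Algebra.IsIntegral.isAlgebraic
  exact (Groth.Agent.Lib.Helper55.trdeg_eq_of_isAlgebraic' A C (A ⧸ p₀) (C ⧸ q₀)).symm

end Plumbing

open AlgebraicGeometry CategoryTheory

section G1
variable {A C : Type u} [CommRing A] [CommRing C] [Algebra A C]

/-- existence of a prime of the fibre over a given prime -/
theorem exists_fiber_prime (q : Ideal C) [q.IsPrime] :
    ∃ Q : PrimeSpectrum ((q.under A).Fiber C),
      Q.asIdeal.comap (Algebra.TensorProduct.includeRight.toRingHom) = q := by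
  let e := PrimeSpectrum.primesOverOrderIsoFiber A C (q.under A)
  have hq : q ∈ (q.under A).primesOver C := ⟨inferInstance, inferInstance⟩
  refine ⟨e ⟨q, hq⟩, ?_⟩
  have h1 := PrimeSpectrum.coe_primesOverOrderIsoFiber_symm_apply (R := A) (S := C) (q.under A)
    (e ⟨q, hq⟩)
  rw [OrderIso.symm_apply_apply] at h1
  exact h1.symm

variable [IsDomain A] [IsDomain C] [FaithfulSMul A C] [Algebra.FiniteType A C]

omit [IsDomain A] [IsDomain C] [FaithfulSMul A C] in
/-- fibre dimension (ring form) as a natural number -/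
theorem fibreDimAt_eq (q : Ideal C) [q.IsPrime] (Q : PrimeSpectrum ((q.under A).Fiber C))
    (hQ : Q.asIdeal.comap (Algebra.TensorProduct.includeRight.toRingHom) = q) :
    ∃ r : ℕ, Algebra.trdeg (q.under A).ResidueField ((q.under A).Fiber C ⧸ Q.asIdeal) = r ∧
      FlatMor.fibreDimAt (Spec.map (CommRingCat.ofHom (algebraMap A C))) ⟨q, inferInstance⟩ =
        ringKrullDim (Localization.AtPrime Q.asIdeal) + (r : WithBot ℕ∞) := by
  obtain ⟨r, -, hr⟩ := Groth.Agent.Lib.Helper55.exists_ringKrullDim_eq_and_trdeg_eq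
    (q.under A).ResidueField ((q.under A).Fiber C ⧸ Q.asIdeal)
  refine ⟨r, hr, ?_⟩
  rw [← Groth.Agent.Lib.Helper13.Chevalley.localDim_fiber_eq_fibreDimAt_SpecMap A C
    ⟨q, inferInstance⟩ Q hQ]
  have hr' := (trdeg_quotient_eq_trdeg_ideal_residueField (k := (q.under A).ResidueField)
    (F := (q.under A).Fiber C) Q.asIdeal).symm.trans hr
  have h := Groth.Agent.S2141.result (k := (q.under A).ResidueField)
    (S := (q.under A).Fiber C) Q.asIdeal r hr'
  exact h

omit [IsDomain A] [IsDomain C] [FaithfulSMul A C] in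
theorem exists_height_eq (q : Ideal C) [q.IsPrime] (Q : PrimeSpectrum ((q.under A).Fiber C)) :
    ∃ d : ℕ, Q.asIdeal.height = d ∧
      ringKrullDim (Localization.AtPrime Q.asIdeal) = (d : WithBot ℕ∞) := by
  haveI : IsNoetherianRing ((q.under A).Fiber C) :=
    Algebra.FiniteType.isNoetherianRing (q.under A).ResidueField _
  obtain ⟨d, hd⟩ := ENat.ne_top_iff_exists.mp (Ideal.height_ne_top_of_isPrime (I := Q.asIdeal))
  refine ⟨d, hd.symm, ?_⟩
  rw [IsLocalization.AtPrime.ringKrullDim_eq_height Q.asIdeal (Localization.AtPrime Q.asIdeal),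
    ← hd]
  rfl

/-- **(G1), Chevalley direction.** -/
theorem trdeg_le_fiber (q : Ideal C) [q.IsPrime] (Q : PrimeSpectrum ((q.under A).Fiber C))
    (hQ : Q.asIdeal.comap (Algebra.TensorProduct.includeRight.toRingHom) = q) (n d r : ℕ)
    (hn : Algebra.trdeg A C = n) (hd : Q.asIdeal.height = d)
    (hr : Algebra.trdeg (q.under A).ResidueField ((q.under A).Fiber C ⧸ Q.asIdeal) = r) :
    n ≤ d + r := by
  set f := Spec.map (CommRingCat.ofHom (algebraMap A C)) with hf
  haveI : LocallyOfFiniteType f := by
    rw [hf, HasRingHomProperty.Spec_iff (P := @LocallyOfFiniteType)]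
    exact (RingHom.finiteType_algebraMap).mpr inferInstance
  obtain ⟨r', hr', hfd⟩ := fibreDimAt_eq q Q hQ
  have hrr : r' = r := by
    have := hr'.symm.trans hr
    exact_mod_cast this
  obtain ⟨d', hd', hdim⟩ := exists_height_eq q Q
  have hdd : d' = d := by
    have := hd'.symm.trans hd
    exact_mod_cast this
  rw [hdim, hrr, hdd] at hfd
  -- the generic point
  obtain ⟨Q₀, hQ₀⟩ := exists_fiber_prime (A := A) (⊥ : Ideal C)
  obtain ⟨r₀, hr₀, hfd₀⟩ := fibreDimAt_eq (⊥ : Ideal C) Q₀ hQ₀
  have hr₀n : r₀ = n := by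
    have h1 := trdeg_quotient_eq_trdeg_fiber_quotient ((⊥ : Ideal C).under A) Q₀.asIdeal
    have h2 := trdeg_quotient_bot ((⊥ : Ideal C).under A)
      (Q₀.asIdeal.comap (Algebra.TensorProduct.includeRight : C →ₐ[A] _)) hQ₀
    have := (h2.symm.trans h1).trans hr₀
    rw [hn] at this
    exact_mod_cast this.symm
  subst hr₀n
  let xq : Spec (.of C) := ⟨q, inferInstance⟩
  let x₀ : Spec (.of C) := ⟨⊥, Ideal.isPrime_bot⟩
  have hspec : x₀ ⤳ xq :=
    (PrimeSpectrum.le_iff_specializes (R := C) ⟨⊥, Ideal.isPrime_bot⟩ ⟨q, inferInstance⟩).mp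
      (bot_le (a := q))
  have hopen := Groth.Agent.Lib.Helper13.Chevalley.isOpen_fibreDimAt_le f (d + r)
  have hxq : xq ∈ {x | FlatMor.fibreDimAt f x ≤ ((d + r : ℕ) : WithBot ℕ∞)} := by
    show FlatMor.fibreDimAt f xq ≤ _
    rw [hfd]
    push_cast
    exact le_refl _
  have hx₀ : FlatMor.fibreDimAt f x₀ ≤ ((d + r : ℕ) : WithBot ℕ∞) := hspec.mem_open hopen hxq
  rw [hfd₀] at hx₀
  have h0 : (0 : WithBot ℕ∞) ≤ ringKrullDim (Localization.AtPrime Q₀.asIdeal) :=
    ringKrullDim_nonneg_of_nontrivial
  have h3 : ((r₀ : ℕ) : WithBot ℕ∞) ≤ ((d + r : ℕ) : WithBot ℕ∞) :=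
    (le_add_of_nonneg_left h0).trans hx₀
  exact_mod_cast h3

end G1

section G2

/-- A localization at a smaller prime of a flat localization is flat. -/
theorem flat_localization_of_le {A C B : Type u} [CommRing A] [CommRing C] [CommRing B]
    [Algebra A C] [Algebra C B] [Algebra A B] [IsScalarTower A C B] [Module.Flat A B]
    (q : Ideal C) [q.IsPrime] [IsLocalization.AtPrime B q] (p' : Ideal C) [p'.IsPrime]
    (hle : p' ≤ q) : Module.Flat A (Localization.AtPrime p') := by
  set D := Localization.AtPrime p' with hD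
  have hle' : q.primeCompl ≤ p'.primeCompl := fun x hx hx' => hx (hle hx')
  have hunit : ∀ y : q.primeCompl, IsUnit (algebraMap C D y) := fun y =>
    IsLocalization.map_units D (⟨y, hle' y.2⟩ : p'.primeCompl)
  letI : Algebra B D := (IsLocalization.lift (M := q.primeCompl) (S := B) hunit).toAlgebra
  haveI : IsScalarTower C B D := IsScalarTower.of_algebraMap_eq fun x =>
    (IsLocalization.lift_eq (M := q.primeCompl) (S := B) hunit x).symm
  haveI : IsLocalization (p'.primeCompl.map (algebraMap C B)) D :=
    IsLocalization.isLocalization_of_submonoid_le B D q.primeCompl p'.primeCompl hle'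
  haveI : Module.Flat B D := IsLocalization.flat D (p'.primeCompl.map (algebraMap C B))
  haveI : IsScalarTower A B D := IsScalarTower.of_algebraMap_eq fun a => by
    rw [IsScalarTower.algebraMap_apply A C D, IsScalarTower.algebraMap_apply C B D,
      ← IsScalarTower.algebraMap_apply A C B]
  exact Module.Flat.trans A B D

set_option maxHeartbeats 1000000 in
/-- **(G2), flat direction.** -/
theorem fiber_le_trdeg {A C B : Type u} [CommRing A] [CommRing C] [CommRing B] [IsDomain A]
    [IsDomain C] [Algebra A C] [Algebra C B] [Algebra A B] [IsScalarTower A C B]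
    [FaithfulSMul A C] [Algebra.FiniteType A C] [IsLocalRing A] [Module.Flat A B]
    (q : Ideal C) [q.IsPrime] [IsLocalization.AtPrime B q] (hp : q.under A = maximalIdeal A)
    (Q : PrimeSpectrum ((q.under A).Fiber C))
    (hQ : Q.asIdeal.comap (Algebra.TensorProduct.includeRight.toRingHom) = q) (n d r : ℕ)
    (hn : Algebra.trdeg A C = n) (hd : Q.asIdeal.height = d)
    (hr : Algebra.trdeg (q.under A).ResidueField ((q.under A).Fiber C ⧸ Q.asIdeal) = r) :
    d + r ≤ n := by
  obtain ⟨P, hPmin, hPQ, hdimP⟩ :=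
    Groth.Agent.Lib.Helper55.exists_minimalPrimes_ringKrullDim_quotient_eq
      (q.under A).ResidueField ((q.under A).Fiber C) Q.asIdeal
  haveI hPp : P.IsPrime := hPmin.1.1
  obtain ⟨s, hs1, hs2⟩ := Groth.Agent.Lib.Helper55.exists_ringKrullDim_eq_and_trdeg_eq
    (q.under A).ResidueField ((q.under A).Fiber C ⧸ P)
  obtain ⟨r', hr1, hr2⟩ := Groth.Agent.Lib.Helper55.exists_ringKrullDim_eq_and_trdeg_eq
    (q.under A).ResidueField ((q.under A).Fiber C ⧸ Q.asIdeal)
  have hrr : r' = r := by
    have := hr2.symm.trans hr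
    exact_mod_cast this
  rw [hs1, hr1, hrr, hd] at hdimP
  have hsdr : s = r + d := by exact_mod_cast hdimP
  -- the prime `p'` of `C` under `P`
  set ι : C →ₐ[A] (q.under A).Fiber C := Algebra.TensorProduct.includeRight with hι
  set p' : Ideal C := P.comap ι with hp'
  have hp'q : p' ≤ q := by
    rw [← hQ]
    exact Ideal.comap_mono hPQ
  have h1 : Algebra.trdeg (A ⧸ q.under A) (C ⧸ p') = s :=
    (trdeg_quotient_eq_trdeg_fiber_quotient (q.under A) P).trans hs2
  -- the local ring `D = C_{p'}`
  haveI hflat : Module.Flat A (Localization.AtPrime p') := flat_localization_of_le (B := B) q p' hp'q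
  haveI hloc : IsLocalHom (algebraMap A (Localization.AtPrime p')) := by
    refine ((IsLocalRing.local_hom_TFAE (algebraMap A (Localization.AtPrime p'))).out 0 4).mpr ?_
    rw [IsScalarTower.algebraMap_eq A C (Localization.AtPrime p'), ← Ideal.comap_comap]
    have h5 : Ideal.comap (algebraMap C (Localization.AtPrime p'))
        (maximalIdeal (Localization.AtPrime p')) = p' :=
      IsLocalization.AtPrime.under_maximalIdeal (Localization.AtPrime p') p'
    rw [h5, ← hp]
    exact (Ideal.LiesOver.over (P := p') (p := q.under A)).symm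
  have h2 := trdeg_quotient_eq_trdeg_residueField (B := Localization.AtPrime p') p' (q.under A) hp
  have h3 := trdeg_residueField_le_of_flat (A := A) (D := Localization.AtPrime p')
  have h4 : Algebra.trdeg A (Localization.AtPrime p') = Algebra.trdeg A C := by
    haveI : Algebra.IsAlgebraic C (Localization.AtPrime p') :=
      IsLocalization.isAlgebraic (Localization.AtPrime p') p'.primeCompl
    haveI : FaithfulSMul C (Localization.AtPrime p') := by
      rw [faithfulSMul_iff_algebraMap_injective]
      exact IsLocalization.injective (Localization.AtPrime p') p'.primeCompl_le_nonZeroDivisors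
    haveI : FaithfulSMul A (Localization.AtPrime p') := by
      rw [faithfulSMul_iff_algebraMap_injective, IsScalarTower.algebraMap_eq A C]
      exact (FaithfulSMul.algebraMap_injective C (Localization.AtPrime p')).comp
        (FaithfulSMul.algebraMap_injective A C)
    haveI : Algebra.IsAlgebraic A A := Algebra.IsIntegral.isAlgebraic
    exact (Groth.Agent.Lib.Helper55.trdeg_eq_of_isAlgebraic' A C A (Localization.AtPrime p')).symm
  rw [← h2, h1, h4, hn] at h3
  have : s ≤ n := by exact_mod_cast h3
  omega

end G2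

section Main

theorem isLocalization_atPrime_congr {C B : Type*} [CommRing C] [CommRing B] [Algebra C B]
    {I J : Ideal C} [I.IsPrime] [J.IsPrime] (h : I = J) [IsLocalization.AtPrime B I] :
    IsLocalization.AtPrime B J := by
  subst h
  infer_instance

/-- (α) -/
theorem ringKrullDim_quotient_eq_fiber_localization {A C B : Type u} [CommRing A] [CommRing C]
    [CommRing B] [Algebra A C] [Algebra C B] [Algebra A B] [IsScalarTower A C B]
    (p : Ideal A) [p.IsPrime] (Q : Ideal (p.Fiber C)) [Q.IsPrime]
    [IsLocalization.AtPrime B (Q.comap (Algebra.TensorProduct.includeRight : C →ₐ[A] p.Fiber C))] :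
    ringKrullDim (B ⧸ p.map (algebraMap A B)) = ringKrullDim (Localization.AtPrime Q) := by
  set r : Ideal C := Q.comap (Algebra.TensorProduct.includeRight : C →ₐ[A] p.Fiber C) with hr
  let e1 := Ideal.Fiber.algEquivAux₂ p Q
  let e2 : Localization.AtPrime r ≃ₐ[C] B := IsLocalization.algEquiv r.primeCompl _ _
  have hIJ : p.map (algebraMap A B) =
      ((p.map (algebraMap A C)).map (algebraMap C (Localization.AtPrime r))).map
        (e2 : Localization.AtPrime r ≃+* B) := by
    have h1 : ((e2 : Localization.AtPrime r ≃+* B) : Localization.AtPrime r →+* B).comp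
        (algebraMap C (Localization.AtPrime r)) = algebraMap C B := by
      ext x
      exact e2.commutes x
    rw [Ideal.map_map, ← Ideal.map_coe (e2 : Localization.AtPrime r ≃+* B), Ideal.map_map,
      ← RingHom.comp_assoc, h1, ← IsScalarTower.algebraMap_eq]
  let e3 := Ideal.quotientEquiv _ _ (e2 : Localization.AtPrime r ≃+* B) hIJ
  exact (ringKrullDim_eq_of_ringEquiv (e1.toRingEquiv.trans e3)).symm

set_option maxHeartbeats 2000000 in
/-- **Main theorem** (S1403). -/
theorem dim_closed_fibre_add_trdeg_residue_eq_trdeg {A B : Type u} [CommRing A] [CommRing B]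
    [IsDomain A] [IsDomain B] [IsLocalRing A] [IsLocalRing B] [Algebra A B]
    [IsLocalHom (algebraMap A B)] [FaithfulSMul A B] [Algebra.EssFiniteType A B]
    [Module.Flat A B] :
    ∃ d e : ℕ, ringKrullDim (B ⧸ Ideal.map (algebraMap A B) (maximalIdeal A)) = d ∧
      Algebra.trdeg (ResidueField A) (ResidueField B) = e ∧
      Algebra.trdeg A B = (d + e : ℕ) := by
  let C : Subalgebra A B := Algebra.EssFiniteType.subalgebra A B
  set q : Ideal C := (maximalIdeal B).comap (algebraMap C B) with hq
  haveI hqp : q.IsPrime := Ideal.comap_isPrime _ _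
  have hM : Algebra.EssFiniteType.submonoid A B = q.primeCompl := by
    ext x
    show IsUnit (algebraMap C B x) ↔ x ∉ q
    rw [hq, Ideal.mem_comap, mem_maximalIdeal, mem_nonunits_iff, not_not]
  haveI hlocB : IsLocalization.AtPrime B q := by
    show IsLocalization q.primeCompl B
    rw [← hM]
    infer_instance
  haveI : FaithfulSMul A C := by
    rw [faithfulSMul_iff_algebraMap_injective]
    intro a b hab
    apply FaithfulSMul.algebraMap_injective A B
    have := congrArg (algebraMap C B) hab
    simpa [← IsScalarTower.algebraMap_apply] using this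
  have hp : q.under A = maximalIdeal A := by
    show Ideal.comap (algebraMap A C) q = _
    rw [hq, Ideal.comap_comap, ← IsScalarTower.algebraMap_eq]
    exact ((IsLocalRing.local_hom_TFAE (algebraMap A B)).out 0 4).mp
      ‹IsLocalHom (algebraMap A B)›
  obtain ⟨Q, hQ⟩ := exists_fiber_prime (A := A) q
  obtain ⟨d, hd, hdim⟩ := exists_height_eq q Q
  obtain ⟨r, -, hr⟩ := Groth.Agent.Lib.Helper55.exists_ringKrullDim_eq_and_trdeg_eq
    (q.under A).ResidueField ((q.under A).Fiber C ⧸ Q.asIdeal)
  obtain ⟨n, hn⟩ := Cardinal.lt_aleph0.mp (trdeg_lt_aleph0_of_finiteType (R := A) (S := C))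
  have h1 := trdeg_le_fiber q Q hQ n d r hn hd hr
  have h2 := fiber_le_trdeg (B := B) q hp Q hQ n d r hn hd hr
  have hQ' : Q.asIdeal.comap (Algebra.TensorProduct.includeRight : C →ₐ[A] (q.under A).Fiber C) = q :=
    hQ
  haveI hlocB' : IsLocalization.AtPrime B
      (Q.asIdeal.comap (Algebra.TensorProduct.includeRight : C →ₐ[A] (q.under A).Fiber C)) :=
    isLocalization_atPrime_congr hQ'.symm
  refine ⟨d, r, ?_, ?_, ?_⟩
  · rw [← hdim, ← hp]
    exact ringKrullDim_quotient_eq_fiber_localization (q.under A) Q.asIdeal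
  · rw [← hr, ← trdeg_quotient_eq_trdeg_fiber_quotient (q.under A) Q.asIdeal]
    exact (trdeg_quotient_eq_trdeg_residueField (B := B) _ (q.under A) hp).symm
  · have h4 : Algebra.trdeg A B = Algebra.trdeg A C := by
      haveI : Algebra.IsAlgebraic C B := IsLocalization.isAlgebraic B q.primeCompl
      haveI : FaithfulSMul C B := by
        rw [faithfulSMul_iff_algebraMap_injective]
        exact Subtype.val_injective
      haveI : Algebra.IsAlgebraic A A := Algebra.IsIntegral.isAlgebraic
      exact (Groth.Agent.Lib.Helper55.trdeg_eq_of_isAlgebraic' A C A B).symm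
    rw [h4, hn]
    have : n = d + r := le_antisymm h1 h2
    exact_mod_cast this

end Main

end Groth.Agent.Lib.Helper23.FlatDimTrdeg
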