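import Mathlib
import Groth.Agent.Lib.Helper23.FlatDimTrdeg

/-!
# Flatness and generization of fibre dimension (helper23)

For a flat finite type ring map `R → T`, a prime `𝔮` of `T` over `p` and a prime `p' ≤ p`, there is a
prime `𝔮' ≤ 𝔮` over `p'` whose fibre dimension is at least that of `𝔮`.  The proof is elementary
(equational criterion of flatness), with no Noetherian or finite presentation hypothesis.
-/

set_option autoImplicit false

universe u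

namespace Groth.Agent.Lib.Helper23.FlatGeneric

open Module TensorProduct

/-- **Lemma F0.** Linear independence detected after mapping to a module killed by a prime `p̄`
lifts to linear independence over a domain, for flat modules. -/
theorem eq_zero_of_flat_of_domain {R N L : Type*} [CommRing R] [IsDomain R] [AddCommGroup N]
    [Module R N] [Module.Flat R N] [AddCommGroup L] [Module R L] (p : Ideal R) [p.IsPrime]
    (hL : ∀ a ∈ p, ∀ l : L, a • l = 0) (ψ : N →ₗ[R] L) {ι : Type*} [DecidableEq ι] :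
    ∀ (s : Finset ι) (x : ι → N) (c : ι → R),
      (∀ c' : ι → R, ∑ i ∈ s, c' i • ψ (x i) = 0 → ∀ i ∈ s, c' i ∈ p) →
      ∑ i ∈ s, c i • x i = 0 → ∀ i ∈ s, c i = 0 := by
  intro s
  induction s using Finset.induction_on with
  | empty => intro x c _ _ i hi; exact absurd hi (Finset.notMem_empty i)
  | insert i₀ s hi₀ ih =>
    intro x c H hrel
    -- the trivial relation
    have hrel' : ∑ i : ↥(insert i₀ s), c i.1 • x i.1 = 0 := by
      rw [← hrel]
      exact Finset.sum_coe_sort (insert i₀ s) (fun i => c i • x i)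
    obtain ⟨k, a, n, hxa, hca⟩ := Module.Flat.isTrivialRelation_of_sum_smul_eq_zero hrel'
    have hi₀mem : i₀ ∈ insert i₀ s := Finset.mem_insert_self i₀ s
    -- some `a i₀ j ∉ p`
    obtain ⟨j, hj⟩ : ∃ j, a ⟨i₀, hi₀mem⟩ j ∉ p := by
      by_contra hcon
      push Not at hcon
      have h0 : ψ (x i₀) = 0 := by
        have := hxa ⟨i₀, hi₀mem⟩
        simp only at this
        rw [this, map_sum]
        refine Finset.sum_eq_zero fun j _ => ?_
        rw [map_smul]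
        exact hL _ (hcon j) _
      have h1 := H (fun i => if i = i₀ then 1 else 0) (by
        rw [Finset.sum_eq_single i₀]
        · simp [h0]
        · intro i _ hne; simp [hne]
        · intro h; exact absurd hi₀mem h) i₀ hi₀mem
      simp only [if_true] at h1
      exact (Ideal.IsPrime.ne_top ‹p.IsPrime›) ((Ideal.eq_top_iff_one p).mpr h1)
    let a' : ι → R := fun i => if h : i ∈ insert i₀ s then a ⟨i, h⟩ j else 0
    have ha'eq : ∀ i : ↥(insert i₀ s), a i j = a' i.1 := fun i => by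
      simp only [a', dif_pos i.2]
    set b : R := a' i₀ with hb
    have hbp : b ∉ p := by
      rw [hb]; simp only [a', dif_pos hi₀mem]; exact hj
    have hb0 : b ≠ 0 := fun h => hbp (h ▸ p.zero_mem)
    -- the column relation
    have hcol : ∑ i ∈ s, c i * a' i = -(c i₀ * b) := by
      have := hca j
      simp_rw [ha'eq] at this
      rw [Finset.sum_coe_sort (insert i₀ s) (fun i => c i * a' i), Finset.sum_insert hi₀] at this
      rw [eq_neg_iff_add_eq_zero, add_comm]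
      exact this
    -- the new family
    have hrel_s : ∑ i ∈ s, c i • x i = -(c i₀ • x i₀) := by
      rw [Finset.sum_insert hi₀] at hrel
      rw [eq_neg_iff_add_eq_zero, add_comm]
      exact hrel
    have hnew : ∑ i ∈ s, c i • (b • x i - a' i • x i₀) = 0 := by
      simp_rw [smul_sub, Finset.sum_sub_distrib, smul_smul, mul_comm (c _) b, ← smul_smul]
      rw [← Finset.smul_sum, hrel_s]
      simp_rw [smul_smul, ← Finset.sum_smul]
      rw [hcol]
      simp only [smul_neg, neg_smul, smul_smul, mul_comm b]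
      abel
    have Hnew : ∀ c' : ι → R, ∑ i ∈ s, c' i • ψ (b • x i - a' i • x i₀) = 0 →
        ∀ i ∈ s, c' i ∈ p := by
      intro c' hc' i hi
      have hne : i ≠ i₀ := fun h => hi₀ (h ▸ hi)
      have h2 := H (fun i => if i = i₀ then -(∑ k ∈ s, c' k * a' k) else c' i * b) (by
        rw [Finset.sum_insert hi₀]
        simp only [if_true]
        have h3 : ∑ i ∈ s, (if i = i₀ then -(∑ k ∈ s, c' k * a' k) else c' i * b) • ψ (x i) =
            ∑ i ∈ s, (c' i * b) • ψ (x i) := by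
          refine Finset.sum_congr rfl fun i hi => ?_
          have hne : i ≠ i₀ := fun h => hi₀ (h ▸ hi)
          simp [hne]
        rw [h3, ← hc']
        simp_rw [map_sub, map_smul, smul_sub, Finset.sum_sub_distrib, smul_smul, ← Finset.sum_smul]
        rw [neg_smul]
        abel) i (Finset.mem_insert_of_mem hi)
      simp only [hne, if_false] at h2
      exact (Ideal.IsPrime.mem_or_mem ‹p.IsPrime› h2).resolve_right hbp
    have hzero := ih (fun i => b • x i - a' i • x i₀) c Hnew hnew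
    intro i hi
    rcases Finset.mem_insert.mp hi with rfl | hi
    · have h4 : c i * b = 0 := by
        have := hcol
        rw [Finset.sum_eq_zero (fun k hk => by rw [hzero k hk, zero_mul])] at this
        exact neg_eq_zero.mp this.symm
      exact (mul_eq_zero.mp h4).resolve_right hb0
    · exact hzero i hi


theorem one_tmul_eq_zero_of_mem_map {R T : Type*} [CommRing R] [CommRing T] [Algebra R T]
    (p' : Ideal R) (t : T) (ht : t ∈ p'.map (algebraMap R T)) :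
    (1 : R ⧸ p') ⊗ₜ[R] t = 0 := by
  rw [Ideal.map] at ht
  refine Submodule.span_induction (p := fun t _ => (1 : R ⧸ p') ⊗ₜ[R] t = 0) ?_ ?_ ?_ ?_ ht
  · rintro _ ⟨a, ha, rfl⟩
    rw [Algebra.algebraMap_eq_smul_one, ← TensorProduct.smul_tmul, Algebra.smul_def, mul_one]
    have : algebraMap R (R ⧸ p') a = 0 := Ideal.Quotient.eq_zero_iff_mem.mpr ha
    rw [this, TensorProduct.zero_tmul]
  · exact TensorProduct.tmul_zero _ _
  · intro x y _ _ hx hy
    rw [TensorProduct.tmul_add, hx, hy, add_zero]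
  · intro c x _ hx
    have h1 : (1 : R ⧸ p') ⊗ₜ[R] (c • x) = ((1 : R ⧸ p') ⊗ₜ[R] c) * ((1 : R ⧸ p') ⊗ₜ[R] x) := by
      rw [Algebra.TensorProduct.tmul_mul_tmul, one_mul, smul_eq_mul]
    rw [h1, hx, mul_zero]


set_option maxHeartbeats 1000000 in
/-- (KC) -/
theorem coeff_mem_of_mul_aeval_mem_map {R T : Type u} [CommRing R] [CommRing T] [Algebra R T]
    [Module.Flat R T] (𝔮₁ : Ideal T) [𝔮₁.IsPrime] (p' : Ideal R) [p'.IsPrime]
    (hp' : p' ≤ 𝔮₁.under R) {ι : Type*} (y : ι → T)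
    (hy : ∀ Φ : MvPolynomial ι R, MvPolynomial.aeval y Φ ∈ 𝔮₁ → ∀ m, Φ.coeff m ∈ 𝔮₁.under R)
    (s : T) (hs : s ∉ 𝔮₁) (Φ : MvPolynomial ι R)
    (hΦ : s * MvPolynomial.aeval y Φ ∈ p'.map (algebraMap R T)) :
    ∀ m, Φ.coeff m ∈ p' := by
  classical
  -- the `R ⧸ p'`-algebra structure on `T ⧸ 𝔮₁`
  have hker : ∀ a ∈ p', algebraMap R (T ⧸ 𝔮₁) a = 0 := by
    intro a ha
    have h1 : algebraMap R T a ∈ 𝔮₁ := hp' ha
    rw [IsScalarTower.algebraMap_apply R T (T ⧸ 𝔮₁)]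
    exact Ideal.Quotient.eq_zero_iff_mem.mpr h1
  let φ₀ : R ⧸ p' →+* T ⧸ 𝔮₁ := Ideal.Quotient.lift p' (algebraMap R (T ⧸ 𝔮₁)) hker
  letI : Algebra (R ⧸ p') (T ⧸ 𝔮₁) := φ₀.toAlgebra
  haveI : IsScalarTower R (R ⧸ p') (T ⧸ 𝔮₁) := IsScalarTower.of_algebraMap_eq fun a => rfl
  let Ψ : (R ⧸ p') ⊗[R] T →ₐ[R ⧸ p'] T ⧸ 𝔮₁ :=
    Algebra.TensorProduct.lift (Algebra.ofId (R ⧸ p') (T ⧸ 𝔮₁))
      (IsScalarTower.toAlgHom R T (T ⧸ 𝔮₁)) (fun _ _ => .all _ _)
  have hΨ : ∀ t : T, Ψ (1 ⊗ₜ t) = Ideal.Quotient.mk 𝔮₁ t := fun t => by simp [Ψ]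
  set pb : Ideal (R ⧸ p') := (𝔮₁.under R).map (Ideal.Quotient.mk p') with hpb
  haveI : pb.IsPrime := Ideal.map_isPrime_of_surjective Ideal.Quotient.mk_surjective
    (by rw [Ideal.mk_ker]; exact hp')
  have hpbmem : ∀ a : R, Ideal.Quotient.mk p' a ∈ pb ↔ a ∈ 𝔮₁.under R := by
    intro a
    rw [hpb, Ideal.mem_map_iff_of_surjective _ Ideal.Quotient.mk_surjective]
    constructor
    · rintro ⟨b, hb, hab⟩
      have : b - a ∈ p' := Ideal.Quotient.eq.mp hab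
      have h2 : a = b - (b - a) := by ring
      rw [h2]
      exact Ideal.sub_mem _ hb (hp' this)
    · intro ha; exact ⟨a, ha, rfl⟩
  have hL : ∀ a ∈ pb, ∀ l : T ⧸ 𝔮₁, a • l = 0 := by
    intro a ha l
    obtain ⟨a, rfl⟩ := Ideal.Quotient.mk_surjective a
    rw [hpbmem] at ha
    rw [Algebra.smul_def]
    have : algebraMap (R ⧸ p') (T ⧸ 𝔮₁) (Ideal.Quotient.mk p' a) =
        Ideal.Quotient.mk 𝔮₁ (algebraMap R T a) := rfl
    have ha' : algebraMap R T a ∈ 𝔮₁ := ha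
    rw [this, Ideal.Quotient.eq_zero_iff_mem.mpr ha', zero_mul]
  -- the family
  let x : (ι →₀ ℕ) → (R ⧸ p') ⊗[R] T := fun m => 1 ⊗ₜ (s * m.prod fun i k => y i ^ k)
  let c : (ι →₀ ℕ) → R ⧸ p' := fun m => Ideal.Quotient.mk p' (Φ.coeff m)
  have hrel : ∑ m ∈ Φ.support, c m • x m = 0 := by
    have h1 : ∀ m, c m • x m =
        (1 : R ⧸ p') ⊗ₜ[R] (s * MvPolynomial.aeval y (MvPolynomial.monomial m (Φ.coeff m))) := by
      intro m
      simp only [c, x, MvPolynomial.aeval_monomial]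
      rw [TensorProduct.smul_tmul', ← Ideal.Quotient.algebraMap_eq, Algebra.algebraMap_eq_smul_one,
        smul_assoc, one_smul, TensorProduct.smul_tmul, Algebra.smul_def]
      congr 1
      ring
    simp_rw [h1]
    rw [← TensorProduct.tmul_sum, ← Finset.mul_sum, ← map_sum, ← MvPolynomial.as_sum]
    exact one_tmul_eq_zero_of_mem_map p' _ hΦ
  have H : ∀ c' : (ι →₀ ℕ) → R ⧸ p', ∑ m ∈ Φ.support, c' m • Ψ.toLinearMap (x m) = 0 →
      ∀ m ∈ Φ.support, c' m ∈ pb := by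
    intro c' hc' m hm
    choose γ hγ using fun m => Ideal.Quotient.mk_surjective (c' m)
    let Γ : MvPolynomial ι R := ∑ m ∈ Φ.support, MvPolynomial.monomial m (γ m)
    have h2 : Ideal.Quotient.mk 𝔮₁ (s * MvPolynomial.aeval y Γ) = 0 := by
      rw [← hc']
      simp only [Γ, map_sum, Finset.mul_sum, MvPolynomial.aeval_monomial]
      refine Finset.sum_congr rfl fun m _ => ?_
      rw [AlgHom.toLinearMap_apply, hΨ, ← hγ m, Algebra.smul_def]
      have : algebraMap (R ⧸ p') (T ⧸ 𝔮₁) (Ideal.Quotient.mk p' (γ m)) =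
        Ideal.Quotient.mk 𝔮₁ (algebraMap R T (γ m)) := rfl
      rw [this, ← map_mul]
      congr 1
      ring
    have h3 : MvPolynomial.aeval y Γ ∈ 𝔮₁ :=
      (Ideal.IsPrime.mem_or_mem ‹𝔮₁.IsPrime› (Ideal.Quotient.eq_zero_iff_mem.mp h2)).resolve_left hs
    have h4 := hy Γ h3 m
    have h5 : Γ.coeff m = γ m := by
      simp only [Γ, MvPolynomial.coeff_sum, MvPolynomial.coeff_monomial]
      rw [Finset.sum_eq_single m]
      · simp
      · intro b _ hb; simp [hb]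
      · intro h; exact absurd hm h
    rw [h5] at h4
    rw [← hγ m, hpbmem]
    exact h4
  have hzero := eq_zero_of_flat_of_domain pb hL Ψ.toLinearMap Φ.support x c H hrel
  intro m
  by_cases hm : m ∈ Φ.support
  · exact Ideal.Quotient.eq_zero_iff_mem.mp (hzero m hm)
  · rw [MvPolynomial.notMem_support_iff.mp hm]
    exact p'.zero_mem

theorem exists_coeff_notMem_iff {R : Type*} [CommRing R] (p' : Ideal R) {ι : Type*}
    (Φ : MvPolynomial ι R) :
    (∃ m, Φ.coeff m ∉ p') ↔ MvPolynomial.map (Ideal.Quotient.mk p') Φ ≠ 0 := by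
  rw [Ne, MvPolynomial.ext_iff]
  simp only [MvPolynomial.coeff_map, MvPolynomial.coeff_zero, Ideal.Quotient.eq_zero_iff_mem,
    not_forall]

/-- **Lemma F.** -/
theorem exists_prime_generization {R T : Type u} [CommRing R] [CommRing T] [Algebra R T]
    [Module.Flat R T] (𝔮₁ : Ideal T) [𝔮₁.IsPrime] (p' : Ideal R) [p'.IsPrime]
    (hp' : p' ≤ 𝔮₁.under R) {ι : Type*} (y : ι → T)
    (hy : ∀ Φ : MvPolynomial ι R, MvPolynomial.aeval y Φ ∈ 𝔮₁ → ∀ m, Φ.coeff m ∈ 𝔮₁.under R) :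
    ∃ 𝔮' : Ideal T, 𝔮'.IsPrime ∧ 𝔮' ≤ 𝔮₁ ∧ 𝔮'.under R = p' ∧
      ∀ Φ : MvPolynomial ι R, MvPolynomial.aeval y Φ ∈ 𝔮' → ∀ m, Φ.coeff m ∈ p' := by
  let M : Submonoid T :=
    { carrier := {t | ∃ s, s ∉ 𝔮₁ ∧ ∃ Φ : MvPolynomial ι R, (∃ m, Φ.coeff m ∉ p') ∧
        t = s * MvPolynomial.aeval y Φ}
      one_mem' := ⟨1, fun h => (Ideal.IsPrime.ne_top ‹𝔮₁.IsPrime›) ((Ideal.eq_top_iff_one _).mpr h),
        1, ⟨0, by
          rw [MvPolynomial.coeff_zero_one]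
          exact fun h => (Ideal.IsPrime.ne_top ‹p'.IsPrime›) ((Ideal.eq_top_iff_one _).mpr h)⟩,
        by simp⟩
      mul_mem' := by
        rintro _ _ ⟨s₁, hs₁, Φ₁, hΦ₁, rfl⟩ ⟨s₂, hs₂, Φ₂, hΦ₂, rfl⟩
        refine ⟨s₁ * s₂, fun h => (Ideal.IsPrime.mem_or_mem ‹𝔮₁.IsPrime› h).elim hs₁ hs₂,
          Φ₁ * Φ₂, ?_, by rw [map_mul]; ring⟩
        rw [exists_coeff_notMem_iff] at hΦ₁ hΦ₂ ⊢
        rw [map_mul]
        exact mul_ne_zero hΦ₁ hΦ₂ }
  have hdisj : Disjoint ((p'.map (algebraMap R T) : Ideal T) : Set T) (M : Set T) := by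
    rw [Set.disjoint_left]
    rintro _ ht ⟨s, hs, Φ, ⟨m, hm⟩, rfl⟩
    exact hm (coeff_mem_of_mul_aeval_mem_map 𝔮₁ p' hp' y hy s hs Φ ht m)
  obtain ⟨𝔮', h𝔮', hle, hdis⟩ := Ideal.exists_le_prime_disjoint _ M hdisj
  rw [Set.disjoint_left] at hdis
  have h1 : (1 : MvPolynomial ι R).coeff 0 ∉ p' := by
    rw [MvPolynomial.coeff_zero_one]
    exact fun h => (Ideal.IsPrime.ne_top ‹p'.IsPrime›) ((Ideal.eq_top_iff_one _).mpr h)
  refine ⟨𝔮', h𝔮', ?_, ?_, ?_⟩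
  · intro t ht
    by_contra htq
    exact hdis ht ⟨t, htq, 1, ⟨0, h1⟩, by simp⟩
  · apply le_antisymm
    · intro a ha
      by_contra hap
      refine hdis (show algebraMap R T a ∈ 𝔮' from ha) ⟨1, ?_, MvPolynomial.C a, ⟨0, ?_⟩, by simp⟩
      · exact fun h => (Ideal.IsPrime.ne_top ‹𝔮₁.IsPrime›) ((Ideal.eq_top_iff_one _).mpr h)
      · rw [MvPolynomial.coeff_zero_C]; exact hap
    · intro a ha
      exact hle (Ideal.mem_map_of_mem _ ha)
  · intro Φ hΦ m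
    by_contra hm
    refine hdis hΦ ⟨1, ?_, Φ, ⟨m, hm⟩, by simp⟩
    exact fun h => (Ideal.IsPrime.ne_top ‹𝔮₁.IsPrime›) ((Ideal.eq_top_iff_one _).mpr h)


open AlgebraicGeometry CategoryTheory
open Groth.Agent.Lib.Helper23.FlatDimTrdeg

section Conv
variable {R T : Type*} [CommRing R] [CommRing T] [Algebra R T]

theorem mk_aeval_eq (p : Ideal R) (𝔮 : Ideal T) [𝔮.LiesOver p] {ι : Type*} (y : ι → T)
    (Φ : MvPolynomial ι R) :
    MvPolynomial.aeval (fun i => Ideal.Quotient.mk 𝔮 (y i))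
      (MvPolynomial.map (Ideal.Quotient.mk p) Φ) = Ideal.Quotient.mk 𝔮 (MvPolynomial.aeval y Φ) := by
  have h1 : MvPolynomial.aeval (R := R ⧸ p) (fun i => Ideal.Quotient.mk 𝔮 (y i))
      (MvPolynomial.map (algebraMap R (R ⧸ p)) Φ) =
      MvPolynomial.aeval (R := R) (fun i => Ideal.Quotient.mk 𝔮 (y i)) Φ :=
    MvPolynomial.aeval_map_algebraMap _ _ _
  rw [Ideal.Quotient.algebraMap_eq] at h1
  rw [h1]
  exact (MvPolynomial.comp_aeval_apply (f := y) (Ideal.Quotient.mkₐ R 𝔮) Φ).symm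

/-- (E1) -/
theorem coeff_mem_of_algebraicIndependent (p : Ideal R) (𝔮 : Ideal T) [𝔮.LiesOver p] {ι : Type*}
    (y : ι → T) (h : AlgebraicIndependent (R ⧸ p) (fun i => Ideal.Quotient.mk 𝔮 (y i)))
    (Φ : MvPolynomial ι R) (hΦ : MvPolynomial.aeval y Φ ∈ 𝔮) (m : ι →₀ ℕ) : Φ.coeff m ∈ p := by
  have h1 := mk_aeval_eq p 𝔮 y Φ
  rw [Ideal.Quotient.eq_zero_iff_mem.mpr hΦ] at h1
  have h2 : MvPolynomial.map (Ideal.Quotient.mk p) Φ = 0 :=
    (injective_iff_map_eq_zero _).mp h _ h1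
  have h3 := congrArg (MvPolynomial.coeff m) h2
  rw [MvPolynomial.coeff_map, MvPolynomial.coeff_zero] at h3
  exact Ideal.Quotient.eq_zero_iff_mem.mp h3

/-- (E2) -/
theorem algebraicIndependent_of_coeff_mem (p : Ideal R) (𝔮 : Ideal T) [𝔮.LiesOver p] {ι : Type*}
    (y : ι → T)
    (h : ∀ Φ : MvPolynomial ι R, MvPolynomial.aeval y Φ ∈ 𝔮 → ∀ m, Φ.coeff m ∈ p) :
    AlgebraicIndependent (R ⧸ p) (fun i => Ideal.Quotient.mk 𝔮 (y i)) := by
  rw [AlgebraicIndependent, injective_iff_map_eq_zero]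
  intro Ψ hΨ
  obtain ⟨Φ, rfl⟩ := MvPolynomial.map_surjective (Ideal.Quotient.mk p)
    Ideal.Quotient.mk_surjective Ψ
  rw [mk_aeval_eq, Ideal.Quotient.eq_zero_iff_mem] at hΨ
  ext m
  rw [MvPolynomial.coeff_map, MvPolynomial.coeff_zero, Ideal.Quotient.eq_zero_iff_mem]
  exact h Φ hΨ m

theorem trdeg_quotient_congr {p₁ p₂ : Ideal R} {q₁ q₂ : Ideal T} [q₁.LiesOver p₁] [q₂.LiesOver p₂]
    (hp : p₁ = p₂) (hq : q₁ = q₂) :
    Algebra.trdeg (R ⧸ p₁) (T ⧸ q₁) = Algebra.trdeg (R ⧸ p₂) (T ⧸ q₂) := by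
  subst hp hq
  rfl

end Conv

section R4

variable {R T : Type u} [CommRing R] [CommRing T] [Algebra R T]

set_option maxHeartbeats 1000000 in
/-- **(R4')** Generization of fibre dimension for flat finite type ring maps. -/
theorem exists_prime_fibreDimAt_ge [Module.Flat R T] [Algebra.FiniteType R T]
    (𝔮 : Ideal T) [𝔮.IsPrime] (p' : Ideal R) [p'.IsPrime] (hp' : p' ≤ 𝔮.under R) :
    ∃ (𝔮' : Ideal T) (h : 𝔮'.IsPrime), 𝔮' ≤ 𝔮 ∧ 𝔮'.under R = p' ∧
      FlatMor.fibreDimAt (Spec.map (CommRingCat.ofHom (algebraMap R T))) ⟨𝔮, inferInstance⟩ ≤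
        FlatMor.fibreDimAt (Spec.map (CommRingCat.ofHom (algebraMap R T))) ⟨𝔮', h⟩ := by
  -- the fibre data at `𝔮`
  obtain ⟨Q, hQ⟩ := exists_fiber_prime (A := R) 𝔮
  obtain ⟨r, hr, hfd⟩ := fibreDimAt_eq 𝔮 Q hQ
  obtain ⟨d, hd, hdim⟩ := exists_height_eq 𝔮 Q
  obtain ⟨P, hPmin, hPQ, hdimP⟩ :=
    Groth.Agent.Lib.Helper55.exists_minimalPrimes_ringKrullDim_quotient_eq
      (𝔮.under R).ResidueField ((𝔮.under R).Fiber T) Q.asIdeal
  haveI hPp : P.IsPrime := hPmin.1.1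
  obtain ⟨s, hs1, hs2⟩ := Groth.Agent.Lib.Helper55.exists_ringKrullDim_eq_and_trdeg_eq
    (𝔮.under R).ResidueField ((𝔮.under R).Fiber T ⧸ P)
  obtain ⟨r', hr1, hr2⟩ := Groth.Agent.Lib.Helper55.exists_ringKrullDim_eq_and_trdeg_eq
    (𝔮.under R).ResidueField ((𝔮.under R).Fiber T ⧸ Q.asIdeal)
  have hrr : r' = r := by
    have := hr2.symm.trans hr
    exact_mod_cast this
  rw [hs1, hr1, hrr, hd] at hdimP
  have hsdr : s = r + d := by exact_mod_cast hdimP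
  set ι₀ : T →ₐ[R] (𝔮.under R).Fiber T := Algebra.TensorProduct.includeRight with hι₀
  set 𝔮₁ : Ideal T := P.comap ι₀ with h𝔮₁
  have h𝔮₁𝔮 : 𝔮₁ ≤ 𝔮 := by
    rw [← hQ]
    exact Ideal.comap_mono hPQ
  have h1 : Algebra.trdeg (R ⧸ 𝔮.under R) (T ⧸ 𝔮₁) = s :=
    (trdeg_quotient_eq_trdeg_fiber_quotient (𝔮.under R) P).trans hs2
  have hover : 𝔮₁.under R = 𝔮.under R := (Ideal.LiesOver.over (P := 𝔮₁) (p := 𝔮.under R)).symm
  -- a transcendence basis
  obtain ⟨σ, hσ⟩ := exists_isTranscendenceBasis (R ⧸ 𝔮.under R) (T ⧸ 𝔮₁)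
  have hcard : Cardinal.mk σ = s := hσ.cardinalMk_eq_trdeg.trans h1
  choose y hy using fun i : σ => Ideal.Quotient.mk_surjective (i : T ⧸ 𝔮₁)
  have hy' : (fun i : σ => Ideal.Quotient.mk 𝔮₁ (y i)) = Subtype.val := funext hy
  have hind : AlgebraicIndependent (R ⧸ 𝔮.under R) (fun i : σ => Ideal.Quotient.mk 𝔮₁ (y i)) :=
    hy' ▸ hσ.1
  have hel : ∀ Φ : MvPolynomial σ R, MvPolynomial.aeval y Φ ∈ 𝔮₁ →
      ∀ m, Φ.coeff m ∈ 𝔮₁.under R := by
    intro Φ hΦ m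
    rw [hover]
    exact coeff_mem_of_algebraicIndependent (𝔮.under R) 𝔮₁ y hind Φ hΦ m
  obtain ⟨𝔮', h𝔮'p, h𝔮'le, h𝔮'under, hel'⟩ :=
    exists_prime_generization 𝔮₁ p' (hover ▸ hp') y hel
  haveI := h𝔮'p
  haveI hlo : 𝔮'.LiesOver p' := ⟨h𝔮'under.symm⟩
  have hind' := algebraicIndependent_of_coeff_mem p' 𝔮' y hel'
  have hcard' : (s : Cardinal) ≤ Algebra.trdeg (R ⧸ p') (T ⧸ 𝔮') := by
    rw [← hcard]
    exact hind'.cardinalMk_le_trdeg
  -- the fibre data at `𝔮'`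
  obtain ⟨Q', hQ'⟩ := exists_fiber_prime (A := R) 𝔮'
  obtain ⟨r₂, hr₂, hfd₂⟩ := fibreDimAt_eq 𝔮' Q' hQ'
  have h2 : Algebra.trdeg (R ⧸ p') (T ⧸ 𝔮') = r₂ := by
    rw [← hr₂, ← trdeg_quotient_eq_trdeg_fiber_quotient (𝔮'.under R) Q'.asIdeal]
    exact trdeg_quotient_congr h𝔮'under.symm hQ'.symm
  have hsr₂ : s ≤ r₂ := by
    rw [h2] at hcard'
    exact_mod_cast hcard'
  refine ⟨𝔮', h𝔮'p, h𝔮'le.trans h𝔮₁𝔮, h𝔮'under, ?_⟩
  rw [hfd, hfd₂, hdim]
  have h0 : (0 : WithBot ℕ∞) ≤ ringKrullDim (Localization.AtPrime Q'.asIdeal) :=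
    ringKrullDim_nonneg_of_nontrivial
  calc ((d : ℕ) : WithBot ℕ∞) + (r : WithBot ℕ∞) = ((s : ℕ) : WithBot ℕ∞) := by
        rw [hsdr]; push_cast; exact add_comm _ _
    _ ≤ ((r₂ : ℕ) : WithBot ℕ∞) := by exact_mod_cast hsr₂
    _ ≤ ringKrullDim (Localization.AtPrime Q'.asIdeal) + (r₂ : WithBot ℕ∞) :=
        le_add_of_nonneg_left h0

end R4


end Groth.Agent.Lib.Helper23.FlatGeneric
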