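import Mathlib
import Groth.Agent.Lib.Helper23.FlatGeneric
import Groth.Agent.S7408

set_option autoImplicit false
universe u

namespace Groth.Agent.Lib.Helper23.FlatGenericScheme

open AlgebraicGeometry CategoryTheory Limits

/-- **(G)** Generization of fibre dimension for flat morphisms locally of finite type. -/
theorem exists_generization_fibreDimAt_ge {X S : Scheme.{u}} (f : X ⟶ S) [Flat f]
    [LocallyOfFiniteType f] (x : X) (s' : S) (hs : s' ⤳ f x) :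
    ∃ x' : X, f x' = s' ∧ x' ⤳ x ∧ FlatMor.fibreDimAt f x ≤ FlatMor.fibreDimAt f x' := by
  classical
  obtain ⟨V, hV, hfxV, -⟩ := exists_isAffineOpen_mem_and_subset (x := f x) (U := ⊤) trivial
  have hs'V : s' ∈ V := hs.mem_open V.2 hfxV
  obtain ⟨U, hU, hxU, hUle⟩ := exists_isAffineOpen_mem_and_subset (x := x)
    (U := f ⁻¹ᵁ V) hfxV
  have e : U ≤ f ⁻¹ᵁ V := hUle
  set φ := f.appLE V U e with hφ
  letI : Algebra Γ(S, V) Γ(X, U) := φ.hom.toAlgebra
  haveI hft : Algebra.FiniteType Γ(S, V) Γ(X, U) := f.finiteType_appLE hV hU e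
  haveI hflat : Module.Flat Γ(S, V) Γ(X, U) := f.flat_appLE hV hU e
  set x₀ : Spec Γ(X, U) := hU.primeIdealOf ⟨x, hxU⟩ with hx₀
  have hx₀x : hU.fromSpec x₀ = x := hU.fromSpec_primeIdealOf ⟨x, hxU⟩
  set z₀ : Spec Γ(S, V) := hV.primeIdealOf ⟨f x, hfxV⟩ with hz₀
  have hz₀x : hV.fromSpec z₀ = f x := hV.fromSpec_primeIdealOf ⟨f x, hfxV⟩
  set z' : Spec Γ(S, V) := hV.primeIdealOf ⟨s', hs'V⟩ with hz'
  have hz's : hV.fromSpec z' = s' := hV.fromSpec_primeIdealOf ⟨s', hs'V⟩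
  have hcomm : Spec.map φ ≫ hV.fromSpec = hU.fromSpec ≫ f :=
    IsAffineOpen.SpecMap_appLE_fromSpec f hV hU e
  have hφx₀ : Spec.map φ x₀ = z₀ := by
    apply hV.fromSpec.isOpenEmbedding.injective
    have := congr(($hcomm) x₀)
    rw [Scheme.Hom.comp_apply, Scheme.Hom.comp_apply, hx₀x] at this
    rw [this, hz₀x]
  have hz'z₀ : z' ⤳ z₀ := by
    rw [← hV.fromSpec.isOpenEmbedding.isInducing.specializes_iff, hz's, hz₀x]
    exact hs
  have hle : z'.asIdeal ≤ x₀.asIdeal.under Γ(S, V) := by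
    have h1 : z'.asIdeal ≤ z₀.asIdeal := (PrimeSpectrum.le_iff_specializes z' z₀).mpr hz'z₀
    rw [← hφx₀] at h1
    exact h1
  obtain ⟨𝔮', h𝔮', h𝔮'le, h𝔮'under, hdim⟩ :=
    Groth.Agent.Lib.Helper23.FlatGeneric.exists_prime_fibreDimAt_ge x₀.asIdeal z'.asIdeal hle
  have hofHom : CommRingCat.ofHom (algebraMap Γ(S, V) Γ(X, U)) = φ := rfl
  rw [hofHom] at hdim
  set w : Spec Γ(X, U) := ⟨𝔮', h𝔮'⟩ with hw
  have hφw : Spec.map φ w = z' := by
    apply PrimeSpectrum.ext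
    exact h𝔮'under
  refine ⟨hU.fromSpec w, ?_, ?_, ?_⟩
  · have := congr(($hcomm) w)
    rw [Scheme.Hom.comp_apply, Scheme.Hom.comp_apply] at this
    rw [← this, hφw, hz's]
  · rw [← hx₀x]
    have hwx₀ : w ⤳ x₀ := (PrimeSpectrum.le_iff_specializes w x₀).mp h𝔮'le
    exact hwx₀.map hU.fromSpec.continuous
  · rw [← hx₀x, Groth.Agent.S7408.result f (Spec.map φ) hU.fromSpec hV.fromSpec hcomm x₀,
      Groth.Agent.S7408.result f (Spec.map φ) hU.fromSpec hV.fromSpec hcomm w]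
    exact hdim

end Groth.Agent.Lib.Helper23.FlatGenericScheme
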