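import Mathlib
import Groth.Agent.Lib.Helper23.FlatGenericScheme
import Groth.Agent.Lib.Helper13.ChevalleyRetro
import Groth.Agent.Lib.Helper55.GroupLocalDim

set_option autoImplicit false
universe u

namespace Groth.Agent.Lib.Helper23.FlatFibreDim

open AlgebraicGeometry CategoryTheory Limits Topology

/-- The complement of a locally constructible set is locally constructible. -/
theorem isLocallyConstructible_compl {Y : Type*} [TopologicalSpace Y] {s : Set Y}
    (hs : IsLocallyConstructible s) : IsLocallyConstructible sᶜ := by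
  intro x
  obtain ⟨U, hxU, hU, hUs⟩ := hs x
  exact ⟨U, hxU, hU, by simpa using hUs.compl⟩

/-- A locally constructible subset of a scheme which is stable under generization is open. -/
theorem isOpen_of_isLocallyConstructible_of_stableUnderGeneralization {X : Scheme.{u}} {s : Set X}
    (hs : IsLocallyConstructible s) (hg : StableUnderGeneralization s) : IsOpen s := by
  rw [isOpen_iff_forall_mem_open]
  intro x hx
  obtain ⟨U, hU, hxU, -⟩ := exists_isAffineOpen_mem_and_subset (x := x) (U := ⊤) trivial
  have h1 : IsLocallyConstructible (hU.fromSpec ⁻¹' s) :=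
    hs.preimage_of_isOpenEmbedding hU.fromSpec.isOpenEmbedding
  have h2 : IsConstructible (hU.fromSpec ⁻¹' s) := h1.isConstructible
  have h3 : StableUnderGeneralization (hU.fromSpec ⁻¹' s) := hg.preimage hU.fromSpec.continuous
  have h4 : IsOpen (hU.fromSpec ⁻¹' s) :=
    PrimeSpectrum.isOpen_of_stableUnderGeneralization_of_isConstructible h3 h2
  refine ⟨hU.fromSpec '' (hU.fromSpec ⁻¹' s), Set.image_preimage_subset _ _,
    hU.fromSpec.isOpenEmbedding.isOpenMap _ h4, ?_⟩
  refine ⟨hU.primeIdealOf ⟨x, hxU⟩, ?_, hU.fromSpec_primeIdealOf ⟨x, hxU⟩⟩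
  change hU.fromSpec (hU.primeIdealOf ⟨x, hxU⟩) ∈ s
  rw [hU.fromSpec_primeIdealOf ⟨x, hxU⟩]
  exact hx

theorem localDim_nonneg {X : Type*} [TopologicalSpace X] (x : X) : 0 ≤ FlatMor.localDim X x := by
  unfold FlatMor.localDim
  refine le_iInf fun U => ?_
  have : Nonempty (TopologicalSpace.IrreducibleCloseds (U.1 : Set X)) :=
    ⟨⟨closure {⟨x, U.2⟩}, isIrreducible_singleton.closure, isClosed_closure⟩⟩
  unfold topologicalKrullDim
  exact Order.krullDim_nonneg

section

variable {X S : Scheme.{u}} (f : X ⟶ S)

theorem fibreDimAt_nonneg (x : X) : 0 ≤ FlatMor.fibreDimAt f x := localDim_nonneg _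

/-- The locus where the fibre dimension exceeds `c` is locally constructible. -/
theorem isLocallyConstructible_lt_fibreDimAt [LocallyOfFinitePresentation f] (c : WithBot ℕ∞) :
    IsLocallyConstructible {x : X | c < FlatMor.fibreDimAt f x} := by
  induction c using WithBot.recBotCoe with
  | bot =>
    convert IsLocallyConstructible.univ
    ext x
    simp only [Set.mem_ofPred_eq, Set.mem_univ, iff_true]
    exact lt_of_lt_of_le (WithBot.bot_lt_coe (0 : ℕ∞)) (fibreDimAt_nonneg f x)
  | coe c =>
    induction c using ENat.recTopCoe with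
    | top =>
      convert IsLocallyConstructible.empty
      ext x
      simp only [Set.mem_ofPred_eq, Set.mem_empty_iff_false, iff_false, not_lt]
      exact le_top
    | coe n =>
      have h1 : IsOpen {x : X | FlatMor.fibreDimAt f x ≤ n} :=
        Groth.Agent.Lib.Helper13.Chevalley.isOpen_fibreDimAt_le f n
      have h2 : IsRetrocompact {x : X | FlatMor.fibreDimAt f x ≤ n} :=
        Groth.Agent.Lib.Helper13.Chevalley.isRetrocompact_fibreDimAt_le f n
      have h3 := isLocallyConstructible_compl (h2.isLocallyConstructible h1)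
      convert h3 using 1
      ext x
      simp only [Set.mem_ofPred_eq, Set.mem_compl_iff, not_le]
      rfl

/-- The set of points of the base whose fibre has dimension `> c` is the image of the locus where
the local fibre dimension is `> c`. -/
theorem image_lt_fibreDimAt_eq (c : WithBot ℕ∞) :
    f '' {x : X | c < FlatMor.fibreDimAt f x} =
      {s : S | c < topologicalKrullDim (f.fiber s)} := by
  ext s
  simp only [Set.mem_image, Set.mem_ofPred_eq]
  rw [Groth.Agent.Lib.Helper55.topologicalKrullDim_eq_iSup_localDim, lt_iSup_iff]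
  constructor
  · rintro ⟨x, hx, rfl⟩
    have hxr : x ∈ Set.range (f.fiberι (f x)) := by
      rw [f.range_fiberι]
      rfl
    obtain ⟨ζ, hζ⟩ := hxr
    refine ⟨ζ, ?_⟩
    rw [Groth.Agent.Lib.Helper55.localDim_fiber_eq_fibreDimAt, hζ]
    exact hx
  · rintro ⟨ζ, hζ⟩
    rw [Groth.Agent.Lib.Helper55.localDim_fiber_eq_fibreDimAt] at hζ
    refine ⟨f.fiberι s ζ, hζ, ?_⟩
    have : f.fiberι s ζ ∈ Set.range (f.fiberι s) := ⟨ζ, rfl⟩
    rw [f.range_fiberι] at this
    exact this

theorem stableUnderGeneralization_image_lt_fibreDimAt [Flat f] [LocallyOfFiniteType f]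
    (c : WithBot ℕ∞) :
    StableUnderGeneralization (f '' {x : X | c < FlatMor.fibreDimAt f x}) := by
  rintro s s' hs ⟨x, hx, rfl⟩
  obtain ⟨x', hx's, -, hdim⟩ :=
    Groth.Agent.Lib.Helper23.FlatGenericScheme.exists_generization_fibreDimAt_ge f x s' hs
  exact ⟨x', lt_of_lt_of_le hx hdim, hx's⟩

/-- **Lower semicontinuity of the fibre dimension on the base** for flat morphisms of finite
presentation. -/
theorem isOpen_lt_fibre_dim [Flat f] [LocallyOfFinitePresentation f] [QuasiCompact f]
    (c : WithBot ℕ∞) : IsOpen {s : S | c < topologicalKrullDim (f.fiber s)} := by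
  rw [← image_lt_fibreDimAt_eq]
  exact isOpen_of_isLocallyConstructible_of_stableUnderGeneralization
    (f.isLocallyConstructible_image (isLocallyConstructible_lt_fibreDimAt f c))
    (stableUnderGeneralization_image_lt_fibreDimAt f c)

end

end Groth.Agent.Lib.Helper23.FlatFibreDim
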