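import Mathlib
import Groth.Agent.Lib.Helper23.FlatFibreDim

set_option autoImplicit false
universe u

namespace Groth.Agent.Lib.Helper23.FlatFibreDimDense

open AlgebraicGeometry CategoryTheory Limits Topology
open Groth.Agent.Lib.Helper23.FlatFibreDim

/-- A constructible subset of `Spec R` which contains all generizations of a point is a
neighbourhood of that point. -/
theorem mem_nhds_of_isConstructible_of_generizations {R : Type u} [CommRing R]
    {E : Set (PrimeSpectrum R)} (hE : IsConstructible E) (p : PrimeSpectrum R)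
    (h : ∀ q : PrimeSpectrum R, q ⤳ p → q ∈ E) : E ∈ 𝓝 p := by
  obtain ⟨R', _, φ, hφ⟩ := PrimeSpectrum.exists_range_eq_of_isConstructible hE.compl
  have hp : p ∉ closure Eᶜ := by
    rw [← hφ, PrimeSpectrum.closure_range_comap, PrimeSpectrum.mem_zeroLocus]
    intro hker
    obtain ⟨Q, -, hQ, hQle⟩ := Ideal.exists_ideal_comap_le_prime (f := φ) p.asIdeal ⊥ hker
    have h1 : PrimeSpectrum.comap φ ⟨Q, hQ⟩ ⤳ p :=
      (PrimeSpectrum.le_iff_specializes _ _).mp hQle
    have h2 : PrimeSpectrum.comap φ ⟨Q, hQ⟩ ∈ Eᶜ := by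
      rw [← hφ]
      exact ⟨_, rfl⟩
    exact h2 (h _ h1)
  have h3 : (closure Eᶜ)ᶜ ∈ 𝓝 p := isClosed_closure.isOpen_compl.mem_nhds hp
  refine Filter.mem_of_superset h3 ?_
  intro q hq
  by_contra hqE
  exact hq (subset_closure hqE)

/-- A locally constructible subset of a scheme which contains all generizations of a point is a
neighbourhood of that point. -/
theorem mem_nhds_of_isLocallyConstructible_of_generizations {S : Scheme.{u}} {E : Set S}
    (hE : IsLocallyConstructible E) (s : S) (h : ∀ s' : S, s' ⤳ s → s' ∈ E) : E ∈ 𝓝 s := by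
  obtain ⟨V, hV, hsV, -⟩ := exists_isAffineOpen_mem_and_subset (x := s) (U := ⊤) trivial
  have h1 : IsLocallyConstructible (hV.fromSpec ⁻¹' E) :=
    hE.preimage_of_isOpenEmbedding hV.fromSpec.isOpenEmbedding
  have h2 : IsConstructible (hV.fromSpec ⁻¹' E) := h1.isConstructible
  set z₀ : Spec Γ(S, V) := hV.primeIdealOf ⟨s, hsV⟩ with hz₀
  have hz₀s : hV.fromSpec z₀ = s := hV.fromSpec_primeIdealOf ⟨s, hsV⟩
  have h3 : hV.fromSpec ⁻¹' E ∈ 𝓝 z₀ := by
    refine mem_nhds_of_isConstructible_of_generizations h2 z₀ ?_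
    intro q hq
    apply h
    rw [← hz₀s]
    exact hq.map hV.fromSpec.continuous
  have h4 : hV.fromSpec '' (hV.fromSpec ⁻¹' E) ∈ 𝓝 (hV.fromSpec z₀) :=
    hV.fromSpec.isOpenEmbedding.isOpenMap.image_mem_nhds h3
  rw [hz₀s] at h4
  exact Filter.mem_of_superset h4 (Set.image_preimage_subset _ _)

/-- **EGA IV 14.2-type statement**: fibre dimension bounds propagate from a dense open for flat
morphisms. -/
theorem fibreDimAt_le_of_le_over_dense_open {X S : Scheme.{u}} (f : X ⟶ S) [Flat f]
    [LocallyOfFiniteType f]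
    (U : S.Opens) (hU : Dense (U : Set S)) (e : ℕ)
    (hle : ∀ x : X, f.base x ∈ U → FlatMor.fibreDimAt f x ≤ e)
    (h : LocallyOfFinitePresentation f ∨ IsRetrocompact (U : Set S)) (x : X) :
    FlatMor.fibreDimAt f x ≤ e := by
  by_contra hx
  rw [not_le] at hx
  -- no generization of `f x` lies in `U`
  have hgen : ∀ s' : S, s' ⤳ f x → ∀ x' : X, x' ⤳ x → f x' = s' →
      FlatMor.fibreDimAt f x ≤ FlatMor.fibreDimAt f x' → s' ∉ U := by
    intro s' _ x' _ hx's hdim hs'U
    have := hle x' (by rw [← hx's] at hs'U; exact hs'U)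
    exact absurd (lt_of_lt_of_le hx hdim) (not_lt.mpr this)
  suffices hnhds : ((U : Set S))ᶜ ∈ 𝓝 (f x) by
    obtain ⟨t, ht1, ht2⟩ := hU.inter_nhds_nonempty hnhds
    exact ht2 ht1
  rcases h with h | h
  · -- the finitely presented case
    obtain ⟨V, hV, hfxV, -⟩ := exists_isAffineOpen_mem_and_subset (x := f x) (U := ⊤) trivial
    obtain ⟨W, hW, hxW, hWle⟩ := exists_isAffineOpen_mem_and_subset (x := x)
      (U := f ⁻¹ᵁ V) hfxV
    have eWV : W ≤ f ⁻¹ᵁ V := hWle
    set g : (W : Scheme) ⟶ (V : Scheme) := f.resLE V W eWV with hg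
    have hgι : g ≫ V.ι = W.ι ≫ f := Scheme.Hom.resLE_comp_ι f eWV
    haveI : IsAffine (W : Scheme) := hW
    haveI : IsAffine (V : Scheme) := hV
    haveI : QuasiCompact g := HasAffineProperty.iff_of_isAffine.mpr
      (inferInstanceAs (CompactSpace (W : Scheme)))
    have hElc : IsLocallyConstructible (W.ι ⁻¹' {x : X | (e : WithBot ℕ∞) < FlatMor.fibreDimAt f x}) :=
      (isLocallyConstructible_lt_fibreDimAt f e).preimage_of_isOpenEmbedding
        W.ι.isOpenEmbedding
    have hTlc := g.isLocallyConstructible_image hElc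
    have hT : g '' (W.ι ⁻¹' {x : X | (e : WithBot ℕ∞) < FlatMor.fibreDimAt f x}) ∈
        𝓝 (⟨f x, hfxV⟩ : (V : Scheme)) := by
      refine mem_nhds_of_isLocallyConstructible_of_generizations hTlc _ ?_
      intro v' hv'
      have hv's : V.ι v' ⤳ f x := hv'.map V.ι.continuous
      obtain ⟨x', hx's, hx'x, hdim⟩ :=
        Groth.Agent.Lib.Helper23.FlatGenericScheme.exists_generization_fibreDimAt_ge f x _ hv's
      have hx'W : x' ∈ W := hx'x.mem_open W.2 hxW
      refine ⟨⟨x', hx'W⟩, lt_of_lt_of_le hx hdim, ?_⟩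
      apply V.ι.isOpenEmbedding.injective
      have := congr(($hgι) ⟨x', hx'W⟩)
      rw [Scheme.Hom.comp_apply, Scheme.Hom.comp_apply] at this
      rw [this]
      exact hx's
    have h5 := V.ι.isOpenEmbedding.isOpenMap.image_mem_nhds hT
    refine Filter.mem_of_superset h5 ?_
    rintro _ ⟨_, ⟨w, hw, rfl⟩, rfl⟩ hU'
    have := congr(($hgι) w)
    rw [Scheme.Hom.comp_apply, Scheme.Hom.comp_apply] at this
    rw [this] at hU'
    have h6 := hle (W.ι w) hU'
    exact absurd hw (not_lt.mpr h6)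
  · -- the retrocompact case
    have hlc : IsLocallyConstructible ((U : Set S))ᶜ :=
      isLocallyConstructible_compl (h.isLocallyConstructible U.2)
    refine mem_nhds_of_isLocallyConstructible_of_generizations hlc _ ?_
    intro s' hs'
    obtain ⟨x', hx's, hx'x, hdim⟩ :=
      Groth.Agent.Lib.Helper23.FlatGenericScheme.exists_generization_fibreDimAt_ge f x s' hs'
    exact hgen s' hs' x' hx'x hx's hdim

end Groth.Agent.Lib.Helper23.FlatFibreDimDense
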