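/-
Helper library (helper23): behaviour at the generic point and in cofiltered limits of the locus of a
(ind-)constructible property of a scheme with a module (EGA IV 9.2.3 / 9.3.3, module form).
-/
import Mathlib
import Groth.Agent.Lib.Helper23.ConsLocusMod
import Groth.Agent.Lib.Helper23.ConsLocusLim
import Groth.Agent.Lib.Helper23.FlatFibreDimDense

set_option autoImplicit false
universe u
open CategoryTheory Limits AlgebraicGeometry Topology

namespace Groth.Agent.Lib.Helper23.ConsLocusMod

open Groth.Agent.Lib.Helper23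

section Generic

variable {S : Scheme.{u}} [IrreducibleSpace S]

theorem eq_genericPoint_of_specializes {s : S} (h : s ⤳ genericPoint S) : s = genericPoint S :=
  (h.antisymm (genericPoint_specializes s)).eq

/-- A locally constructible set containing the generic point is a neighbourhood of it. -/
theorem genericPoint_mem_interior_of_isLocallyConstructible {E : Set S}
    (hE : IsLocallyConstructible E) (h : genericPoint S ∈ E) : genericPoint S ∈ interior E := by
  rw [mem_interior_iff_mem_nhds]
  refine Groth.Agent.Lib.Helper23.FlatFibreDimDense.mem_nhds_of_isLocallyConstructible_of_generizations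
    hE _ ?_
  intro s' hs'
  rw [eq_genericPoint_of_specializes hs']
  exact h

/-- An ind-constructible set containing the generic point is a neighbourhood of it. -/
theorem genericPoint_mem_interior_of_isIndConstructible {E : Set S}
    (hE : ProCons.IsIndConstructible E) (h : genericPoint S ∈ E) :
    genericPoint S ∈ interior E := by
  obtain ⟨U, hU, hηU, 𝒮, h𝒮, hE𝒮⟩ := hE (genericPoint S)
  let U' : S.Opens := ⟨U, hU⟩
  let η' : U'.toScheme := ⟨genericPoint S, hηU⟩
  have hη' : η' ∈ (Subtype.val ⁻¹' E : Set ↥U) := h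
  rw [hE𝒮] at hη'
  obtain ⟨T, hT, hηT⟩ := hη'
  have hTlc : IsLocallyConstructible (T : Set U'.toScheme) := h𝒮 T hT
  have hnhds : (T : Set U'.toScheme) ∈ 𝓝 η' := by
    refine Groth.Agent.Lib.Helper23.FlatFibreDimDense.mem_nhds_of_isLocallyConstructible_of_generizations
      hTlc η' ?_
    intro s' hs'
    have h1 : (Subtype.val (s' : ↥U) : S) ⤳ genericPoint S := by
      have := hs'.map (continuous_subtype_val (p := fun x => x ∈ U))
      exact this
    have h2 : s' = η' := Subtype.ext (eq_genericPoint_of_specializes h1)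
    rw [h2]
    exact hηT
  rw [mem_interior_iff_mem_nhds]
  have hmap : Subtype.val '' (T : Set ↥U) ∈ 𝓝 (genericPoint S) := by
    have hemb : IsOpenEmbedding (Subtype.val : ↥U → S) := hU.isOpenEmbedding_subtypeVal
    have := hemb.image_mem_nhds (s := T) (x := η') |>.mpr hnhds
    exact this
  refine Filter.mem_of_superset hmap ?_
  rintro _ ⟨t, ht, rfl⟩
  have : t ∈ (Subtype.val ⁻¹' E : Set ↥U) := by
    rw [hE𝒮]
    exact ⟨T, hT, ht⟩
  exact this

end Generic

section GenericMod

variable {P : ∀ ⦃Y T : Scheme.{u}⦄, (Y ⟶ T) → Y.Modules → Prop}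
  {X S : Scheme.{u}} [IrreducibleSpace S] (u : X ⟶ S)
  [LocallyOfFinitePresentation u] [QuasiCompact u] [QuasiSeparated u]
  (F : X.Modules) [F.IsQuasicoherent]
  (hF : SheafOfModules.IsFinitePresentation (R := X.ringCatSheaf) F)

include hF in
theorem genericPoint_mem_interior_locusMod_or_compl (hP : ConsProp.IsConsMod P) :
    genericPoint S ∈ interior (ConsProp.locusMod P u F) ∨
      genericPoint S ∈ interior (ConsProp.locusMod P u F)ᶜ := by
  have hE := isLocallyConstructible_locusMod u F hF hP
  by_cases h : genericPoint S ∈ ConsProp.locusMod P u F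
  · exact Or.inl (genericPoint_mem_interior_of_isLocallyConstructible hE h)
  · exact Or.inr (genericPoint_mem_interior_of_isLocallyConstructible
      (Groth.Agent.Lib.Helper23.FlatFibreDim.isLocallyConstructible_compl hE) h)

include hF in
theorem genericPoint_mem_interior_locusMod_of_mem (hP : ConsProp.IsIndConsMod P)
    (hη : genericPoint S ∈ ConsProp.locusMod P u F) :
    genericPoint S ∈ interior (ConsProp.locusMod P u F) :=
  genericPoint_mem_interior_of_isIndConstructible (isIndConstructible_locusMod u F hF hP) hη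

end GenericMod

section Lim

variable {P : ∀ ⦃Y T : Scheme.{u}⦄, (Y ⟶ T) → Y.Modules → Prop}
  {I : Type u} [SmallCategory I] [IsCofiltered I]
  (D : I ⥤ Scheme.{u}) (c : Cone D) (hc : IsLimit c)
  [∀ {i j : I} (a : i ⟶ j), IsAffineHom (D.map a)] (i₀ : I) [CompactSpace ↥(D.obj i₀)]

include hc in
theorem forall_locusMod_iff_eventually (hP : ConsProp.IsIndConsMod P)
    {X₀ : Scheme.{u}} (u₀ : X₀ ⟶ D.obj i₀)
    [LocallyOfFinitePresentation u₀] [QuasiCompact u₀] [QuasiSeparated u₀]
    (F₀ : X₀.Modules) [F₀.IsQuasicoherent]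
    (hF₀ : SheafOfModules.IsFinitePresentation (R := X₀.ringCatSheaf) F₀)
    {X : Scheme.{u}} (u : X ⟶ c.pt) (q : X ⟶ X₀) (hX : IsPullback q u u₀ (c.π.app i₀)) :
    (∀ s : ↥c.pt, s ∈ ConsProp.locusMod P u ((Scheme.Modules.pullback q).obj F₀)) ↔
      ∃ (j : I) (φ : j ⟶ i₀) (Xj : Scheme.{u}) (uj : Xj ⟶ D.obj j) (p : Xj ⟶ X₀),
        IsPullback p uj u₀ (D.map φ) ∧
          ∀ t : ↥(D.obj j), t ∈ ConsProp.locusMod P uj ((Scheme.Modules.pullback p).obj F₀) := by
  constructor
  · intro hall
    have e1 : ConsProp.locusMod P u ((Scheme.Modules.pullback q).obj F₀) =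
        (c.π.app i₀) ⁻¹' ConsProp.locusMod P u₀ F₀ :=
      locusMod_baseChange hP.1 u₀ F₀ hF₀ (c.π.app i₀) hX _ (Iso.refl _)
    have hE₀ : ProCons.IsIndConstructible (ConsProp.locusMod P u₀ F₀) :=
      isIndConstructible_locusMod u₀ F₀ hF₀ hP
    obtain ⟨j, φ, hφ⟩ := exists_stage_preimage_eq_univ D c hc i₀ hE₀ (fun s => by
      have := hall s
      rw [e1] at this
      exact this)
    refine ⟨j, φ, pullback u₀ (D.map φ), pullback.snd _ _, pullback.fst _ _,
      IsPullback.of_hasPullback _ _, ?_⟩
    intro t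
    have e2 := locusMod_baseChange hP.1 u₀ F₀ hF₀ (D.map φ) (IsPullback.of_hasPullback u₀ _)
      ((Scheme.Modules.pullback (pullback.fst u₀ (D.map φ))).obj F₀) (Iso.refl _)
    rw [e2]
    exact hφ t
  · rintro ⟨j, φ, Xj, uj, p, hXj, hall⟩ s
    have hw : c.π.app j ≫ D.map φ = c.π.app i₀ := c.w φ
    obtain ⟨rX, hrX1, hrX⟩ := exists_isPullback_of_fac hXj hX (c.π.app j) hw
    have k1 : LocallyOfFinitePresentation uj :=
      MorphismProperty.of_isPullback hXj ‹LocallyOfFinitePresentation u₀›
    have k2 : QuasiCompact uj := MorphismProperty.of_isPullback hXj ‹QuasiCompact u₀›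
    haveI : ((Scheme.Modules.pullback p).obj F₀).IsQuasicoherent := isQCoh_pullback p F₀
    have hFj : SheafOfModules.IsFinitePresentation (R := Xj.ringCatSheaf)
        ((Scheme.Modules.pullback p).obj F₀) := isFP_pullback p F₀ hF₀
    have eF : (Scheme.Modules.pullback q).obj F₀ ≅
        (Scheme.Modules.pullback rX).obj ((Scheme.Modules.pullback p).obj F₀) :=
      pbCongr hrX1.symm F₀ ≪≫ (pbComp rX p F₀).symm
    have e := locusMod_baseChange hP.1 uj _ hFj (c.π.app j) hrX _ eF
    rw [e]
    exact hall _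

end Lim

end Groth.Agent.Lib.Helper23.ConsLocusMod
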