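/-
Helper library (helper23): a finitely presented module over a local ring `B`, flat over a base ring
`A`, whose reduction modulo `I B` (for an ideal `I` of `A`) is free, is free.
-/
import Mathlib

set_option autoImplicit false

namespace Groth.Agent.Lib.Helper23.FibreFreeAlg

open TensorProduct

section BaseChangeSurj

variable {B B' M M' : Type*} [CommRing B] [CommRing B'] [Algebra B B'] [AddCommGroup M]
  [Module B M] [AddCommGroup M'] [Module B M'] [Module B' M'] [IsScalarTower B B' M']

/-- A base change along a surjective ring map is surjective. -/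
theorem surjective_of_isBaseChange (hsurj : Function.Surjective (algebraMap B B'))
    {ψ : M →ₗ[B] M'} (h : IsBaseChange B' ψ) : Function.Surjective ψ := by
  intro y
  obtain ⟨t, rfl⟩ := h.equiv.surjective y
  obtain ⟨m, rfl⟩ := TensorProduct.mk_surjective B M B' hsurj t
  exact ⟨m, by simp [IsBaseChange.equiv_tmul]⟩

/-- The kernel of a base change along a surjective ring map with kernel `J` is `J M`. -/
theorem ker_eq_smul_top_of_isBaseChange (hsurj : Function.Surjective (algebraMap B B'))
    {ψ : M →ₗ[B] M'} (h : IsBaseChange B' ψ) :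
    LinearMap.ker ψ = RingHom.ker (algebraMap B B') • (⊤ : Submodule B M) := by
  set J := RingHom.ker (algebraMap B B') with hJ
  apply le_antisymm
  · intro m hm
    let e : (B ⧸ J) ≃+* B' := RingHom.quotientKerEquivOfSurjective hsurj
    letI : Module B' (M ⧸ J • (⊤ : Submodule B M)) :=
      Module.compHom _ (e.symm : B' →+* B ⧸ J)
    haveI : IsScalarTower B B' (M ⧸ J • (⊤ : Submodule B M)) := by
      refine IsScalarTower.of_algebraMap_smul fun b x => ?_
      show e.symm (algebraMap B B' b) • x = b • x
      have : e.symm (algebraMap B B' b) = Ideal.Quotient.mk J b := by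
        rw [RingEquiv.symm_apply_eq]; rfl
      rw [this]; rfl
    have key := h.lift_eq ((J • (⊤ : Submodule B M)).mkQ) m
    rw [LinearMap.mem_ker.mp hm, map_zero] at key
    exact (Submodule.Quotient.mk_eq_zero _).mp key.symm
  · rw [Submodule.smul_le]
    intro j hj m _
    rw [LinearMap.mem_ker, map_smul, ← algebraMap_smul B' j (ψ m), (RingHom.mem_ker).mp hj,
      zero_smul]

/-- Ranks of free modules are preserved by base change. -/
theorem finrank_eq_of_isBaseChange [Nontrivial B'] [Module.Free B M] [Module.Finite B M]
    {ψ : M →ₗ[B] M'} (h : IsBaseChange B' ψ) :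
    Module.finrank B' M' = Module.finrank B M := by
  haveI : Nontrivial B := (algebraMap B B').domain_nontrivial
  rw [← LinearEquiv.finrank_eq h.equiv, Module.finrank_baseChange]

/-- Freeness is preserved by base change. -/
theorem free_of_isBaseChange [Module.Free B M]
    {ψ : M →ₗ[B] M'} (h : IsBaseChange B' ψ) : Module.Free B' M' :=
  Module.Free.of_equiv h.equiv

end BaseChangeSurj

section Main

variable {A B B' M M' : Type*} [CommRing A] [CommRing B] [CommRing B'] [Algebra A B]
  [Algebra B B'] [IsLocalRing B] [Nontrivial B']
  [AddCommGroup M] [Module A M] [Module B M] [IsScalarTower A B M]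
  [AddCommGroup M'] [Module B M'] [Module B' M'] [IsScalarTower B B' M']

/-- Let `A → B` be a ring map with `B` local, `I` an ideal of `A`, `B' = B / I B`, `M` a finitely
presented `B`-module flat over `A`. If `M / I M` is free over `B'` then `M` is free over `B`. -/
theorem free_of_flat_of_free_baseChange (I : Ideal A)
    (hsurj : Function.Surjective (algebraMap B B'))
    (hker : RingHom.ker (algebraMap B B') = I.map (algebraMap A B))
    [Module.FinitePresentation B M] [Module.Flat A M]
    {ψ : M →ₗ[B] M'} (h : IsBaseChange B' ψ) [Module.Free B' M'] : Module.Free B M := by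
  classical
  set J := RingHom.ker (algebraMap B B') with hJ
  have hJmax : J ≤ IsLocalRing.maximalIdeal B :=
    IsLocalRing.le_maximalIdeal (RingHom.ker_ne_top _)
  have hJjac : J ≤ Ideal.jacobson ⊥ := by
    rw [IsLocalRing.jacobson_eq_maximalIdeal ⊥ bot_ne_top]; exact hJmax
  have hψ := surjective_of_isBaseChange hsurj h
  have hkerψ := ker_eq_smul_top_of_isBaseChange hsurj h
  haveI : Module.Finite B' M' := Module.Finite.equiv h.equiv
  let ι := Module.Free.ChooseBasisIndex B' M'
  let b : Module.Basis ι B' M' := Module.Free.chooseBasis B' M'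
  choose m hm using fun i => hψ (b i)
  let φ : (ι → B) →ₗ[B] M := Fintype.linearCombination B m
  have hψφ : ∀ c : ι → B, ψ (φ c) = ∑ i, algebraMap B B' (c i) • b i := by
    intro c
    simp only [φ, Fintype.linearCombination_apply, map_sum, map_smul, hm, algebraMap_smul]
  -- surjectivity
  have hφsurj : Function.Surjective φ := by
    rw [← LinearMap.range_eq_top, eq_top_iff]
    refine Submodule.le_of_le_smul_of_le_jacobson_bot (Module.Finite.fg_top) hJjac ?_
    intro x _
    choose c hc using fun i => hsurj (b.repr (ψ x) i)
    have hx : x - φ c ∈ LinearMap.ker ψ := by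
      rw [LinearMap.mem_ker, map_sub, hψφ, sub_eq_zero]
      conv_lhs => rw [← b.sum_repr (ψ x)]
      exact Finset.sum_congr rfl fun i _ => by rw [hc]
    rw [hkerψ] at hx
    have : x = φ c + (x - φ c) := by abel
    rw [this]
    exact Submodule.add_mem_sup (LinearMap.mem_range_self _ _) hx
  -- injectivity
  have hKfg : (LinearMap.ker φ).FG := Module.FinitePresentation.fg_ker φ hφsurj
  have hKle : LinearMap.ker φ ≤ J • LinearMap.ker φ := by
    intro x hx
    have hxJ : ∀ i, x i ∈ J := by
      intro i
      have h0 : ∑ i, algebraMap B B' (x i) • b i = 0 := by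
        rw [← hψφ, LinearMap.mem_ker.mp hx, map_zero]
      exact (RingHom.mem_ker).mpr (Fintype.linearIndependent_iff.mp b.linearIndependent _ h0 i)
    have hxJtop : x ∈ J • (⊤ : Submodule B (ι → B)) := by
      have : x = ∑ i, x i • (Pi.single i (1 : B) : ι → B) := by
        ext j
        simp [Finset.sum_apply, Pi.single_apply]
      rw [this]
      exact Submodule.sum_mem _ fun i _ => Submodule.smul_mem_smul (hxJ i) Submodule.mem_top
    have hxItop : x ∈ I • (⊤ : Submodule A (ι → B)) := by
      have := Ideal.smul_restrictScalars I (⊤ : Submodule B (ι → B))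
      rw [Submodule.restrictScalars_top] at this
      rw [← this, Submodule.restrictScalars_mem, ← hker]
      exact hxJtop
    let K := LinearMap.ker φ
    let g : K →ₗ[A] (ι → B) := K.subtype.restrictScalars A
    let f : (ι → B) →ₗ[A] M := φ.restrictScalars A
    have hinj : Function.Injective (g.lTensor (A ⧸ I)) :=
      LinearMap.lTensor_injective_of_exact_of_flat f hφsurj g K.subtype_injective
        (LinearMap.exact_subtype_ker_map φ) (A ⧸ I)
    have hy : (1 : A ⧸ I) ⊗ₜ[A] (⟨x, hx⟩ : K) = 0 := by
      apply hinj
      rw [map_zero, LinearMap.lTensor_tmul]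
      apply (quotTensorEquivQuotSMul (ι → B) I).injective
      rw [map_zero, quotTensorEquivQuotSMul_mk_one_tmul]
      exact (Submodule.Quotient.mk_eq_zero _).mpr hxItop
    have hxK : (⟨x, hx⟩ : K) ∈ I • (⊤ : Submodule A K) := by
      have := congrArg (quotTensorEquivQuotSMul K I) hy
      rw [map_zero, quotTensorEquivQuotSMul_mk_one_tmul] at this
      exact (Submodule.Quotient.mk_eq_zero _).mp this
    have hmap : (I • (⊤ : Submodule A K)).map g = (J • K).restrictScalars A := by
      rw [Submodule.map_smul'', Submodule.map_top, hker, Ideal.smul_restrictScalars]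
      congr 1
      ext z
      simp [g]
    have : g ⟨x, hx⟩ ∈ (I • (⊤ : Submodule A K)).map g := Submodule.mem_map_of_mem hxK
    rw [hmap] at this
    exact this
  have hK : LinearMap.ker φ = ⊥ :=
    Submodule.eq_bot_of_le_smul_of_le_jacobson_bot J _ hKfg hKle hJjac
  exact Module.Free.of_equiv
    (LinearEquiv.ofBijective φ ⟨LinearMap.ker_eq_bot.mp hK, hφsurj⟩)

end Main

end Groth.Agent.Lib.Helper23.FibreFreeAlg
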