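/-
Helper library (helper23): the locus of points of the base over which the fibre module is finite
locally free (of given rank) is locally constructible (EGA IV 9.4.7-9.4.8 type statements).
-/
import Mathlib
import Groth.Prelude.Def_EGA4Misc
import Groth.Agent.Lib.Helper23.FibreFreeAlg
import Groth.Agent.Lib.Helper23.ConsLocusMod
import Groth.Agent.Lib.Helper23.ConsLocusModGeneric
import Groth.Agent.Lib.Helper23.ConsDescends
import Groth.Agent.Lib.Helper49.PullbackSections
import Groth.Agent.Lib.Helper49.FiberStalk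
import Groth.Agent.Lib.Helper49.FibreRank
import Groth.Agent.Lib.Helper80.FreeLocus
import Groth.Agent.Lib.Helper16.FlatPull.Stalk
import Groth.Agent.S4799

set_option autoImplicit false
set_option linter.style.haveILetI false
universe u
open CategoryTheory Limits AlgebraicGeometry Topology

namespace Groth.Agent.Lib.Helper23.FibreFree

open Groth.Agent.Lib

section Stalkwise

variable {X : Scheme.{u}}

/-- All stalks are free, of ranks satisfying `R`. -/
def IsFLFR (R : ℕ → Prop) (G : X.Modules) : Prop :=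
  ∀ z : X, Module.Free (X.presheaf.stalk z) ↑(G.presheaf.stalk z) ∧
    R (Module.finrank (X.presheaf.stalk z) ↑(G.presheaf.stalk z))

theorem free_and_finrank_stalk_of_iso_restrict_freeMod (F : X.Modules) [F.IsQuasicoherent]
    (W : X.Opens) (n : ℕ) (e : F.restrict W.ι ≅ FlatMod.freeMod (↑W) n) (x : X) (hx : x ∈ W) :
    Module.Free (X.presheaf.stalk x) ↑(F.presheaf.stalk x) ∧
      Module.finrank (X.presheaf.stalk x) ↑(F.presheaf.stalk x) = n := by
  obtain ⟨_, ⟨V, hV : IsAffineOpen V, rfl⟩, hxV, hVW⟩ :=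
    X.isBasis_affineOpens.exists_subset_of_mem_open hx W.2
  let e' := Helper49.sectionsEquivOfIsoFree F n (Helper49.isoFreeOfLE hVW F n e)
  have hfree := Helper80.FreeLocus.free_stalk_of_iso_restrict_freeMod F W n e x hx
  refine ⟨hfree, ?_⟩
  haveI := hfree
  rw [← Helper49.fibreRank_eq_finrank_of_free F x]
  exact Helper49.fibreRank_eq_of_linearEquiv hV F n e' ⟨x, hxV⟩

theorem isFinLocFree_iff_isFLFR (G : X.Modules)
    (hG : SheafOfModules.IsFinitePresentation (R := X.ringCatSheaf) G) :
    FlatMod.IsFinLocFree G ↔ IsFLFR (fun _ => True) G := by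
  rw [Helper49.isFinLocFree_iff_isFinitePresentation_and_free_stalk]
  exact ⟨fun h z => ⟨h.2 z, trivial⟩, fun h => ⟨hG, fun z => (h z).1⟩⟩

theorem isFinLocFreeOfRank_iff_isFLFR (G : X.Modules)
    (hG : SheafOfModules.IsFinitePresentation (R := X.ringCatSheaf) G) (n : ℕ) :
    FlatMod.IsFinLocFreeOfRank n G ↔ IsFLFR (fun m => m = n) G := by
  have := Helper49.isQuasicoherent_of_isFinitePresentation G hG
  constructor
  · intro h z
    obtain ⟨U, hzU, ⟨e⟩⟩ := h z
    exact free_and_finrank_stalk_of_iso_restrict_freeMod G U n e z hzU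
  · intro h z
    obtain ⟨W, m, hzW, ⟨e⟩⟩ := Helper49.exists_iso_restrict_freeMod_of_stalk_free G hG z (h z).1
    have h1 := (free_and_finrank_stalk_of_iso_restrict_freeMod G W m e z hzW).2
    have h2 : m = n := h1.symm.trans (h z).2
    subst h2
    exact ⟨W, hzW, ⟨e⟩⟩

theorem isOpen_setOf_free_and_finrank (F : X.Modules)
    (hF : SheafOfModules.IsFinitePresentation (R := X.ringCatSheaf) F) (R : ℕ → Prop) :
    IsOpen {x : X | Module.Free (X.presheaf.stalk x) ↑(F.presheaf.stalk x) ∧
      R (Module.finrank (X.presheaf.stalk x) ↑(F.presheaf.stalk x))} := by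
  have := Helper49.isQuasicoherent_of_isFinitePresentation F hF
  rw [isOpen_iff_forall_mem_open]
  intro x hx
  obtain ⟨W, n, hxW, ⟨e⟩⟩ := Helper49.exists_iso_restrict_freeMod_of_stalk_free F hF x hx.1
  have hn := (free_and_finrank_stalk_of_iso_restrict_freeMod F W n e x hxW).2
  refine ⟨W, fun y hy => ?_, W.2, hxW⟩
  have hy' := free_and_finrank_stalk_of_iso_restrict_freeMod F W n e y hy
  refine ⟨hy'.1, ?_⟩
  rw [hy'.2, ← hn]
  exact hx.2

end Stalkwise

section Pullback

variable {X Y : Scheme.{u}} (h : X ⟶ Y) (G : Y.Modules) [G.IsQuasicoherent]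

theorem free_stalk_pullback (x : X)
    (hfree : Module.Free (Y.presheaf.stalk (h x)) ↑(G.presheaf.stalk (h x))) :
    Module.Free (X.presheaf.stalk x)
      ↑(((Scheme.Modules.pullback h).obj G).presheaf.stalk x) := by
  letI := (h.stalkMap x).hom.toAlgebra
  letI : Module (Y.presheaf.stalk (h.base x))
      (((Scheme.Modules.pullback h).obj G).presheaf.stalk x) :=
    FlatMod.moduleStalkOver h ((Scheme.Modules.pullback h).obj G) x
  haveI : IsScalarTower (Y.presheaf.stalk (h.base x)) (X.presheaf.stalk x)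
      (((Scheme.Modules.pullback h).obj G).presheaf.stalk x) := IsScalarTower.of_compHom _ _ _
  obtain ⟨ψ, hψ⟩ := Helper16.FlatPull.exists_isBaseChange_stalk h G x
  haveI := hfree
  exact FibreFreeAlg.free_of_isBaseChange hψ

theorem finrank_stalk_pullback (x : X)
    (hfree : Module.Free (Y.presheaf.stalk (h x)) ↑(G.presheaf.stalk (h x)))
    (hfin : Module.Finite (Y.presheaf.stalk (h x)) ↑(G.presheaf.stalk (h x))) :
    Module.finrank (X.presheaf.stalk x)
        ↑(((Scheme.Modules.pullback h).obj G).presheaf.stalk x) =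
      Module.finrank (Y.presheaf.stalk (h x)) ↑(G.presheaf.stalk (h x)) := by
  letI := (h.stalkMap x).hom.toAlgebra
  letI : Module (Y.presheaf.stalk (h.base x))
      (((Scheme.Modules.pullback h).obj G).presheaf.stalk x) :=
    FlatMod.moduleStalkOver h ((Scheme.Modules.pullback h).obj G) x
  haveI : IsScalarTower (Y.presheaf.stalk (h.base x)) (X.presheaf.stalk x)
      (((Scheme.Modules.pullback h).obj G).presheaf.stalk x) := IsScalarTower.of_compHom _ _ _
  obtain ⟨ψ, hψ⟩ := Helper16.FlatPull.exists_isBaseChange_stalk h G x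
  haveI := hfree
  haveI := hfin
  exact FibreFreeAlg.finrank_eq_of_isBaseChange hψ

omit [G.IsQuasicoherent] in
theorem finite_stalk (hG : SheafOfModules.IsFinitePresentation (R := Y.ringCatSheaf) G) (y : Y) :
    Module.Finite (Y.presheaf.stalk y) ↑(G.presheaf.stalk y) := by
  have := Helper49.finitePresentation_stalk_of_isFinitePresentation G hG y
  infer_instance

theorem isFLFR_pullback (hG : SheafOfModules.IsFinitePresentation (R := Y.ringCatSheaf) G)
    (R : ℕ → Prop) (hR : IsFLFR R G) : IsFLFR R ((Scheme.Modules.pullback h).obj G) := by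
  intro x
  refine ⟨free_stalk_pullback h G x (hR (h x)).1, ?_⟩
  rw [finrank_stalk_pullback h G x (hR (h x)).1 (finite_stalk G hG _)]
  exact (hR (h x)).2

theorem isFLFR_of_pullback_of_surjective [Surjective h]
    (hG : SheafOfModules.IsFinitePresentation (R := Y.ringCatSheaf) G) (R : ℕ → Prop)
    (hfree : ∀ y : Y, Module.Free (Y.presheaf.stalk y) ↑(G.presheaf.stalk y))
    (hR : IsFLFR R ((Scheme.Modules.pullback h).obj G)) : IsFLFR R G := by
  intro y
  obtain ⟨x, rfl⟩ := h.surjective y
  refine ⟨hfree _, ?_⟩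
  rw [← finrank_stalk_pullback h G x (hfree _) (finite_stalk G hG _)]
  exact (hR x).2

end Pullback

section Fibre

variable {X S : Scheme.{u}} (u : X ⟶ S) (F : X.Modules) [F.IsQuasicoherent]
  (hF : SheafOfModules.IsFinitePresentation (R := X.ringCatSheaf) F)

include hF in
/-- If `F` is flat over `S` at a point `x` of the fibre `X_s` and the stalk of `F_s` at `x` is free,
then the stalk of `F` at `x` is free. -/
theorem free_stalk_of_free_fibre_stalk (s : S) (z : ↥(u.fiber s))
    (hflat : FlatMod.IsFlatOverAt u F ((u.fiberι s) z))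
    (hfree : Module.Free ((u.fiber s).presheaf.stalk z)
      ↑(((Scheme.Modules.pullback (u.fiberι s)).obj F).presheaf.stalk z)) :
    Module.Free (X.presheaf.stalk ((u.fiberι s) z)) ↑(F.presheaf.stalk ((u.fiberι s) z)) := by
  letI algAB : Algebra (S.presheaf.stalk (u.base ((u.fiberι s).base z)))
      (X.presheaf.stalk ((u.fiberι s).base z)) := (u.stalkMap ((u.fiberι s).base z)).hom.toAlgebra
  letI algBB' : Algebra (X.presheaf.stalk ((u.fiberι s).base z))
      ((u.fiber s).presheaf.stalk z) := ((u.fiberι s).stalkMap z).hom.toAlgebra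
  letI modAM : Module (S.presheaf.stalk (u.base ((u.fiberι s).base z)))
      (F.presheaf.stalk ((u.fiberι s).base z)) := FlatMod.moduleStalkOver u F _
  haveI : IsScalarTower (S.presheaf.stalk (u.base ((u.fiberι s).base z)))
      (X.presheaf.stalk ((u.fiberι s).base z)) (F.presheaf.stalk ((u.fiberι s).base z)) :=
    IsScalarTower.of_compHom _ _ _
  letI modBM' : Module (X.presheaf.stalk ((u.fiberι s).base z))
      (((Scheme.Modules.pullback (u.fiberι s)).obj F).presheaf.stalk z) :=
    FlatMod.moduleStalkOver (u.fiberι s) _ z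
  haveI : IsScalarTower (X.presheaf.stalk ((u.fiberι s).base z)) ((u.fiber s).presheaf.stalk z)
      (((Scheme.Modules.pullback (u.fiberι s)).obj F).presheaf.stalk z) :=
    IsScalarTower.of_compHom _ _ _
  obtain ⟨ψ, hψ⟩ := Helper16.FlatPull.exists_isBaseChange_stalk (u.fiberι s) F z
  haveI := Helper49.finitePresentation_stalk_of_isFinitePresentation F hF ((u.fiberι s).base z)
  haveI : Module.Flat (S.presheaf.stalk (u.base ((u.fiberι s).base z)))
      (F.presheaf.stalk ((u.fiberι s).base z)) := hflat
  haveI := hfree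
  exact FibreFreeAlg.free_of_flat_of_free_baseChange
    (IsLocalRing.maximalIdeal (S.presheaf.stalk (u.base ((u.fiberι s).base z))))
    ((u.fiberι s).stalkMap_surjective z)
    (le_antisymm (Helper49.ker_le_map u s z) (Helper49.map_le_ker u s z)) hψ

theorem fiberι_mem (s : S) (z : ↥(u.fiber s)) : u ((u.fiberι s) z) = s := by
  have : (u.fiberι s) z ∈ Set.range (u.fiberι s) := ⟨z, rfl⟩
  rw [u.range_fiberι s] at this
  exact this

theorem exists_fiberι_eq {s : S} {x : X} (hx : u x = s) : ∃ z : ↥(u.fiber s), (u.fiberι s) z = x := by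
  have : x ∈ Set.range (u.fiberι s) := by
    rw [u.range_fiberι s]; exact hx
  exact this

include hF in
theorem locus_inter_eq (R : ℕ → Prop) (V : S.Opens)
    (hV : ∀ x : X, u x ∈ V → FlatMod.IsFlatOverAt u F x) :
    {s : S | IsFLFR R ((Scheme.Modules.pullback (u.fiberι s)).obj F)} ∩ (V : Set S) =
      (V : Set S) \ u '' {x : X | ¬ (Module.Free (X.presheaf.stalk x) ↑(F.presheaf.stalk x) ∧
        R (Module.finrank (X.presheaf.stalk x) ↑(F.presheaf.stalk x)))} := by
  ext s
  constructor
  · rintro ⟨hs, hsV⟩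
    refine ⟨hsV, ?_⟩
    rintro ⟨x, hx, hxs⟩
    apply hx
    obtain ⟨z, rfl⟩ := exists_fiberι_eq u hxs
    have hfree := free_stalk_of_free_fibre_stalk u F hF s z (hV _ (by rw [hxs]; exact hsV))
      (hs z).1
    refine ⟨hfree, ?_⟩
    rw [← finrank_stalk_pullback (u.fiberι s) F z hfree (finite_stalk F hF _)]
    exact (hs z).2
  · rintro ⟨hsV, hs⟩
    refine ⟨fun z => ?_, hsV⟩
    have hx : Module.Free (X.presheaf.stalk ((u.fiberι s) z))
        ↑(F.presheaf.stalk ((u.fiberι s) z)) ∧
        R (Module.finrank (X.presheaf.stalk ((u.fiberι s) z))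
          ↑(F.presheaf.stalk ((u.fiberι s) z))) := by
      by_contra hcon
      exact hs ⟨(u.fiberι s) z, hcon, fiberι_mem u s z⟩
    refine ⟨free_stalk_pullback (u.fiberι s) F z hx.1, ?_⟩
    rw [finrank_stalk_pullback (u.fiberι s) F z hx.1 (finite_stalk F hF _)]
    exact hx.2

end Fibre

section Cons

/-- A property of modules which, for finitely presented modules, means: all stalks free with ranks
satisfying `R`. -/
structure FLFRLike (R : ℕ → Prop) (P : ∀ ⦃Y : Scheme.{u}⦄, Y.Modules → Prop) : Prop where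
  isFinLocFree : ∀ ⦃Y : Scheme.{u}⦄ (G : Y.Modules), P G → FlatMod.IsFinLocFree G
  iff : ∀ ⦃Y : Scheme.{u}⦄ (G : Y.Modules),
    SheafOfModules.IsFinitePresentation (R := Y.ringCatSheaf) G → (P G ↔ IsFLFR R G)
  of_iso : ∀ ⦃Y : Scheme.{u}⦄ {G G' : Y.Modules}, (G ≅ G') → P G → P G'

theorem flfrLike_isFinLocFree :
    FLFRLike (fun _ => True) (fun Y (G : Y.Modules) => FlatMod.IsFinLocFree G) where
  isFinLocFree _ _ h := h
  iff _ G hG := isFinLocFree_iff_isFLFR G hG
  of_iso := by
    intro Y G G' e h x
    obtain ⟨U, n, hxU, ⟨φ⟩⟩ := h x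
    exact ⟨U, n, hxU, ⟨(Scheme.Modules.restrictFunctor U.ι).mapIso e.symm ≪≫ φ⟩⟩

theorem flfrLike_isFinLocFreeOfRank (n : ℕ) :
    FLFRLike (fun m => m = n) (fun Y (G : Y.Modules) => FlatMod.IsFinLocFreeOfRank n G) where
  isFinLocFree _ _ h := fun x => by
    obtain ⟨U, hxU, e⟩ := h x
    exact ⟨U, n, hxU, e⟩
  iff _ G hG := isFinLocFreeOfRank_iff_isFLFR G hG n
  of_iso := by
    intro Y G G' e h x
    obtain ⟨U, hxU, ⟨φ⟩⟩ := h x
    exact ⟨U, hxU, ⟨(Scheme.Modules.restrictFunctor U.ι).mapIso e.symm ≪≫ φ⟩⟩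

variable {R : ℕ → Prop} {P : ∀ ⦃Y : Scheme.{u}⦄, Y.Modules → Prop}

theorem isFieldStableMod (hP : FLFRLike R P) :
    ConsProp.IsFieldStableMod (fun _ _ _ G => P G) := by
  intro Y Y' T T' g g' e h _ _ _ _ _ _ hsq F F' hF eF
  haveI : F.IsQuasicoherent := hF.1
  have hh := Groth.Agent.Lib.Helper23.fpqc_of_onePoint h
  have he : (@Surjective ⊓ @Flat ⊓ @QuasiCompact : MorphismProperty Scheme.{u}) e :=
    MorphismProperty.of_isPullback hsq.flip hh
  haveI : Surjective e := he.1.1
  haveI : Flat e := he.1.2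
  haveI : QuasiCompact e := he.2
  constructor
  · intro hPF
    have hFP := Helper49.isFinitePresentation_of_isFinLocFree F (hP.isFinLocFree F hPF)
    have hFP' := ConsLocusMod.isFP_pullback e F hFP
    exact hP.of_iso eF.symm
      ((hP.iff _ hFP').mpr (isFLFR_pullback e F hFP R ((hP.iff F hFP).mp hPF)))
  · intro hPF'
    have h1 : P ((Scheme.Modules.pullback e).obj F) := hP.of_iso eF hPF'
    have h2 : FlatMod.IsFinLocFree F :=
      Helper49.isFinLocFree_of_pullback e F (hP.isFinLocFree _ h1)
    have hFP := Helper49.isFinitePresentation_of_isFinLocFree F h2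
    have hFP' := ConsLocusMod.isFP_pullback e F hFP
    exact (hP.iff F hFP).mpr (isFLFR_of_pullback_of_surjective e F hFP R
      (Helper49.free_stalk_of_isFinLocFree F h2) ((hP.iff _ hFP').mp h1))

theorem isLocallyConstructible_compl {T : Type*} [TopologicalSpace T] {E : Set T}
    (hE : IsLocallyConstructible E) : IsLocallyConstructible Eᶜ := by
  intro x
  obtain ⟨U, hU, hUo, hc⟩ := hE x
  exact ⟨U, hU, hUo, by simpa using hc.compl⟩

theorem isLocallyConstructible_of_isOpen {T : Type*} [TopologicalSpace T]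
    [TopologicalSpace.NoetherianSpace T] {U : Set T} (hU : IsOpen U) :
    IsLocallyConstructible U :=
  IsRetrocompact.isLocallyConstructible hU
    (fun _ _ _ => TopologicalSpace.NoetherianSpace.isCompact _)

theorem generic (hP : FLFRLike R P) {X S : Scheme.{u}} (u : X ⟶ S) [IsIntegral S]
    [IsNoetherian S] [LocallyOfFiniteType u] [QuasiCompact u] (F : X.Modules)
    (hF : Coh.IsCoh F) :
    (interior (ConsProp.locusMod (fun _ _ _ G => P G) u F)).Nonempty ∨
      (interior (ConsProp.locusMod (fun _ _ _ G => P G) u F)ᶜ).Nonempty := by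
  haveI : F.IsQuasicoherent := hF.1
  haveI : IsLocallyNoetherian X := LocallyOfFiniteType.isLocallyNoetherian u
  haveI : CompactSpace X := QuasiCompact.compactSpace_of_compactSpace u
  haveI : IsNoetherian X := {}
  have hFP : SheafOfModules.IsFinitePresentation (R := X.ringCatSheaf) F :=
    Helper49.isFinitePresentation_of_isFiniteType_of_noetherian F hF.2
  haveI : LocallyOfFinitePresentation u :=
    LocallyOfFinitePresentation.iff_locallyOfFiniteType.mpr inferInstance
  obtain ⟨V, hVne, hV⟩ := Groth.Agent.S4799.result u F hFP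
  have hηV : genericPoint S ∈ V := by
    have := (genericPoint_spec S).mem_open_set_iff V.2
    refine this.mpr ?_
    simpa using hVne
  set E := ConsProp.locusMod (fun _ _ _ G => P G) u F with hE
  set Z : Set X := {x : X | ¬ (Module.Free (X.presheaf.stalk x) ↑(F.presheaf.stalk x) ∧
        R (Module.finrank (X.presheaf.stalk x) ↑(F.presheaf.stalk x)))} with hZ
  have hEeq : E = {s : S | IsFLFR R ((Scheme.Modules.pullback (u.fiberι s)).obj F)} := by
    ext s
    exact hP.iff _ (ConsLocusMod.isFP_pullback (u.fiberι s) F hFP)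
  have key : E ∩ (V : Set S) = (V : Set S) \ u '' Z := by
    rw [hEeq]
    exact locus_inter_eq u F hFP R V hV
  have hZc : IsLocallyConstructible Z := by
    have : IsOpen Zᶜ := by
      have := isOpen_setOf_free_and_finrank F hFP R
      convert this using 1
      ext x
      simp [hZ]
    have h2 := isLocallyConstructible_compl (isLocallyConstructible_of_isOpen this)
    rwa [compl_compl] at h2
  have hIm : IsLocallyConstructible (u '' Z) := u.isLocallyConstructible_image hZc
  have hVc : IsLocallyConstructible (V : Set S) := isLocallyConstructible_of_isOpen V.2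
  by_cases hη : genericPoint S ∈ E
  · left
    have h1 : IsLocallyConstructible (E ∩ (V : Set S)) := by
      rw [key, Set.sdiff_eq]
      exact hVc.inter (isLocallyConstructible_compl hIm)
    have h2 := ConsLocusMod.genericPoint_mem_interior_of_isLocallyConstructible h1 ⟨hη, hηV⟩
    exact ⟨genericPoint S, interior_mono Set.inter_subset_left h2⟩
  · right
    have h1 : IsLocallyConstructible (Eᶜ ∩ (V : Set S)) := by
      have : Eᶜ ∩ (V : Set S) = (V : Set S) ∩ u '' Z := by
        ext s
        constructor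
        · rintro ⟨hsE, hsV⟩
          refine ⟨hsV, ?_⟩
          by_contra hcon
          have h3 : s ∈ E ∩ (V : Set S) := by
            rw [key]; exact ⟨hsV, hcon⟩
          exact hsE h3.1
        · rintro ⟨hsV, hsZ⟩
          refine ⟨fun hsE => ?_, hsV⟩
          have h3 : s ∈ (V : Set S) \ u '' Z := by
            rw [← key]; exact ⟨hsE, hsV⟩
          exact h3.2 hsZ
      rw [this]
      exact hVc.inter hIm
    have h2 := ConsLocusMod.genericPoint_mem_interior_of_isLocallyConstructible h1 ⟨hη, hηV⟩
    exact ⟨genericPoint S, interior_mono Set.inter_subset_left h2⟩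

theorem isConsMod (hP : FLFRLike R P) : ConsProp.IsConsMod (fun _ _ _ G => P G) :=
  ⟨isFieldStableMod hP, fun _ _ u _ _ _ _ F hF => generic hP u F hF⟩

end Cons

end Groth.Agent.Lib.Helper23.FibreFree
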