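import Mathlib
import Groth.Prelude.Def_MoreMor
import Groth.Agent.Lib.Helper49.FiberStalk

/-!
# The stalk map of the induced morphism of fibres

For `f : X ⟶ Y`, `g : Y ⟶ S`, `s : S` and a point `z` of the fibre `X_s`, the stalk map of
`MoreMor.fiberMap f g s : X_s ⟶ Y_s` at `z` is identified with
`O_{Y,y} / m_s O_{Y,y} ⟶ O_{X,x} / m_s O_{X,x}`.
-/

set_option autoImplicit false
universe u

namespace Groth.Agent.Lib.Helper23.FibreStalkMap

open AlgebraicGeometry CategoryTheory Limits

section Abstract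

/-- Model independence of "the induced map on quotients is flat". -/
theorem flat_iff_of_surjective {B₀ B' C₀ C' : Type u} [CommRing B₀] [CommRing B'] [CommRing C₀]
    [CommRing C'] (ρY : B₀ →+* B') (hY : Function.Surjective ρY) (ρX : C₀ →+* C')
    (hX : Function.Surjective ρX) (β₀ : B₀ →+* C₀) (φ' : B' →+* C')
    (hcomm : φ'.comp ρY = ρX.comp β₀) (I : Ideal B₀) (hkY : RingHom.ker ρY = I)
    (hkX : RingHom.ker ρX = I.map β₀) :
    φ'.Flat ↔ (Ideal.quotientMap (I.map β₀) β₀ Ideal.le_comap_map).Flat := by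
  subst hkY
  let eY : B₀ ⧸ RingHom.ker ρY ≃+* B' := RingHom.quotientKerEquivOfSurjective hY
  let eX : C₀ ⧸ (RingHom.ker ρY).map β₀ ≃+* C' :=
    (Ideal.quotEquivOfEq hkX.symm).trans (RingHom.quotientKerEquivOfSurjective hX)
  set q := Ideal.quotientMap ((RingHom.ker ρY).map β₀) β₀ Ideal.le_comap_map with hq
  have hsq : φ'.comp eY.toRingHom = eX.toRingHom.comp q := by
    ext b
    have h1 := congrArg (fun h => h b) hcomm
    simp only [RingHom.comp_apply] at h1
    simp only [RingHom.comp_apply, hq, Ideal.quotientMap_mk]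
    exact h1
  constructor
  · intro h
    have h2 : q = eX.symm.toRingHom.comp ((φ'.comp eY.toRingHom)) := by
      rw [hsq]
      ext x
      simp
    rw [h2]
    exact (RingHom.Flat.comp (RingHom.Flat.of_bijective eY.bijective) h).comp
      (RingHom.Flat.of_bijective eX.symm.bijective)
  · intro h
    have h2 : φ' = (eX.toRingHom.comp q).comp eY.symm.toRingHom := by
      rw [← hsq]
      ext x
      simp
    rw [h2]
    exact (RingHom.Flat.of_bijective eY.symm.bijective).comp
      (h.comp (RingHom.Flat.of_bijective eX.bijective))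

end Abstract

section Scheme

variable {X Y S : Scheme.{u}} (f : X ⟶ Y) (g : Y ⟶ S)

/-- The square relating the induced morphism of fibres to `f`. -/
theorem fiberMap_fiberι (s : S) :
    MoreMor.fiberMap f g s ≫ g.fiberι s = (f ≫ g).fiberι s ≫ f := by
  unfold MoreMor.fiberMap Scheme.Hom.fiberι
  exact pullback.lift_fst _ _ _

/-- Kernel of the stalk map of the inclusion of a fibre, at a free point. -/
theorem ker_fiberι_stalkMap (s : S) (w : g.fiber s) (y : Y) (hy : y = g.fiberι s w) :
    RingHom.ker ((Y.presheaf.stalkCongr (.of_eq hy)).hom ≫ (g.fiberι s).stalkMap w).hom =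
      Ideal.map (g.stalkMap y).hom (IsLocalRing.maximalIdeal (S.presheaf.stalk (g y))) := by
  subst hy
  have h1 : (Y.presheaf.stalkCongr (Inseparable.of_eq (rfl : g.fiberι s w = g.fiberι s w))).hom =
      𝟙 _ := by
    simp
  rw [h1, Category.id_comp]
  exact le_antisymm (Groth.Agent.Lib.Helper49.ker_le_map g s w)
    (Groth.Agent.Lib.Helper49.map_le_ker g s w)

theorem fiberMap_stalkMap_flat_iff (s : S) (z : (f ≫ g).fiber s) :
    ((MoreMor.fiberMap f g s).stalkMap z).hom.Flat ↔
      (Ideal.quotientMap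
        ((Ideal.map (g.stalkMap (f ((f ≫ g).fiberι s z))).hom
          (IsLocalRing.maximalIdeal (S.presheaf.stalk (g (f ((f ≫ g).fiberι s z)))))).map
            (f.stalkMap ((f ≫ g).fiberι s z)).hom)
        (f.stalkMap ((f ≫ g).fiberι s z)).hom Ideal.le_comap_map).Flat := by
  set φ := MoreMor.fiberMap f g s with hφ
  set x := (f ≫ g).fiberι s z with hx
  have hsq : φ ≫ g.fiberι s = (f ≫ g).fiberι s ≫ f := fiberMap_fiberι f g s
  have hpt : f x = g.fiberι s (φ z) := by
    have := congrArg (fun h : (f ≫ g).fiber s ⟶ Y => h z) hsq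
    simp only [Scheme.Hom.comp_apply] at this
    exact this.symm
  refine flat_iff_of_surjective
    ((Y.presheaf.stalkCongr (.of_eq hpt)).hom ≫ (g.fiberι s).stalkMap (φ z)).hom ?_
    (((f ≫ g).fiberι s).stalkMap z).hom (((f ≫ g).fiberι s).stalkMap_surjective z)
    (f.stalkMap x).hom (φ.stalkMap z).hom ?_ _ (ker_fiberι_stalkMap g s (φ z) (f x) hpt) ?_
  · rw [CommRingCat.hom_comp]
    exact ((g.fiberι s).stalkMap_surjective (φ z)).comp
      (ConcreteCategory.bijective_of_isIso (Y.presheaf.stalkCongr (.of_eq hpt)).hom).2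
  · have h1 := Scheme.Hom.stalkMap_congr_hom ((f ≫ g).fiberι s ≫ f) (φ ≫ g.fiberι s) hsq.symm z
    rw [Scheme.Hom.stalkMap_comp, Scheme.Hom.stalkMap_comp] at h1
    exact (congrArg CommRingCat.Hom.hom h1).symm
  · have h1 : RingHom.ker (((f ≫ g).fiberι s).stalkMap z).hom =
        Ideal.map ((f ≫ g).stalkMap x).hom
          (IsLocalRing.maximalIdeal (S.presheaf.stalk ((f ≫ g) x))) :=
      le_antisymm (Groth.Agent.Lib.Helper49.ker_le_map (f ≫ g) s z)
        (Groth.Agent.Lib.Helper49.map_le_ker (f ≫ g) s z)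
    rw [h1, Ideal.map_map]
    have h2 : ((f ≫ g).stalkMap x).hom = (f.stalkMap x).hom.comp (g.stalkMap (f x)).hom := by
      rw [Scheme.Hom.stalkMap_comp]
      rfl
    rw [h2]
    rfl

theorem fiberMap_stalkMap_flat_iff_of_eq (s : S) (z : (f ≫ g).fiber s) (x : X)
    (hx : (f ≫ g).fiberι s z = x) :
    ((MoreMor.fiberMap f g s).stalkMap z).hom.Flat ↔
      (Ideal.quotientMap
        ((Ideal.map (g.stalkMap (f x)).hom
          (IsLocalRing.maximalIdeal (S.presheaf.stalk (g (f x))))).map (f.stalkMap x).hom)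
        (f.stalkMap x).hom Ideal.le_comap_map).Flat := by
  subst hx
  exact fiberMap_stalkMap_flat_iff f g s z

/-- The form used in the fibrewise flatness criterion. -/
theorem fiberMap_stalkMap_asFiber_flat_iff (x : X) :
    ((MoreMor.fiberMap f g (g (f x))).stalkMap ((f ≫ g).asFiber x)).hom.Flat ↔
      (Ideal.quotientMap
        ((Ideal.map (g.stalkMap (f x)).hom
          (IsLocalRing.maximalIdeal (S.presheaf.stalk (g (f x))))).map (f.stalkMap x).hom)
        (f.stalkMap x).hom Ideal.le_comap_map).Flat :=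
  fiberMap_stalkMap_flat_iff_of_eq f g (g (f x)) ((f ≫ g).asFiber x) x
    ((f ≫ g).fiberι_asFiber x)

end Scheme

end Groth.Agent.Lib.Helper23.FibreStalkMap
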