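/-
Helper library (helper23): the free locus of an `S`-flat finitely presented module commutes with
base change.
-/
import Mathlib
import Groth.Agent.Lib.Helper23.FibreFree
import Groth.Agent.Lib.Helper49.StalkNbhd

set_option autoImplicit false
set_option linter.style.haveILetI false
universe u
open CategoryTheory Limits AlgebraicGeometry Topology

namespace Groth.Agent.Lib.Helper23.FreeLocusBC

open Groth.Agent.Lib Groth.Agent.Lib.Helper23.FibreFree

section Iso

variable {X : Scheme.{u}}

theorem stalkMap_comp {M N P : X.Modules} (φ : M ⟶ N) (ψ : N ⟶ P) (x : X) :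
    Helper49.stalkMap (φ ≫ ψ) x = Helper49.stalkMap φ x ≫ Helper49.stalkMap ψ x := by
  unfold Helper49.stalkMap
  exact (TopCat.Presheaf.stalkFunctor Ab x).map_comp φ.mapPresheaf ψ.mapPresheaf

theorem stalkMap_id (M : X.Modules) (x : X) :
    Helper49.stalkMap (𝟙 M) x = 𝟙 _ := by
  unfold Helper49.stalkMap
  exact (TopCat.Presheaf.stalkFunctor _ x).map_id _

/-- Freeness of stalks transfers along isomorphisms of modules. -/
theorem free_stalk_of_iso {G G' : X.Modules} (e : G ≅ G') (x : X)
    (h : Module.Free (X.presheaf.stalk x) ↑(G.presheaf.stalk x)) :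
    Module.Free (X.presheaf.stalk x) ↑(G'.presheaf.stalk x) := by
  have h1 : ∀ a, (Helper49.stalkMap e.inv x).hom ((Helper49.stalkMap e.hom x).hom a) = a := by
    intro a
    have := stalkMap_comp e.hom e.inv x
    rw [e.hom_inv_id, stalkMap_id] at this
    have h' := congrArg (fun f => f.hom a) this
    simpa using h'.symm
  have h2 : ∀ a, (Helper49.stalkMap e.hom x).hom ((Helper49.stalkMap e.inv x).hom a) = a := by
    intro a
    have := stalkMap_comp e.inv e.hom x
    rw [e.inv_hom_id, stalkMap_id] at this
    have h' := congrArg (fun f => f.hom a) this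
    simpa using h'.symm
  let E : ↑(G.presheaf.stalk x) ≃ₗ[X.presheaf.stalk x] ↑(G'.presheaf.stalk x) :=
    LinearEquiv.ofBijective (Helper49.stalkMapLinear e.hom x)
      ⟨fun a b hab => by
        have := congrArg (Helper49.stalkMap e.inv x).hom hab
        simpa [Helper49.stalkMapLinear, h1] using this,
       fun b => ⟨(Helper49.stalkMap e.inv x).hom b, h2 b⟩⟩
  exact Module.Free.of_equiv E

end Iso

section FlatDescent

variable {X Y : Scheme.{u}} (p : X ⟶ Y) [Flat p] (G : Y.Modules) [G.IsQuasicoherent]
  (hG : SheafOfModules.IsFinitePresentation (R := Y.ringCatSheaf) G)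

include hG in
/-- Freeness of a stalk descends along flat morphisms. -/
theorem free_stalk_of_free_stalk_pullback_of_flat (x : X)
    (h : Module.Free (X.presheaf.stalk x)
      ↑(((Scheme.Modules.pullback p).obj G).presheaf.stalk x)) :
    Module.Free (Y.presheaf.stalk (p x)) ↑(G.presheaf.stalk (p x)) := by
  letI := (p.stalkMap x).hom.toAlgebra
  letI : Module (Y.presheaf.stalk (p.base x))
      (((Scheme.Modules.pullback p).obj G).presheaf.stalk x) :=
    FlatMod.moduleStalkOver p ((Scheme.Modules.pullback p).obj G) x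
  haveI : IsScalarTower (Y.presheaf.stalk (p.base x)) (X.presheaf.stalk x)
      (((Scheme.Modules.pullback p).obj G).presheaf.stalk x) := IsScalarTower.of_compHom _ _ _
  obtain ⟨ψ, hψ⟩ := Helper16.FlatPull.exists_isBaseChange_stalk p G x
  haveI : Module.Flat (Y.presheaf.stalk (p.base x)) (X.presheaf.stalk x) := Flat.stalkMap p x
  haveI : IsLocalHom (algebraMap (Y.presheaf.stalk (p.base x)) (X.presheaf.stalk x)) :=
    p.toLRSHom.prop x
  haveI : Module.FaithfullyFlat (Y.presheaf.stalk (p.base x)) (X.presheaf.stalk x) :=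
    Module.FaithfullyFlat.of_flat_of_isLocalHom
  haveI := h
  haveI : Module.Flat (X.presheaf.stalk x)
      (TensorProduct (Y.presheaf.stalk (p.base x)) (X.presheaf.stalk x)
        (G.presheaf.stalk (p.base x))) :=
    Module.Flat.of_linearEquiv hψ.equiv
  haveI : Module.Flat (Y.presheaf.stalk (p.base x)) (G.presheaf.stalk (p.base x)) :=
    Module.Flat.of_flat_tensorProduct _ _ (X.presheaf.stalk x)
  haveI := Helper49.finitePresentation_stalk_of_isFinitePresentation G hG (p.base x)
  exact Module.free_of_flat_of_isLocalRing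

end FlatDescent

section Main

variable {X S X' S' : Scheme.{u}} (f : X ⟶ S) (F : X.Modules)
  (hF : SheafOfModules.IsFinitePresentation (R := X.ringCatSheaf) F)
  (hfl : FlatMod.IsFlatOver f F) (g : S' ⟶ S) (f' : X' ⟶ S') (g' : X' ⟶ X)
  (hc : IsPullback g' f' f g)

include hF hfl hc in
theorem free_stalk_of_free_stalk_pullback_aux (s' : S') (z' : ↥(f'.fiber s'))
    (hfree : Module.Free (X'.presheaf.stalk ((f'.fiberι s') z'))
      ↑(((Scheme.Modules.pullback g').obj F).presheaf.stalk ((f'.fiberι s') z'))) :
    Module.Free (X.presheaf.stalk (g' ((f'.fiberι s') z')))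
      ↑(F.presheaf.stalk (g' ((f'.fiberι s') z'))) := by
  haveI := Helper49.isQuasicoherent_of_isFinitePresentation F hF
  obtain ⟨pX, hpX1, hpX⟩ := ConsLocusMod.exists_isPullback_fiber' f g hc s'
  haveI : Flat (Spec.map (g.residueFieldMap s')) := by
    rw [HasRingHomProperty.Spec_iff (P := @Flat)]
    algebraize [(g.residueFieldMap s').hom]
    exact (inferInstance : Module.Flat (S.residueField (g s')) (S'.residueField s'))
  haveI : Flat pX := MorphismProperty.of_isPullback (P := @Flat) hpX.flip inferInstance
  haveI : ((Scheme.Modules.pullback g').obj F).IsQuasicoherent :=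
    ConsLocusMod.isQCoh_pullback g' F
  haveI : ((Scheme.Modules.pullback (f.fiberι (g s'))).obj F).IsQuasicoherent :=
    ConsLocusMod.isQCoh_pullback _ F
  have h1 := free_stalk_pullback (f'.fiberι s') ((Scheme.Modules.pullback g').obj F) z' hfree
  have h2 := free_stalk_of_iso (ConsLocusMod.pbSquare hpX1.symm F) z' h1
  have h3 := free_stalk_of_free_stalk_pullback_of_flat pX
    ((Scheme.Modules.pullback (f.fiberι (g s'))).obj F)
    (ConsLocusMod.isFP_pullback _ F hF) z' h2
  have h4 := free_stalk_of_free_fibre_stalk f F hF (g s') (pX z') (hfl _) h3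
  have h5 : (f.fiberι (g s')) (pX z') = g' ((f'.fiberι s') z') := by
    have := congrArg (fun φ : f'.fiber s' ⟶ X => φ z') hpX1
    simpa using this
  rwa [h5] at h4

include hF hfl hc in
/-- The free locus of an `S`-flat finitely presented module commutes with base change. -/
theorem setOf_free_stalk_pullback_eq :
    {x' : ↑X' | Module.Free ↑(X'.presheaf.stalk x')
        ↑(((Scheme.Modules.pullback g').obj F).presheaf.stalk x')} =
      g' ⁻¹' {x : ↑X | Module.Free ↑(X.presheaf.stalk x) ↑(F.presheaf.stalk x)} := by
  haveI := Helper49.isQuasicoherent_of_isFinitePresentation F hF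
  ext x'
  constructor
  · intro hx'
    obtain ⟨s', hs'⟩ : ∃ s', f' x' = s' := ⟨_, rfl⟩
    obtain ⟨z', rfl⟩ := exists_fiberι_eq f' hs'
    exact free_stalk_of_free_stalk_pullback_aux f F hF hfl g f' g' hc _ z' hx'
  · intro hx'
    exact free_stalk_pullback g' F x' hx'

end Main

end Groth.Agent.Lib.Helper23.FreeLocusBC
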