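/-
Helper library (helper23): the locus of points of the base over which the fibre module is flat
over the fibre of an intermediate scheme is locally constructible (EGA IV 11.2.8 / 9.4.x type
statements), and the generic non-flatness statement.
-/
import Mathlib
import Groth.Agent.Lib.Helper23.ConsLocusModMor
import Groth.Agent.Lib.Helper23.FibreFlatAlg
import Groth.Agent.Lib.Helper23.FibreFree
import Groth.Agent.Lib.Helper23.FreeLocusBC
import Groth.Agent.Lib.Helper23.FibreStalkMap
import Groth.Agent.Lib.Helper23.FibreCritScheme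
import Groth.Agent.Lib.Helper16.FlatPull.Main
import Groth.Agent.Lib.Helper16.FlatPull.BaseChange
import Groth.Agent.S1483
import Groth.Agent.S4863
import Groth.Agent.S0414

set_option autoImplicit false
set_option linter.style.haveILetI false
universe u
open CategoryTheory Limits AlgebraicGeometry Topology

namespace Groth.Agent.Lib.Helper23.FibreFlatCons

open Groth.Agent.Lib Groth.Agent.Lib.Helper23 Groth.Agent.Lib.Helper23.ConsLocusModMor

section Iso

variable {X Y : Scheme.{u}}

/-- The stalk of an isomorphism of modules, as a linear equivalence. -/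
noncomputable def stalkLinearEquivOfIso {G G' : X.Modules} (e : G ≅ G') (x : X) :
    ↑(G.presheaf.stalk x) ≃ₗ[X.presheaf.stalk x] ↑(G'.presheaf.stalk x) :=
  LinearEquiv.ofBijective (Helper49.stalkMapLinear e.hom x) (by
    have h1 : ∀ a, (Helper49.stalkMap e.inv x).hom ((Helper49.stalkMap e.hom x).hom a) = a := by
      intro a
      have := FreeLocusBC.stalkMap_comp e.hom e.inv x
      rw [e.hom_inv_id, FreeLocusBC.stalkMap_id] at this
      have h' := congrArg (fun f => f.hom a) this
      simpa using h'.symm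
    have h2 : ∀ a, (Helper49.stalkMap e.hom x).hom ((Helper49.stalkMap e.inv x).hom a) = a := by
      intro a
      have := FreeLocusBC.stalkMap_comp e.inv e.hom x
      rw [e.inv_hom_id, FreeLocusBC.stalkMap_id] at this
      have h' := congrArg (fun f => f.hom a) this
      simpa using h'.symm
    exact ⟨fun a b hab => by
        have := congrArg (Helper49.stalkMap e.inv x).hom hab
        simpa [Helper49.stalkMapLinear, h1] using this,
      fun b => ⟨(Helper49.stalkMap e.inv x).hom b, h2 b⟩⟩)

theorem isFlatOverAt_of_iso (f : X ⟶ Y) {G G' : X.Modules} (e : G ≅ G') (x : X)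
    (h : FlatMod.IsFlatOverAt f G x) : FlatMod.IsFlatOverAt f G' x := by
  letI := (f.stalkMap x).hom.toAlgebra
  letI : Module (Y.presheaf.stalk (f.base x)) (G.presheaf.stalk x) := FlatMod.moduleStalkOver f G x
  letI : Module (Y.presheaf.stalk (f.base x)) (G'.presheaf.stalk x) :=
    FlatMod.moduleStalkOver f G' x
  haveI : IsScalarTower (Y.presheaf.stalk (f.base x)) (X.presheaf.stalk x)
      (G.presheaf.stalk x) := IsScalarTower.of_compHom _ _ _
  haveI : IsScalarTower (Y.presheaf.stalk (f.base x)) (X.presheaf.stalk x)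
      (G'.presheaf.stalk x) := IsScalarTower.of_compHom _ _ _
  haveI : Module.Flat (Y.presheaf.stalk (f.base x)) (G.presheaf.stalk x) := h
  exact Module.Flat.of_linearEquiv
    ((stalkLinearEquivOfIso e x).restrictScalars (Y.presheaf.stalk (f.base x))).symm

theorem isFlatOver_iff_of_iso (f : X ⟶ Y) {G G' : X.Modules} (e : G ≅ G') :
    FlatMod.IsFlatOver f G ↔ FlatMod.IsFlatOver f G' :=
  ⟨fun h x => isFlatOverAt_of_iso f e x (h x), fun h x => isFlatOverAt_of_iso f e.symm x (h x)⟩

end Iso

section Translate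

variable {X Y S : Scheme.{u}} (f : X ⟶ Y) (g : Y ⟶ S)

/-- The fibre module `F_x / 𝔪_s F_x` is flat over `O_{Y,f x} / 𝔪_s O_{Y,f x}`. -/
def QuotFlat (F : X.Modules) (x : X) : Prop :=
  letI := FlatMod.moduleStalkOver f F x
  Module.Flat (↑(Y.presheaf.stalk (f x)) ⧸ Ideal.map (g.stalkMap (f x)).hom
      (IsLocalRing.maximalIdeal ↑(S.presheaf.stalk (g (f x)))))
    (↑(F.presheaf.stalk x) ⧸ (Ideal.map (g.stalkMap (f x)).hom
      (IsLocalRing.maximalIdeal ↑(S.presheaf.stalk (g (f x)))) •
        (⊤ : Submodule ↑(Y.presheaf.stalk (f x)) ↑(F.presheaf.stalk x))))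

theorem isFlatOverAt_fiberMap_iff (F : X.Modules) [F.IsQuasicoherent] (s : S)
    (z : ↥((f ≫ g).fiber s)) :
    FlatMod.IsFlatOverAt (MoreMor.fiberMap f g s)
        ((Scheme.Modules.pullback ((f ≫ g).fiberι s)).obj F) z ↔
      QuotFlat f g F (((f ≫ g).fiberι s) z) := by
  set φ := MoreMor.fiberMap f g s with hφ
  set ιX := (f ≫ g).fiberι s with hιX
  set x := ιX z with hx
  have hsq : φ ≫ g.fiberι s = ιX ≫ f := FibreStalkMap.fiberMap_fiberι f g s
  have hpt : f x = g.fiberι s (φ z) := by
    have := congrArg (fun h : (f ≫ g).fiber s ⟶ Y => h z) hsq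
    simp only [Scheme.Hom.comp_apply] at this
    exact this.symm
  -- the base change map on stalks
  letI algXX' : Algebra (X.presheaf.stalk (ιX.base z)) (((f ≫ g).fiber s).presheaf.stalk z) :=
    (ιX.stalkMap z).hom.toAlgebra
  letI modXM' : Module (X.presheaf.stalk (ιX.base z))
      (((Scheme.Modules.pullback ιX).obj F).presheaf.stalk z) :=
    FlatMod.moduleStalkOver ιX _ z
  haveI : IsScalarTower (X.presheaf.stalk (ιX.base z)) (((f ≫ g).fiber s).presheaf.stalk z)
      (((Scheme.Modules.pullback ιX).obj F).presheaf.stalk z) := IsScalarTower.of_compHom _ _ _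
  obtain ⟨ψ, hψ⟩ := Helper16.FlatPull.exists_isBaseChange_stalk ιX F z
  have hsurjX : Function.Surjective (algebraMap (X.presheaf.stalk (ιX.base z))
      (((f ≫ g).fiber s).presheaf.stalk z)) := ιX.stalkMap_surjective z
  have hψs := FibreFreeAlg.surjective_of_isBaseChange hsurjX hψ
  have hψk := FibreFreeAlg.ker_eq_smul_top_of_isBaseChange hsurjX hψ
  have hkX : RingHom.ker (ιX.stalkMap z).hom =
      (Ideal.map (g.stalkMap (f x)).hom
        (IsLocalRing.maximalIdeal (S.presheaf.stalk (g (f x))))).map (f.stalkMap x).hom := by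
    have h1 : RingHom.ker (ιX.stalkMap z).hom =
        Ideal.map ((f ≫ g).stalkMap x).hom
          (IsLocalRing.maximalIdeal (S.presheaf.stalk ((f ≫ g) x))) :=
      le_antisymm (Helper49.ker_le_map (f ≫ g) s z) (Helper49.map_le_ker (f ≫ g) s z)
    rw [h1, Ideal.map_map]
    have h2 : ((f ≫ g).stalkMap x).hom = (f.stalkMap x).hom.comp (g.stalkMap (f x)).hom := by
      rw [Scheme.Hom.stalkMap_comp]
      rfl
    rw [h2]
    rfl
  refine FibreFlatAlg.flat_iff_of_surjective_module
    ((Y.presheaf.stalkCongr (.of_eq hpt)).hom ≫ (g.fiberι s).stalkMap (φ z)).hom ?_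
    (ιX.stalkMap z).hom (f.stalkMap x).hom (φ.stalkMap z).hom ?_ _
    (FibreStalkMap.ker_fiberι_stalkMap g s (φ z) (f x) hpt) ψ.toAddMonoidHom
    (fun c m => ψ.map_smul c m) hψs ?_
  · rw [CommRingCat.hom_comp]
    exact ((g.fiberι s).stalkMap_surjective (φ z)).comp
      (ConcreteCategory.bijective_of_isIso (Y.presheaf.stalkCongr (.of_eq hpt)).hom).2
  · have h1 := Scheme.Hom.stalkMap_congr_hom (ιX ≫ f) (φ ≫ g.fiberι s) hsq.symm z
    rw [Scheme.Hom.stalkMap_comp, Scheme.Hom.stalkMap_comp] at h1
    exact (congrArg CommRingCat.Hom.hom h1).symm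
  · intro m
    rw [← hkX]
    have : ψ m = 0 ↔ m ∈ LinearMap.ker ψ := LinearMap.mem_ker.symm
    rw [hψk] at this
    exact this

end Translate

section Cons

/-- The relation "`F` is flat over `Y`". -/
abbrev PFlat : ∀ ⦃X Y T : Scheme.{u}⦄, (X ⟶ Y) → (Y ⟶ T) → X.Modules → Prop :=
  fun _ _ _ f _ F => FlatMod.IsFlatOver f F

theorem isFieldStableModMor_isFlatOver : IsFieldStableModMor PFlat.{u} := by
  intro X X' Y Y' T T' f g f' g' eX eY h _ _ _ _ _ _ _ _ hY hX F F' hF eF
  haveI : F.IsQuasicoherent := hF.1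
  have hh := fpqc_of_onePoint h
  have heY : (@Surjective ⊓ @Flat ⊓ @QuasiCompact : MorphismProperty Scheme.{u}) eY :=
    MorphismProperty.of_isPullback hY.flip hh
  have heX : (@Surjective ⊓ @Flat ⊓ @QuasiCompact : MorphismProperty Scheme.{u}) eX :=
    MorphismProperty.of_isPullback hX.flip heY
  haveI : Flat eY := heY.1.2
  haveI : Flat eX := heX.1.2
  haveI : Surjective eX := heX.1.1
  show FlatMod.IsFlatOver f F ↔ FlatMod.IsFlatOver f' F'
  rw [isFlatOver_iff_of_iso f' eF]
  constructor
  · intro hfl x'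
    exact Helper16.FlatPull.isFlatOverAt_baseChange f f' eX eY hX F x' (hfl _)
  · intro hfl x
    obtain ⟨x', rfl⟩ := eX.surjective x
    have h1 := hfl x'
    have h2 := Helper16.FlatPull.isFlatOverAt_comp_of_flat f' eY _ x'
      (Flat.stalkMap eY (f' x')) h1
    have h3 : FlatMod.IsFlatOverAt (eX ≫ f) ((Scheme.Modules.pullback eX).obj F) x' := by
      rw [hX.w]; exact h2
    exact (Helper16.FlatPull.isFlatOverAt_pullback_iff eX f F x' (Flat.stalkMap eX x')).mpr h3

variable {X Y S : Scheme.{u}} (f : X ⟶ Y) (g : Y ⟶ S)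

theorem mem_locusModMor_iff (F : X.Modules) [F.IsQuasicoherent] (s : S) :
    s ∈ locusModMor PFlat f g F ↔ ∀ x : X, (f ≫ g) x = s → QuotFlat f g F x := by
  constructor
  · intro hs x hx
    obtain ⟨z, rfl⟩ := FibreFree.exists_fiberι_eq (f ≫ g) hx
    exact (isFlatOverAt_fiberMap_iff f g F s z).mp (hs z)
  · intro hs z
    exact (isFlatOverAt_fiberMap_iff f g F s z).mpr (hs _ (FibreFree.fiberι_mem (f ≫ g) s z))

theorem quotFlat_iff_isFlatOverAt [LocallyOfFinitePresentation (f ≫ g)] [LocallyOfFiniteType g]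
    (F : X.Modules) [F.IsQuasicoherent]
    (hFP : SheafOfModules.IsFinitePresentation (R := X.ringCatSheaf) F) (x : X)
    (h1 : FlatMod.IsFlatOverAt (f ≫ g) F x) (h2 : (g.stalkMap (f x)).hom.Flat) :
    QuotFlat f g F x ↔ FlatMod.IsFlatOverAt f F x := by
  by_cases hx : Nontrivial ↑(F.presheaf.stalk x)
  · have := Groth.Agent.S1483.result f g F inferInstance hFP x hx
    constructor
    · intro hq
      exact (this.mp ⟨h1, hq⟩).2
    · intro hfl
      exact (this.mpr ⟨h2, hfl⟩).2
  · rw [not_nontrivial_iff_subsingleton] at hx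
    constructor
    · intro _
      unfold FlatMod.IsFlatOverAt
      letI := FlatMod.moduleStalkOver f F x
      infer_instance
    · intro _
      unfold QuotFlat
      letI := FlatMod.moduleStalkOver f F x
      infer_instance

theorem generic_aux [IsIntegral S] [IsNoetherian S] [LocallyOfFiniteType g] [QuasiCompact g]
    [LocallyOfFiniteType (f ≫ g)] [QuasiCompact (f ≫ g)] (F : X.Modules) (hF : Coh.IsCoh F) :
    (genericPoint S ∈ locusModMor PFlat f g F →
        genericPoint S ∈ interior (locusModMor PFlat f g F)) ∧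
      (genericPoint S ∉ locusModMor PFlat f g F →
        genericPoint S ∈ interior (locusModMor PFlat f g F)ᶜ) := by
  haveI : F.IsQuasicoherent := hF.1
  haveI : IsLocallyNoetherian X := LocallyOfFiniteType.isLocallyNoetherian (f ≫ g)
  haveI : CompactSpace X := QuasiCompact.compactSpace_of_compactSpace (f ≫ g)
  haveI : IsNoetherian X := {}
  have hFP : SheafOfModules.IsFinitePresentation (R := X.ringCatSheaf) F :=
    Helper49.isFinitePresentation_of_isFiniteType_of_noetherian F hF.2
  haveI : LocallyOfFinitePresentation (f ≫ g) :=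
    LocallyOfFinitePresentation.iff_locallyOfFiniteType.mpr inferInstance
  haveI : LocallyOfFinitePresentation f :=
    FibreCritScheme.locallyOfFinitePresentation_of_comp (g := g) inferInstance inferInstance
  obtain ⟨V₁, hV₁ne, hV₁⟩ := Groth.Agent.S4799.result (f ≫ g) F hFP
  obtain ⟨V₂, hV₂d, hV₂fl, -⟩ := Groth.Agent.S0414.result g
  have hV₂ : ∀ y : Y, g y ∈ V₂ → (g.stalkMap y).hom.Flat := by
    intro y hy
    have h1 := Flat.stalkMap (g ∣_ V₂) ⟨y, hy⟩
    exact (RingHom.Flat.respectsIso.arrow_mk_iso_iff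
      (morphismRestrictStalkMap g V₂ ⟨y, hy⟩)).mp h1
  have hη₁ : genericPoint S ∈ V₁ :=
    ((genericPoint_spec S).mem_open_set_iff V₁.2).mpr (by simpa using hV₁ne)
  have hη₂ : genericPoint S ∈ V₂ :=
    ((genericPoint_spec S).mem_open_set_iff V₂.2).mpr (by simpa using hV₂d.nonempty)
  set V : S.Opens := V₁ ⊓ V₂ with hVdef
  have hηV : genericPoint S ∈ V := ⟨hη₁, hη₂⟩
  set E := locusModMor PFlat f g F with hE
  set N : Set X := {x : X | ¬ FlatMod.IsFlatOverAt f F x} with hN
  have hNo : IsOpen Nᶜ := by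
    have := Groth.Agent.S4863.result f F hFP
    convert this using 1
    ext x
    simp [hN]
  have key : E ∩ (V : Set S) = (V : Set S) \ (f ≫ g) '' N := by
    ext s
    constructor
    · rintro ⟨hsE, hsV⟩
      refine ⟨hsV, ?_⟩
      rintro ⟨x, hxN, hxs⟩
      apply hxN
      have hq := (mem_locusModMor_iff f g F s).mp hsE x hxs
      have hx1 : (f ≫ g) x ∈ V₁ := by rw [hxs]; exact hsV.1
      have hx2 : g (f x) ∈ V₂ := by
        have : (f ≫ g) x ∈ V₂ := by rw [hxs]; exact hsV.2
        exact this
      exact (quotFlat_iff_isFlatOverAt f g F hFP x (hV₁ x hx1) (hV₂ (f x) hx2)).mp hq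
    · rintro ⟨hsV, hsN⟩
      refine ⟨?_, hsV⟩
      rw [hE, mem_locusModMor_iff]
      intro x hxs
      have hfl : FlatMod.IsFlatOverAt f F x := by
        by_contra hcon
        exact hsN ⟨x, hcon, hxs⟩
      have hx1 : (f ≫ g) x ∈ V₁ := by rw [hxs]; exact hsV.1
      have hx2 : g (f x) ∈ V₂ := by
        have : (f ≫ g) x ∈ V₂ := by rw [hxs]; exact hsV.2
        exact this
      exact (quotFlat_iff_isFlatOverAt f g F hFP x (hV₁ x hx1) (hV₂ (f x) hx2)).mpr hfl
  have hNc : IsLocallyConstructible N := by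
    have h2 := FibreFree.isLocallyConstructible_compl
      (FibreFree.isLocallyConstructible_of_isOpen hNo)
    rwa [compl_compl] at h2
  have hIm : IsLocallyConstructible ((f ≫ g) '' N) :=
    (f ≫ g).isLocallyConstructible_image hNc
  have hVc : IsLocallyConstructible (V : Set S) := FibreFree.isLocallyConstructible_of_isOpen V.2
  constructor
  · intro hη
    have h1 : IsLocallyConstructible (E ∩ (V : Set S)) := by
      rw [key, Set.sdiff_eq]
      exact hVc.inter (FibreFree.isLocallyConstructible_compl hIm)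
    have h2 := ConsLocusMod.genericPoint_mem_interior_of_isLocallyConstructible h1 ⟨hη, hηV⟩
    exact interior_mono Set.inter_subset_left h2
  · intro hη
    have h1 : IsLocallyConstructible (Eᶜ ∩ (V : Set S)) := by
      have : Eᶜ ∩ (V : Set S) = (V : Set S) ∩ (f ≫ g) '' N := by
        ext s
        constructor
        · rintro ⟨hsE, hsV⟩
          refine ⟨hsV, ?_⟩
          by_contra hcon
          have h3 : s ∈ E ∩ (V : Set S) := by
            rw [key]; exact ⟨hsV, hcon⟩
          exact hsE h3.1
        · rintro ⟨hsV, hsZ⟩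
          refine ⟨fun hsE => ?_, hsV⟩
          have h3 : s ∈ (V : Set S) \ (f ≫ g) '' N := by
            rw [← key]; exact ⟨hsE, hsV⟩
          exact h3.2 hsZ
      rw [this]
      exact hVc.inter hIm
    have h2 := ConsLocusMod.genericPoint_mem_interior_of_isLocallyConstructible h1 ⟨hη, hηV⟩
    exact interior_mono Set.inter_subset_left h2

theorem isConsModMor_isFlatOver : IsConsModMor PFlat.{u} := by
  refine ⟨isFieldStableModMor_isFlatOver, ?_⟩
  intro X Y S f g _ _ _ _ _ _ F hF
  have h := generic_aux f g F hF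
  by_cases hη : genericPoint S ∈ locusModMor PFlat f g F
  · exact Or.inl ⟨_, h.1 hη⟩
  · exact Or.inr ⟨_, h.2 hη⟩

/-- **EGA IV 11.2.8 type statement**: the set of points of the base over which the fibre module
is flat over the fibre of `Y` is locally constructible. -/
theorem isLocallyConstructible_setOf_quotFlat
    [LocallyOfFinitePresentation g] [QuasiCompact g] [QuasiSeparated g]
    [LocallyOfFinitePresentation (f ≫ g)] [QuasiCompact (f ≫ g)] [QuasiSeparated (f ≫ g)]
    (F : X.Modules) [F.IsQuasicoherent]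
    (hF : SheafOfModules.IsFinitePresentation (R := X.ringCatSheaf) F) :
    IsLocallyConstructible {s : S | ∀ x : X, (f ≫ g) x = s → QuotFlat f g F x} := by
  have h := isLocallyConstructible_locusModMor f g F hF isConsModMor_isFlatOver
  convert h using 1
  ext s
  exact (mem_locusModMor_iff f g F s).symm

end Cons

end Groth.Agent.Lib.Helper23.FibreFlatCons
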