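/-
Helper library (helper23): geometric reducedness of the fibres near the generic point
(EGA IV 9.7.7, positive direction), scheme form.
-/
import Mathlib
import Groth.Agent.Lib.Helper23.GeomRedSpread
import Groth.Agent.Lib.Helper13.GenFibre3

set_option autoImplicit false
universe u
open TensorProduct

namespace Groth.Agent.Lib.Helper23.GeomRedGeneric

open AlgebraicGeometry CategoryTheory Limits TopologicalSpace
open Groth.Agent.Lib.Helper13.GenFibre3

variable {X Y : Scheme.{u}}

/-- If the affine charts over a family of affine opens covering `f⁻¹ W` of a base change are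
reduced, so is the base change. -/
theorem isReduced_pullback_of_cover_charts (f : X ⟶ Y) {W : Y.Opens} (hW : IsAffineOpen W)
    {R : CommRingCat.{u}} (ψ : Γ(Y, W) ⟶ R) (s : Set X.affineOpens)
    (hsW : ∀ U ∈ s, (U : X.Opens) ≤ f ⁻¹ᵁ W)
    (hcov : ((f ⁻¹ᵁ W : X.Opens) : Set X) ⊆ ⋃ U ∈ s, ((U : X.Opens) : Set X))
    (H : ∀ (U : X.affineOpens) (hU : U ∈ s),
      IsReduced (pullback (Spec.map (f.appLE W U (hsW U hU))) (Spec.map ψ))) :
    IsReduced (pullback f (Spec.map ψ ≫ hW.fromSpec)) := by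
  let J := {U : X.affineOpens // U ∈ s}
  let 𝒰 : (pullback f (Spec.map ψ ≫ hW.fromSpec)).OpenCover :=
    Scheme.Cover.mkOfCovers J
      (fun U => pullback (Spec.map (f.appLE W U.1 (hsW U.1 U.2))) (Spec.map ψ))
      (fun U => genChart f hW U.1.2 (hsW U.1 U.2) ψ)
      (by
        intro x
        have hxW : pullback.fst f (Spec.map ψ ≫ hW.fromSpec) x ∈ f ⁻¹ᵁ W := by
          show f (pullback.fst f (Spec.map ψ ≫ hW.fromSpec) x) ∈ W
          rw [← Scheme.Hom.comp_apply, pullback.condition, Scheme.Hom.comp_apply,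
            Scheme.Hom.comp_apply]
          have : hW.fromSpec (Spec.map ψ (pullback.snd f (Spec.map ψ ≫ hW.fromSpec) x)) ∈
              Set.range hW.fromSpec := ⟨_, rfl⟩
          rwa [hW.range_fromSpec] at this
        have := hcov hxW
        simp only [Set.mem_iUnion] at this
        obtain ⟨U, hUs, hxU⟩ := this
        have : x ∈ Set.range (genChart f hW U.2 (hsW U hUs) ψ) := by
          rw [range_genChart]
          exact hxU
        obtain ⟨y, hy⟩ := this
        exact ⟨⟨U, hUs⟩, y, hy⟩)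
      (fun U => inferInstance)
  have : ∀ i, IsReduced (𝒰.X i) := fun U => H U.1 U.2
  exact IsReduced.of_openCover _ 𝒰

/-- If the fibre over the image point is geometrically reduced, the base change along a field
valued point is reduced. -/
theorem isReduced_pullback_of_geometricallyReduced_fiber (f : X ⟶ Y) {k : Type u} [Field k]
    (s : Spec (.of k) ⟶ Y)
    (h : GeometricallyReduced (f.fiberToSpecResidueField (s (IsLocalRing.closedPoint k)))) :
    IsReduced (pullback f s) := by
  by_contra hnr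
  exact not_geometricallyReduced_of_not_isReduced_pullback f s hnr h

/-- **Geometrically reduced fibres near the generic point** (point form): if the generic fibre
is geometrically reduced, then over some nonempty open `V` of the target, every base change to a
field-valued point landing in `V` is reduced. -/
theorem exists_open_forall_isReduced_pullback (f : X ⟶ Y) [IrreducibleSpace ↑Y]
    [LocallyOfFiniteType f] [QuasiCompact f]
    (h : GeometricallyReduced (f.fiberToSpecResidueField (genericPoint ↑Y))) :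
    ∃ V : Y.Opens, (V : Set ↑Y).Nonempty ∧ ∀ (k : Type u) [Field k] (s : Spec (.of k) ⟶ Y),
      Set.range s ⊆ V → IsReduced (pullback f s) := by
  classical
  obtain ⟨W, hW, hηW, -⟩ := exists_isAffineOpen_mem_and_subset
    (x := genericPoint ↑Y) (U := ⊤) trivial
  have hηr : genericPoint ↑Y ∈ Set.range hW.fromSpec := by
    rw [hW.range_fromSpec]; exact hηW
  obtain ⟨z₀, hz₀⟩ := hηr
  have hnil : z₀.asIdeal = nilradical Γ(Y, W) :=
    Groth.Agent.Lib.Helper13.GenFibre.asIdeal_eq_nilradical_of_fromSpec_eq hW z₀ hz₀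
  have hp : (nilradical Γ(Y, W)).IsPrime := hnil ▸ z₀.isPrime
  -- finite affine cover of `f⁻¹ W`
  have hcpt : IsCompact ((f ⁻¹ᵁ W : X.Opens) : Set X) :=
    (quasiCompact_iff_forall_isAffineOpen.mp inferInstance) W hW
  obtain ⟨S, hSfin, hSeq⟩ :=
    (isCompact_and_isOpen_iff_finite_and_eq_biUnion_affineOpens).mp ⟨hcpt, (f ⁻¹ᵁ W).isOpen⟩
  have hSW : ∀ U ∈ S, (U : X.Opens) ≤ f ⁻¹ᵁ W := by
    intro U hU x hx
    show x ∈ ((f ⁻¹ᵁ W : X.Opens) : Set X)
    rw [hSeq]
    simp only [Set.mem_iUnion]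
    exact ⟨U, hU, hx⟩
  -- for each chart, an element of `Γ(Y, W)`
  have hchart : ∀ (U : X.affineOpens) (hU : U ∈ S), ∃ a : Γ(Y, W), a ∉ nilradical Γ(Y, W) ∧
      ∀ (k : Type u) [Field k] (ψ : Γ(Y, W) ⟶ CommRingCat.of k), ψ.hom a ≠ 0 →
        IsReduced (pullback (Spec.map (f.appLE W U (hSW U hU))) (Spec.map ψ)) := by
    intro U hU
    letI : Algebra Γ(Y, W) Γ(X, U) := (f.appLE W U (hSW U hU)).hom.toAlgebra
    have hft : Algebra.FiniteType Γ(Y, W) Γ(X, U) := f.finiteType_appLE hW U.2 (hSW U hU)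
    obtain ⟨a, ha, hA⟩ := Groth.Agent.Lib.Helper23.GeomRedSpread.exists_forall_ringHom_isReduced
      (A := Γ(Y, W)) (B := Γ(X, U)) hp (by
        intro K _ ψ₀ hker
        let ψ' : Γ(Y, W) ⟶ CommRingCat.of K := CommRingCat.ofHom ψ₀
        have hpt : (Spec.map ψ' ≫ hW.fromSpec) (IsLocalRing.closedPoint K) = genericPoint ↑Y := by
          rw [Scheme.Hom.comp_apply, ← hz₀]
          congr 1
          apply PrimeSpectrum.ext
          have hx : (IsLocalRing.closedPoint K).asIdeal = ⊥ := Ideal.eq_bot_of_prime _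
          show Ideal.comap ψ₀ (IsLocalRing.closedPoint K).asIdeal = z₀.asIdeal
          rw [hx, hnil, ← hker]; rfl
        have hred : IsReduced (pullback f (Spec.map ψ' ≫ hW.fromSpec)) :=
          isReduced_pullback_of_geometricallyReduced_fiber f _ (by rw [hpt]; exact h)
        have hred' : IsReduced (pullback (Spec.map (f.appLE W U (hSW U hU))) (Spec.map ψ')) :=
          isReduced_of_isOpenImmersion (genChart f hW U.2 (hSW U hU) ψ')
        exact (isReduced_genChart_iff f hW U.2 (hSW U hU) ψ').mp hred')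
    refine ⟨a, ha, fun k _ ψ hψ => ?_⟩
    rw [isReduced_genChart_iff f hW U.2 (hSW U hU) ψ]
    exact hA k ψ.hom hψ
  choose! a ha hA using hchart
  let a₀ : Γ(Y, W) := ∏ U ∈ hSfin.toFinset, a U
  have ha₀ : a₀ ∉ nilradical Γ(Y, W) := by
    intro hmem
    obtain ⟨U, hU, hUm⟩ := (hp.prod_mem_iff).mp hmem
    exact ha U (hSfin.mem_toFinset.mp hU) hUm
  refine ⟨Y.basicOpen a₀, ⟨genericPoint ↑Y, ?_⟩, ?_⟩
  · have : z₀ ∈ hW.fromSpec ⁻¹ᵁ Y.basicOpen a₀ := by
      rw [hW.fromSpec_preimage_basicOpen]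
      show a₀ ∉ z₀.asIdeal
      rw [hnil]; exact ha₀
    have h2 : hW.fromSpec z₀ ∈ Y.basicOpen a₀ := this
    rwa [hz₀] at h2
  · intro k _ s hs
    have hsW : Set.range s ⊆ W := hs.trans (Y.basicOpen_le a₀)
    obtain ⟨ψ, hψ⟩ := exists_eq_SpecMap_comp_fromSpec hW s hsW
    have hψa : ψ.hom a₀ ≠ 0 := by
      have h1 : s (IsLocalRing.closedPoint k) ∈ Y.basicOpen a₀ := hs ⟨_, rfl⟩
      rw [hψ, Scheme.Hom.comp_apply] at h1
      have h2 : Spec.map ψ (IsLocalRing.closedPoint k) ∈ hW.fromSpec ⁻¹ᵁ Y.basicOpen a₀ := h1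
      rw [hW.fromSpec_preimage_basicOpen] at h2
      have h3 : a₀ ∉ (Spec.map ψ (IsLocalRing.closedPoint k)).asIdeal := h2
      intro h0
      apply h3
      have hx : (IsLocalRing.closedPoint k).asIdeal = ⊥ := Ideal.eq_bot_of_prime _
      show a₀ ∈ Ideal.comap ψ.hom (IsLocalRing.closedPoint k).asIdeal
      rw [hx, Ideal.mem_comap, h0]; exact Ideal.zero_mem _
    rw [hψ]
    refine isReduced_pullback_of_cover_charts f hW ψ S hSW (by rw [hSeq]) (fun U hU => ?_)
    apply hA U hU k ψ
    intro h0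
    apply hψa
    show ψ.hom (∏ U ∈ hSfin.toFinset, a U) = 0
    rw [map_prod]
    exact Finset.prod_eq_zero (hSfin.mem_toFinset.mpr hU) h0

/-- Geometric reducedness of a restriction from reducedness of field-valued base changes. -/
theorem geometricallyReduced_morphismRestrict_of_forall (f : X ⟶ Y) (V : Y.Opens)
    (H : ∀ (k : Type u) [Field k] (s : Spec (.of k) ⟶ Y),
      Set.range s ⊆ V → IsReduced (pullback f s)) :
    GeometricallyReduced (f ∣_ V) := by
  rw [geometricallyReduced_iff]
  intro K _ y Z fst snd hpb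
  have hpb' : IsPullback (fst ≫ (f ⁻¹ᵁ V).ι) snd f (y ≫ V.ι) :=
    hpb.paste_horiz (isPullback_morphismRestrict f V).flip
  have hrange : Set.range (y ≫ V.ι) ⊆ V := by
    rintro _ ⟨x, rfl⟩
    rw [Scheme.Hom.comp_apply]
    exact (y x).2
  haveI := H K (y ≫ V.ι) hrange
  exact isReduced_of_isOpenImmersion hpb'.isoPullback.hom

/-- Geometric reducedness of a fibre from reducedness of field-valued base changes. -/
theorem geometricallyReduced_fiber_of_forall (f : X ⟶ Y) (y : Y)
    (H : ∀ (k : Type u) [Field k] (s : Spec (.of k) ⟶ Y),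
      Set.range s ⊆ {y} → IsReduced (pullback f s)) :
    GeometricallyReduced (f.fiberToSpecResidueField y) := by
  by_contra hnot
  obtain ⟨K, _, t, hnr⟩ := (not_geometricallyReduced_fiber_iff f y).mp hnot
  apply hnr
  apply H K
  rintro _ ⟨x, rfl⟩
  rw [Scheme.Hom.comp_apply, Scheme.fromSpecResidueField_apply]
  rfl

/-- **Geometrically reduced fibres near the generic point** (fibre form). -/
theorem exists_open_forall_geometricallyReduced_fiber (f : X ⟶ Y) [IrreducibleSpace ↑Y]
    [LocallyOfFiniteType f] [QuasiCompact f]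
    (h : GeometricallyReduced (f.fiberToSpecResidueField (genericPoint ↑Y))) :
    ∃ V : Y.Opens, (V : Set ↑Y).Nonempty ∧
      ∀ y ∈ V, GeometricallyReduced (f.fiberToSpecResidueField y) := by
  obtain ⟨V, hV, H⟩ := exists_open_forall_isReduced_pullback f h
  refine ⟨V, hV, fun y hy => geometricallyReduced_fiber_of_forall f y (fun k _ s hs => ?_)⟩
  exact H k s (hs.trans (Set.singleton_subset_iff.mpr hy))

end Groth.Agent.Lib.Helper23.GeomRedGeneric
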