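/-
Helper library (helper23): geometric reducedness of fibres is a constructible property
(EGA IV 9.7.7 (iii)); the locus of geometrically reduced fibres of a quasi-compact morphism
locally of finite presentation is locally constructible.
-/
import Mathlib
import Groth.Agent.Lib.Helper23.GeomRedGeneric
import Groth.Agent.Lib.Helper23.ConsLocusOne
import Groth.Agent.S1331

set_option autoImplicit false
universe u

namespace Groth.Agent.Lib.Helper23.GeomRedCons

open AlgebraicGeometry CategoryTheory Limits TopologicalSpace Topology
open Groth.Agent.Lib.Helper23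

/-- The relation "geometrically reduced". -/
def GR : ∀ ⦃Y T : Scheme.{u}⦄, (Y ⟶ T) → Prop := fun _ _ g => GeometricallyReduced g

section FieldStable

variable {Y Y' T T' : Scheme.{u}}

/-- Geometric reducedness descends along a field extension. -/
theorem geometricallyReduced_of_isPullback (g : Y ⟶ T) (g' : Y' ⟶ T') (e : Y' ⟶ Y) (h : T' ⟶ T)
    [IsIntegral T] [Subsingleton T] [IsIntegral T'] [Subsingleton T']
    (hpb : IsPullback e g' g h) [hg' : GeometricallyReduced g'] : GeometricallyReduced g := by
  rw [geometricallyReduced_iff, geometrically_iff_of_isClosedUnderIsomorphisms]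
  intro K _ y
  -- a point of `Spec K ×_T T'`
  obtain ⟨t'⟩ : Nonempty T' := inferInstance
  obtain ⟨z, -, -⟩ := Scheme.Pullback.exists_preimage_pullback (f := y) (g := h)
    (IsLocalRing.closedPoint K) t' (Subsingleton.elim _ _)
  let Z := pullback y h
  let a : Spec (Z.residueField z) ⟶ Spec (.of K) := Z.fromSpecResidueField z ≫ pullback.fst y h
  let b : Spec (Z.residueField z) ⟶ T' := Z.fromSpecResidueField z ≫ pullback.snd y h
  have hab : a ≫ y = b ≫ h := by
    simp only [a, b, Category.assoc, pullback.condition]
  -- `Y ×_T Spec L` is reduced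
  have h1 : IsReduced (pullback g' b) :=
    (geometrically_iff_of_isClosedUnderIsomorphisms.mp
      ((geometricallyReduced_iff g').mp hg')) (Z.residueField z) b
  have hp1 : IsPullback (pullback.fst g' b ≫ e) (pullback.snd g' b) g (b ≫ h) :=
    (IsPullback.of_hasPullback g' b).paste_horiz hpb
  have hp2 : IsPullback (pullback.fst (pullback.snd g y) a ≫ pullback.fst g y)
      (pullback.snd (pullback.snd g y) a) g (a ≫ y) :=
    (IsPullback.of_hasPullback (pullback.snd g y) a).paste_horiz (IsPullback.of_hasPullback g y)
  rw [hab] at hp2
  have h2 : IsReduced (pullback (pullback.snd g y) a) :=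
    isReduced_of_isOpenImmersion (hp2.isoPullback.hom ≫ hp1.isoPullback.inv)
  -- descend along the faithfully flat map
  haveI : IsDominant a := by
    refine ⟨Function.Surjective.denseRange fun x => ⟨IsLocalRing.closedPoint _, ?_⟩⟩
    exact Subsingleton.elim _ _
  haveI : IsSchemeTheoreticallyDominant a := .of_isDominant a
  haveI : Flat (pullback.snd g y) := inferInstance
  exact IsSchemeTheoreticallyDominant.isReduced (pullback.fst (pullback.snd g y) a)

theorem isFieldStable_GR : ConsProp.IsFieldStable GR.{u} := by
  intro Y Y' T T' g g' e h _ _ _ _ _ _ hpb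
  constructor
  · intro hg
    exact MorphismProperty.of_isPullback (P := @GeometricallyReduced) hpb hg
  · intro hg'
    haveI : GeometricallyReduced g' := hg'
    exact geometricallyReduced_of_isPullback g g' e h hpb

end FieldStable

/-- **EGA IV 9.7.7 (iii)**: geometric reducedness is a constructible property. -/
theorem isCons_GR : ConsProp.IsCons GR.{u} := by
  refine ⟨isFieldStable_GR, ?_⟩
  intro X S u _ _ _ _
  by_cases h : GeometricallyReduced (u.fiberToSpecResidueField (genericPoint S))
  · left
    obtain ⟨V, ⟨x, hx⟩, H⟩ :=
      Groth.Agent.Lib.Helper23.GeomRedGeneric.exists_open_forall_geometricallyReduced_fiber u h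
    exact ⟨x, mem_interior.mpr ⟨V, fun y hy => H y hy, V.isOpen, hx⟩⟩
  · right
    obtain ⟨V, ⟨x, hx⟩, H⟩ := Groth.Agent.S1331.result u h
    exact ⟨x, mem_interior.mpr ⟨V, fun y hy => H y hy, V.isOpen, hx⟩⟩

section SourceLocal

/-- Geometric reducedness is local on the source. -/
theorem geometricallyReduced_iff_of_openCover {Y T : Scheme.{u}} (g : Y ⟶ T) (𝒰 : Y.OpenCover) :
    GeometricallyReduced g ↔ ∀ i, GeometricallyReduced (𝒰.f i ≫ g) := by
  simp only [geometricallyReduced_iff, geometrically_iff_of_isClosedUnderIsomorphisms]
  constructor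
  · intro H i K _ y
    have h1 := H K y
    have h2 : IsOpenImmersion ((Scheme.Pullback.openCoverOfLeft 𝒰 g y).f i) :=
      (Scheme.Pullback.openCoverOfLeft 𝒰 g y).map_prop i
    exact @isReduced_of_isOpenImmersion _ _ ((Scheme.Pullback.openCoverOfLeft 𝒰 g y).f i) h2 h1
  · intro H K _ y
    have : ∀ i, IsReduced ((Scheme.Pullback.openCoverOfLeft 𝒰 g y).X i) := fun i => H i K y
    exact IsReduced.of_openCover _ (Scheme.Pullback.openCoverOfLeft 𝒰 g y)

/-- The locus of geometrically reduced fibres is the intersection of the loci of the members of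
an open cover of the source. -/
theorem locus_GR_eq_iInter {X S : Scheme.{u}} (f : X ⟶ S) (𝒰 : X.OpenCover) :
    ConsProp.locus GR f = ⋂ i, ConsProp.locus GR (𝒰.f i ≫ f) := by
  ext s
  simp only [ConsProp.locus, GR, Set.mem_ofPred_eq, Set.mem_iInter]
  change GeometricallyReduced (pullback.snd f (S.fromSpecResidueField s)) ↔
    ∀ i, GeometricallyReduced (pullback.snd (𝒰.f i ≫ f) (S.fromSpecResidueField s))
  rw [geometricallyReduced_iff_of_openCover (pullback.snd f (S.fromSpecResidueField s))
    (Scheme.Pullback.openCoverOfLeft 𝒰 f (S.fromSpecResidueField s))]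
  refine forall_congr' fun i => ?_
  have : (Scheme.Pullback.openCoverOfLeft 𝒰 f (S.fromSpecResidueField s)).f i ≫
      pullback.snd f (S.fromSpecResidueField s) =
        pullback.snd (𝒰.f i ≫ f) (S.fromSpecResidueField s) := by
    simp only [Scheme.Pullback.openCoverOfLeft, pullback.map]
    exact pullback.lift_snd _ _ _
  rw [this]
  exact Iff.rfl

end SourceLocal

section Main

variable {X S : Scheme.{u}} (f : X ⟶ S) [LocallyOfFinitePresentation f] [QuasiCompact f]

/-- Affine base: the locus of geometrically reduced fibres is locally constructible. -/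
theorem isLocallyConstructible_locus_GR_of_isAffine [IsAffine S] :
    IsLocallyConstructible (ConsProp.locus GR f) := by
  haveI : CompactSpace X := QuasiCompact.compactSpace_of_compactSpace f
  rw [locus_GR_eq_iInter f X.affineCover.finiteSubcover]
  haveI : Finite X.affineCover.finiteSubcover.I₀ := inferInstance
  refine IsLocallyConstructible.iInter fun i => ?_
  haveI : IsAffine (X.affineCover.finiteSubcover.X i) :=
    inferInstanceAs (IsAffine (X.affineCover.X _))
  exact isLocallyConstructible_locus (X.affineCover.finiteSubcover.f i ≫ f) isCons_GR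

/-- **EGA IV 9.7.7 (iii)**: for `f` quasi-compact and locally of finite presentation, the locus of
geometrically reduced fibres is locally constructible. -/
theorem isLocallyConstructible_locus_GR :
    IsLocallyConstructible (ConsProp.locus GR f) := by
  refine IsLocallyConstructible.of_isOpenCover (U := fun W : S.affineOpens => (W : S.Opens))
    (iSup_affineOpens_eq_top S) (fun W => ?_)
  haveI : IsAffine (W : S.Opens).toScheme := W.2
  have e1 : ConsProp.locus GR (f ∣_ (W : S.Opens)) =
      (W : S.Opens).ι ⁻¹' ConsProp.locus GR f :=
    locus_baseChange isFieldStable_GR f (W : S.Opens).ι (isPullback_morphismRestrict f W).flip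
  have := isLocallyConstructible_locus_GR_of_isAffine (f ∣_ (W : S.Opens))
  rw [e1] at this
  exact this

end Main

end Groth.Agent.Lib.Helper23.GeomRedCons
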