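import Mathlib
import Groth.Prelude.Def_MoreMor
import Groth.Agent.Lib.Helper23.FibreCritFT
import Groth.Agent.Lib.Helper23.EssFPStalk
import Groth.Agent.Lib.Helper23.FibreStalkMap
import Groth.Agent.Lib.Helper2.FlatLocusOpen
import Groth.Agent.H76.FibreFlat

/-!
# Critère de platitude par fibres for schemes (structure sheaf)
-/

set_option autoImplicit false
universe u

namespace Groth.Agent.Lib.Helper23.FibreCritScheme

open AlgebraicGeometry CategoryTheory Limits IsLocalRing
open Groth.Agent.Lib.Helper23.FibreCritFT Groth.Agent.Lib.Helper23.EssFPStalk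
  Groth.Agent.Lib.Helper23.FibreStalkMap

section Ring

variable {A B C : Type u} [CommRing A] [CommRing B] [CommRing C]

theorem flat_quotientMap_of_flat (β : B →+* C) (hβ : β.Flat) (I : Ideal B) :
    (Ideal.quotientMap (I.map β) β Ideal.le_comap_map).Flat := by
  letI algBC : Algebra B C := β.toAlgebra
  haveI : Module.Flat B C := hβ
  have h : Module.Flat (B ⧸ I) (C ⧸ I.map (algebraMap B C)) := Module.Flat.of_linearEquiv
    (Algebra.TensorProduct.quotIdealMapEquivQuotTensor C I).toLinearEquiv
  have heq : (Ideal.quotientMap (I.map β) β Ideal.le_comap_map).toAlgebra =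
      (Ideal.Quotient.algebraQuotientMapQuotient : Algebra (B ⧸ I) (C ⧸ I.map (algebraMap B C))) :=
    Algebra.algebra_ext _ _ (fun r => rfl)
  rw [RingHom.Flat, heq]
  exact h

theorem flat_quotient_smul_top_of_flat_quotientMap (β : B →+* C) (I : Ideal B)
    (h : (Ideal.quotientMap (I.map β) β Ideal.le_comap_map).Flat) :
    letI algBC : Algebra B C := β.toAlgebra
    Module.Flat (B ⧸ I) (C ⧸ I • (⊤ : Submodule B C)) := by
  letI algBC : Algebra B C := β.toAlgebra
  letI algQ : Algebra (B ⧸ I) (C ⧸ I.map β) :=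
    (Ideal.quotientMap (I.map β) β Ideal.le_comap_map).toAlgebra
  haveI : Module.Flat (B ⧸ I) (C ⧸ I.map β) := h
  let σ : (C ⧸ I • (⊤ : Submodule B C)) ≃ₗ[B] (C ⧸ I.map (algebraMap B C)) :=
    (Submodule.quotEquivOfEq _ _ (Ideal.smul_top_eq_map I)).trans
      (Submodule.Quotient.restrictScalarsEquiv B (I.map (algebraMap B C)))
  refine flat_of_semilinearEquiv (R₁ := B ⧸ I) (R₂ := B ⧸ I) (RingHom.id _)
    Function.bijective_id σ.toAddEquiv ?_
  intro r x
  obtain ⟨b, rfl⟩ := Ideal.Quotient.mk_surjective r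
  obtain ⟨c, rfl⟩ := Submodule.Quotient.mk_surjective _ x
  have h1 : (Ideal.Quotient.mk I b) • (Submodule.Quotient.mk c : C ⧸ I • (⊤ : Submodule B C)) =
      Submodule.Quotient.mk (b • c) := rfl
  have h2 : ∀ z : C, σ.toAddEquiv (Submodule.Quotient.mk z) = Ideal.Quotient.mk (I.map β) z :=
    fun z => rfl
  rw [h1, h2, h2]
  show _ = (Ideal.quotientMap (I.map β) β Ideal.le_comap_map) (Ideal.Quotient.mk I b) * _
  rw [Ideal.quotientMap_mk, ← map_mul]
  rfl

variable [IsLocalRing A] [IsLocalRing B] [IsLocalRing C]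

/-- Ring-level fibre criterion in terms of ring homomorphisms. -/
theorem fibre_criterion_ringHom (H : FibreCritFP.{u}) (α : A →+* B) (β : B →+* C)
    [IsLocalHom α] [IsLocalHom β] (hα : α.EssFiniteType) (hγ : EssFP (β.comp α)) :
    ((β.comp α).Flat ∧
      (Ideal.quotientMap ((Ideal.map α (maximalIdeal A)).map β) β Ideal.le_comap_map).Flat) ↔
      (α.Flat ∧ β.Flat) := by
  constructor
  · rintro ⟨h1, h2⟩
    letI algAB : Algebra A B := α.toAlgebra
    letI algBC : Algebra B C := β.toAlgebra
    letI algAC : Algebra A C := (β.comp α).toAlgebra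
    haveI : IsScalarTower A B C := IsScalarTower.of_algebraMap_eq' rfl
    haveI : IsLocalHom (algebraMap A B) := ‹IsLocalHom α›
    haveI : IsLocalHom (algebraMap B C) := ‹IsLocalHom β›
    haveI : Algebra.EssFiniteType A B := hα
    haveI : Module.Flat A C := h1
    have hfib := flat_quotient_smul_top_of_flat_quotientMap β _ h2
    obtain ⟨h3, h4, -⟩ := main (A := A) (S := B) (C := C) (M := C) H hγ hfib
    exact ⟨h3, h4⟩
  · rintro ⟨h1, h2⟩
    exact ⟨h1.comp h2, flat_quotientMap_of_flat β h2 _⟩

end Ring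

section Scheme

variable {X Y S : Scheme.{u}}

/-- If `X` is locally of finite presentation over `S` and `Y` is locally of finite type over `S`,
then any `S`-morphism `X ⟶ Y` is locally of finite presentation. -/
theorem locallyOfFinitePresentation_of_comp {X Y Z : Scheme.{u}} {f : X ⟶ Y} {g : Y ⟶ Z}
    (h : LocallyOfFinitePresentation (f ≫ g)) (hg : LocallyOfFiniteType g) :
    LocallyOfFinitePresentation f := by
  wlog hZ : IsAffine Z generalizing X Y Z
  · rw [IsZariskiLocalAtTarget.iff_of_iSup_eq_top (P := @LocallyOfFinitePresentation) _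
      (g.iSup_preimage_eq_top (iSup_affineOpens_eq_top Z))]
    intro U
    have H := IsZariskiLocalAtTarget.restrict h U.1
    rw [morphismRestrict_comp] at H
    exact this H inferInstance inferInstance
  wlog hY : IsAffine Y generalizing X Y
  · rw [IsZariskiLocalAtTarget.iff_of_iSup_eq_top (P := @LocallyOfFinitePresentation) _
      (iSup_affineOpens_eq_top Y)]
    intro U
    have H : LocallyOfFinitePresentation ((f ⁻¹ᵁ U.1).ι ≫ f ≫ g) := inferInstance
    rw [← morphismRestrict_ι_assoc] at H
    exact this H (inferInstance : LocallyOfFiniteType (U.1.ι ≫ g)) inferInstance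
  wlog hX : IsAffine X generalizing X
  · rw [IsZariskiLocalAtSource.iff_of_iSup_eq_top (P := @LocallyOfFinitePresentation) _
      (iSup_affineOpens_eq_top X)]
    intro U
    have H : LocallyOfFinitePresentation (U.1.ι ≫ f ≫ g) := inferInstance
    rw [← Category.assoc] at H
    exact this H inferInstance
  rw [HasRingHomProperty.iff_of_isAffine (P := @LocallyOfFinitePresentation)] at h ⊢
  rw [HasRingHomProperty.iff_of_isAffine (P := @LocallyOfFiniteType)] at hg
  have hc : (f ≫ g).appTop.hom = f.appTop.hom.comp g.appTop.hom := by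
    rw [Scheme.Hom.comp_appTop]
    rfl
  rw [hc] at h
  exact RingHom.FinitePresentation.of_comp_finiteType _ h hg

variable (f : X ⟶ Y) (g : Y ⟶ S) [LocallyOfFinitePresentation (f ≫ g)] [LocallyOfFiniteType g]

/-- Pointwise form of the fibrewise flatness criterion. -/
theorem critere (H : FibreCritFP.{u}) (x : X) :
    ((f ≫ g).stalkMap x).hom.Flat ∧
        ((MoreMor.fiberMap f g (g (f x))).stalkMap ((f ≫ g).asFiber x)).hom.Flat ↔
      (g.stalkMap (f x)).hom.Flat ∧ (f.stalkMap x).hom.Flat := by
  rw [fiberMap_stalkMap_asFiber_flat_iff]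
  have hcomp : ((f ≫ g).stalkMap x).hom = (f.stalkMap x).hom.comp (g.stalkMap (f x)).hom := by
    rw [Scheme.Hom.stalkMap_comp]
    rfl
  have hγ : EssFP ((f.stalkMap x).hom.comp (g.stalkMap (f x)).hom) := by
    rw [← hcomp]
    exact essFP_stalkMap (f ≫ g) x
  rw [hcomp]
  exact fibre_criterion_ringHom H (g.stalkMap (f x)).hom (f.stalkMap x).hom
    (LocallyOfFiniteType.stalkMap g (f x)) hγ

/-- The locus where `g` is flat at `f x` and `f` is flat at `x` is open. -/
theorem isOpen_flat_locus :
    IsOpen {x : X | (g.stalkMap (f x)).hom.Flat ∧ (f.stalkMap x).hom.Flat} := by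
  haveI : LocallyOfFinitePresentation f :=
    locallyOfFinitePresentation_of_comp (g := g) inferInstance inferInstance
  have h1 := Groth.Agent.Lib.Helper2.isOpen_flat_stalkMap_locus f
  have h2 := Groth.Agent.Lib.Helper2.isOpen_flat_stalkMap_locus (f ≫ g)
  have heq : {x : X | (g.stalkMap (f x)).hom.Flat ∧ (f.stalkMap x).hom.Flat} =
      {x : X | (f.stalkMap x).hom.Flat} ∩ {x : X | ((f ≫ g).stalkMap x).hom.Flat} := by
    ext x
    have hcomp : ((f ≫ g).stalkMap x).hom = (f.stalkMap x).hom.comp (g.stalkMap (f x)).hom := by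
      rw [Scheme.Hom.stalkMap_comp]
      rfl
    simp only [Set.mem_ofPred_eq, Set.mem_inter_iff]
    constructor
    · rintro ⟨h1, h2⟩
      exact ⟨h2, hcomp ▸ h1.comp h2⟩
    · rintro ⟨h2, h3⟩
      refine ⟨?_, h2⟩
      rw [hcomp] at h3
      letI algAB : Algebra (S.presheaf.stalk (g (f x))) (Y.presheaf.stalk (f x)) :=
        (g.stalkMap (f x)).hom.toAlgebra
      letI algBC : Algebra (Y.presheaf.stalk (f x)) (X.presheaf.stalk x) :=
        (f.stalkMap x).hom.toAlgebra
      letI algAC : Algebra (S.presheaf.stalk (g (f x))) (X.presheaf.stalk x) :=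
        ((f.stalkMap x).hom.comp (g.stalkMap (f x)).hom).toAlgebra
      haveI : IsScalarTower (S.presheaf.stalk (g (f x))) (Y.presheaf.stalk (f x))
          (X.presheaf.stalk x) := IsScalarTower.of_algebraMap_eq' rfl
      haveI : Module.Flat (Y.presheaf.stalk (f x)) (X.presheaf.stalk x) := h2
      haveI : Module.Flat (S.presheaf.stalk (g (f x))) (X.presheaf.stalk x) := h3
      haveI : IsLocalHom (algebraMap (Y.presheaf.stalk (f x)) (X.presheaf.stalk x)) :=
        inferInstanceAs (IsLocalHom (f.stalkMap x).hom)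
      haveI : Module.FaithfullyFlat (Y.presheaf.stalk (f x)) (X.presheaf.stalk x) :=
        Module.FaithfullyFlat.of_flat_of_isLocalHom
      exact Groth.Agent.H76.FibreFlat.flat_of_faithfullyFlat_module
        (R := S.presheaf.stalk (g (f x))) (S := Y.presheaf.stalk (f x)) (M := X.presheaf.stalk x)
  rw [heq]
  exact h1.inter h2

/-- **Critère de platitude par fibres** (structure sheaf), assuming the essentially finitely
presented ring-level criterion. -/
theorem main_scheme (H : FibreCritFP.{u}) :
    (∀ x : X, ((f ≫ g).stalkMap x).hom.Flat ∧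
        ((MoreMor.fiberMap f g (g (f x))).stalkMap ((f ≫ g).asFiber x)).hom.Flat ↔
        (g.stalkMap (f x)).hom.Flat ∧ (f.stalkMap x).hom.Flat) ∧
      IsOpen {x : ↑X | (g.stalkMap (f x)).hom.Flat ∧ (f.stalkMap x).hom.Flat} :=
  ⟨fun x => critere f g H x, isOpen_flat_locus f g⟩

end Scheme

end Groth.Agent.Lib.Helper23.FibreCritScheme
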