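/-
Helper library (helper23): near the generic point, all irreducible components of the fibres of a
dominant morphism of finite type between irreducible schemes have the dimension of the generic
fibre (EGA IV 9.5.6-like; via Chevalley's semicontinuity).
-/
import Mathlib
import Groth.Agent.S1618
import Groth.Agent.S0402
import Groth.Agent.Lib.Helper13.GenFibreDim

set_option autoImplicit false
universe u

namespace Groth.Agent.Lib.Helper23.FibreEquidim

open AlgebraicGeometry CategoryTheory Limits TopologicalSpace Topology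

variable {X Y : Scheme.{u}}

/-- Generic fibre dimension is attained over a nonempty open (no finiteness assumption). -/
theorem exists_open_forall_dim_fiber_eq (f : X ⟶ Y) [IrreducibleSpace ↑Y]
    [LocallyOfFiniteType f] [QuasiCompact f] :
    ∃ V : Y.Opens, (V : Set ↑Y).Nonempty ∧ ∀ y ∈ V,
      topologicalKrullDim ↑(f.fiber y) = topologicalKrullDim ↑(f.fiber (genericPoint ↑Y)) := by
  classical
  obtain ⟨W, hW, hηW, -⟩ := exists_isAffineOpen_mem_and_subset
    (x := genericPoint ↑Y) (U := ⊤) trivial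
  have hηr : genericPoint ↑Y ∈ Set.range hW.fromSpec := by
    rw [hW.range_fromSpec]; exact hηW
  obtain ⟨z₀, hz₀⟩ := hηr
  have hnil : z₀.asIdeal = nilradical Γ(Y, W) :=
    Groth.Agent.Lib.Helper13.GenFibre.asIdeal_eq_nilradical_of_fromSpec_eq hW z₀ hz₀
  have hp : (nilradical Γ(Y, W)).IsPrime := hnil ▸ z₀.isPrime
  have hqc : IsCompact ((f ⁻¹ᵁ W : X.Opens) : Set X) := f.isCompact_preimage hW.isCompact
  obtain ⟨s, hsfin, hs⟩ := isCompact_iff_finite_and_eq_biUnion_affineOpens.mp hqc
  have hle : ∀ U : s, (U.1 : X.Opens) ≤ f ⁻¹ᵁ W := fun U => by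
    rw [hs]
    exact le_iSup₂ (f := fun (i : X.affineOpens) (_ : i ∈ s) => (i : X.Opens)) U.1 U.2
  have hcov : ((f ⁻¹ᵁ W : X.Opens) : Set X) ⊆ ⋃ U : s, ((U.1 : X.Opens) : Set X) := by
    intro x hx
    have hx' : x ∈ (⨆ i ∈ s, (i : X.Opens) : X.Opens) := hs ▸ hx
    simp only [TopologicalSpace.Opens.mem_iSup] at hx'
    obtain ⟨i, hi, hxi⟩ := hx'
    exact Set.mem_iUnion.mpr ⟨⟨i, hi⟩, hxi⟩
  have key := fun z => Groth.Agent.Lib.Helper13.GenFibreDim.topologicalKrullDim_fiber_eq_iSup
    f hW z (fun U : s => (U.1 : X.Opens)) (fun U => U.1.2) hle hcov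
  choose a ha d hd using fun U : s =>
    Groth.Agent.Lib.Helper13.GenFibreDim.exists_forall_dim_chart_eq f hW U.1.2 (hle U) hp
  haveI : Fintype s := hsfin.fintype
  have hz₀a : ∀ U : s, a U ∉ z₀.asIdeal := fun U => hnil ▸ ha U
  have hn : (⨆ U : s, d U) = topologicalKrullDim ↑(f.fiber (genericPoint ↑Y)) := by
    rw [← hz₀, key z₀]
    exact iSup_congr fun U => (hd U z₀ (hz₀a U)).symm
  refine ⟨Y.basicOpen (∏ U : s, a U), ⟨genericPoint ↑Y, ?_⟩, ?_⟩
  · have : z₀ ∈ hW.fromSpec ⁻¹ᵁ Y.basicOpen (∏ U : s, a U) := by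
      rw [hW.fromSpec_preimage_basicOpen]
      show (∏ U : s, a U) ∉ z₀.asIdeal
      intro hmem
      obtain ⟨U, -, hU⟩ := (Ideal.IsPrime.prod_mem_iff).mp hmem
      exact hz₀a U hU
    have h2 : hW.fromSpec z₀ ∈ Y.basicOpen (∏ U : s, a U) := this
    rwa [hz₀] at h2
  · intro y hy
    have hyW : y ∈ W := Y.basicOpen_le _ hy
    let z : Spec Γ(Y, W) := hW.primeIdealOf ⟨y, hyW⟩
    have hzy : hW.fromSpec z = y := hW.fromSpec_primeIdealOf ⟨y, hyW⟩
    have haz : (∏ U : s, a U) ∉ z.asIdeal :=
      (Groth.Agent.Lib.Helper13.GenFibre.mem_basicOpen_iff_notMem_primeIdealOf hW _ y hyW).mp hy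
    have hza : ∀ U : s, a U ∉ z.asIdeal := fun U hU =>
      haz (Ideal.IsPrime.prod_mem_iff.mpr ⟨U, Finset.mem_univ _, hU⟩)
    rw [← hzy, key z, ← hn]
    exact iSup_congr fun U => hd U z (hza U)

/-- Fibres as schemes and as subspaces have the same dimension. -/
theorem dim_fiber_eq (f : X ⟶ Y) (y : Y) :
    topologicalKrullDim ↑(f.fiber y) = topologicalKrullDim ↥(⇑f ⁻¹' {y}) :=
  IsHomeomorph.topologicalKrullDim_eq _ (f.fiberHomeo y).isHomeomorph

/-- The local fibre dimension is at most the dimension of any open neighbourhood in the fibre. -/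
theorem fibreDimAt_le_of_isOpen (f : X ⟶ Y) (x : X) (O : Set ↥(⇑f ⁻¹' {f x})) (hO : IsOpen O)
    (hx : (⟨x, rfl⟩ : ↥(⇑f ⁻¹' {f x})) ∈ O) :
    FlatMor.fibreDimAt f x ≤ topologicalKrullDim ↥O := by
  unfold FlatMor.fibreDimAt FlatMor.localDim
  let O' : Opens ↑(f.fiber (f x)) := ⟨(f.fiberHomeo (f x)) ⁻¹' O, hO.preimage (f.fiberHomeo (f x)).continuous⟩
  have hxO' : f.asFiber x ∈ O' := by
    show (f.fiberHomeo (f x)) (f.asFiber x) ∈ O
    have : (f.fiberHomeo (f x)) (f.asFiber x) = ⟨x, rfl⟩ :=
      (f.fiberHomeo (f x)).apply_symm_apply _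
    rw [this]; exact hx
  refine (iInf_le _ (⟨O', hxO'⟩ : {U : Opens ↑(f.fiber (f x)) // f.asFiber x ∈ U})).trans ?_
  -- `O'` is homeomorphic to `O`
  let e : ↥(O' : Set ↑(f.fiber (f x))) ≃ₜ ↥O := (f.fiberHomeo (f x)).sets rfl
  exact (IsHomeomorph.topologicalKrullDim_eq _ e.isHomeomorph).le

/-- A nonempty space has nonnegative Krull dimension. -/
theorem topologicalKrullDim_nonneg {T : Type*} [TopologicalSpace T] [Nonempty T] :
    (0 : WithBot ℕ∞) ≤ topologicalKrullDim T := by
  obtain ⟨x⟩ := ‹Nonempty T›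
  haveI : Nonempty (IrreducibleCloseds T) :=
    ⟨⟨closure {x}, isIrreducible_singleton.closure, isClosed_closure⟩⟩
  exact Order.krullDim_nonneg

section Dominant

variable (f : X ⟶ Y) [IrreducibleSpace ↑Y] [IrreducibleSpace ↑X] [IsDominant f]

/-- A dominant morphism of irreducible schemes maps the generic point to the generic point. -/
theorem map_genericPoint : f (genericPoint ↑X) = genericPoint ↑Y := by
  have h1 : IsGenericPoint (f (genericPoint ↑X)) (closure (⇑f '' Set.univ)) :=
    (genericPoint_spec ↑X).image f.continuous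
  rw [Set.image_univ, f.denseRange.closure_range] at h1
  exact h1.eq (genericPoint_spec ↑Y)

omit [IrreducibleSpace ↑Y] [IsDominant f] in
/-- The fibre over the image of the generic point of the source is irreducible. -/
theorem irreducibleSpace_fiber_genericPoint :
    IrreducibleSpace ↑(f.fiber (f (genericPoint ↑X))) := by
  have hpre : PreirreducibleSpace ↥(⇑f ⁻¹' {f (genericPoint ↑X)}) := by
    constructor
    -- every nonempty open of the fibre contains the generic point of `X`
    intro U V hU hV ⟨u, _, hu⟩ ⟨v, _, hv⟩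
    obtain ⟨U', hU', rfl⟩ := isOpen_induced_iff.mp hU
    obtain ⟨V', hV', rfl⟩ := isOpen_induced_iff.mp hV
    have hξU : genericPoint ↑X ∈ U' :=
      ((genericPoint_spec ↑X).mem_open_set_iff hU').mpr ⟨u.1, trivial, hu⟩
    have hξV : genericPoint ↑X ∈ V' :=
      ((genericPoint_spec ↑X).mem_open_set_iff hV').mpr ⟨v.1, trivial, hv⟩
    exact ⟨⟨genericPoint ↑X, rfl⟩, trivial, hξU, hξV⟩
  haveI : Nonempty ↥(⇑f ⁻¹' {f (genericPoint ↑X)}) := ⟨⟨genericPoint ↑X, rfl⟩⟩
  haveI : IrreducibleSpace ↥(⇑f ⁻¹' {f (genericPoint ↑X)}) := { hpre with toNonempty := inferInstance }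
  exact (f.fiberHomeo (f (genericPoint ↑X))).irreducibleSpace_iff.mpr inferInstance

variable [LocallyOfFiniteType f]

omit [IrreducibleSpace ↑Y] [IsDominant f] in
/-- The local fibre dimension at the generic point of the source is the dimension of the generic
fibre. -/
theorem fibreDimAt_genericPoint :
    FlatMor.fibreDimAt f (genericPoint ↑X) =
      topologicalKrullDim ↑(f.fiber (f (genericPoint ↑X))) := by
  unfold FlatMor.fibreDimAt FlatMor.localDim
  haveI := irreducibleSpace_fiber_genericPoint f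
  letI : (f.fiber (f (genericPoint ↑X))).Over
      (Spec (CommRingCat.of ↑(Y.residueField (f (genericPoint ↑X))))) :=
    ⟨f.fiberToSpecResidueField (f (genericPoint ↑X))⟩
  haveI : LocallyOfFiniteType ((f.fiber (f (genericPoint ↑X))) ↘
      (Spec (CommRingCat.of ↑(Y.residueField (f (genericPoint ↑X)))))) :=
    inferInstanceAs (LocallyOfFiniteType
      (pullback.snd f (Y.fromSpecResidueField (f (genericPoint ↑X)))))
  have hconst : ∀ U : {U : Opens ↑(f.fiber (f (genericPoint ↑X))) //
      f.asFiber (genericPoint ↑X) ∈ U},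
      topologicalKrullDim ↥(U.1 : Set ↑(f.fiber (f (genericPoint ↑X)))) =
        topologicalKrullDim ↑(f.fiber (f (genericPoint ↑X))) := fun U =>
    Groth.Agent.S1618.result (Y.residueField (f (genericPoint ↑X)))
      (f.fiber (f (genericPoint ↑X))) U.1 ⟨_, U.2⟩
  haveI : Nonempty {U : Opens ↑(f.fiber (f (genericPoint ↑X))) //
      f.asFiber (genericPoint ↑X) ∈ U} := ⟨⟨⊤, trivial⟩⟩
  simp only [hconst, iInf_const]

omit [IrreducibleSpace ↑Y] [IsDominant f] in
/-- **Chevalley**: every local fibre dimension is at least the dimension of the generic fibre. -/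
theorem dim_generic_fiber_le_fibreDimAt (x : X) :
    topologicalKrullDim ↑(f.fiber (f (genericPoint ↑X))) ≤ FlatMor.fibreDimAt f x := by
  by_contra hlt
  rw [not_le] at hlt
  -- the local dimension is a natural number
  have hne_top : FlatMor.fibreDimAt f x ≠ ⊤ := ne_top_of_lt hlt
  have hge : (0 : WithBot ℕ∞) ≤ FlatMor.fibreDimAt f x := by
    unfold FlatMor.fibreDimAt FlatMor.localDim
    refine le_iInf fun U => ?_
    haveI : Nonempty ↥(U.1 : Set ↑(f.fiber (f x))) := ⟨⟨_, U.2⟩⟩
    exact topologicalKrullDim_nonneg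
  obtain ⟨m, hm⟩ : ∃ m : ℕ, FlatMor.fibreDimAt f x = m := by
    cases h : FlatMor.fibreDimAt f x with
    | bot => rw [h] at hge; exact absurd hge (by simp)
    | coe v =>
      cases v with
      | top => exact absurd h hne_top
      | coe m => exact ⟨m, rfl⟩
  have hopen := Groth.Agent.S0402.result f m
  have hξ : genericPoint ↑X ∈ {x : X | FlatMor.fibreDimAt f x ≤ m} :=
    ((genericPoint_spec ↑X).mem_open_set_iff hopen).mpr ⟨x, trivial, hm.le⟩
  have h1 : FlatMor.fibreDimAt f (genericPoint ↑X) ≤ m := hξ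
  rw [fibreDimAt_genericPoint, ← hm] at h1
  exact absurd hlt (not_lt.mpr h1)

end Dominant

/-- In a Noetherian space every irreducible component contains a nonempty open subset. -/
theorem exists_open_subset_of_mem_irreducibleComponents {F : Type*} [TopologicalSpace F]
    [NoetherianSpace F] (T : Set F) (hT : T ∈ irreducibleComponents F) :
    ∃ O : Set F, IsOpen O ∧ O.Nonempty ∧ O ⊆ T := by
  classical
  have hfin : (irreducibleComponents F).Finite := NoetherianSpace.finite_irreducibleComponents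
  let others : Set (Set F) := irreducibleComponents F \ {T}
  have hofin : others.Finite := hfin.subset Set.sdiff_subset
  have hclosed : IsClosed (⋃₀ others) := by
    rw [Set.sUnion_eq_biUnion]
    exact hofin.isClosed_biUnion fun Z hZ => isClosed_of_mem_irreducibleComponents Z hZ.1
  refine ⟨(⋃₀ others)ᶜ, hclosed.isOpen_compl, ?_, ?_⟩
  · by_contra hemp
    rw [Set.not_nonempty_iff_eq_empty, Set.compl_empty_iff] at hemp
    have hTsub : T ⊆ ⋃₀ others := hemp ▸ Set.subset_univ T
    obtain ⟨Z, hZ, hTZ⟩ := (isIrreducible_iff_sUnion_isClosed.mp hT.1) hofin.toFinset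
      (fun Z hZ => isClosed_of_mem_irreducibleComponents Z (hofin.mem_toFinset.mp hZ).1)
      (by simpa using hTsub)
    have hZ' := hofin.mem_toFinset.mp hZ
    have : T = Z := le_antisymm hTZ (hT.2 hZ'.1.1 hTZ)
    exact hZ'.2 this.symm
  · intro x hx
    by_contra hxT
    apply hx
    refine ⟨irreducibleComponent x, ⟨irreducibleComponent_mem_irreducibleComponents x, ?_⟩,
      mem_irreducibleComponent⟩
    rintro (h : irreducibleComponent x = T)
    exact hxT (h ▸ mem_irreducibleComponent)

/-- **Equidimensionality of the fibres near the generic point.** -/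
theorem exists_open_forall_irreducibleComponents_dim_eq {X S : Scheme.{u}} (f : X ⟶ S)
    [IsNoetherian S] [IrreducibleSpace S] [IrreducibleSpace X] [IsDominant f]
    [LocallyOfFiniteType f] [QuasiCompact f] :
    ∃ U : S.Opens, genericPoint S ∈ U ∧ ∀ s ∈ U, ∀ T ∈ irreducibleComponents ↥(⇑f ⁻¹' {s}),
      topologicalKrullDim ↥T = topologicalKrullDim ↥(⇑f ⁻¹' {genericPoint S}) := by
  obtain ⟨V, ⟨v, hv⟩, hV⟩ := exists_open_forall_dim_fiber_eq f
  have hηV : genericPoint S ∈ V :=
    ((genericPoint_spec S).mem_open_set_iff V.isOpen).mpr ⟨v, trivial, hv⟩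
  have hξ := map_genericPoint f
  haveI : IsLocallyNoetherian X := LocallyOfFiniteType.isLocallyNoetherian f
  haveI : CompactSpace X := QuasiCompact.compactSpace_of_compactSpace f
  haveI : IsNoetherian X := {}
  refine ⟨V, hηV, fun s hs T hT => le_antisymm ?_ ?_⟩
  · calc topologicalKrullDim ↥T ≤ topologicalKrullDim ↥(⇑f ⁻¹' {s}) :=
          topologicalKrullDim_subspace_le _ T
      _ = topologicalKrullDim ↑(f.fiber s) := (dim_fiber_eq f s).symm
      _ = topologicalKrullDim ↑(f.fiber (genericPoint S)) := hV s hs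
      _ = topologicalKrullDim ↥(⇑f ⁻¹' {genericPoint S}) := dim_fiber_eq f _
  · obtain ⟨O, hO, ⟨⟨x₀, hx₀⟩, hxO⟩, hOT⟩ := exists_open_subset_of_mem_irreducibleComponents T hT
    have hx₀' : f x₀ = s := hx₀
    subst hx₀'
    calc topologicalKrullDim ↥(⇑f ⁻¹' {genericPoint S})
        = topologicalKrullDim ↑(f.fiber (genericPoint S)) := (dim_fiber_eq f _).symm
      _ = topologicalKrullDim ↑(f.fiber (f (genericPoint ↑X))) := by rw [hξ]
      _ ≤ FlatMor.fibreDimAt f x₀ := dim_generic_fiber_le_fibreDimAt f x₀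
      _ ≤ topologicalKrullDim ↥O := fibreDimAt_le_of_isOpen f x₀ O hO hxO
      _ ≤ topologicalKrullDim ↥T :=
          (Topology.IsEmbedding.inclusion hOT).isInducing.topologicalKrullDim_le

end Groth.Agent.Lib.Helper23.FibreEquidim
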