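/-
Helper library (helper23): the projection from a cofiltered limit of schemes (affine transition
maps) to a stage is flat if all transition maps to that stage are flat.
-/
import Mathlib
import Groth.Agent.Lib.Helper23.BaseChangeLim

set_option autoImplicit false
universe u
open CategoryTheory AlgebraicGeometry Limits

namespace Groth.Agent.Lib.Helper23

section Algebra

/-- A ring that is a "directed colimit" of flat `R`-algebras is flat over `R` (equational
criterion). -/
theorem RingHom.flat_of_directed_flat {R B : Type*} [CommRing R] [CommRing B] (ρ : R →+* B)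
    {𝒥 : Type*} (Bj : 𝒥 → Type*) [∀ j, CommRing (Bj j)] (ρj : ∀ j, R →+* Bj j)
    (uj : ∀ j, Bj j →+* B) (hu : ∀ j, (uj j).comp (ρj j) = ρ) (hflat : ∀ j, (ρj j).Flat)
    (hsurj : ∀ (l : ℕ) (x : Fin l → B), ∃ j, ∃ y : Fin l → Bj j, ∀ a, uj j (y a) = x a)
    (hinj : ∀ j (z : Bj j), uj j z = 0 →
      ∃ k, ∃ t : Bj j →+* Bj k, t.comp (ρj j) = ρj k ∧ (uj k).comp t = uj j ∧ t z = 0) :
    ρ.Flat := by
  let _ := ρ.toAlgebra
  change Module.Flat R B
  apply Module.Flat.of_forall_isTrivialRelation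
  intro l f x hfx
  obtain ⟨j, y, hy⟩ := hsurj l x
  have hρ : ∀ r : R, algebraMap R B r = ρ r := fun r => rfl
  have hz : uj j (∑ a, ρj j (f a) * y a) = 0 := by
    rw [map_sum, ← hfx]
    refine Finset.sum_congr rfl fun a _ => ?_
    rw [map_mul, hy, Algebra.smul_def, hρ, ← hu j, RingHom.comp_apply]
  obtain ⟨k, t, ht1, ht2, ht3⟩ := hinj j _ hz
  let _ := (ρj k).toAlgebra
  have hρk : ∀ r : R, algebraMap R (Bj k) r = ρj k r := fun r => rfl
  have hfl : Module.Flat R (Bj k) := hflat k
  have hrel : ∑ a, f a • t (y a) = 0 := by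
    rw [← ht3, map_sum]
    refine Finset.sum_congr rfl fun a _ => ?_
    rw [map_mul, Algebra.smul_def, hρk, ← ht1, RingHom.comp_apply]
  obtain ⟨n, a, w, h1, h2⟩ := Module.Flat.isTrivialRelation_of_sum_smul_eq_zero (R := R)
    (M := Bj k) (f := f) (x := fun a => t (y a)) hrel
  refine ⟨n, a, fun l => uj k (w l), ?_, h2⟩
  intro i
  have h3 : x i = uj k (t (y i)) := by
    rw [← RingHom.comp_apply, ht2, hy]
  have h4 : t (y i) = ∑ j, a i j • w j := h1 i
  rw [h3, h4, map_sum]
  refine Finset.sum_congr rfl fun l _ => ?_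
  rw [Algebra.smul_def, Algebra.smul_def, map_mul, hρk, hρ, ← hu k, RingHom.comp_apply]

end Algebra

section Affine

variable {J : Type u} [Category.{u} J] [IsCofiltered J] (𝒟 : J ⥤ Scheme.{u}) (c : Cone 𝒟)
  (hc : IsLimit c) [∀ j, IsAffine (𝒟.obj j)]

include hc in
/-- Affine case: the projection to a stage `t` is flat if all transition maps to `t` are. -/
theorem flat_π_app_of_isAffine (t : J) (hf : ∀ (j : J) (φ : j ⟶ t), Flat (𝒟.map φ)) :
    Flat (c.π.app t) := by
  classical
  have hcaff : IsAffine c.pt := Scheme.isAffine_of_isLimit c hc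
  have hcaff' : IsAffine (((Functor.const J).obj c.pt).obj t) := hcaff
  rw [HasRingHomProperty.iff_of_isAffine (P := @Flat)]
  refine RingHom.flat_of_directed_flat (c.π.app t).appTop.hom
    (𝒥 := Σ j : J, (j ⟶ t)) (fun p => Γ(𝒟.obj p.1, ⊤)) (fun p => (𝒟.map p.2).appTop.hom)
    (fun p => (c.π.app p.1).appTop.hom) ?_ ?_ ?_ ?_
  · rintro ⟨j, φ⟩
    rw [← CommRingCat.hom_comp, ← Scheme.Hom.comp_appTop, c.w]
  · rintro ⟨j, φ⟩
    have := hf j φ
    exact (HasRingHomProperty.iff_of_isAffine (P := @Flat)).mp inferInstance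
  · intro l x
    choose j y hy using fun a => exists_appTop_π_eq_of_isAffine_of_isLimit 𝒟 c hc (x a)
    obtain ⟨k, hk⟩ := IsCofiltered.inf_objs_exists (insert t (Finset.univ.image j))
    have φ : k ⟶ t := (hk (Finset.mem_insert_self _ _)).some
    have ψ : ∀ a, k ⟶ j a := fun a =>
      (hk (Finset.mem_insert_of_mem (Finset.mem_image_of_mem j (Finset.mem_univ a)))).some
    refine ⟨⟨k, φ⟩, fun a => (𝒟.map (ψ a)).appTop.hom (y a), fun a => ?_⟩
    change ((c.π.app k).appTop.hom) ((𝒟.map (ψ a)).appTop.hom (y a)) = x a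
    rw [← RingHom.comp_apply, ← CommRingCat.hom_comp, ← Scheme.Hom.comp_appTop, c.w]
    exact hy a
  · rintro ⟨j, φ⟩ z hz
    obtain ⟨k, f, hk⟩ := exists_appTop_map_eq_zero_of_isAffine_of_isLimit 𝒟 c hc j z hz
    refine ⟨⟨k, f ≫ φ⟩, (𝒟.map f).appTop.hom, ?_, ?_, hk⟩
    · change (𝒟.map f).appTop.hom.comp (𝒟.map φ).appTop.hom = (𝒟.map (f ≫ φ)).appTop.hom
      rw [← CommRingCat.hom_comp, ← Scheme.Hom.comp_appTop, ← 𝒟.map_comp]
    · change (c.π.app k).appTop.hom.comp (𝒟.map f).appTop.hom = (c.π.app j).appTop.hom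
      rw [← CommRingCat.hom_comp, ← Scheme.Hom.comp_appTop, c.w]

end Affine

section General

variable {I : Type u} [Category.{u} I] [IsCofiltered I] (D : I ⥤ Scheme.{u}) (c : Cone D)
  (hc : IsLimit c) [∀ {i j : I} (f : i ⟶ j), IsAffineHom (D.map f)]

include hc in
/-- The projection from the limit to a stage `i` is flat if all transition maps to `i` are. -/
theorem flat_π_app (i : I) (hf : ∀ (j : I) (φ : j ⟶ i), Flat (D.map φ)) : Flat (c.π.app i) := by
  rw [IsZariskiLocalAtTarget.iff_of_openCover (P := @Flat) (D.obj i).affineCover]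
  intro a
  let g₀ := (D.obj i).affineCover.f a
  change Flat (bcPtSnd D c i g₀)
  let t : Over i := Over.mk (𝟙 i)
  have haff : ∀ j : Over i, IsAffine ((bcDiagram D i g₀).obj j) := by
    intro j
    have h1 : IsAffineHom (bcSnd D i g₀ j) :=
      MorphismProperty.of_isPullback (P := @IsAffineHom) (isPullback_bcObj D i g₀ j) inferInstance
    exact isAffine_of_isAffineHom (bcSnd D i g₀ j)
  have hf' : ∀ (j : Over i) (φ : j ⟶ t), Flat ((bcDiagram D i g₀).map φ) := by
    intro j φ
    have := hf j.left φ.left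
    exact MorphismProperty.of_isPullback (P := @Flat) (isPullback_bcDiagram_map D i g₀ φ)
      inferInstance
  have h2 : Flat ((bcCone D c i g₀).π.app t) :=
    flat_π_app_of_isAffine (bcDiagram D i g₀) (bcCone D c i g₀) (isLimitBcCone D c i g₀ hc) t hf'
  have hiso : IsIso (bcSnd D i g₀ t) := by
    have h5 : IsIso (D.map t.hom) := by
      change IsIso (D.map (𝟙 i))
      infer_instance
    exact MorphismProperty.of_isPullback (P := MorphismProperty.isomorphisms Scheme)
      (isPullback_bcObj D i g₀ t) h5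
  rw [← bcCone_π_snd D c i g₀ t]
  infer_instance

end General

end Groth.Agent.Lib.Helper23
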