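import Mathlib

set_option autoImplicit false
universe u
open CategoryTheory AlgebraicGeometry

namespace Groth.Agent.Lib.Helper23

/-- On an integral scheme whose local rings are all integrally closed, the ring of sections over a
nonempty affine open is integrally closed. -/
theorem isIntegrallyClosed_of_isAffineOpen {Y : Scheme.{u}} [IsIntegral Y]
    (hN : ∀ y : Y, IsIntegrallyClosed (Y.presheaf.stalk y)) {U : Y.Opens} (hU : IsAffineOpen U)
    [Nonempty U] : IsIntegrallyClosed Γ(Y, U) := by
  exact @IsIntegrallyClosed.of_isLocalization_maximal Γ(Y, U) _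
    (fun P hP => Y.presheaf.stalk (hU.fromSpec ⟨P, hP.isPrime⟩)) (fun P hP => inferInstance)
    (fun P hP => TopCat.Presheaf.algebra_section_stalk Y.presheaf ⟨_, (hU.isoSpec.inv _).2⟩)
    (fun P hP => hU.isLocalization_stalk' ⟨P, hP.isPrime⟩ (hU.isoSpec.inv _).2) _
    (fun P hP => hN _)

end Groth.Agent.Lib.Helper23
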