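/-
Helper library (helper23): birational integral / quasi-finite morphisms onto normal integral
schemes (consequences of Zariski's main theorem in Mathlib).
-/
import Mathlib
import Groth.Agent.Lib.Helper23.NormalAffine

set_option autoImplicit false
universe u
open CategoryTheory AlgebraicGeometry

namespace Groth.Agent.Lib.Helper23

/-- Ring-level core: an integral ring map from an integrally closed domain `A` into a ring `B`
which becomes an isomorphism on "function fields" is bijective. -/
theorem bijective_of_integral_of_birational' {A B K K' : Type*} [CommRing A] [CommRing B]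
    [CommRing K] [CommRing K'] [Algebra A K] [IsFractionRing A K] [IsIntegrallyClosed A]
    (φ : A →+* B) (hφ : φ.IsIntegral) (ι' : B →+* K') (hι' : Function.Injective ι')
    (σ : K →+* K') (hσ : Function.Bijective σ)
    (hcomm : ∀ a, σ (algebraMap A K a) = ι' (φ a)) : Function.Bijective φ := by
  constructor
  · rw [injective_iff_map_eq_zero]
    intro a ha
    have h1 : σ (algebraMap A K a) = 0 := by rw [hcomm, ha, map_zero]
    have h2 : algebraMap A K a = 0 := hσ.1 (by rw [h1, map_zero])
    exact (IsFractionRing.injective A K) (by rw [h2, map_zero])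
  · intro b
    obtain ⟨k, hk⟩ := hσ.2 (ι' b)
    have hint : IsIntegral A k := by
      obtain ⟨p, hp, hpb⟩ := hφ b
      refine ⟨p, hp, hσ.1 ?_⟩
      rw [map_zero, Polynomial.hom_eval₂, hk]
      have : σ.comp (algebraMap A K) = ι'.comp φ := RingHom.ext hcomm
      rw [this, ← Polynomial.hom_eval₂, hpb, map_zero]
    obtain ⟨a, ha⟩ := IsIntegrallyClosed.algebraMap_eq_of_integral hint
    refine ⟨a, hι' ?_⟩
    rw [← hcomm, ha, hk]

/-- An integral birational morphism of integral schemes onto a normal scheme is an
isomorphism. -/
theorem isIso_of_isIntegralHom_birational_of_normal {Y' Y : Scheme.{u}} [IsIntegral Y']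
    [IsIntegral Y]
    (hN : ∀ y : Y, IsIntegrallyClosed (Y.presheaf.stalk y)) (u : Y' ⟶ Y) [IsIntegralHom u]
    (hgen : u (genericPoint Y') = genericPoint Y)
    (hbir : IsIso (u.stalkMap (genericPoint Y'))) : IsIso u := by
  refine IsZariskiLocalAtTarget.of_iSup_eq_top (P := MorphismProperty.isomorphisms Scheme)
    (fun U : Y.affineOpens => (U : Y.Opens)) (iSup_affineOpens_eq_top Y) ?_
  intro U
  have hU : IsAffineOpen (U : Y.Opens) := U.2
  change IsIso (u ∣_ (U : Y.Opens))
  rw [isIso_morphismRestrict_iff_isIso_app u hU, ConcreteCategory.isIso_iff_bijective]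
  by_cases hne : Nonempty (U : Y.Opens)
  · have hgU : genericPoint Y ∈ (U : Y.Opens) :=
      ((genericPoint_spec Y).mem_open_set_iff (U : Y.Opens).isOpen).mpr (by simpa using hne)
    have hgU' : u (genericPoint Y') ∈ (U : Y.Opens) := hgen ▸ hgU
    have : IsIntegrallyClosed Γ(Y, (U : Y.Opens)) := isIntegrallyClosed_of_isAffineOpen hN hU
    let : Algebra Γ(Y, (U : Y.Opens)) (Y.presheaf.stalk (u (genericPoint Y'))) :=
      (Y.presheaf.germ (U : Y.Opens) (u (genericPoint Y')) hgU').hom.toAlgebra
    have : IsFractionRing Γ(Y, (U : Y.Opens)) (Y.presheaf.stalk (u (genericPoint Y'))) := by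
      have key : ∀ (y : Y) (_ : y = genericPoint Y) (hyU : y ∈ (U : Y.Opens)),
          @IsFractionRing Γ(Y, (U : Y.Opens)) _ (Y.presheaf.stalk y) _
            (Y.presheaf.germ (U : Y.Opens) y hyU).hom.toAlgebra := by
        rintro y rfl hyU
        exact functionField_isFractionRing_of_isAffineOpen Y (U : Y.Opens) hU
      exact key _ hgen hgU'
    refine bijective_of_integral_of_birational' (K := Y.presheaf.stalk (u (genericPoint Y')))
      (K' := Y'.presheaf.stalk (genericPoint Y')) (u.app (U : Y.Opens)).hom
      (IsIntegralHom.isIntegral_app u _ hU)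
      (Y'.presheaf.germ (u ⁻¹ᵁ (U : Y.Opens)) (genericPoint Y') hgU').hom
      (germ_injective_of_isIntegral Y' _ _) (u.stalkMap (genericPoint Y')).hom
      ((ConcreteCategory.isIso_iff_bijective _).mp hbir) ?_
    intro a
    exact Scheme.Hom.germ_stalkMap_apply u (U : Y.Opens) (genericPoint Y') hgU' a
  · have hbot : (U : Y.Opens) = ⊥ := by
      ext x
      simp only [TopologicalSpace.Opens.coe_bot, Set.mem_empty_iff_false, iff_false]
      exact fun hx => hne ⟨⟨x, hx⟩⟩
    rw [hbot]
    have h1 : Subsingleton Γ(Y, ⊥) := inferInstance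
    have h2 : Subsingleton Γ(Y', u ⁻¹ᵁ ⊥) := by
      have : u ⁻¹ᵁ (⊥ : Y.Opens) = ⊥ := rfl
      rw [this]; infer_instance
    exact ⟨fun a b _ => Subsingleton.elim _ _, fun b => ⟨0, Subsingleton.elim _ _⟩⟩

/-- **Lemma A**: a separated quasi-compact locally quasi-finite birational morphism of integral
schemes onto a normal scheme is an open immersion (Zariski's main theorem). -/
theorem isOpenImmersion_of_birational_quasiFinite_of_normal {X Y : Scheme.{u}} [IsIntegral X]
    [IsIntegral Y] (hN : ∀ y : Y, IsIntegrallyClosed (Y.presheaf.stalk y)) (f : X ⟶ Y)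
    [LocallyQuasiFinite f] [LocallyOfFiniteType f] [IsSeparated f] [QuasiCompact f]
    (hgen : f (genericPoint X) = genericPoint Y)
    (hbir : IsIso (f.stalkMap (genericPoint X))) : IsOpenImmersion f := by
  have hoi : IsOpenImmersion f.toNormalization := inferInstance
  have hdom : IsDominant f.toNormalization := inferInstance
  have hgenN : f.toNormalization (genericPoint X) = genericPoint f.normalization :=
    genericPoint_eq_of_isOpenImmersion f.toNormalization
  have hfac := f.toNormalization_fromNormalization
  have hgen' : f.fromNormalization (genericPoint f.normalization) = genericPoint Y := by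
    rw [← hgenN, ← Scheme.Hom.comp_apply, hfac, hgen]
  have hbir1 : IsIso ((f.toNormalization ≫ f.fromNormalization).stalkMap (genericPoint X)) := by
    rw [hfac]; exact hbir
  rw [Scheme.Hom.stalkMap_comp] at hbir1
  have hbir2 : IsIso (f.fromNormalization.stalkMap (f.toNormalization (genericPoint X))) :=
    @IsIso.of_isIso_comp_right _ _ _ _ _
      (f.fromNormalization.stalkMap (f.toNormalization (genericPoint X)))
      (f.toNormalization.stalkMap (genericPoint X)) inferInstance hbir1
  have hbir' : IsIso (f.fromNormalization.stalkMap (genericPoint f.normalization)) := by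
    have key : ∀ (z : f.normalization), z = genericPoint f.normalization →
        IsIso (f.fromNormalization.stalkMap z) →
        IsIso (f.fromNormalization.stalkMap (genericPoint f.normalization)) := by
      rintro z rfl h; exact h
    exact key _ hgenN hbir2
  have hiso : IsIso f.fromNormalization :=
    isIso_of_isIntegralHom_birational_of_normal hN f.fromNormalization hgen' hbir'
  rw [← hfac]
  infer_instance

end Groth.Agent.Lib.Helper23

namespace Groth.Agent.Lib.Helper23

/-- The underlying point of the generic point of a nonempty open subscheme of an irreducible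
scheme is the generic point of the ambient scheme. -/
theorem genericPoint_opens_val {X : Scheme.{u}} [IrreducibleSpace X] (U : X.Opens) [Nonempty U]
    [IrreducibleSpace (U : Scheme.{u})] :
    (genericPoint (U : Scheme.{u})).1 = genericPoint X :=
  genericPoint_eq_of_isOpenImmersion U.ι

/-- **Lemma B**: restriction of a birational quasi-finite morphism onto a normal scheme to opens
`U ⊆ f⁻¹ V` such that the restriction is separated and quasi-compact is an open immersion. -/
theorem isOpenImmersion_resLE_of_birational {X Y : Scheme.{u}} [IsIntegral X] [IsIntegral Y]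
    (hN : ∀ y : Y, IsIntegrallyClosed (Y.presheaf.stalk y)) (f : X ⟶ Y) [LocallyQuasiFinite f]
    [LocallyOfFiniteType f] (hgen : f (genericPoint X) = genericPoint Y)
    (hbir : IsIso (f.stalkMap (genericPoint X)))
    (V : Y.Opens) (U : X.Opens) (e : U ≤ f ⁻¹ᵁ V) [Nonempty U]
    [IsSeparated (f.resLE V U e)] [QuasiCompact (f.resLE V U e)] :
    IsOpenImmersion (f.resLE V U e) := by
  have : Nonempty V := by
    obtain ⟨x⟩ := ‹Nonempty U›
    exact ⟨⟨f x.1, e x.2⟩⟩
  have hNV : ∀ v : (V : Scheme.{u}), IsIntegrallyClosed ((V : Scheme.{u}).presheaf.stalk v) := by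
    intro v
    have := hN v.1
    exact IsIntegrallyClosed.of_equiv (V.stalkIso v).symm.commRingCatIsoToRingEquiv
  have hU1 : (genericPoint (U : Scheme.{u})).1 = genericPoint X := genericPoint_opens_val U
  have hV1 : (genericPoint (V : Scheme.{u})).1 = genericPoint Y := genericPoint_opens_val V
  have hgen' : f.resLE V U e (genericPoint (U : Scheme.{u})) = genericPoint (V : Scheme.{u}) := by
    apply Subtype.ext
    rw [Scheme.Hom.coe_resLE_apply, hU1, hgen, hV1]
  have hbir' : IsIso ((f.resLE V U e).stalkMap (genericPoint (U : Scheme.{u}))) := by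
    have h := (MorphismProperty.isomorphisms CommRingCat).arrow_mk_iso_iff
      (Scheme.Hom.resLEStalkMap f e (genericPoint (U : Scheme.{u})))
    refine h.mpr ?_
    have key : ∀ (z : X), z = genericPoint X → IsIso (f.stalkMap z) := by
      rintro z rfl; exact hbir
    exact key _ hU1
  exact isOpenImmersion_of_birational_quasiFinite_of_normal hNV (f.resLE V U e) hgen' hbir'

end Groth.Agent.Lib.Helper23
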