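/-
Helper library (helper23): for a homomorphism `ψ : O → S'` of Noetherian local rings whose kernel
contains a power of the maximal ideal, some `ψ⁻¹(𝔪_{S'}^m)` equals the kernel.
-/
import Mathlib
import Groth.Agent.H76.LocalFamilyFlatNoeth

set_option autoImplicit false
universe u

namespace Groth.Agent.Lib.Helper23.AdicKer

theorem exists_comap_pow_le_ker {O S' : Type u} [CommRing O] [IsLocalRing O] [IsNoetherianRing O]
    [CommRing S'] [IsLocalRing S'] [IsNoetherianRing S'] (ψ : O →+* S')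
    (hk : ∃ k, IsLocalRing.maximalIdeal O ^ k ≤ RingHom.ker ψ) :
    ∃ m : ℕ, (IsLocalRing.maximalIdeal S' ^ m).comap ψ ≤ RingHom.ker ψ := by
  have h1 : RingHom.ker ψ ≠ ⊤ := RingHom.ker_ne_top ψ
  let 𝒯 : Set (Ideal O) := Set.range fun m : ℕ => (IsLocalRing.maximalIdeal S' ^ m).comap ψ
  obtain ⟨T₀, ⟨m₀, rfl⟩, hmin⟩ :=
    Groth.Agent.H76.LocalFamilyFlatNoeth.exists_minimal_of_le (RingHom.ker ψ) h1 hk 𝒯
      ⟨_, ⟨0, rfl⟩⟩ (by
        rintro _ ⟨m, rfl⟩ a ha
        rw [Ideal.mem_comap, RingHom.mem_ker.mp ha]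
        exact zero_mem _)
  refine ⟨m₀, ?_⟩
  have hall : ∀ m, (IsLocalRing.maximalIdeal S' ^ m₀).comap ψ ≤
      (IsLocalRing.maximalIdeal S' ^ m).comap ψ := by
    intro m
    rcases le_total m m₀ with h | h
    · exact Ideal.comap_mono (Ideal.pow_le_pow_right h)
    · have hle : (IsLocalRing.maximalIdeal S' ^ m).comap ψ ≤
          (IsLocalRing.maximalIdeal S' ^ m₀).comap ψ := Ideal.comap_mono (Ideal.pow_le_pow_right h)
      have hnlt := hmin _ ⟨m, rfl⟩
      exact (eq_of_le_of_not_lt hle hnlt).ge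
  intro a ha
  rw [RingHom.mem_ker]
  have hmem : ψ a ∈ ⨅ m : ℕ, IsLocalRing.maximalIdeal S' ^ m := by
    rw [Ideal.mem_iInf]
    intro m
    exact hall m ha
  rw [Ideal.iInf_pow_eq_bot_of_isLocalRing _ (Ideal.IsPrime.ne_top inferInstance)] at hmem
  exact hmem

end Groth.Agent.Lib.Helper23.AdicKer
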