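import Mathlib

/-!
# Directed systems of rings with a colimit, element-wise (helper23)

`RingSys J`: rings `B K` (`K : J`), transition maps `tr a : B K → B K'` for `a : K' ⟶ K`, a ring
`L` with maps `p K : B K → L`, such that every element of `L` comes from some stage and two
elements of a stage with the same image in `L` become equal at a later stage.

For `J` cofiltered: finite lists of elements of `L` descend to a stage (`exists_list`), membership
in a finitely generated ideal descends (`mem_descends`), inclusions and equalities of finitely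
generated ideals descend (`le_descends`, `eq_descends`).
-/

set_option autoImplicit false
universe u v

open CategoryTheory

namespace Groth.Agent.Lib.Helper23

/-- A directed system of commutative rings together with its "colimit", element-wise. -/
structure RingSys (J : Type u) [Category.{v} J] where
  /-- the stages -/
  B : J → Type u
  /-- the ring structures -/
  ringB : ∀ K, CommRing (B K)
  /-- the colimit -/
  L : Type u
  /-- its ring structure -/
  ringL : CommRing L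
  /-- transition maps -/
  tr : ∀ {K' K : J} (_ : K' ⟶ K), B K →+* B K'
  /-- maps to the colimit -/
  p : ∀ K, B K →+* L
  p_tr : ∀ {K' K : J} (a : K' ⟶ K) (x : B K), p K' (tr a x) = p K x
  tr_tr : ∀ {K'' K' K : J} (a : K'' ⟶ K') (b : K' ⟶ K) (x : B K), tr a (tr b x) = tr (a ≫ b) x
  surj : ∀ s : L, ∃ (K : J) (t : B K), p K t = s
  inj : ∀ (K : J) (s t : B K), p K s = p K t → ∃ (K' : J) (a : K' ⟶ K), tr a s = tr a t

attribute [instance] RingSys.ringB RingSys.ringL

namespace RingSys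

variable {J : Type u} [Category.{v} J] (R : RingSys J)

theorem map_p_map_tr {K' K : J} (a : K' ⟶ K) (l : List (R.B K)) :
    (l.map (R.tr a)).map (R.p K') = l.map (R.p K) := by
  rw [List.map_map]
  congr 1
  ext x
  exact R.p_tr a x

theorem map_tr_map_tr {K'' K' K : J} (a : K'' ⟶ K') (b : K' ⟶ K) (l : List (R.B K)) :
    (l.map (R.tr b)).map (R.tr a) = l.map (R.tr (a ≫ b)) := by
  rw [List.map_map]
  congr 1
  ext x
  exact R.tr_tr a b x

theorem mem_ofList_map {K' K : J} (a : K' ⟶ K) {x : R.B K} {l : List (R.B K)}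
    (h : x ∈ Ideal.ofList l) : R.tr a x ∈ Ideal.ofList (l.map (R.tr a)) := by
  rw [← Ideal.map_ofList]
  exact Ideal.mem_map_of_mem _ h

theorem ofList_le_map {K' K : J} (a : K' ⟶ K) {l₁ l₂ : List (R.B K)}
    (h : Ideal.ofList l₁ ≤ Ideal.ofList l₂) :
    Ideal.ofList (l₁.map (R.tr a)) ≤ Ideal.ofList (l₂.map (R.tr a)) := by
  rw [← Ideal.map_ofList, ← Ideal.map_ofList]
  exact Ideal.map_mono h

variable [IsCofiltered J]

theorem exists_over (K₀ : J) (s : R.L) : ∃ (K : J) (_ : K ⟶ K₀) (t : R.B K), R.p K t = s := by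
  obtain ⟨K₁, t, ht⟩ := R.surj s
  obtain ⟨K, a, b, -⟩ := IsCofilteredOrEmpty.cone_objs K₀ K₁
  exact ⟨K, a, R.tr b t, (R.p_tr b t).trans ht⟩

theorem exists_list (K₀ : J) :
    ∀ l : List R.L, ∃ (K : J) (_ : K ⟶ K₀) (l' : List (R.B K)), l'.map (R.p K) = l
  | [] => ⟨K₀, 𝟙 K₀, [], rfl⟩
  | s :: l => by
    obtain ⟨K₁, a₁, l₁, hl₁⟩ := exists_list K₀ l
    obtain ⟨K₂, a₂, t, ht⟩ := R.exists_over K₁ s
    refine ⟨K₂, a₂ ≫ a₁, t :: l₁.map (R.tr a₂), ?_⟩
    rw [List.map_cons, ht, R.map_p_map_tr, hl₁]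

theorem mem_descends :
    ∀ (K : J) (ys : List (R.B K)) (x : R.B K),
      R.p K x ∈ Ideal.ofList (ys.map (R.p K)) →
        ∃ (K' : J) (a : K' ⟶ K), R.tr a x ∈ Ideal.ofList (ys.map (R.tr a))
  | K, [], x, h => by
    rw [List.map_nil, Ideal.ofList_nil, Ideal.mem_bot] at h
    obtain ⟨K', a, ha⟩ := R.inj K x 0 (by rw [h, map_zero])
    refine ⟨K', a, ?_⟩
    rw [ha, map_zero]
    exact Ideal.zero_mem _
  | K, y :: ys, x, h => by
    rw [List.map_cons, Ideal.ofList_cons, Submodule.mem_sup] at h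
    obtain ⟨u, hu, w, hw, huw⟩ := h
    obtain ⟨c, rfl⟩ := Ideal.mem_span_singleton'.mp hu
    obtain ⟨K₁, a₁, c₁, hc₁⟩ := R.exists_over K c
    have hw' : R.p K₁ (R.tr a₁ x - c₁ * R.tr a₁ y) ∈
        Ideal.ofList ((ys.map (R.tr a₁)).map (R.p K₁)) := by
      rw [R.map_p_map_tr, map_sub, map_mul, R.p_tr, R.p_tr, hc₁, ← huw, add_sub_cancel_left]
      exact hw
    obtain ⟨K₂, a₂, h₂⟩ := mem_descends K₁ (ys.map (R.tr a₁)) _ hw'
    refine ⟨K₂, a₂ ≫ a₁, ?_⟩
    rw [R.map_tr_map_tr] at h₂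
    rw [List.map_cons, Ideal.ofList_cons, Submodule.mem_sup]
    refine ⟨R.tr a₂ c₁ * R.tr (a₂ ≫ a₁) y, Ideal.mem_span_singleton'.mpr ⟨_, rfl⟩,
      R.tr a₂ (R.tr a₁ x - c₁ * R.tr a₁ y), h₂, ?_⟩
    rw [map_sub, map_mul, R.tr_tr, R.tr_tr]
    ring
termination_by K ys => ys.length
decreasing_by simp

theorem le_descends :
    ∀ (K : J) (xs ys : List (R.B K)),
      Ideal.ofList (xs.map (R.p K)) ≤ Ideal.ofList (ys.map (R.p K)) →
        ∃ (K' : J) (a : K' ⟶ K), Ideal.ofList (xs.map (R.tr a)) ≤ Ideal.ofList (ys.map (R.tr a))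
  | K, [], ys, _ => ⟨K, 𝟙 K, by rw [List.map_nil, Ideal.ofList_nil]; exact bot_le⟩
  | K, x :: xs, ys, h => by
    rw [List.map_cons, Ideal.ofList_cons, sup_le_iff] at h
    obtain ⟨K₁, a₁, h₁⟩ := le_descends K xs ys h.2
    have hx : R.p K₁ (R.tr a₁ x) ∈ Ideal.ofList ((ys.map (R.tr a₁)).map (R.p K₁)) := by
      rw [R.map_p_map_tr, R.p_tr]
      exact h.1 (Ideal.mem_span_singleton_self _)
    obtain ⟨K₂, a₂, h₂⟩ := R.mem_descends K₁ (ys.map (R.tr a₁)) _ hx
    refine ⟨K₂, a₂ ≫ a₁, ?_⟩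
    rw [R.map_tr_map_tr, R.tr_tr] at h₂
    rw [List.map_cons, Ideal.ofList_cons, sup_le_iff]
    refine ⟨(Ideal.span_singleton_le_iff_mem _).mpr h₂, ?_⟩
    have := R.ofList_le_map a₂ h₁
    rwa [R.map_tr_map_tr, R.map_tr_map_tr] at this

theorem eq_descends (K : J) (xs ys : List (R.B K))
    (h : Ideal.ofList (xs.map (R.p K)) = Ideal.ofList (ys.map (R.p K))) :
    ∃ (K' : J) (a : K' ⟶ K), Ideal.ofList (xs.map (R.tr a)) = Ideal.ofList (ys.map (R.tr a)) := by
  obtain ⟨K₁, a₁, h₁⟩ := R.le_descends K xs ys h.le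
  have h' : Ideal.ofList ((ys.map (R.tr a₁)).map (R.p K₁)) ≤
      Ideal.ofList ((xs.map (R.tr a₁)).map (R.p K₁)) := by
    rw [R.map_p_map_tr, R.map_p_map_tr]
    exact h.ge
  obtain ⟨K₂, a₂, h₂⟩ := R.le_descends K₁ _ _ h'
  refine ⟨K₂, a₂ ≫ a₁, le_antisymm ?_ ?_⟩
  · have := R.ofList_le_map a₂ h₁
    rwa [R.map_tr_map_tr, R.map_tr_map_tr] at this
  · rwa [R.map_tr_map_tr, R.map_tr_map_tr] at h₂

end RingSys

end Groth.Agent.Lib.Helper23
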