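import Mathlib
import Groth.Agent.Lib.Helper23.RingSys

/-!
# The system of sections over the preimages of an affine open in a cofiltered limit (helper23)

For a cofiltered diagram `D` of schemes with affine transition maps, limit cone `c`, a stage `i` and
an affine open `U ⊆ D i`: the rings `Γ(D K, (D K ⟶ D i)⁻¹ U)` (`K : Over i`) with colimit
`Γ(lim, π_i⁻¹ U)` form a `RingSys (Over i)`.
-/

set_option autoImplicit false
universe u
open CategoryTheory CategoryTheory.Limits AlgebraicGeometry TopologicalSpace Opposite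

namespace Groth.Agent.Lib.Helper23.RingSysGeom

variable {I : Type u} [Category.{u} I] (D : I ⥤ Scheme.{u}) (c : Cone D)

theorem appLE_congr_hom {X Y : Scheme.{u}} {f f' : X ⟶ Y} (h : f = f') (U : Y.Opens)
    (V : X.Opens) (e : V ≤ f ⁻¹ᵁ U) : f.appLE U V e = f'.appLE U V (h ▸ e) := by
  subst h
  rfl

theorem le_trans_preimage (i : I) (U : (D.obj i).Opens) {K' K : Over i} (a : K' ⟶ K) :
    D.map K'.hom ⁻¹ᵁ U ≤ D.map a.left ⁻¹ᵁ (D.map K.hom ⁻¹ᵁ U) := by
  rw [← Scheme.Hom.comp_preimage, ← D.map_comp, Over.w a]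

theorem le_π_preimage (i : I) (U : (D.obj i).Opens) (K : Over i) :
    c.π.app i ⁻¹ᵁ U ≤ c.π.app K.left ⁻¹ᵁ (D.map K.hom ⁻¹ᵁ U) := by
  rw [← Scheme.Hom.comp_preimage, c.w]

/-- transition maps on sections -/
noncomputable def trHom (i : I) (U : (D.obj i).Opens) {K' K : Over i} (a : K' ⟶ K) :
    Γ(D.obj K.left, D.map K.hom ⁻¹ᵁ U) →+* Γ(D.obj K'.left, D.map K'.hom ⁻¹ᵁ U) :=
  ((D.map a.left).appLE _ _ (le_trans_preimage D i U a)).hom

/-- maps to the sections over the limit -/
noncomputable def pHom (i : I) (U : (D.obj i).Opens) (K : Over i) :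
    Γ(D.obj K.left, D.map K.hom ⁻¹ᵁ U) →+* Γ(c.pt, c.π.app i ⁻¹ᵁ U) :=
  ((c.π.app K.left).appLE _ _ (le_π_preimage D c i U K)).hom

theorem pHom_trHom (i : I) (U : (D.obj i).Opens) {K' K : Over i} (a : K' ⟶ K)
    (x : Γ(D.obj K.left, D.map K.hom ⁻¹ᵁ U)) :
    pHom D c i U K' (trHom D i U a x) = pHom D c i U K x := by
  unfold pHom trHom
  rw [← RingHom.comp_apply, ← CommRingCat.hom_comp, Scheme.Hom.appLE_comp_appLE,
    appLE_congr_hom (c.w a.left)]

theorem trHom_trHom (i : I) (U : (D.obj i).Opens) {K'' K' K : Over i} (a : K'' ⟶ K')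
    (b : K' ⟶ K) (x : Γ(D.obj K.left, D.map K.hom ⁻¹ᵁ U)) :
    trHom D i U a (trHom D i U b x) = trHom D i U (a ≫ b) x := by
  unfold trHom
  rw [← RingHom.comp_apply, ← CommRingCat.hom_comp, Scheme.Hom.appLE_comp_appLE,
    appLE_congr_hom (show D.map a.left ≫ D.map b.left = D.map (a ≫ b).left by
      rw [← D.map_comp]; rfl)]

variable [IsCofiltered I] (hc : IsLimit c) [∀ {i j : I} (f : i ⟶ j), IsAffineHom (D.map f)]

include hc in
/-- every section over `π_i⁻¹ U` comes from a stage. -/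
theorem pHom_surj (i : I) (U : (D.obj i).Opens) (hU : IsAffineOpen U)
    (s : Γ(c.pt, c.π.app i ⁻¹ᵁ U)) :
    ∃ (K : Over i) (t : Γ(D.obj K.left, D.map K.hom ⁻¹ᵁ U)), pHom D c i U K t = s := by
  have (K : Over i) : IsAffine ((opensDiagram D i U).obj K) := hU.preimage (D.map _)
  obtain ⟨K, t', hK⟩ := exists_appTop_π_eq_of_isAffine_of_isLimit _ _
    (isLimitOpensCone D c hc i U) ((c.π.app i ⁻¹ᵁ U).topIso.inv s)
  refine ⟨K, (D.map K.hom ⁻¹ᵁ U).topIso.hom t', ?_⟩
  have h1 : ((opensCone D c i U).π.app K).appTop =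
      (D.map K.hom ⁻¹ᵁ U).topIso.hom ≫ (c.π.app K.left).appLE _ _ (le_π_preimage D c i U K) ≫
        (c.π.app i ⁻¹ᵁ U).topIso.inv := Scheme.Hom.resLE_app_top _ _
  rw [h1] at hK
  have h2 : (c.π.app i ⁻¹ᵁ U).topIso.inv
      (((c.π.app K.left).appLE _ _ (le_π_preimage D c i U K))
        ((D.map K.hom ⁻¹ᵁ U).topIso.hom t')) = (c.π.app i ⁻¹ᵁ U).topIso.inv s := hK
  have hinj : Function.Injective (c.π.app i ⁻¹ᵁ U).topIso.inv :=
    (ConcreteCategory.bijective_of_isIso (c.π.app i ⁻¹ᵁ U).topIso.inv).1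
  exact hinj h2

include hc in
/-- two sections of a stage with the same image over the limit agree at a later stage. -/
theorem pHom_inj (i : I) (U : (D.obj i).Opens) (hU : IsAffineOpen U) (K : Over i)
    (s t : Γ(D.obj K.left, D.map K.hom ⁻¹ᵁ U)) (h : pHom D c i U K s = pHom D c i U K t) :
    ∃ (K' : Over i) (a : K' ⟶ K), trHom D i U a s = trHom D i U a t := by
  have hcpt : IsCompact ((D.map K.hom ⁻¹ᵁ U : (D.obj K.left).Opens) : Set (D.obj K.left)) :=
    (hU.preimage (D.map K.hom)).isCompact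
  have h' : (c.π.app K.left).app _ s = (c.π.app K.left).app _ t := by
    unfold pHom at h
    rw [Scheme.Hom.appLE] at h
    have hinj : Function.Injective (c.pt.presheaf.map (homOfLE (le_π_preimage D c i U K)).op) := by
      have e : c.π.app i ⁻¹ᵁ U = c.π.app K.left ⁻¹ᵁ (D.map K.hom ⁻¹ᵁ U) := by
        rw [← Scheme.Hom.comp_preimage, c.w]
      have : IsIso (c.pt.presheaf.map (homOfLE (le_π_preimage D c i U K)).op) := by
        have : IsIso (homOfLE (le_π_preimage D c i U K)) :=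
          ⟨homOfLE e.ge, Subsingleton.elim _ _, Subsingleton.elim _ _⟩
        infer_instance
      exact (ConcreteCategory.bijective_of_isIso _).1
    exact hinj h
  obtain ⟨j, f, hf⟩ := exists_app_map_eq_map_of_isLimit D c hc hcpt s t h'
  refine ⟨Over.mk (f ≫ K.hom), Over.homMk f rfl, ?_⟩
  unfold trHom
  rw [Scheme.Hom.appLE]
  change ((D.obj j).presheaf.map _) ((D.map f).app _ s) = ((D.obj j).presheaf.map _) ((D.map f).app _ t)
  exact congrArg _ hf

/-- The system of sections over the preimages of an affine open. -/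
noncomputable def ringSys (i : I) (U : (D.obj i).Opens) (hU : IsAffineOpen U) :
    RingSys (Over i) where
  B K := Γ(D.obj K.left, D.map K.hom ⁻¹ᵁ U)
  ringB K := inferInstance
  L := Γ(c.pt, c.π.app i ⁻¹ᵁ U)
  ringL := inferInstance
  tr a := trHom D i U a
  p K := pHom D c i U K
  p_tr a x := pHom_trHom D c i U a x
  tr_tr a b x := trHom_trHom D i U a b x
  surj s := pHom_surj D c hc i U hU s
  inj K s t h := pHom_inj D c hc i U hU K s t h

end Groth.Agent.Lib.Helper23.RingSysGeom
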