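import Mathlib
import Groth.Agent.Lib.Helper23.RingSysGeom
import Groth.Agent.Lib.Helper23.BaseChangeLim
import Groth.Agent.Lib.Helper10.RegImmDescent

/-!
# Descent of a chart of generators of an immersion to a finite stage (helper23)

`E : J ⥤ Scheme` cofiltered with affine transitions and limit `cE`; `f₀ : Z₀ ⟶ E j₀` with base
changes `Z_K ⟶ E K` and `i : Z ⟶ lim`.  If around `i z` the kernel of `i` on an affine open `U` is
generated by a list `rs` and around `f₀ (q z)` the kernel of `f₀` is finitely generated on an affine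
open over which `f₀` is closed, then at some stage `K` there is an affine open `U_K` containing the
image of `i z` and a list `rs_K` generating the kernel of `Z_K ⟶ E K` over `U_K` and inducing `rs`
on the affine open `U' = π_K⁻¹ U_K ⊆ U`.
-/

set_option autoImplicit false
universe u
open CategoryTheory CategoryTheory.Limits AlgebraicGeometry TopologicalSpace Opposite

namespace Groth.Agent.Lib.Helper23.ChartDescent

open Groth.Agent.Lib.Helper23 Groth.Agent.Lib.Helper23.RingSysGeom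
  Groth.Agent.Lib.Helper10.RegImmBaseChange Groth.Agent.Lib.Helper10.RegImmDescent

theorem exists_ofList_eq_of_fg {A : Type u} [CommRing A] {I : Ideal A} (h : I.FG) :
    ∃ l : List A, Ideal.ofList l = I := by
  obtain ⟨s, hs⟩ := h
  refine ⟨s.toList, ?_⟩
  rw [← hs]
  change Ideal.span {r | r ∈ s.toList} = Ideal.span (s : Set A)
  congr 1
  ext x
  exact Finset.mem_toList

variable {J : Type u} [SmallCategory J] (E : J ⥤ Scheme.{u}) (cE : Cone E)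

section Kap

variable {j₀ j₁ : J} (φ₁ : j₁ ⟶ j₀) (V₀ : (E.obj j₀).Opens) (U₁ : (E.obj j₁).Opens)
  (h₁ : U₁ ≤ E.map φ₁ ⁻¹ᵁ V₀)

include h₁ in
theorem kap_le (K : Over j₁) : E.map K.hom ⁻¹ᵁ U₁ ≤ E.map (K.hom ≫ φ₁) ⁻¹ᵁ V₀ := by
  rw [E.map_comp, Scheme.Hom.comp_preimage]
  exact (E.map K.hom).preimage_mono h₁

/-- the map from the sections over `V₀` at stage `j₀` to the sections at a later stage. -/
noncomputable def kap (K : Over j₁) :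
    Γ(E.obj j₀, V₀) →+* Γ(E.obj K.left, E.map K.hom ⁻¹ᵁ U₁) :=
  ((E.map (K.hom ≫ φ₁)).appLE V₀ (E.map K.hom ⁻¹ᵁ U₁) (kap_le E φ₁ V₀ U₁ h₁ K)).hom

theorem trHom_kap {K' K : Over j₁} (a : K' ⟶ K) (x : Γ(E.obj j₀, V₀)) :
    trHom E j₁ U₁ a (kap E φ₁ V₀ U₁ h₁ K x) = kap E φ₁ V₀ U₁ h₁ K' x := by
  unfold trHom kap
  rw [← RingHom.comp_apply, ← CommRingCat.hom_comp, Scheme.Hom.appLE_comp_appLE,
    appLE_congr_hom (show E.map a.left ≫ E.map (K.hom ≫ φ₁) = E.map (K'.hom ≫ φ₁) by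
      rw [← E.map_comp, ← Category.assoc, Over.w a])]

theorem map_trHom_map_kap {K' K : Over j₁} (a : K' ⟶ K) (l : List Γ(E.obj j₀, V₀)) :
    (l.map (kap E φ₁ V₀ U₁ h₁ K)).map (trHom E j₁ U₁ a) = l.map (kap E φ₁ V₀ U₁ h₁ K') := by
  rw [List.map_map]
  congr 1
  ext x
  exact trHom_kap E φ₁ V₀ U₁ h₁ a x

include h₁ in
theorem kapL_le : cE.π.app j₁ ⁻¹ᵁ U₁ ≤ cE.π.app j₀ ⁻¹ᵁ V₀ := by
  have := (cE.π.app j₁).preimage_mono h₁
  rwa [← Scheme.Hom.comp_preimage, cE.w] at this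

theorem pHom_kap (K : Over j₁) (x : Γ(E.obj j₀, V₀)) :
    pHom E cE j₁ U₁ K (kap E φ₁ V₀ U₁ h₁ K x) =
      ((cE.π.app j₀).appLE V₀ (cE.π.app j₁ ⁻¹ᵁ U₁) (kapL_le E cE φ₁ V₀ U₁ h₁)).hom x := by
  unfold pHom kap
  rw [← RingHom.comp_apply, ← CommRingCat.hom_comp, Scheme.Hom.appLE_comp_appLE,
    appLE_congr_hom (cE.w (K.hom ≫ φ₁))]

theorem map_pHom_map_kap (K : Over j₁) (l : List Γ(E.obj j₀, V₀)) :
    (l.map (kap E φ₁ V₀ U₁ h₁ K)).map (pHom E cE j₁ U₁ K) =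
      l.map ((cE.π.app j₀).appLE V₀ (cE.π.app j₁ ⁻¹ᵁ U₁) (kapL_le E cE φ₁ V₀ U₁ h₁)).hom := by
  rw [List.map_map]
  congr 1
  ext x
  exact pHom_kap E cE φ₁ V₀ U₁ h₁ K x

end Kap

variable [IsCofiltered J] (hcE : IsLimit cE) [hE : ∀ {i j : J} (f : i ⟶ j), IsAffineHom (E.map f)]
  (j₀ : J) {Z₀ : Scheme.{u}} (f₀ : Z₀ ⟶ E.obj j₀)
  {Z : Scheme.{u}} (i : Z ⟶ cE.pt) (q : Z ⟶ Z₀) (H : IsPullback q i f₀ (cE.π.app j₀))

include hcE H in
/-- **Descent of a chart of generators.** -/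
theorem chart_descent (z : Z) {V₀ : (E.obj j₀).Opens} (hV₀ : IsAffineOpen V₀)
    (hzV₀ : f₀ (q z) ∈ V₀) (hcl₀ : IsClosedImmersion (f₀ ∣_ V₀))
    (hfg : (RingHom.ker (f₀.app V₀).hom).FG)
    {U : cE.pt.Opens} (hU : IsAffineOpen U) (hzU : i z ∈ U) (hcl : IsClosedImmersion (i ∣_ U))
    (rs : List Γ(cE.pt, U)) (hker : RingHom.ker (i.app U).hom = Ideal.ofList rs) :
    ∃ (K : Over j₀) (U_K : (E.obj K.left).Opens) (U' : cE.pt.Opens) (hU'U : U' ≤ U)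
      (heq : U' = cE.π.app K.left ⁻¹ᵁ U_K) (rs_K : List Γ(E.obj K.left, U_K)),
      IsAffineOpen U_K ∧ IsAffineOpen U' ∧ i z ∈ U' ∧ U_K ≤ E.map K.hom ⁻¹ᵁ V₀ ∧
      RingHom.ker ((bcFst E j₀ f₀ K).app U_K).hom = Ideal.ofList rs_K ∧
      rs_K.map ((cE.π.app K.left).appLE U_K U' heq.le).hom =
        rs.map (cE.pt.presheaf.map (homOfLE hU'U).op).hom := by
  haveI := isAffineHom_π_app E cE hcE
  -- generators of the kernel at the bottom stage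
  obtain ⟨ks₀, hks₀⟩ := exists_ofList_eq_of_fg hfg
  -- Step 1: shrink `U` to a basic open of `V = π⁻¹ V₀`
  have hV : IsAffineOpen (cE.π.app j₀ ⁻¹ᵁ V₀) := hV₀.preimage (cE.π.app j₀)
  have hzV : i z ∈ cE.π.app j₀ ⁻¹ᵁ V₀ := by
    change cE.π.app j₀ (i z) ∈ V₀
    rw [← Scheme.Hom.comp_apply, ← H.w, Scheme.Hom.comp_apply]
    exact hzV₀
  obtain ⟨f, g, hfg', hzf⟩ := exists_basicOpen_le_affine_inter hU hV (i z) ⟨hzU, hzV⟩
  -- Step 2: descend `g`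
  obtain ⟨K₁, g₁, hg₁⟩ := (ringSys E cE hcE j₀ V₀ hV₀).surj g
  change pHom E cE j₀ V₀ K₁ g₁ = g at hg₁
  have hV₁ : IsAffineOpen (E.map K₁.hom ⁻¹ᵁ V₀) := hV₀.preimage (E.map K₁.hom)
  set U₁ : (E.obj K₁.left).Opens := (E.obj K₁.left).basicOpen g₁ with hU₁def
  have hU₁ : IsAffineOpen U₁ := hV₁.basicOpen g₁
  have h₁ : U₁ ≤ E.map K₁.hom ⁻¹ᵁ V₀ := (E.obj K₁.left).basicOpen_le g₁
  have hU'eq : cE.π.app K₁.left ⁻¹ᵁ U₁ = cE.pt.basicOpen g := by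
    rw [← hg₁]
    unfold pHom
    rw [Scheme.basicOpen_appLE]
    exact (inf_eq_right.mpr (kapL_le E cE K₁.hom V₀ U₁ h₁)).symm
  have hU'U : cE.π.app K₁.left ⁻¹ᵁ U₁ ≤ U := by
    rw [hU'eq, ← hfg']
    exact cE.pt.basicOpen_le f
  have hzU' : i z ∈ cE.π.app K₁.left ⁻¹ᵁ U₁ := by
    rw [hU'eq, ← hfg']
    exact hzf
  have hU' : IsAffineOpen (cE.π.app K₁.left ⁻¹ᵁ U₁) := hU₁.preimage (cE.π.app K₁.left)
  -- Step 3: descend the list
  let R₁ := ringSys E cE hcE K₁.left U₁ hU₁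
  obtain ⟨K₂, -, rs₂, hrs₂⟩ := R₁.exists_list (Over.mk (𝟙 K₁.left))
    (rs.map (cE.pt.presheaf.map (homOfLE hU'U).op).hom)
  change rs₂.map (pHom E cE K₁.left U₁ K₂) = _ at hrs₂
  -- Step 4: kernels over the limit
  have einf := kapL_le E cE K₁.hom V₀ U₁ h₁
  have hk1 : RingHom.ker (i.app (cE.π.app K₁.left ⁻¹ᵁ U₁)).hom =
      Ideal.ofList (ks₀.map ((cE.π.app j₀).appLE V₀ (cE.π.app K₁.left ⁻¹ᵁ U₁) einf).hom) := by
    rw [ker_app_eq_map H hV₀ hU' einf hcl₀, ← hks₀, Ideal.map_ofList]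
    rfl
  obtain ⟨-, hk2, -⟩ := restrictData i hU hU' hU'U hcl
  rw [hker, Ideal.map_ofList] at hk2
  have hk3 : Ideal.ofList ((ks₀.map (kap E K₁.hom V₀ U₁ h₁ K₂)).map (R₁.p K₂)) =
      Ideal.ofList (rs₂.map (R₁.p K₂)) := by
    change Ideal.ofList ((ks₀.map (kap E K₁.hom V₀ U₁ h₁ K₂)).map (pHom E cE K₁.left U₁ K₂)) =
      Ideal.ofList (rs₂.map (pHom E cE K₁.left U₁ K₂))
    rw [map_pHom_map_kap, hrs₂]
    exact hk1.symm.trans hk2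
  obtain ⟨K₃, b, hK₃⟩ := R₁.eq_descends K₂ _ _ hk3
  change Ideal.ofList ((ks₀.map (kap E K₁.hom V₀ U₁ h₁ K₂)).map (trHom E K₁.left U₁ b)) =
    Ideal.ofList (rs₂.map (trHom E K₁.left U₁ b)) at hK₃
  rw [map_trHom_map_kap] at hK₃
  -- Step 5: the stage `K₃`
  have hUK : IsAffineOpen (E.map K₃.hom ⁻¹ᵁ U₁) := hU₁.preimage (E.map K₃.hom)
  have eK := kap_le E K₁.hom V₀ U₁ h₁ K₃
  have heq : cE.π.app K₁.left ⁻¹ᵁ U₁ = cE.π.app K₃.left ⁻¹ᵁ (E.map K₃.hom ⁻¹ᵁ U₁) := by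
    rw [← Scheme.Hom.comp_preimage, cE.w]
  refine ⟨Over.mk (K₃.hom ≫ K₁.hom), E.map K₃.hom ⁻¹ᵁ U₁, cE.π.app K₁.left ⁻¹ᵁ U₁, hU'U, heq,
    rs₂.map (trHom E K₁.left U₁ b), hUK, hU', hzU', eK, ?_, ?_⟩
  · have := ker_app_eq_map (isPullback_bcObj E j₀ f₀ (Over.mk (K₃.hom ≫ K₁.hom))).flip hV₀ hUK
      eK hcl₀
    rw [this, ← hks₀, Ideal.map_ofList]
    exact hK₃
  · have h5 := R₁.map_p_map_tr b rs₂
    change (rs₂.map (trHom E K₁.left U₁ b)).map (pHom E cE K₁.left U₁ K₃) =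
      rs₂.map (pHom E cE K₁.left U₁ K₂) at h5
    rw [hrs₂] at h5
    exact h5

end Groth.Agent.Lib.Helper23.ChartDescent
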