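/-
Helper library (helper23): connected components under a dense-range map; finiteness and openness
of connected components when there are finitely many irreducible components.
-/
import Mathlib.Topology.Irreducible
import Mathlib.Topology.Connected.Clopen
import Mathlib.Topology.NoetherianSpace

set_option autoImplicit false
universe u v

namespace Groth.Agent.Lib.Helper23

open Set

/-- With finitely many irreducible components there are finitely many connected components. -/
theorem finite_range_connectedComponent {X : Type*} [TopologicalSpace X]
    (hfin : (irreducibleComponents X).Finite) :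
    (Set.range (connectedComponent : X → Set X)).Finite := by
  classical
  let g : Set X → Set X := fun Z =>
    if h : Z.Nonempty then connectedComponent h.some else ∅
  refine (hfin.image g).subset ?_
  rintro _ ⟨x, rfl⟩
  refine ⟨irreducibleComponent x, irreducibleComponent_mem_irreducibleComponents x, ?_⟩
  have hne : (irreducibleComponent x).Nonempty := ⟨x, mem_irreducibleComponent⟩
  simp only [g, dif_pos hne]
  have hsub : irreducibleComponent x ⊆ connectedComponent x :=
    isIrreducible_irreducibleComponent.isConnected.isPreconnected.subset_connectedComponent
      mem_irreducibleComponent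
  exact (connectedComponent_eq (hsub hne.some_mem)).symm

/-- With finitely many connected components, each connected component is open. -/
theorem isOpen_connectedComponent_of_finite {X : Type*} [TopologicalSpace X]
    (hfin : (Set.range (connectedComponent : X → Set X)).Finite) (x : X) :
    IsOpen (connectedComponent x) := by
  have hcl : IsClosed (⋃ C ∈ (Set.range (connectedComponent : X → Set X)) \ {connectedComponent x},
      C) := by
    refine (hfin.subset Set.sdiff_subset).isClosed_biUnion ?_
    rintro _ ⟨⟨y, rfl⟩, _⟩
    exact isClosed_connectedComponent
  have : connectedComponent x =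
      (⋃ C ∈ (Set.range (connectedComponent : X → Set X)) \ {connectedComponent x}, C)ᶜ := by
    ext z
    simp only [mem_compl_iff, mem_iUnion, not_exists]
    constructor
    · rintro hz C ⟨⟨y, rfl⟩, hne⟩ hzy
      apply hne
      rw [mem_singleton_iff, connectedComponent_eq hz, connectedComponent_eq hzy]
    · intro h
      by_contra hz
      apply h (connectedComponent z) ⟨⟨z, rfl⟩, ?_⟩ mem_connectedComponent
      rw [mem_singleton_iff]
      intro heq
      exact hz (heq ▸ mem_connectedComponent)
  rw [this]
  exact hcl.isOpen_compl

/-- Let `f : X → Y` be continuous with dense range, `X` with finitely many connected components,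
each of which is the preimage of a clopen subset of `Y`. Then `C ↦ closure (f '' C)` is a
bijection between the connected components of `X` and of `Y`. -/
theorem bijOn_connectedComponents_closure_image {X Y : Type*} [TopologicalSpace X]
    [TopologicalSpace Y] (f : X → Y) (hf : Continuous f) (hd : DenseRange f)
    (hfin : (Set.range (connectedComponent : X → Set X)).Finite)
    (hU : ∀ x : X, ∃ U : Set Y, IsClopen U ∧ f ⁻¹' U = connectedComponent x) :
    Set.BijOn (fun C : Set X => closure (f '' C)) (Set.range (connectedComponent : X → Set X))
      (Set.range (connectedComponent : Y → Set Y)) := by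
  choose U hUc hUf using hU
  -- (1) closure of the image of a component is the clopen set
  have h1 : ∀ x, closure (f '' connectedComponent x) = U x := by
    intro x
    apply subset_antisymm
    · rw [(hUc x).1.closure_subset_iff]
      rintro _ ⟨z, hz, rfl⟩
      have : z ∈ f ⁻¹' U x := by rw [hUf]; exact hz
      exact this
    · intro y hy
      rw [mem_closure_iff]
      intro B hB hyB
      obtain ⟨z, hz⟩ := hd.exists_mem_open (hB.inter (hUc x).2) ⟨y, hyB, hy⟩
      have hzC : z ∈ connectedComponent x := by rw [← hUf]; exact hz.2
      exact ⟨f z, hz.1, z, hzC, rfl⟩
  -- (2) it is a connected component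
  have h2 : ∀ x, ∀ y ∈ U x, U x = connectedComponent y := by
    intro x y hy
    apply subset_antisymm
    · have hpre : IsPreconnected (U x) := by
        rw [← h1 x]
        exact (isPreconnected_connectedComponent.image f hf.continuousOn).closure
      exact hpre.subset_connectedComponent hy
    · exact (hUc x).connectedComponent_subset hy
  have hfx : ∀ x, f x ∈ U x := fun x => by
    have : x ∈ f ⁻¹' U x := by rw [hUf]; exact mem_connectedComponent
    exact this
  refine ⟨?_, ?_, ?_⟩
  · rintro _ ⟨x, rfl⟩
    exact ⟨f x, by simp only [h1 x]; exact (h2 x (f x) (hfx x)).symm⟩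
  · rintro _ ⟨x, rfl⟩ _ ⟨x', rfl⟩ heq
    simp only [h1] at heq
    rw [← hUf x, ← hUf x', heq]
  · rintro _ ⟨y, rfl⟩
    -- the clopen sets cover `Y`
    have hcl : IsClosed (⋃ C ∈ Set.range (connectedComponent : X → Set X), closure (f '' C)) :=
      hfin.isClosed_biUnion fun _ _ => isClosed_closure
    have hcov : (⋃ C ∈ Set.range (connectedComponent : X → Set X), closure (f '' C)) = univ := by
      rw [← univ_subset_iff, ← hd.closure_eq, hcl.closure_subset_iff]
      rintro _ ⟨x, rfl⟩
      exact mem_iUnion₂.mpr ⟨connectedComponent x, ⟨x, rfl⟩,
        subset_closure ⟨x, mem_connectedComponent, rfl⟩⟩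
    have hy : y ∈ ⋃ C ∈ Set.range (connectedComponent : X → Set X), closure (f '' C) := by
      rw [hcov]; trivial
    obtain ⟨_, ⟨x, rfl⟩, hyx⟩ := mem_iUnion₂.mp hy
    refine ⟨connectedComponent x, ⟨x, rfl⟩, ?_⟩
    simp only [h1 x] at hyx ⊢
    exact h2 x y hyx

end Groth.Agent.Lib.Helper23
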