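/-
Helper library (helper23): from constructible properties of the range of `f_s` to
constructibility of loci of fibrewise topological properties of a locally constructible subset
(EGA IV 9.5.4-type statements).
-/
import Mathlib
import Groth.Prelude.Def_EGA4Misc
import Groth.Agent.Lib.Helper23.ConsClosedRange
import Groth.Agent.Lib.Helper23.ConsLocusMor
import Groth.Agent.S4584

set_option autoImplicit false
universe u
open CategoryTheory Limits AlgebraicGeometry Topology MorphismProperty
open scoped Set.Notation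

namespace Groth.Agent.Lib.Helper23

section Assembly

/-- Let `Q` be a topological property of subsets which only depends on the trace on the range of
an embedding, and such that "`Q (range f_s)`" is a constructible property of morphisms. Then for
`f : X ⟶ S` of finite presentation and `Z ⊆ X` locally constructible, the set of `s` such that
`Q` holds for `Z ∩ f⁻¹(s)` in `f⁻¹(s)` is locally constructible. -/
theorem isLocallyConstructible_setOf_fibre_of_isConsMor
    (Q : ∀ (α : Type u) [TopologicalSpace α], Set α → Prop)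
    (hQ : ∀ (α α' β : Type u) [TopologicalSpace α] [TopologicalSpace α'] [TopologicalSpace β]
      (m : α → β) (m' : α' → β), IsEmbedding m → IsEmbedding m' → Set.range m = Set.range m' →
      ∀ A : Set β, Q α (m ⁻¹' A) ↔ Q α' (m' ⁻¹' A))
    (hcons : ConsProp.IsConsMor.{u} (fun _ Y _ f _ => Q ↥Y (Set.range ⇑f)))
    {X S : Scheme.{u}} (f : X ⟶ S) [LocallyOfFinitePresentation f] [QuasiCompact f]
    [QuasiSeparated f] (Z : Set X) (hZ : IsLocallyConstructible Z) :
    IsLocallyConstructible {s : S | Q ↥(f.base ⁻¹' {s}) (Subtype.val ⁻¹' Z)} := by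
  apply IsLocallyConstructible.of_isOpenCover (U := fun i : S.affineOpens => (i : S.Opens))
    (iSup_affineOpens_eq_top S)
  rintro ⟨U, hU⟩
  have : IsAffine U.toScheme := hU
  have : CompactSpace ↥(f ⁻¹ᵁ U).toScheme := QuasiCompact.compactSpace_of_compactSpace (f ∣_ U)
  have : QuasiSeparatedSpace ↥(f ⁻¹ᵁ U).toScheme :=
    quasiSeparatedSpace_of_quasiSeparated (f ∣_ U)
  let ZU : Set ↥(f ⁻¹ᵁ U).toScheme := (f ⁻¹ᵁ U).ι ⁻¹' Z
  have hZU : IsConstructible ZU :=
    (hZ.preimage_of_isOpenEmbedding (f ⁻¹ᵁ U).ι.isOpenEmbedding).isConstructible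
  obtain ⟨Z', h, _, _, _, _, hr⟩ := Groth.Agent.S4584.result (f ⁻¹ᵁ U).toScheme ZU hZU
  have key := isLocallyConstructible_locusMor h (f ∣_ U) hcons
  have e : ((U : Set S) ↓∩ {s : S | Q ↥(f.base ⁻¹' {s}) (Subtype.val ⁻¹' Z)}) =
      (ConsProp.locusMor (fun _ Y _ f _ => Q ↥Y (Set.range ⇑f)) h (f ∣_ U) :
        Set ↥U.toScheme) := by
    ext s'
    change Q _ (Subtype.val ⁻¹' Z) ↔ Q _ (Set.range (MoreMor.fiberMap h (f ∣_ U) s'))
    rw [range_fiberMap, hr]
    have hm' : IsEmbedding (⇑(f ⁻¹ᵁ U).ι ∘ ⇑((f ∣_ U).fiberι s')) :=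
      (f ⁻¹ᵁ U).ι.isEmbedding.comp ((f ∣_ U).fiberι s').isEmbedding
    have hrange : Set.range (Subtype.val : ↥(f.base ⁻¹' {(s' : S)}) → X) =
        Set.range (⇑(f ⁻¹ᵁ U).ι ∘ ⇑((f ∣_ U).fiberι s')) := by
      rw [Subtype.range_coe, Set.range_comp, Scheme.Hom.range_fiberι]
      ext x
      constructor
      · intro hx
        have hxU : x ∈ f ⁻¹ᵁ U := by
          change f x ∈ U
          rw [show f x = s' from hx]
          exact s'.2
        refine ⟨⟨x, hxU⟩, ?_, rfl⟩
        apply Subtype.ext
        rw [morphismRestrict_base_coe]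
        exact hx
      · rintro ⟨x', hx', rfl⟩
        change f x'.1 = s'
        rw [← morphismRestrict_base_coe, show (f ∣_ U) x' = s' from hx']
    exact hQ _ _ _ Subtype.val (⇑(f ⁻¹ᵁ U).ι ∘ ⇑((f ∣_ U).fiberι s')) IsEmbedding.subtypeVal hm'
      hrange Z
  rw [e]
  exact key

end Assembly

end Groth.Agent.Lib.Helper23
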