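/-
Helper library (helper23): being an immersion is a constructible property of morphisms of
algebraic schemes (EGA IV 9.6.1 (vii)).  Strategy: `f` is an immersion iff its range `Z` is
locally closed and `f` induces a closed immersion into the open complement `V` of the closure of
`closure Z \ Z`; generically the formation of `V` commutes with passing to fibres.
-/
import Mathlib
import Groth.Prelude.Def_EGA4Misc
import Groth.Agent.Lib.Helper23.ConsGenericReduce
import Groth.Agent.Lib.Helper23.ConsClosedRange
import Groth.Agent.Lib.Helper23.ConsFinite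
import Groth.Agent.Lib.Helper23.ConsOpenImm

set_option autoImplicit false
universe u
open CategoryTheory Limits AlgebraicGeometry Topology MorphismProperty

namespace Groth.Agent.Lib.Helper23

section General

/-- The open set `(closure (closure Z \ Z))ᶜ` is compatible with preimages along a map for which
the closures of `Z` and of `closure Z \ Z` are compatible with preimages. -/
theorem preimage_compl_closure_closure_diff {A B : Type*} [TopologicalSpace A]
    [TopologicalSpace B] (m : A → B) (Z : Set B) (h1 : closure (m ⁻¹' Z) = m ⁻¹' closure Z)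
    (h2 : closure (m ⁻¹' (closure Z \ Z)) = m ⁻¹' closure (closure Z \ Z)) :
    m ⁻¹' (closure (closure Z \ Z))ᶜ = (closure (closure (m ⁻¹' Z) \ m ⁻¹' Z))ᶜ := by
  rw [Set.preimage_compl, ← h2, Set.preimage_sdiff, ← h1]

/-- `f` is an immersion iff its range `Z` is locally closed and its base change to the open
complement of the closure of `closure Z \ Z` is a closed immersion. -/
theorem isImmersion_iff_of_isPullback {X Y V W : Scheme.{u}} {f : X ⟶ Y} {j : V ⟶ Y}
    {p : W ⟶ X} {q : W ⟶ V} [IsOpenImmersion j] (hsq : IsPullback p q f j)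
    (h : Set.range j = (closure (closure (Set.range f) \ Set.range f))ᶜ) :
    IsImmersion f ↔ IsLocallyClosed (Set.range f) ∧ IsClosedImmersion q := by
  constructor
  · intro hf
    refine ⟨f.isLocallyClosed_range, ?_⟩
    haveI : IsImmersion q := MorphismProperty.of_isPullback hsq hf
    apply IsClosedImmersion.of_isPreimmersion
    rw [range_snd_of_isPullback hsq, ← closure_subset_iff_isClosed,
      ← j.isOpenEmbedding.isOpenMap.preimage_closure_eq_closure_preimage j.continuous]
    intro v hv
    by_contra hn
    have hv' : j v ∈ Set.range j := ⟨v, rfl⟩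
    rw [h] at hv'
    exact hv' (subset_closure ⟨hv, hn⟩)
  · rintro ⟨hlc, hq⟩
    have hcl : IsClosed (closure (Set.range f) \ Set.range f) :=
      isLocallyClosed_iff_isClosed_closure_diff.mp hlc
    rw [hcl.closure_eq] at h
    haveI : IsOpenImmersion p := MorphismProperty.of_isPullback hsq.flip ‹IsOpenImmersion j›
    haveI : Surjective p := by
      rw [surjective_iff, ← Set.range_eq_univ, range_fst_of_isPullback hsq, h,
        Set.eq_univ_iff_forall]
      intro x hx
      exact hx.2 ⟨x, rfl⟩
    haveI : IsIso p := (isIso_iff_isOpenImmersion_and_surjective p).mpr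
      ⟨inferInstance, inferInstance⟩
    have e : f = inv p ≫ q ≫ j := by
      rw [IsIso.eq_inv_comp, hsq.w]
    rw [e]
    infer_instance

theorem dichotomy_inter {S : Type*} [TopologicalSpace S] [PreirreducibleSpace S] {A B : Set S}
    (hA : (interior A).Nonempty ∨ (interior Aᶜ).Nonempty)
    (hB : (interior B).Nonempty ∨ (interior Bᶜ).Nonempty) :
    (interior (A ∩ B)).Nonempty ∨ (interior (A ∩ B)ᶜ).Nonempty := by
  rcases hA with hA | hA
  · rcases hB with hB | hB
    · left
      rw [interior_inter]
      exact nonempty_preirreducible_inter isOpen_interior isOpen_interior hA hB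
    · right
      exact hB.mono (interior_mono (Set.compl_subset_compl.mpr Set.inter_subset_right))
  · right
    exact hA.mono (interior_mono (Set.compl_subset_compl.mpr Set.inter_subset_left))

end General

section FieldStable

theorem isFieldStableMor_isImmersion :
    ConsProp.IsFieldStableMor.{u} (fun _ _ _ f _ => IsImmersion f) := by
  intro X X' Y Y' T T' f g f' g' eX eY h _ _ _ _ _ _ _ _ hY hX
  obtain ⟨ho, hs, hr⟩ := fieldStable_aux f g f' g' eX eY h hY hX
  have : IsLocallyNoetherian T := isLocallyNoetherian_of_subsingleton T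
  have : IsLocallyNoetherian Y := LocallyOfFiniteType.isLocallyNoetherian g
  have : IsLocallyNoetherian X := LocallyOfFiniteType.isLocallyNoetherian (f ≫ g)
  let V : Y.Opens := ⟨(closure (closure (Set.range f) \ Set.range f))ᶜ,
    isClosed_closure.isOpen_compl⟩
  have HV := IsPullback.of_hasPullback V.ι eY
  have HW := IsPullback.of_hasPullback f V.ι
  have HW' := IsPullback.of_hasPullback f' (pullback.snd V.ι eY)
  obtain ⟨pX, -, hpX⟩ := exists_isPullback_of_fac HW (HW'.paste_horiz hX) (pullback.fst V.ι eY)
    HV.w
  haveI a1 : LocallyOfFiniteType (V.ι ≫ g) := inferInstance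
  haveI a2 : QuasiCompact (V.ι ≫ g) := inferInstance
  have e1 : pullback.snd f V.ι ≫ V.ι ≫ g = pullback.fst f V.ι ≫ f ≫ g := by
    rw [← Category.assoc, ← pullback.condition, Category.assoc]
  haveI a3 : LocallyOfFiniteType (pullback.snd f V.ι ≫ V.ι ≫ g) := by rw [e1]; infer_instance
  haveI a4 : QuasiCompact (pullback.snd f V.ι ≫ V.ι ≫ g) := by rw [e1]; infer_instance
  have hci : IsClosedImmersion (pullback.snd f V.ι) ↔
      IsClosedImmersion (pullback.snd f' (pullback.snd V.ι eY)) :=
    isConsMor_isClosedImmersion.1 (pullback.snd f V.ι) (V.ι ≫ g)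
      (pullback.snd f' (pullback.snd V.ι eY)) (pullback.snd V.ι eY ≫ g') pX
      (pullback.fst V.ι eY) h (HV.paste_vert hY) hpX
  have hlc : IsLocallyClosed (Set.range f) ↔ IsLocallyClosed (Set.range f') :=
    isFieldStableMor_isLocallyClosed_range f g f' g' eX eY h hY hX
  have hpre := fun Z : Set Y => (ho.preimage_closure_eq_closure_preimage eY.continuous Z).symm
  have hrange : Set.range (pullback.snd V.ι eY) =
      (closure (closure (Set.range f') \ Set.range f'))ᶜ := by
    rw [range_snd_of_isPullback HV, Scheme.Opens.range_ι, hr]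
    exact preimage_compl_closure_closure_diff eY (Set.range f) (hpre _) (hpre _)
  change IsImmersion f ↔ IsImmersion f'
  rw [isImmersion_iff_of_isPullback HW (Scheme.Opens.range_ι V),
    isImmersion_iff_of_isPullback HW' hrange, hlc, hci]

end FieldStable

section Main

/-- Being an immersion is a constructible property of morphisms of algebraic schemes. -/
theorem isConsMor_isImmersion :
    ConsProp.IsConsMor.{u} (fun _ _ _ f _ => IsImmersion f) := by
  refine ⟨isFieldStableMor_isImmersion, ?_⟩
  intro X Y S f g _ _ _ _ _ _
  have hC : IsConstructible (Set.range f) := isConstructible_range_of_noetherian f g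
  have : IsLocallyNoetherian Y := LocallyOfFiniteType.isLocallyNoetherian g
  have : CompactSpace Y := QuasiCompact.compactSpace_of_compactSpace g
  have : IsNoetherian Y := {}
  have : IsLocallyNoetherian X := LocallyOfFiniteType.isLocallyNoetherian (f ≫ g)
  have hC₂ : IsConstructible (closure (Set.range f) \ Set.range f) := by
    rw [Set.sdiff_eq]
    exact ((isLocallyConstructible_of_isClosed_of_isNoetherian
      isClosed_closure).isConstructible).inter hC.compl
  obtain ⟨O₁, hO₁, hOs₁⟩ := exists_open_closure_preimage_fiberι g _ hC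
  obtain ⟨O₂, hO₂, hOs₂⟩ := exists_open_closure_preimage_fiberι g _ hC₂
  let V : Y.Opens := ⟨(closure (closure (Set.range f) \ Set.range f))ᶜ,
    isClosed_closure.isOpen_compl⟩
  let fV : pullback f V.ι ⟶ V.toScheme := pullback.snd f V.ι
  haveI a1 : LocallyOfFiniteType (V.ι ≫ g) := inferInstance
  haveI a2 : QuasiCompact (V.ι ≫ g) := inferInstance
  have e1 : fV ≫ V.ι ≫ g = pullback.fst f V.ι ≫ f ≫ g := by
    rw [← Category.assoc, ← pullback.condition, Category.assoc]
  haveI a3 : LocallyOfFiniteType (fV ≫ V.ι ≫ g) := by rw [e1]; infer_instance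
  haveI a4 : QuasiCompact (fV ≫ V.ι ≫ g) := by rw [e1]; infer_instance
  have h1 := isConsMor_isLocallyClosed_range.2 f g
  have h2 := isConsMor_isClosedImmersion.2 fV (V.ι ≫ g)
  refine dichotomy_of_eqOn (W := (O₁ : Set S) ∩ O₂) (O₁.2.inter O₂.2)
    (nonempty_preirreducible_inter O₁.2 O₂.2 hO₁ hO₂) ?_ (dichotomy_inter h1 h2)
  rintro s ⟨hs1, hs2⟩
  obtain ⟨p, hp⟩ := exists_isPullback_fibreMap_of_isPullback
    (IsPullback.of_hasPullback f V.ι) g (S.fromSpecResidueField s)
  haveI : IsOpenImmersion (fibreMap V.ι g (S.fromSpecResidueField s)) :=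
    MorphismProperty.of_isPullback (P := @IsOpenImmersion)
      (isPullback_fibreMap_fst V.ι g (S.fromSpecResidueField s)) inferInstance
  have r2 : Set.range (fibreMap f g (S.fromSpecResidueField s)) =
      (g.fiberι s) ⁻¹' Set.range f := range_fiberMap f g s
  have hr : Set.range (fibreMap V.ι g (S.fromSpecResidueField s)) =
      (closure (closure (Set.range (fibreMap f g (S.fromSpecResidueField s))) \
        Set.range (fibreMap f g (S.fromSpecResidueField s))))ᶜ := by
    have r1 : Set.range (fibreMap V.ι g (S.fromSpecResidueField s)) =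
        (g.fiberι s) ⁻¹' Set.range V.ι := range_fiberMap V.ι g s
    rw [r1, r2, Scheme.Opens.range_ι]
    exact preimage_compl_closure_closure_diff (g.fiberι s) (Set.range f) (hOs₁ s hs1)
      (hOs₂ s hs2)
  change IsImmersion (fibreMap f g (S.fromSpecResidueField s)) ↔
    IsLocallyClosed (Set.range (fibreMap f g (S.fromSpecResidueField s))) ∧
    IsClosedImmersion (fibreMap fV (V.ι ≫ g) (S.fromSpecResidueField s))
  exact isImmersion_iff_of_isPullback hp hr

end Main

end Groth.Agent.Lib.Helper23
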