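/-
Helper library (helper23): in a cofiltered system of schemes whose transition maps are
topological embeddings, with one stage Noetherian, the transition maps are eventually dominant.
-/
import Mathlib

set_option autoImplicit false
universe u
open CategoryTheory AlgebraicGeometry Limits TopologicalSpace

namespace Groth.Agent.Lib.Helper23

theorem exists_forall_isDominant_of_isEmbedding {I : Type u} [SmallCategory I]
    (D : I ⥤ Scheme.{u}) (i₀ : I) [NoetherianSpace (D.obj i₀)]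
    (he : ∀ (i j : I) (φ : i ⟶ j), Topology.IsEmbedding ⇑(D.map φ)) :
    ∃ (i : I) (_ : i ⟶ i₀), ∀ (j k : I) (_ : j ⟶ i) (φ : k ⟶ j), IsDominant (D.map φ) := by
  let Z : Over i₀ → Closeds (D.obj i₀) := fun j =>
    ⟨closure (Set.range ⇑(D.map j.hom)), isClosed_closure⟩
  have hwf : WellFounded (fun s t : Closeds (D.obj i₀) => s < t) :=
    (inferInstance : WellFoundedLT (Closeds (D.obj i₀))).wf
  obtain ⟨m, ⟨j₀, rfl⟩, hmin⟩ := hwf.has_min (Set.range Z) ⟨Z (Over.mk (𝟙 i₀)), Set.mem_range_self _⟩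
  -- monotonicity
  have hmono : ∀ (j : I) (ψ : j ⟶ j₀.left), Z (Over.mk (ψ ≫ j₀.hom)) = Z j₀ := by
    intro j ψ
    have hle : Z (Over.mk (ψ ≫ j₀.hom)) ≤ Z j₀ := by
      change closure (Set.range ⇑(D.map (ψ ≫ j₀.hom))) ⊆ closure (Set.range ⇑(D.map j₀.hom))
      refine closure_mono ?_
      rintro _ ⟨x, rfl⟩
      refine ⟨D.map ψ x, ?_⟩
      rw [D.map_comp, Scheme.Hom.comp_apply]
    exact (lt_or_eq_of_le hle).resolve_left (hmin _ (Set.mem_range_self _))
  refine ⟨j₀.left, j₀.hom, fun j k ψ φ => ⟨?_⟩⟩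
  have h1 := hmono j ψ
  have h2 := hmono k (φ ≫ ψ)
  have h3 : closure (Set.range ⇑(D.map ((φ ≫ ψ) ≫ j₀.hom))) =
      closure (Set.range ⇑(D.map (ψ ≫ j₀.hom))) :=
    congrArg (fun s : Closeds (D.obj i₀) => (s : Set (D.obj i₀))) (h2.trans h1.symm)
  have hemb := he _ _ (ψ ≫ j₀.hom)
  rw [DenseRange, dense_iff_closure_eq, hemb.closure_eq_preimage_closure_image]
  have h4 : ⇑(D.map (ψ ≫ j₀.hom)) '' Set.range ⇑(D.map φ) =
      Set.range ⇑(D.map ((φ ≫ ψ) ≫ j₀.hom)) := by
    rw [← Set.range_comp]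
    congr 1
    ext x
    rw [Category.assoc, D.map_comp φ, Scheme.Hom.comp_apply]
    rfl
  rw [h4, h3, Set.eq_univ_iff_forall]
  intro x
  exact subset_closure (Set.mem_range_self x)

end Groth.Agent.Lib.Helper23
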