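/-
Helper library (helper23): adjoining a terminal stage to a diagram does not change its limit.
-/
import Mathlib

set_option autoImplicit false
universe v u v' u'
open CategoryTheory Limits

namespace Groth.Agent.Lib.Helper23.WithTerminalLim

variable {J : Type u} [Category.{v} J] {C : Type u'} [Category.{v'} C]
  {Z : C} (E : J ⥤ C) (M : ∀ j : J, E.obj j ⟶ Z)
  (hM : ∀ (x y : J) (f : x ⟶ y), E.map f ≫ M y = M x)

/-- The cone over the extended diagram with the same point. -/
def extCone (c : Cone E) (m : c.pt ⟶ Z) (hm : ∀ j, c.π.app j ≫ M j = m) :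
    Cone (WithTerminal.lift E M hM) where
  pt := c.pt
  π :=
    { app := fun X =>
        match X with
        | WithTerminal.of j => c.π.app j
        | WithTerminal.star => m
      naturality := by
        intro X Y f
        match X, Y, f with
        | WithTerminal.of i, WithTerminal.of j, f =>
          show 𝟙 _ ≫ c.π.app j = c.π.app i ≫ E.map (WithTerminal.down f)
          rw [Category.id_comp, c.w]
        | WithTerminal.of i, WithTerminal.star, _ =>
          show 𝟙 _ ≫ m = c.π.app i ≫ M i
          rw [Category.id_comp, hm]
        | WithTerminal.star, WithTerminal.star, _ =>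
          show 𝟙 _ ≫ m = m ≫ 𝟙 Z
          simp }

@[simp]
theorem extCone_pt (c : Cone E) (m : c.pt ⟶ Z) (hm : ∀ j, c.π.app j ≫ M j = m) :
    (extCone E M hM c m hm).pt = c.pt := rfl

@[simp]
theorem extCone_π_of (c : Cone E) (m : c.pt ⟶ Z) (hm : ∀ j, c.π.app j ≫ M j = m) (j : J) :
    (extCone E M hM c m hm).π.app (WithTerminal.of j) = c.π.app j := rfl

@[simp]
theorem extCone_π_star (c : Cone E) (m : c.pt ⟶ Z) (hm : ∀ j, c.π.app j ≫ M j = m) :
    (extCone E M hM c m hm).π.app WithTerminal.star = m := rfl

/-- Restrict a cone over the extended diagram. -/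
def restrictCone (s : Cone (WithTerminal.lift E M hM)) : Cone E where
  pt := s.pt
  π :=
    { app := fun j => s.π.app (WithTerminal.of j)
      naturality := by
        intro i j f
        have := s.w (WithTerminal.incl.map f)
        show 𝟙 _ ≫ s.π.app (WithTerminal.of j) = s.π.app (WithTerminal.of i) ≫ E.map f
        rw [Category.id_comp]
        exact this.symm }

/-- The extended cone is a limit cone. -/
def isLimitExtCone [Nonempty J] (c : Cone E) (m : c.pt ⟶ Z) (hm : ∀ j, c.π.app j ≫ M j = m)
    (hc : IsLimit c) : IsLimit (extCone E M hM c m hm) where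
  lift s := hc.lift (restrictCone E M hM s)
  fac s X := by
    match X with
    | WithTerminal.of j => exact hc.fac (restrictCone E M hM s) j
    | WithTerminal.star =>
      obtain ⟨j⟩ := ‹Nonempty J›
      have h1 := hc.fac (restrictCone E M hM s) j
      have h2 := s.w (WithTerminal.homFrom j)
      show hc.lift (restrictCone E M hM s) ≫ m = _
      rw [← hm j, ← Category.assoc, h1]
      exact h2
  uniq s m' h := by
    apply hc.uniq (restrictCone E M hM s)
    intro j
    exact h (WithTerminal.of j)

end Groth.Agent.Lib.Helper23.WithTerminalLim
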