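/-
Helper library (helper23): for an `R`-algebra `S`, `Spec S` is the cofiltered limit of the spectra
of the finitely generated `R`-subalgebras of `S`; the system may be extended by the terminal stage
`Spec R`.  (The `ℤ`-version of the first part is helper7's `FgSubalgLimit`.)
-/
import Mathlib
import Groth.Agent.Lib.Helper23.WithTerminalLim

set_option autoImplicit false
universe u
open CategoryTheory Limits AlgebraicGeometry

namespace Groth.Agent.Lib.Helper23.FgSubalgOver

section Diagram

variable (R : Type u) [CommRing R] (S : Type u) [CommRing S] [Algebra R S]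

theorem adjoin_mono {s t : Finset S} (h : s ≤ t) :
    Algebra.adjoin R (s : Set S) ≤ Algebra.adjoin R (t : Set S) :=
  Algebra.adjoin_mono (by exact_mod_cast h)

/-- The diagram of finitely generated `R`-subalgebras of `S`. -/
noncomputable def fgDiagram : Finset S ⥤ CommRingCat.{u} where
  obj s := CommRingCat.of (Algebra.adjoin R (s : Set S))
  map {s t} h := CommRingCat.ofHom (Subalgebra.inclusion (adjoin_mono R S h.le)).toRingHom
  map_id s := by ext; rfl
  map_comp g h := by ext; rfl

/-- The cocone with point `S`. -/
noncomputable def fgCocone : Cocone (fgDiagram R S) where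
  pt := CommRingCat.of S
  ι :=
    { app := fun s => CommRingCat.ofHom (Algebra.adjoin R (s : Set S)).val.toRingHom
      naturality := fun s t h => by ext; rfl }

variable {R S}

/-- The value of the descended map at `b`. -/
noncomputable def fgDescFun (s : Cocone (fgDiagram R S)) (b : S) : s.pt :=
  (s.ι.app {b}) ⟨b, Algebra.subset_adjoin (by simp)⟩

theorem fgDesc_key (s : Cocone (fgDiagram R S)) (t : Finset S) (b : S)
    (hb : b ∈ Algebra.adjoin R (t : Set S)) : (s.ι.app t) ⟨b, hb⟩ = fgDescFun s b := by
  classical
  have h1 := s.w (homOfLE (Finset.subset_union_left : t ≤ t ∪ {b}))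
  have h2 := s.w (homOfLE (Finset.subset_union_right : ({b} : Finset S) ≤ t ∪ {b}))
  rw [fgDescFun, ← h1, ← h2]
  rfl

/-- The descended ring homomorphism. -/
noncomputable def fgDescHom (s : Cocone (fgDiagram R S)) : S →+* s.pt where
  toFun := fgDescFun s
  map_one' := by
    rw [← fgDesc_key s ∅ 1 (one_mem _)]
    exact map_one (s.ι.app ∅).hom
  map_zero' := by
    rw [← fgDesc_key s ∅ 0 (zero_mem _)]
    exact map_zero (s.ι.app ∅).hom
  map_add' b b' := by
    classical
    have hb : b ∈ Algebra.adjoin R ((({b, b'} : Finset S)) : Set S) :=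
      Algebra.subset_adjoin (by simp)
    have hb' : b' ∈ Algebra.adjoin R ((({b, b'} : Finset S)) : Set S) :=
      Algebra.subset_adjoin (by simp)
    rw [← fgDesc_key s {b, b'} (b + b') (add_mem hb hb'), ← fgDesc_key s {b, b'} b hb,
      ← fgDesc_key s {b, b'} b' hb']
    exact map_add (s.ι.app {b, b'}).hom ⟨b, hb⟩ ⟨b', hb'⟩
  map_mul' b b' := by
    classical
    have hb : b ∈ Algebra.adjoin R ((({b, b'} : Finset S)) : Set S) :=
      Algebra.subset_adjoin (by simp)
    have hb' : b' ∈ Algebra.adjoin R ((({b, b'} : Finset S)) : Set S) :=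
      Algebra.subset_adjoin (by simp)
    rw [← fgDesc_key s {b, b'} (b * b') (mul_mem hb hb'), ← fgDesc_key s {b, b'} b hb,
      ← fgDesc_key s {b, b'} b' hb']
    exact map_mul (s.ι.app {b, b'}).hom ⟨b, hb⟩ ⟨b', hb'⟩

variable (R S)

/-- `S` is the colimit of its finitely generated `R`-subalgebras. -/
noncomputable def isColimitFgCocone : IsColimit (fgCocone R S) where
  desc s := CommRingCat.ofHom (fgDescHom s)
  fac s t := by
    ext x
    exact (fgDesc_key s t x.1 x.2).symm
  uniq s m hm := by
    ext (b : S)
    have hb : b ∈ Algebra.adjoin R ((({b} : Finset S)) : Set S) :=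
      Algebra.subset_adjoin (Finset.mem_coe.mpr (Finset.mem_singleton_self b))
    have h := congr($(hm {b}) (⟨b, hb⟩ : Algebra.adjoin R ((({b} : Finset S)) : Set S)))
    exact h

/-- The inverse system of spectra of the finitely generated subalgebras. -/
noncomputable def specD : (Finset S)ᵒᵖ ⥤ Scheme.{u} := (fgDiagram R S).op ⋙ Scheme.Spec

/-- The cone with point `Spec S`. -/
noncomputable def specC : Cone (specD R S) := Scheme.Spec.mapCone (fgCocone R S).op

/-- `Spec S` is the limit of the spectra of its finitely generated subalgebras. -/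
noncomputable def isLimitSpecC : IsLimit (specC R S) :=
  isLimitOfPreserves Scheme.Spec (isColimitFgCocone R S).op

/-- The structure maps to `Spec R`. -/
noncomputable def toBase (j : (Finset S)ᵒᵖ) : (specD R S).obj j ⟶ Spec (CommRingCat.of R) :=
  Spec.map (CommRingCat.ofHom (algebraMap R (Algebra.adjoin R (j.unop : Set S))))

theorem map_toBase (i j : (Finset S)ᵒᵖ) (f : i ⟶ j) :
    (specD R S).map f ≫ toBase R S j = toBase R S i := by
  dsimp only [specD, toBase, Functor.comp_map, Scheme.Spec_map, Functor.op_map]
  rw [← Spec.map_comp]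
  rfl

/-- The system extended by the terminal stage `Spec R`. -/
noncomputable def specD' : WithTerminal ((Finset S)ᵒᵖ) ⥤ Scheme.{u} :=
  WithTerminal.lift (specD R S) (toBase R S) (map_toBase R S)

theorem specC_toBase (j : (Finset S)ᵒᵖ) :
    (specC R S).π.app j ≫ toBase R S j = Spec.map (CommRingCat.ofHom (algebraMap R S)) := by
  show Spec.map ((fgCocone R S).ι.app j.unop) ≫
      Spec.map (CommRingCat.ofHom (algebraMap R (Algebra.adjoin R (j.unop : Set S)))) = _
  rw [← Spec.map_comp]
  rfl

/-- The extended cone with point `Spec S`. -/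
noncomputable def specC' : Cone (specD' R S) :=
  WithTerminalLim.extCone (specD R S) (toBase R S) (map_toBase R S) (specC R S)
    (Spec.map (CommRingCat.ofHom (algebraMap R S))) (specC_toBase R S)

/-- The extended cone is a limit cone. -/
noncomputable def isLimitSpecC' : IsLimit (specC' R S) :=
  WithTerminalLim.isLimitExtCone _ _ _ _ _ _ (isLimitSpecC R S)

instance (j : WithTerminal ((Finset S)ᵒᵖ)) : IsAffine ((specD' R S).obj j) := by
  match j with
  | WithTerminal.of j => exact inferInstanceAs (IsAffine (Spec _))
  | WithTerminal.star => exact inferInstanceAs (IsAffine (Spec _))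

instance (i j : WithTerminal ((Finset S)ᵒᵖ)) (a : i ⟶ j) : IsAffineHom ((specD' R S).map a) :=
  isAffineHom_of_isAffine _

end Diagram

end Groth.Agent.Lib.Helper23.FgSubalgOver
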