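/-
Helper library (helper23): universal openness of `Spec K ⟶ Spec A` for a zero-dimensional local
ring `A`, and moving a point of an open subset of a fibre product `X ×[S] Y` within the fibre over
its image in `X` to a point lying over a closed point of `Y`.
-/
import Mathlib

set_option autoImplicit false
universe u
open CategoryTheory AlgebraicGeometry Limits

namespace Groth.Agent.Lib.Helper23.FibreClosedPoint

/-- A surjective closed immersion is universally open. -/
theorem universallyOpen_of_isClosedImmersion_of_surjective {X Y : Scheme.{u}} (f : X ⟶ Y)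
    [IsClosedImmersion f] [Surjective f] : UniversallyOpen f := by
  rw [UniversallyOpen.eq]
  intro X' Y' i₁ i₂ f' hf
  haveI : IsClosedImmersion f' := MorphismProperty.of_isPullback hf.flip inferInstance
  haveI : Surjective f' := MorphismProperty.of_isPullback hf.flip inferInstance
  have hhom : IsHomeomorph f' :=
    isHomeomorph_iff_isEmbedding_surjective.mpr
      ⟨f'.isClosedEmbedding.isEmbedding, f'.surjective⟩
  exact hhom.isOpenMap

/-- A ring homomorphism from a zero-dimensional local ring to a field is local. -/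
theorem isLocalHom_of_krullDimLE_zero {A K : Type*} [CommRing A] [IsLocalRing A]
    [Ring.KrullDimLE 0 A] [Field K] (φ : A →+* K) : IsLocalHom φ := by
  refine ⟨fun a ha => ?_⟩
  by_contra hna
  have hmem : a ∈ IsLocalRing.maximalIdeal A := (IsLocalRing.mem_maximalIdeal a).mpr hna
  haveI : (RingHom.ker φ).IsPrime := RingHom.ker_isPrime φ
  rw [← Ring.KrullDimLE.eq_maximalIdeal_of_isPrime (RingHom.ker φ), RingHom.mem_ker] at hmem
  rw [hmem] at ha
  exact not_isUnit_zero ha

/-- `Spec K ⟶ Spec A` is universally open when `K` is a field and `A` is a zero-dimensional local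
ring. -/
theorem universallyOpen_SpecMap_of_field {A K : Type u} [CommRing A] [IsLocalRing A]
    [Ring.KrullDimLE 0 A] [Field K] (φ : A →+* K) :
    UniversallyOpen (Spec.map (CommRingCat.ofHom φ)) := by
  haveI := isLocalHom_of_krullDimLE_zero φ
  have hfac : CommRingCat.ofHom φ = CommRingCat.ofHom (IsLocalRing.residue A) ≫
      CommRingCat.ofHom (IsLocalRing.ResidueField.lift φ) := by
    ext a
    simp
  rw [hfac, Spec.map_comp]
  haveI : IsClosedImmersion (Spec.map (CommRingCat.ofHom (IsLocalRing.residue A))) :=
    IsClosedImmersion.spec_of_surjective _ IsLocalRing.residue_surjective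
  haveI : Surjective (Spec.map (CommRingCat.ofHom (IsLocalRing.residue A))) := by
    refine ⟨fun p => ⟨IsLocalRing.closedPoint (IsLocalRing.ResidueField A), ?_⟩⟩
    apply PrimeSpectrum.ext
    rw [Ring.KrullDimLE.eq_maximalIdeal_of_isPrime p.asIdeal]
    exact Ring.KrullDimLE.eq_maximalIdeal_of_isPrime _
  haveI := universallyOpen_of_isClosedImmersion_of_surjective
    (Spec.map (CommRingCat.ofHom (IsLocalRing.residue A)))
  infer_instance

/-- For a scheme over a zero-dimensional local ring, `Spec κ(x) ⟶ X ⟶ Spec A` is universally open. -/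
theorem universallyOpen_fromSpecResidueField_comp {A : Type u} [CommRing A] [IsLocalRing A]
    [Ring.KrullDimLE 0 A] {X : Scheme.{u}} (f : X ⟶ Spec (CommRingCat.of A)) (x : X) :
    UniversallyOpen (X.fromSpecResidueField x ≫ f) := by
  obtain ⟨ψ, hψ⟩ := Spec.map_surjective (X.fromSpecResidueField x ≫ f)
  rw [← hψ]
  exact universallyOpen_SpecMap_of_field (K := ↑(X.residueField x)) ψ.hom

/-- In a fibre product `X ×[S] Y` with `Y` Jacobson, if `Spec κ(x) ⟶ S` is universally open, a point
`t` over `x` of an open `W` can be moved inside `W` and inside the fibre over `x` to a point lying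
over a closed point of `Y` which is a specialization of the image of `t`. -/
theorem exists_mem_fibre_over_closedPoint {X S Y : Scheme.{u}} (f : X ⟶ S) (g : Y ⟶ S)
    [JacobsonSpace Y] (W : (pullback f g).Opens) (t : ↑(pullback f g)) (ht : t ∈ W)
    (huo : UniversallyOpen (X.fromSpecResidueField (pullback.fst f g t) ≫ f)) :
    ∃ z : ↑(pullback f g), z ∈ W ∧ pullback.fst f g z = pullback.fst f g t ∧
      IsClosed {pullback.snd f g z} ∧ pullback.snd f g t ⤳ pullback.snd f g z := by
  set x := pullback.fst f g t with hx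
  set ι := X.fromSpecResidueField x with hι
  let p₁ := pullback.fst (pullback.fst f g) ι
  let p₂ := pullback.snd (pullback.fst f g) ι
  have hsq : IsPullback p₂ (p₁ ≫ pullback.snd f g) (ι ≫ f) g :=
    ((IsPullback.of_hasPullback (pullback.fst f g) ι).paste_horiz
      (IsPullback.of_hasPullback f g).flip).flip
  haveI : UniversallyOpen (p₁ ≫ pullback.snd f g) := MorphismProperty.of_isPullback hsq huo
  have hopen : IsOpenMap (p₁ ≫ pullback.snd f g) := (p₁ ≫ pullback.snd f g).isOpenMap
  have hrange : Set.range p₁ = (pullback.fst f g) ⁻¹' {x} := by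
    rw [Scheme.Pullback.range_fst, hι, Scheme.range_fromSpecResidueField]
  obtain ⟨z₀, hz₀⟩ : t ∈ Set.range p₁ := by
    rw [hrange]; exact rfl
  let O : Set Y := (p₁ ≫ pullback.snd f g) '' (p₁ ⁻¹' (W : Set ↑(pullback f g)))
  have hO : IsOpen O := hopen _ (W.2.preimage p₁.continuous)
  have htO : pullback.snd f g t ∈ O := ⟨z₀, by simpa [hz₀] using ht, by
    rw [Scheme.Hom.comp_apply, hz₀]⟩
  obtain ⟨y', ⟨hy'1, hy'2⟩, hy'3⟩ := nonempty_inter_closedPoints
    (Z := closure {pullback.snd f g t} ∩ O) ⟨_, subset_closure rfl, htO⟩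
    (isClosed_closure.isLocallyClosed.inter hO.isLocallyClosed)
  obtain ⟨z₁, hz₁W, hz₁⟩ := hy'2
  refine ⟨p₁ z₁, hz₁W, ?_, ?_, ?_⟩
  · have : p₁ z₁ ∈ Set.range p₁ := ⟨z₁, rfl⟩
    rw [hrange] at this
    exact this
  · rw [← Scheme.Hom.comp_apply, hz₁]
    exact hy'3
  · rw [← Scheme.Hom.comp_apply, hz₁]
    exact specializes_iff_mem_closure.mpr hy'1

end Groth.Agent.Lib.Helper23.FibreClosedPoint
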