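import Mathlib
import Groth.Agent.Lib.Helper23.FlatGeneric
import Groth.Agent.Lib.Helper23.FibreCritScheme
import Groth.Agent.H76.FlatLocusFP

/-!
# Fibre dimension at generizations of generic points of fibre components (ring level)

`R → T` flat of finite presentation, `𝔮` a prime of `T` minimal among the primes over `𝔮 ∩ R`,
`𝔮' ≤ 𝔮`.  Then there is a prime `𝔮'' ≤ 𝔮'` in the fibre of `𝔮'` whose fibre dimension is at least
that of `𝔮`.  The proof maps `Spec T` to an affine space over `R` via a transcendence basis at `𝔮`,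
uses the fibrewise flatness criterion to see that this map is flat at `𝔮`, hence (openness of the
flat locus) at `𝔮'`, and applies going down.
-/

set_option autoImplicit false
universe u

namespace Groth.Agent.Lib.Helper23.FibreDimGenericRing

open Groth.Agent.Lib.Helper23.FlatGeneric Groth.Agent.Lib.Helper23.FlatDimTrdeg
  Groth.Agent.Lib.Helper23.FibreCritFT Groth.Agent.Lib.Helper23.EssFPStalk
  Groth.Agent.Lib.Helper23.FibreCritScheme AlgebraicGeometry

section Poly

variable {R : Type u} [CommRing R] {σ : Type u}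

theorem isPrime_map_C (p : Ideal R) [p.IsPrime] :
    (p.map (MvPolynomial.C : R →+* MvPolynomial σ R)).IsPrime := by
  have h : p.map (MvPolynomial.C : R →+* MvPolynomial σ R) =
      RingHom.ker (MvPolynomial.map (Ideal.Quotient.mk p) :
        MvPolynomial σ R →+* MvPolynomial σ (R ⧸ p)) := by
    rw [MvPolynomial.ker_map, Ideal.mk_ker]
  rw [h]
  exact RingHom.ker_isPrime _

theorem comap_C_map_C (p : Ideal R) :
    (p.map (MvPolynomial.C : R →+* MvPolynomial σ R)).comap MvPolynomial.C = p := by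
  classical
  ext a
  rw [Ideal.mem_comap, MvPolynomial.mem_map_C_iff]
  constructor
  · intro h
    have := h 0
    rwa [MvPolynomial.coeff_C, if_pos rfl] at this
  · intro h m
    rw [MvPolynomial.coeff_C]
    split_ifs
    · exact h
    · exact p.zero_mem

end Poly

section FlatAt

variable {R T : Type u} [CommRing R] [CommRing T] [Algebra R T]

open IsLocalRing in
/-- The map `Spec T → 𝔸^σ_R` given by functions `y` which are algebraically independent modulo `𝔮`
is flat at `𝔮`. -/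
theorem flat_localization_of_coeff_mem (H : FibreCritFP.{u}) [Module.Flat R T]
    [Algebra.FinitePresentation R T] {σ : Type u} [Finite σ] (y : σ → T)
    [Algebra (MvPolynomial σ R) T] [IsScalarTower R (MvPolynomial σ R) T]
    (halg : ∀ Φ : MvPolynomial σ R, algebraMap (MvPolynomial σ R) T Φ = MvPolynomial.aeval y Φ)
    (𝔮 : Ideal T) [𝔮.IsPrime]
    (hel : ∀ Φ : MvPolynomial σ R, MvPolynomial.aeval y Φ ∈ 𝔮 → ∀ m, Φ.coeff m ∈ 𝔮.under R) :
    Module.Flat (MvPolynomial σ R) (Localization.AtPrime 𝔮) := by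
  set P := MvPolynomial σ R with hP
  set p : Ideal R := 𝔮.under R with hp
  set 𝔫 : Ideal P := 𝔮.under P with h𝔫
  have h𝔫eq : 𝔫 = p.map (MvPolynomial.C : R →+* P) := by
    apply le_antisymm
    · intro Φ hΦ
      rw [MvPolynomial.mem_map_C_iff]
      refine hel Φ ?_
      rw [← halg]
      exact hΦ
    · rw [Ideal.map_le_iff_le_comap]
      intro a ha
      show algebraMap P T (MvPolynomial.C a) ∈ 𝔮
      rw [← MvPolynomial.algebraMap_eq, ← IsScalarTower.algebraMap_apply R P T]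
      exact ha
  have h1 : p = 𝔫.comap (algebraMap R P) := by
    rw [h𝔫eq, MvPolynomial.algebraMap_eq, comap_C_map_C]
  let α := Localization.localRingHom p 𝔫 (algebraMap R P) h1
  let β := Localization.localRingHom 𝔫 𝔮 (algebraMap P T) rfl
  have hβα : Localization.localRingHom p 𝔮 ((algebraMap P T).comp (algebraMap R P))
      (by rw [h1]; rfl) = β.comp α :=
    Localization.localRingHom_comp p 𝔫 𝔮 (algebraMap R P) h1 (algebraMap P T) rfl
  have hcomp : (algebraMap P T).comp (algebraMap R P) = algebraMap R T :=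
    (IsScalarTower.algebraMap_eq R P T).symm
  have hflat : ((algebraMap P T).comp (algebraMap R P)).Flat := by
    rw [hcomp]
    exact RingHom.flat_algebraMap_iff.mpr inferInstance
  have hfp : ((algebraMap P T).comp (algebraMap R P)).FinitePresentation := by
    rw [hcomp]
    exact RingHom.finitePresentation_algebraMap.mpr inferInstance
  have hα : α.EssFiniteType :=
    essFiniteType_localRingHom (algebraMap R P)
      (RingHom.finiteType_algebraMap.mpr inferInstance) 𝔫 p h1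
  have hγ : EssFP (β.comp α) := by
    rw [← hβα]
    exact essFP_localRingHom' _ hfp 𝔮 p _
  have hγflat : (β.comp α).Flat := by
    rw [← hβα]
    exact RingHom.Flat.localRingHom hflat 𝔮 p _
  have hmax : Ideal.map α (maximalIdeal (Localization.AtPrime p)) =
      maximalIdeal (Localization.AtPrime 𝔫) := by
    rw [← Localization.AtPrime.map_eq_maximalIdeal, ← Localization.AtPrime.map_eq_maximalIdeal,
      Ideal.map_map]
    have h2 : α.comp (algebraMap R (Localization.AtPrime p)) =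
        (algebraMap P (Localization.AtPrime 𝔫)).comp (algebraMap R P) := by
      ext r
      exact Localization.localRingHom_to_map p 𝔫 (algebraMap R P) h1 r
    rw [h2, ← Ideal.map_map, MvPolynomial.algebraMap_eq, ← h𝔫eq]
  have hfield : IsField (Localization.AtPrime 𝔫 ⧸
      Ideal.map α (maximalIdeal (Localization.AtPrime p))) := by
    rw [hmax]
    exact (Ideal.Quotient.maximal_ideal_iff_isField_quotient _).mp (maximalIdeal.isMaximal _)
  have hβflat : β.Flat :=
    ((fibre_criterion_ringHom H α β hα hγ).mp ⟨hγflat, RingHom.Flat.of_isField hfield _⟩).2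
  -- conclude
  letI algBC : Algebra (Localization.AtPrime 𝔫) (Localization.AtPrime 𝔮) := β.toAlgebra
  haveI : IsScalarTower P (Localization.AtPrime 𝔫) (Localization.AtPrime 𝔮) := by
    refine IsScalarTower.of_algebraMap_eq fun Φ => ?_
    rw [IsScalarTower.algebraMap_apply P T (Localization.AtPrime 𝔮)]
    exact (Localization.localRingHom_to_map 𝔫 𝔮 (algebraMap P T) rfl Φ).symm
  haveI : Module.Flat (Localization.AtPrime 𝔫) (Localization.AtPrime 𝔮) := hβflat
  exact Module.Flat.trans P (Localization.AtPrime 𝔫) (Localization.AtPrime 𝔮)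

set_option maxHeartbeats 1000000 in
/-- **Ring-level core.** -/
theorem exists_prime_le_fibreDimAt_ge (H : FibreCritFP.{u}) [Module.Flat R T]
    [Algebra.FinitePresentation R T] (𝔮 : Ideal T) [𝔮.IsPrime]
    (hmin : ∀ 𝔮₁ : Ideal T, 𝔮₁.IsPrime → 𝔮₁ ≤ 𝔮 → 𝔮₁.under R = 𝔮.under R → 𝔮₁ = 𝔮)
    (𝔮' : Ideal T) [𝔮'.IsPrime] (hle : 𝔮' ≤ 𝔮) :
    ∃ (𝔮'' : Ideal T) (h : 𝔮''.IsPrime), 𝔮'' ≤ 𝔮' ∧ 𝔮''.under R = 𝔮'.under R ∧
      FlatMor.fibreDimAt (Spec.map (CommRingCat.ofHom (algebraMap R T))) ⟨𝔮, inferInstance⟩ ≤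
        FlatMor.fibreDimAt (Spec.map (CommRingCat.ofHom (algebraMap R T))) ⟨𝔮'', h⟩ := by
  classical
  -- the fibre data at `𝔮`
  obtain ⟨Q, hQ⟩ := exists_fiber_prime (A := R) 𝔮
  obtain ⟨r, hr, hfd⟩ := fibreDimAt_eq 𝔮 Q hQ
  obtain ⟨d, hd, hdim⟩ := exists_height_eq 𝔮 Q
  have hd0 : d = 0 := by
    have h0 : Q.asIdeal.height = 0 := by
      rw [Ideal.height_eq_zero_iff]
      refine ⟨⟨Q.2, bot_le⟩, ?_⟩
      rintro Q₁ ⟨hQ₁, -⟩ hQ₁Q
      haveI := hQ₁
      have hle1 : Q₁.comap (Algebra.TensorProduct.includeRight.toRingHom :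
          T →+* (𝔮.under R).Fiber T) ≤ 𝔮 :=
        (Ideal.comap_mono hQ₁Q).trans hQ.le
      have hover : (Q₁.comap (Algebra.TensorProduct.includeRight :
          T →ₐ[R] (𝔮.under R).Fiber T)).under R = 𝔮.under R :=
        (Ideal.LiesOver.over (P := Q₁.comap (Algebra.TensorProduct.includeRight :
          T →ₐ[R] (𝔮.under R).Fiber T)) (p := 𝔮.under R)).symm
      have heq := hmin _ (Ideal.comap_isPrime _ _) hle1 hover
      let e := PrimeSpectrum.primesOverOrderIsoFiber R T (𝔮.under R)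
      have h1 : e.symm ⟨Q₁, hQ₁⟩ = e.symm Q := by
        apply Subtype.ext
        rw [PrimeSpectrum.coe_primesOverOrderIsoFiber_symm_apply,
          PrimeSpectrum.coe_primesOverOrderIsoFiber_symm_apply]
        exact heq.trans hQ.symm
      have h2 : (⟨Q₁, hQ₁⟩ : PrimeSpectrum ((𝔮.under R).Fiber T)) = Q := e.symm.injective h1
      rw [← h2]
    rw [h0] at hd
    exact_mod_cast hd.symm
  have htr : Algebra.trdeg (R ⧸ 𝔮.under R) (T ⧸ 𝔮) = r := by
    rw [← hr, ← trdeg_quotient_eq_trdeg_fiber_quotient (𝔮.under R) Q.asIdeal]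
    exact trdeg_quotient_congr rfl hQ.symm
  -- a transcendence basis
  obtain ⟨σ, hσ⟩ := exists_isTranscendenceBasis (R ⧸ 𝔮.under R) (T ⧸ 𝔮)
  have hcard : Cardinal.mk σ = r := hσ.cardinalMk_eq_trdeg.trans htr
  haveI : Finite σ := by
    rw [← Cardinal.lt_aleph0_iff_finite, hcard]
    exact Cardinal.natCast_lt_aleph0
  choose y hy using fun i : σ => Ideal.Quotient.mk_surjective (i : T ⧸ 𝔮)
  have hy' : (fun i : σ => Ideal.Quotient.mk 𝔮 (y i)) = Subtype.val := funext hy
  have hind : AlgebraicIndependent (R ⧸ 𝔮.under R) (fun i : σ => Ideal.Quotient.mk 𝔮 (y i)) :=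
    hy' ▸ hσ.1
  have hel : ∀ Φ : MvPolynomial σ R, MvPolynomial.aeval y Φ ∈ 𝔮 →
      ∀ m, Φ.coeff m ∈ 𝔮.under R := fun Φ hΦ m =>
    coeff_mem_of_algebraicIndependent (𝔮.under R) 𝔮 y hind Φ hΦ m
  -- the map to affine space
  letI algPT : Algebra (MvPolynomial σ R) T := (MvPolynomial.aeval y).toRingHom.toAlgebra
  haveI : IsScalarTower R (MvPolynomial σ R) T :=
    IsScalarTower.of_algebraMap_eq fun a => (MvPolynomial.aeval_C y a).symm
  have halg : ∀ Φ : MvPolynomial σ R, algebraMap (MvPolynomial σ R) T Φ = MvPolynomial.aeval y Φ :=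
    fun Φ => rfl
  have hflat𝔮 := flat_localization_of_coeff_mem H y halg 𝔮 hel
  haveI : Algebra.FinitePresentation (MvPolynomial σ R) T :=
    Algebra.FinitePresentation.of_restrict_scalars_finitePresentation R (MvPolynomial σ R) T
  have hopen := Groth.Agent.H76.FlatLocusFP.isOpen_flatLocus (R := MvPolynomial σ R) (S := T)
    (M := T)
  have hloc : ∀ (𝔯 : Ideal T) [𝔯.IsPrime],
      Module.Flat (MvPolynomial σ R) (LocalizedModule 𝔯.primeCompl T) ↔
        Module.Flat (MvPolynomial σ R) (Localization.AtPrime 𝔯) := by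
    intro 𝔯 _
    let l1 : T →ₗ[T] Localization.AtPrime 𝔯 := Algebra.linearMap _ _
    haveI : IsLocalizedModule 𝔯.primeCompl l1 :=
      (isLocalizedModule_iff_isLocalization' _ _).mpr inferInstance
    let eq : LocalizedModule 𝔯.primeCompl T ≃ₗ[T] Localization.AtPrime 𝔯 :=
      IsLocalizedModule.iso _ l1
    exact ⟨fun h => Module.Flat.of_linearEquiv (eq.symm.restrictScalars (MvPolynomial σ R)),
      fun h => Module.Flat.of_linearEquiv (eq.restrictScalars (MvPolynomial σ R))⟩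
  have hspec : (⟨𝔮', inferInstance⟩ : PrimeSpectrum T) ⤳ ⟨𝔮, inferInstance⟩ :=
    (PrimeSpectrum.le_iff_specializes _ _).mp hle
  have hmem𝔮 : (⟨𝔮, inferInstance⟩ : PrimeSpectrum T) ∈ {q : PrimeSpectrum T |
      Module.Flat (MvPolynomial σ R) (LocalizedModule q.asIdeal.primeCompl T)} :=
    (hloc 𝔮).mpr hflat𝔮
  have hmem𝔮' := hspec.mem_open hopen hmem𝔮
  haveI hflat𝔮' : Module.Flat (MvPolynomial σ R) (Localization.AtPrime 𝔮') := (hloc 𝔮').mp hmem𝔮'
  -- going down
  set p' : Ideal R := 𝔮'.under R with hp'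
  haveI : p'.IsPrime := Ideal.IsPrime.under R 𝔮'
  set 𝔫' : Ideal (MvPolynomial σ R) := p'.map MvPolynomial.C with h𝔫'
  haveI : 𝔫'.IsPrime := isPrime_map_C p'
  have h𝔫'le : 𝔫' ≤ 𝔮'.under (MvPolynomial σ R) := by
    rw [h𝔫', Ideal.map_le_iff_le_comap]
    intro a ha
    show algebraMap (MvPolynomial σ R) T (MvPolynomial.C a) ∈ 𝔮'
    rw [← MvPolynomial.algebraMap_eq, ← IsScalarTower.algebraMap_apply R (MvPolynomial σ R) T]
    exact ha
  have hcm : (IsLocalRing.maximalIdeal (Localization.AtPrime 𝔮')).comap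
      (algebraMap T (Localization.AtPrime 𝔮')) = 𝔮' :=
    Localization.AtPrime.under_maximalIdeal (I := 𝔮')
  haveI : (IsLocalRing.maximalIdeal (Localization.AtPrime 𝔮')).LiesOver
      (𝔮'.under (MvPolynomial σ R)) := by
    refine ⟨?_⟩
    rw [Ideal.under_def, Ideal.under_def,
      IsScalarTower.algebraMap_eq (MvPolynomial σ R) T (Localization.AtPrime 𝔮'),
      ← Ideal.comap_comap, hcm]
  haveI : (𝔮'.under (MvPolynomial σ R)).IsPrime := Ideal.IsPrime.under _ 𝔮'
  obtain ⟨𝔔, h𝔔le, h𝔔p, h𝔔over⟩ := Ideal.exists_ideal_le_liesOver_of_le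
    (IsLocalRing.maximalIdeal (Localization.AtPrime 𝔮')) h𝔫'le
  haveI := h𝔔p
  set 𝔮'' : Ideal T := 𝔔.comap (algebraMap T (Localization.AtPrime 𝔮')) with h𝔮''
  haveI h𝔮''p : 𝔮''.IsPrime := Ideal.comap_isPrime _ _
  have h𝔮''le : 𝔮'' ≤ 𝔮' := (Ideal.comap_mono h𝔔le).trans hcm.le
  have h𝔮''P : 𝔮''.under (MvPolynomial σ R) = 𝔫' := by
    rw [h𝔮'', Ideal.under_def, Ideal.comap_comap,
      ← IsScalarTower.algebraMap_eq (MvPolynomial σ R) T (Localization.AtPrime 𝔮')]
    exact (h𝔔over.over).symm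
  have h𝔮''R : 𝔮''.under R = p' := by
    have : 𝔮''.under R = (𝔮''.under (MvPolynomial σ R)).under R :=
      (Ideal.under_under (A := R) (B := MvPolynomial σ R) 𝔮'').symm
    rw [this, h𝔮''P, h𝔫', Ideal.under_def, MvPolynomial.algebraMap_eq, comap_C_map_C]
  haveI hlo : 𝔮''.LiesOver p' := ⟨h𝔮''R.symm⟩
  have hel'' : ∀ Φ : MvPolynomial σ R, MvPolynomial.aeval y Φ ∈ 𝔮'' → ∀ m, Φ.coeff m ∈ p' := by
    intro Φ hΦ
    have h1 : Φ ∈ 𝔮''.under (MvPolynomial σ R) := hΦ
    rw [h𝔮''P, h𝔫', MvPolynomial.mem_map_C_iff] at h1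
    exact h1
  have hind'' := algebraicIndependent_of_coeff_mem p' 𝔮'' y hel''
  have hcard'' : (r : Cardinal) ≤ Algebra.trdeg (R ⧸ p') (T ⧸ 𝔮'') := by
    rw [← hcard]
    exact hind''.cardinalMk_le_trdeg
  -- the fibre data at `𝔮''`
  obtain ⟨Q'', hQ''⟩ := exists_fiber_prime (A := R) 𝔮''
  obtain ⟨r₂, hr₂, hfd₂⟩ := fibreDimAt_eq 𝔮'' Q'' hQ''
  have h2 : Algebra.trdeg (R ⧸ p') (T ⧸ 𝔮'') = r₂ := by
    rw [← hr₂, ← trdeg_quotient_eq_trdeg_fiber_quotient (𝔮''.under R) Q''.asIdeal]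
    exact trdeg_quotient_congr h𝔮''R.symm hQ''.symm
  have hrr₂ : r ≤ r₂ := by
    rw [h2] at hcard''
    exact_mod_cast hcard''
  refine ⟨𝔮'', h𝔮''p, h𝔮''le, h𝔮''R, ?_⟩
  rw [hfd, hfd₂, hdim, hd0]
  have h0 : (0 : WithBot ℕ∞) ≤ ringKrullDim (Localization.AtPrime Q''.asIdeal) :=
    ringKrullDim_nonneg_of_nontrivial
  calc (((0 : ℕ) : WithBot ℕ∞)) + (r : WithBot ℕ∞) = ((r : ℕ) : WithBot ℕ∞) := by
        rw [Nat.cast_zero, zero_add]
    _ ≤ ((r₂ : ℕ) : WithBot ℕ∞) := by exact_mod_cast hrr₂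
    _ ≤ ringKrullDim (Localization.AtPrime Q''.asIdeal) + (r₂ : WithBot ℕ∞) :=
        le_add_of_nonneg_left h0

end FlatAt

end Groth.Agent.Lib.Helper23.FibreDimGenericRing
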