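import Mathlib
import Groth.Agent.Lib.Helper23.FibreDimGenericRing
import Groth.Agent.Lib.Helper55.ChevalleyBound
import Groth.Agent.S7408

/-!
# Fibre dimension at generizations of generic points of fibre components (scheme level)
-/

set_option autoImplicit false
universe u

namespace Groth.Agent.Lib.Helper23.FibreDimGenericScheme

open AlgebraicGeometry CategoryTheory Limits
  Groth.Agent.Lib.Helper23.FibreCritFT

/-- If the closure of `x` in its fibre is an irreducible component of that fibre, then `x` has no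
proper generization inside its fibre. -/
theorem eq_of_specializes_of_isGenericPoint {X S : Scheme.{u}} (f : X ⟶ S) (x : X)
    (hgen : ∃ Z ∈ irreducibleComponents ↥(f.fiber (f x)), IsGenericPoint (f.asFiber x) Z)
    (x₁ : X) (h1 : x₁ ⤳ x) (hf : f x₁ = f x) : x₁ = x := by
  obtain ⟨Z, hZ, hgx⟩ := hgen
  have hx₁ : x₁ ∈ Set.range (f.fiberι (f x)) := by
    rw [f.range_fiberι]
    exact hf
  obtain ⟨y₁, hy₁⟩ := hx₁
  have hfx : f.fiberι (f x) (f.asFiber x) = x := f.fiberι_asFiber x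
  have hsp : y₁ ⤳ f.asFiber x := by
    rw [← (f.fiberι (f x)).isEmbedding.isInducing.specializes_iff, hy₁, hfx]
    exact h1
  have hZle : Z ≤ closure {y₁} := by
    rw [← hgx.def]
    exact closure_minimal (Set.singleton_subset_iff.2 hsp.mem_closure) isClosed_closure
  have hmax : closure {y₁} ≤ Z := hZ.2 isIrreducible_singleton.closure hZle
  have hy₁gen : IsGenericPoint y₁ Z := le_antisymm hmax hZle
  have heq : y₁ = f.asFiber x := hy₁gen.eq hgx
  rw [← hy₁, heq, hfx]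

/-- **S9739.** -/
theorem fibreDimAt_eq_of_specializes_of_isGenericPoint (H : FibreCritFP.{u}) {X S : Scheme.{u}}
    (f : X ⟶ S) [Flat f] [LocallyOfFinitePresentation f] (x x' : X) (hsp : x' ⤳ x)
    (hgen : ∃ Z ∈ irreducibleComponents ↥(f.fiber (f x)), IsGenericPoint (f.asFiber x) Z) :
    FlatMor.fibreDimAt f x' = FlatMor.fibreDimAt f x := by
  classical
  refine le_antisymm (Groth.Agent.Lib.Helper55.fibreDimAt_le_of_specializes' f x' x hsp) ?_
  obtain ⟨V, hV, hfxV, -⟩ := exists_isAffineOpen_mem_and_subset (x := f x) (U := ⊤) trivial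
  obtain ⟨U, hU, hxU, hUle⟩ := exists_isAffineOpen_mem_and_subset (x := x)
    (U := f ⁻¹ᵁ V) hfxV
  have e : U ≤ f ⁻¹ᵁ V := hUle
  have hx'U : x' ∈ U := hsp.mem_open U.2 hxU
  set φ := f.appLE V U e with hφ
  letI : Algebra Γ(S, V) Γ(X, U) := φ.hom.toAlgebra
  haveI hfp : Algebra.FinitePresentation Γ(S, V) Γ(X, U) := f.finitePresentation_appLE hV hU e
  haveI hflat : Module.Flat Γ(S, V) Γ(X, U) := f.flat_appLE hV hU e
  set x₀ : Spec Γ(X, U) := hU.primeIdealOf ⟨x, hxU⟩ with hx₀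
  have hx₀x : hU.fromSpec x₀ = x := hU.fromSpec_primeIdealOf ⟨x, hxU⟩
  set x₀' : Spec Γ(X, U) := hU.primeIdealOf ⟨x', hx'U⟩ with hx₀'
  have hx₀'x : hU.fromSpec x₀' = x' := hU.fromSpec_primeIdealOf ⟨x', hx'U⟩
  have hcomm : Spec.map φ ≫ hV.fromSpec = hU.fromSpec ≫ f :=
    IsAffineOpen.SpecMap_appLE_fromSpec f hV hU e
  have hx₀'x₀ : x₀' ⤳ x₀ := by
    rw [← hU.fromSpec.isOpenEmbedding.isInducing.specializes_iff, hx₀'x, hx₀x]
    exact hsp
  have hle : x₀'.asIdeal ≤ x₀.asIdeal := (PrimeSpectrum.le_iff_specializes x₀' x₀).mpr hx₀'x₀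
  have hmin : ∀ 𝔮₁ : Ideal Γ(X, U), 𝔮₁.IsPrime → 𝔮₁ ≤ x₀.asIdeal →
      𝔮₁.under Γ(S, V) = x₀.asIdeal.under Γ(S, V) → 𝔮₁ = x₀.asIdeal := by
    intro 𝔮₁ h𝔮₁ h𝔮₁le h𝔮₁under
    set w₁ : Spec Γ(X, U) := ⟨𝔮₁, h𝔮₁⟩ with hw₁
    have hw₁x₀ : w₁ ⤳ x₀ := (PrimeSpectrum.le_iff_specializes w₁ x₀).mp h𝔮₁le
    have hφw₁ : Spec.map φ w₁ = Spec.map φ x₀ := by
      apply PrimeSpectrum.ext
      exact h𝔮₁under
    have h1 : hU.fromSpec w₁ ⤳ x := by
      rw [← hx₀x]
      exact hw₁x₀.map hU.fromSpec.continuous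
    have h2 : f (hU.fromSpec w₁) = f x := by
      have a1 := congr(($hcomm) w₁)
      have a2 := congr(($hcomm) x₀)
      rw [Scheme.Hom.comp_apply, Scheme.Hom.comp_apply] at a1 a2
      rw [← a1, hφw₁, a2, hx₀x]
    have h3 := eq_of_specializes_of_isGenericPoint f x hgen _ h1 h2
    rw [← hx₀x] at h3
    have h4 : w₁ = x₀ := hU.fromSpec.isOpenEmbedding.injective h3
    exact congrArg PrimeSpectrum.asIdeal h4
  obtain ⟨𝔮'', h𝔮'', h𝔮''le, -, hdim⟩ :=
    Groth.Agent.Lib.Helper23.FibreDimGenericRing.exists_prime_le_fibreDimAt_ge H x₀.asIdeal hmin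
      x₀'.asIdeal hle
  have hofHom : CommRingCat.ofHom (algebraMap Γ(S, V) Γ(X, U)) = φ := rfl
  rw [hofHom] at hdim
  set w : Spec Γ(X, U) := ⟨𝔮'', h𝔮''⟩ with hw
  have hwx₀' : w ⤳ x₀' := (PrimeSpectrum.le_iff_specializes w x₀').mp h𝔮''le
  have hwx' : hU.fromSpec w ⤳ x' := by
    rw [← hx₀'x]
    exact hwx₀'.map hU.fromSpec.continuous
  have hmono := Groth.Agent.Lib.Helper55.fibreDimAt_le_of_specializes' f _ x' hwx'
  refine le_trans ?_ hmono
  rw [← hx₀x, Groth.Agent.S7408.result f (Spec.map φ) hU.fromSpec hV.fromSpec hcomm x₀,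
    Groth.Agent.S7408.result f (Spec.map φ) hU.fromSpec hV.fromSpec hcomm w]
  exact hdim

end Groth.Agent.Lib.Helper23.FibreDimGenericScheme
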