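import Mathlib
import Groth.Agent.Lib.Helper23.FibreDimGenericScheme
import Groth.Agent.Lib.Helper23.FlatFibreDim
import Groth.Agent.Lib.Helper23.FlatFibreDimDense
import Groth.Agent.Lib.Helper55.FibreDimFormula

/-!
# Open pieces of constant fibre dimension, dense in every fibre (EGA IV 12.1.1.5 / Stacks 05F7)
-/

set_option autoImplicit false
universe u

namespace Groth.Agent.Lib.Helper23.FibreDimPieces

open AlgebraicGeometry CategoryTheory Limits Topology
  Groth.Agent.Lib.Helper23.FibreCritFT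

theorem exists_nat_fibreDimAt_eq {X Y : Scheme.{u}} (f : X ⟶ Y) [LocallyOfFiniteType f] (x : X) :
    ∃ k : ℕ, FlatMor.fibreDimAt f x = k := by
  obtain ⟨n, -, hfd⟩ := Groth.Agent.Lib.Helper55.fibreDimAt_eq_stalk_fiber_add_trdeg f x
  obtain ⟨d, hd⟩ := Groth.Agent.Lib.Helper55.exists_nat_ringKrullDim_stalk_fiber f x
  refine ⟨d + n, ?_⟩
  rw [hfd, hd]
  push_cast
  rfl

theorem eq_succ_of_lt_of_le (v : WithBot ℕ∞) (k : ℕ) (h1 : (k : WithBot ℕ∞) < v)
    (h2 : v ≤ ((k + 1 : ℕ) : WithBot ℕ∞)) : v = ((k + 1 : ℕ) : WithBot ℕ∞) := by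
  induction v using WithBot.recBotCoe with
  | bot => simp at h1
  | coe a =>
    induction a using ENat.recTopCoe with
    | top =>
      exfalso
      have h3 : ((⊤ : ℕ∞) : WithBot ℕ∞) ≤ (((k + 1 : ℕ) : ℕ∞) : WithBot ℕ∞) := h2
      rw [WithBot.coe_le_coe] at h3
      exact absurd h3 (by simp)
    | coe m =>
      have h3 : (((k : ℕ) : ℕ∞) : WithBot ℕ∞) < (((m : ℕ) : ℕ∞) : WithBot ℕ∞) := h1
      have h4 : (((m : ℕ) : ℕ∞) : WithBot ℕ∞) ≤ (((k + 1 : ℕ) : ℕ∞) : WithBot ℕ∞) := h2
      rw [WithBot.coe_lt_coe] at h3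
      rw [WithBot.coe_le_coe] at h4
      have h5 : k < m := by exact_mod_cast h3
      have h6 : m ≤ k + 1 := by exact_mod_cast h4
      have h7 : m = k + 1 := by omega
      subst h7
      rfl

/-- The locus where the fibre dimension equals `d` is a neighbourhood of every point all of whose
generizations have fibre dimension `d`. -/
theorem setOf_fibreDimAt_eq_mem_nhds {X S : Scheme.{u}} (f : X ⟶ S)
    [LocallyOfFinitePresentation f] (ξ : X) (d : ℕ)
    (h : ∀ x' : X, x' ⤳ ξ → FlatMor.fibreDimAt f x' = d) :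
    {x : X | FlatMor.fibreDimAt f x = d} ∈ 𝓝 ξ := by
  have hle : {x : X | FlatMor.fibreDimAt f x ≤ d} ∈ 𝓝 ξ :=
    (Groth.Agent.Lib.Helper55.isOpen_setOf_fibreDimAt_le' f d).mem_nhds (h ξ specializes_rfl).le
  rcases Nat.eq_zero_or_eq_succ_pred d with hd | hd
  · subst hd
    refine Filter.mem_of_superset hle ?_
    intro x hx
    exact le_antisymm hx (Groth.Agent.Lib.Helper23.FlatFibreDim.fibreDimAt_nonneg f x)
  · set k := d.pred with hk
    have hge : {x : X | ((k : ℕ) : WithBot ℕ∞) < FlatMor.fibreDimAt f x} ∈ 𝓝 ξ := by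
      refine Groth.Agent.Lib.Helper23.FlatFibreDimDense.mem_nhds_of_isLocallyConstructible_of_generizations
        (Groth.Agent.Lib.Helper23.FlatFibreDim.isLocallyConstructible_lt_fibreDimAt f _) ξ ?_
      intro x' hx'
      change ((k : ℕ) : WithBot ℕ∞) < FlatMor.fibreDimAt f x'
      rw [h x' hx', hd]
      exact_mod_cast Nat.lt_succ_self k
    refine Filter.mem_of_superset (Filter.inter_mem hle hge) ?_
    rintro x ⟨hx1, hx2⟩
    change FlatMor.fibreDimAt f x = d
    rw [hd] at hx1 ⊢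
    exact eq_succ_of_lt_of_le _ k hx2 hx1

/-- Transport of "generic point of an irreducible component of the fibre" along an equality of
base points. -/
theorem exists_component_of_eq {X S : Scheme.{u}} (f : X ⟶ S) (s s' : S) (hs : s' = s)
    (η : f.fiber s) (η' : f.fiber s') (hη : f.fiberι s η = f.fiberι s' η')
    (h : ∃ Z ∈ irreducibleComponents ↥(f.fiber s), IsGenericPoint η Z) :
    ∃ Z ∈ irreducibleComponents ↥(f.fiber s'), IsGenericPoint η' Z := by
  subst hs
  have : η = η' := (f.fiberι s').isEmbedding.injective hη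
  subst this
  exact h

/-- **S9757.** -/
theorem exists_opens (H : FibreCritFP.{u}) {X S : Scheme.{u}} (f : X ⟶ S) [Flat f]
    [LocallyOfFinitePresentation f] :
    ∃ U : ℕ → X.Opens, (∀ s : S, Dense ((f.fiberι s) ⁻¹' ((⨆ d, U d : X.Opens) : Set ↑X))) ∧
      ∀ (d : ℕ) (x : ↑X), x ∈ U d → FlatMor.fibreDimAt f x = d := by
  classical
  set U : ℕ → X.Opens := fun d : ℕ =>
    ⟨interior {x : X | FlatMor.fibreDimAt f x = ((d : ℕ) : WithBot ℕ∞)}, isOpen_interior⟩ with hU
  refine ⟨U, ?_, ?_⟩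
  · intro s
    have hdense : Dense (genericPoints ↥(f.fiber s)) := by
      rw [dense_iff_closure_eq]
      exact genericPoints.closure
    refine hdense.mono ?_
    intro η hη
    have hη' : closure {η} ∈ irreducibleComponents ↥(f.fiber s) := hη
    set ξ : X := f.fiberι s η with hξ
    have hfξ : f ξ = s := by
      have : ξ ∈ f ⁻¹' {s} := by
        rw [← f.range_fiberι s]
        exact ⟨η, rfl⟩
      exact this
    have hgen : ∃ Z ∈ irreducibleComponents ↥(f.fiber (f ξ)), IsGenericPoint (f.asFiber ξ) Z :=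
      exists_component_of_eq f s (f ξ) hfξ η (f.asFiber ξ) (f.fiberι_asFiber ξ).symm
        ⟨_, hη', isGenericPoint_closure⟩
    obtain ⟨d, hd⟩ := exists_nat_fibreDimAt_eq f ξ
    have hnhds : {x : X | FlatMor.fibreDimAt f x = d} ∈ 𝓝 ξ := by
      refine setOf_fibreDimAt_eq_mem_nhds f ξ d ?_
      intro x' hx'
      rw [Groth.Agent.Lib.Helper23.FibreDimGenericScheme.fibreDimAt_eq_of_specializes_of_isGenericPoint
        H f ξ x' hx' hgen, hd]
    have hmem : ξ ∈ interior {x : X | FlatMor.fibreDimAt f x = d} := mem_interior_iff_mem_nhds.mpr hnhds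
    change ξ ∈ ((⨆ d, U d : X.Opens) : Set X)
    rw [TopologicalSpace.Opens.coe_iSup]
    exact Set.mem_iUnion.mpr ⟨d, hmem⟩
  · intro d x hx
    have hx' : x ∈ interior {x : X | FlatMor.fibreDimAt f x = ((d : ℕ) : WithBot ℕ∞)} := hx
    have hx'' : x ∈ {x : X | FlatMor.fibreDimAt f x = ((d : ℕ) : WithBot ℕ∞)} := interior_subset hx'
    exact hx''

end Groth.Agent.Lib.Helper23.FibreDimPieces
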