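/-
Helper library (helper23): pointwise version of the fibrewise flatness `QuotFlat`: invariance under
base change of the base and under open immersions, and constructibility in the source of the set of
points where the fibre module is flat over the fibre of an intermediate scheme
(EGA IV 11.2.8 / 9.9.x type statements).
-/
import Mathlib
import Groth.Agent.Lib.Helper23.FibreFlatCons

set_option autoImplicit false
set_option linter.style.haveILetI false
universe u
open CategoryTheory Limits AlgebraicGeometry Topology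

namespace Groth.Agent.Lib.Helper23.FibreFlatPoint

open Groth.Agent.Lib Groth.Agent.Lib.Helper23 Groth.Agent.Lib.Helper23.ConsLocusModMor
  Groth.Agent.Lib.Helper23.FibreFlatCons

section PointBC

variable {X Y X' Y' : Scheme.{u}}

/-- Flatness at a point is invariant under flat base change. -/
theorem isFlatOverAt_baseChange_iff {f : X ⟶ Y} {f' : X' ⟶ Y'} {eX : X' ⟶ X} {eY : Y' ⟶ Y}
    (hX : IsPullback eX f' f eY) [Flat eY] (F : X.Modules) [F.IsQuasicoherent] (x' : X') :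
    FlatMod.IsFlatOverAt f' ((Scheme.Modules.pullback eX).obj F) x' ↔
      FlatMod.IsFlatOverAt f F (eX x') := by
  haveI : Flat eX := MorphismProperty.of_isPullback hX.flip inferInstance
  constructor
  · intro h1
    have h2 := Helper16.FlatPull.isFlatOverAt_comp_of_flat f' eY _ x'
      (Flat.stalkMap eY (f' x')) h1
    have h3 : FlatMod.IsFlatOverAt (eX ≫ f) ((Scheme.Modules.pullback eX).obj F) x' := by
      rw [hX.w]; exact h2
    exact (Helper16.FlatPull.isFlatOverAt_pullback_iff eX f F x' (Flat.stalkMap eX x')).mpr h3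
  · intro h
    exact Helper16.FlatPull.isFlatOverAt_baseChange f f' eX eY hX F x' h

end PointBC

section Square

variable {X Y S X' Y' S' : Scheme.{u}}

/-- The square of fibres attached to a base change of `X ⟶ Y ⟶ S` along `S' ⟶ S`. -/
theorem exists_fibre_square (f : X ⟶ Y) (g : Y ⟶ S) (h : S' ⟶ S) {f' : X' ⟶ Y'} {g' : Y' ⟶ S'}
    {eX : X' ⟶ X} {eY : Y' ⟶ Y} (hY : IsPullback eY g' g h) (hX : IsPullback eX f' f eY)
    (s' : S') :
    ∃ (pX : (f' ≫ g').fiber s' ⟶ (f ≫ g).fiber (h s')) (pY : g'.fiber s' ⟶ g.fiber (h s')),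
      pX ≫ (f ≫ g).fiberι (h s') = (f' ≫ g').fiberι s' ≫ eX ∧
      IsPullback pX (MoreMor.fiberMap f' g' s') (MoreMor.fiberMap f g (h s')) pY ∧ Flat pY := by
  obtain ⟨pY, hpY1, hpY⟩ := exists_isPullback_fiber' g h hY s'
  obtain ⟨pX, hpX1, hpX⟩ := exists_isPullback_fiber' (f ≫ g) h (hX.paste_vert hY) s'
  have hcomm : pX ≫ MoreMor.fiberMap f g (h s') = MoreMor.fiberMap f' g' s' ≫ pY := by
    apply pullback.hom_ext
    · change (pX ≫ MoreMor.fiberMap f g (h s')) ≫ g.fiberι (h s') =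
        (MoreMor.fiberMap f' g' s' ≫ pY) ≫ g.fiberι (h s')
      have l1 : (pX ≫ MoreMor.fiberMap f g (h s')) ≫ g.fiberι (h s') =
          (f' ≫ g').fiberι s' ≫ eX ≫ f := by
        rw [Category.assoc, fiberMap_fiberι, ← Category.assoc, hpX1, Category.assoc]
      have l2 : (MoreMor.fiberMap f' g' s' ≫ pY) ≫ g.fiberι (h s') =
          (f' ≫ g').fiberι s' ≫ f' ≫ eY := by
        rw [Category.assoc, hpY1, ← Category.assoc, fiberMap_fiberι, Category.assoc]
      rw [l1, l2, hX.w]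
    · change (pX ≫ MoreMor.fiberMap f g (h s')) ≫ g.fiberToSpecResidueField (h s') =
        (MoreMor.fiberMap f' g' s' ≫ pY) ≫ g.fiberToSpecResidueField (h s')
      rw [Category.assoc, fiberMap_fiberToSpecResidueField, Category.assoc, hpY.w,
        ← Category.assoc, fiberMap_fiberToSpecResidueField]
      exact hpX.w
  have hsq : IsPullback pX (MoreMor.fiberMap f' g' s') (MoreMor.fiberMap f g (h s')) pY := by
    refine IsPullback.of_bot ?_ hcomm hpY
    rw [fiberMap_fiberToSpecResidueField, fiberMap_fiberToSpecResidueField]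
    exact hpX
  have hfl : Flat (Spec.map (h.residueFieldMap s')) :=
    (fpqc_of_onePoint (Spec.map (h.residueFieldMap s'))).1.2
  exact ⟨pX, pY, hpX1, hsq, MorphismProperty.of_isPullback hpY.flip hfl⟩

end Square

section BaseChange

variable {X Y S X' Y' S' : Scheme.{u}}

/-- **Invariance of `QuotFlat` under base change of the base.** -/
theorem quotFlat_baseChange_iff (f : X ⟶ Y) (g : Y ⟶ S) (F : X.Modules) [F.IsQuasicoherent]
    (h : S' ⟶ S) {f' : X' ⟶ Y'} {g' : Y' ⟶ S'} {eX : X' ⟶ X} {eY : Y' ⟶ Y}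
    (hY : IsPullback eY g' g h) (hX : IsPullback eX f' f eY)
    (F' : X'.Modules) [F'.IsQuasicoherent] (eF : F' ≅ (Scheme.Modules.pullback eX).obj F)
    (x' : X') :
    QuotFlat f' g' F' x' ↔ QuotFlat f g F (eX x') := by
  obtain ⟨s', hs'⟩ : ∃ s', (f' ≫ g') x' = s' := ⟨_, rfl⟩
  obtain ⟨z', rfl⟩ := FibreFree.exists_fiberι_eq (f' ≫ g') hs'
  obtain ⟨pX, pY, hpX1, hsq, hfl⟩ := exists_fibre_square f g h hY hX s'
  haveI := hfl
  have hpt : eX (((f' ≫ g').fiberι s') z') = ((f ≫ g).fiberι (h s')) (pX z') := by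
    have := congrArg (fun φ : (f' ≫ g').fiber s' ⟶ X => φ z') hpX1
    simp only [Scheme.Hom.comp_apply] at this
    exact this.symm
  rw [hpt, ← isFlatOverAt_fiberMap_iff f' g' F' s' z', ← isFlatOverAt_fiberMap_iff f g F (h s')]
  haveI : ((Scheme.Modules.pullback ((f ≫ g).fiberι (h s'))).obj F).IsQuasicoherent :=
    ConsLocusMod.isQCoh_pullback _ F
  rw [← isFlatOverAt_baseChange_iff hsq _ z']
  have e : (Scheme.Modules.pullback ((f' ≫ g').fiberι s')).obj F' ≅
      (Scheme.Modules.pullback pX).obj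
        ((Scheme.Modules.pullback ((f ≫ g).fiberι (h s'))).obj F) :=
    (Scheme.Modules.pullback ((f' ≫ g').fiberι s')).mapIso eF ≪≫ ConsLocusMod.pbSquare hpX1.symm F
  exact ⟨isFlatOverAt_of_iso _ e z', isFlatOverAt_of_iso _ e.symm z'⟩

end BaseChange

section Alg

variable {B B₁ M M₁ : Type u} [CommRing B] [CommRing B₁] [AddCommGroup M] [AddCommGroup M₁]
  [Module B M] [Module B₁ M₁]

theorem map_mem_smul_top (β : B →+* B₁) (μ : M →+ M₁) (hμ : ∀ b m, μ (b • m) = β b • μ m)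
    (I : Ideal B) (I₁ : Ideal B₁) (hI : I.map β ≤ I₁) (m : M)
    (hm : m ∈ I • (⊤ : Submodule B M)) : μ m ∈ I₁ • (⊤ : Submodule B₁ M₁) := by
  refine Submodule.smul_induction_on hm ?_ ?_
  · intro a ha n _
    rw [hμ]
    exact Submodule.smul_mem_smul (hI (Ideal.mem_map_of_mem β ha)) trivial
  · intro x y hx hy
    rw [map_add]
    exact add_mem hx hy

/-- Transport of the flatness of `M / I M` over `B / I` along an isomorphism of the data. -/
theorem flat_quot_of_equiv (β : B ≃+* B₁) (μ : M ≃+ M₁)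
    (hμ : ∀ b m, μ (b • m) = β b • μ m) (I : Ideal B) (I₁ : Ideal B₁)
    (hI : I.map (β : B →+* B₁) = I₁)
    (h : Module.Flat (B₁ ⧸ I₁) (M₁ ⧸ I₁ • (⊤ : Submodule B₁ M₁))) :
    Module.Flat (B ⧸ I) (M ⧸ I • (⊤ : Submodule B M)) := by
  have hI' : I₁.map (β.symm : B₁ →+* B) = I := by
    rw [← hI, Ideal.map_map]
    have : (β.symm : B₁ →+* B).comp (β : B →+* B₁) = RingHom.id B := by
      ext b; simp
    rw [this, Ideal.map_id]
  have hμ' : ∀ b m, μ.symm (b • m) = β.symm b • μ.symm m := by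
    intro b m
    apply μ.injective
    rw [hμ]
    simp
  have h1 : ∀ m, m ∈ I • (⊤ : Submodule B M) ↔ μ m ∈ I₁ • (⊤ : Submodule B₁ M₁) := by
    intro m
    constructor
    · exact map_mem_smul_top (β : B →+* B₁) μ.toAddMonoidHom hμ I I₁ hI.le m
    · intro hm
      have := map_mem_smul_top (β.symm : B₁ →+* B) μ.symm.toAddMonoidHom hμ' I₁ I hI'.le _ hm
      simpa using this
  let μₛ : M →ₛₗ[(β : B →+* B₁)] M₁ :=
    { toFun := μ
      map_add' := μ.map_add
      map_smul' := hμ }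
  let σ₀ : (M ⧸ I • (⊤ : Submodule B M)) →ₛₗ[(β : B →+* B₁)]
      (M₁ ⧸ I₁ • (⊤ : Submodule B₁ M₁)) :=
    Submodule.mapQ _ _ μₛ (fun m hm => (h1 m).mp hm)
  have hσ₀ : ∀ m : M, σ₀ (Submodule.Quotient.mk m) = Submodule.Quotient.mk (μ m) := fun m => rfl
  have hinj : Function.Injective σ₀ := by
    rw [injective_iff_map_eq_zero]
    intro x hx
    obtain ⟨m, rfl⟩ := Submodule.Quotient.mk_surjective _ x
    rw [hσ₀, Submodule.Quotient.mk_eq_zero] at hx
    rw [Submodule.Quotient.mk_eq_zero]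
    exact (h1 m).mpr hx
  have hsurj : Function.Surjective σ₀ := by
    intro y
    obtain ⟨m₁, rfl⟩ := Submodule.Quotient.mk_surjective _ y
    refine ⟨Submodule.Quotient.mk (μ.symm m₁), ?_⟩
    rw [hσ₀]
    simp
  let σ : (M ⧸ I • (⊤ : Submodule B M)) ≃+ (M₁ ⧸ I₁ • (⊤ : Submodule B₁ M₁)) :=
    AddEquiv.ofBijective σ₀.toAddMonoidHom ⟨hinj, hsurj⟩
  let e : B ⧸ I ≃+* B₁ ⧸ I₁ := Ideal.quotientEquiv I I₁ β hI.symm
  have hσ : ∀ (r : B ⧸ I) (x : M ⧸ I • (⊤ : Submodule B M)), σ (r • x) = e r • σ x := by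
    intro r x
    obtain ⟨b, rfl⟩ := Ideal.Quotient.mk_surjective r
    obtain ⟨m, rfl⟩ := Submodule.Quotient.mk_surjective _ x
    have h2 : (Ideal.Quotient.mk I b) • (Submodule.Quotient.mk m : M ⧸ I • (⊤ : Submodule B M)) =
        Submodule.Quotient.mk (b • m) := rfl
    rw [h2]
    change σ₀ (Submodule.Quotient.mk (b • m)) = e (Ideal.Quotient.mk I b) • σ₀ (Submodule.Quotient.mk m)
    rw [hσ₀, hσ₀, hμ]
    rfl
  haveI := h
  exact FibreCritFT.flat_of_semilinearEquiv e.toRingHom e.bijective σ hσ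

theorem flat_quot_iff_of_equiv (β : B ≃+* B₁) (μ : M ≃+ M₁)
    (hμ : ∀ b m, μ (b • m) = β b • μ m) (I : Ideal B) (I₁ : Ideal B₁)
    (hI : I.map (β : B →+* B₁) = I₁) :
    Module.Flat (B ⧸ I) (M ⧸ I • (⊤ : Submodule B M)) ↔
      Module.Flat (B₁ ⧸ I₁) (M₁ ⧸ I₁ • (⊤ : Submodule B₁ M₁)) := by
  constructor
  · intro h
    have hI' : I₁.map (β.symm : B₁ →+* B) = I := by
      rw [← hI, Ideal.map_map]
      have : (β.symm : B₁ →+* B).comp (β : B →+* B₁) = RingHom.id B := by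
        ext b; simp
      rw [this, Ideal.map_id]
    have hμ' : ∀ b m, μ.symm (b • m) = β.symm b • μ.symm m := by
      intro b m
      apply μ.injective
      rw [hμ]
      simp
    exact flat_quot_of_equiv β.symm μ.symm hμ' I₁ I hI' h
  · exact flat_quot_of_equiv β μ hμ I I₁ hI

end Alg

section OpenImm

theorem map_maximalIdeal_of_bijective {A A₁ : Type*} [CommRing A] [CommRing A₁] [IsLocalRing A]
    [IsLocalRing A₁] (φ : A →+* A₁) (hφ : Function.Bijective φ) :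
    (IsLocalRing.maximalIdeal A).map φ = IsLocalRing.maximalIdeal A₁ := by
  let e : A ≃+* A₁ := RingEquiv.ofBijective φ hφ
  have he : ∀ a, e a = φ a := fun a => rfl
  apply le_antisymm
  · rw [Ideal.map_le_iff_le_comap]
    intro a ha
    rw [Ideal.mem_comap, IsLocalRing.mem_maximalIdeal, mem_nonunits_iff]
    rw [IsLocalRing.mem_maximalIdeal, mem_nonunits_iff] at ha
    intro hu
    apply ha
    have := hu.map e.symm
    rwa [← he, RingEquiv.symm_apply_apply] at this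
  · intro b hb
    obtain ⟨a, rfl⟩ := hφ.2 b
    apply Ideal.mem_map_of_mem
    rw [IsLocalRing.mem_maximalIdeal, mem_nonunits_iff] at hb ⊢
    intro hu
    exact hb (hu.map φ)

variable {X Y S : Scheme.{u}}

/-- `QuotFlat` does not change when the base is replaced by an open subscheme. -/
theorem quotFlat_comp_right_iff {S₁ : Scheme.{u}} (f : X ⟶ Y) (g₁ : Y ⟶ S₁) (jS : S₁ ⟶ S)
    [IsOpenImmersion jS] (F : X.Modules) (x : X) :
    QuotFlat f (g₁ ≫ jS) F x ↔ QuotFlat f g₁ F x := by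
  unfold QuotFlat
  letI := FlatMod.moduleStalkOver f F x
  have hI : Ideal.map ((g₁ ≫ jS).stalkMap (f x)).hom
      (IsLocalRing.maximalIdeal ↑(S.presheaf.stalk ((g₁ ≫ jS) (f x)))) =
      Ideal.map (g₁.stalkMap (f x)).hom
        (IsLocalRing.maximalIdeal ↑(S₁.presheaf.stalk (g₁ (f x)))) := by
    have h1 : ((g₁ ≫ jS).stalkMap (f x)).hom =
        (g₁.stalkMap (f x)).hom.comp (jS.stalkMap (g₁ (f x))).hom := by
      rw [Scheme.Hom.stalkMap_comp]
      rfl
    rw [h1]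
    change Ideal.map ((g₁.stalkMap (f x)).hom.comp (jS.stalkMap (g₁ (f x))).hom)
      (IsLocalRing.maximalIdeal ↑(S.presheaf.stalk (jS (g₁ (f x))))) = _
    rw [← Ideal.map_map, map_maximalIdeal_of_bijective _
      (ConcreteCategory.bijective_of_isIso (jS.stalkMap (g₁ (f x))))]
  refine flat_quot_iff_of_equiv (RingEquiv.refl _) (AddEquiv.refl _) (fun b m => rfl) _ _ ?_
  rw [show ((RingEquiv.refl ↑(Y.presheaf.stalk (f x)) : _ ≃+* _) :
    ↑(Y.presheaf.stalk (f x)) →+* ↑(Y.presheaf.stalk (f x))) = RingHom.id _ from rfl, Ideal.map_id]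
  exact hI

/-- `QuotFlat` does not change when the intermediate scheme is replaced by an open subscheme. -/
theorem quotFlat_comp_mid_iff {Y₁ : Scheme.{u}} (f₁ : X ⟶ Y₁) (jY : Y₁ ⟶ Y) [IsOpenImmersion jY]
    (g : Y ⟶ S) (F : X.Modules) (x : X) :
    QuotFlat (f₁ ≫ jY) g F x ↔ QuotFlat f₁ (jY ≫ g) F x := by
  unfold QuotFlat
  letI i1 : Module ↑(Y.presheaf.stalk (jY (f₁ x))) ↑(F.presheaf.stalk x) :=
    FlatMod.moduleStalkOver (f₁ ≫ jY) F x
  letI i2 : Module ↑(Y₁.presheaf.stalk (f₁ x)) ↑(F.presheaf.stalk x) :=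
    FlatMod.moduleStalkOver f₁ F x
  let β : ↑(Y.presheaf.stalk (jY (f₁ x))) ≃+* ↑(Y₁.presheaf.stalk (f₁ x)) :=
    RingEquiv.ofBijective (jY.stalkMap (f₁ x)).hom
      (ConcreteCategory.bijective_of_isIso (jY.stalkMap (f₁ x)))
  have hcomp : ((f₁ ≫ jY).stalkMap x).hom =
      (f₁.stalkMap x).hom.comp (jY.stalkMap (f₁ x)).hom := by
    rw [Scheme.Hom.stalkMap_comp]
    rfl
  refine flat_quot_iff_of_equiv β (AddEquiv.refl _) ?_ _ _ ?_
  · intro b m
    change ((f₁ ≫ jY).stalkMap x).hom b • m = (f₁.stalkMap x).hom (β b) • m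
    rw [hcomp]
    rfl
  · have h1 : ((jY ≫ g).stalkMap (f₁ x)).hom =
        (jY.stalkMap (f₁ x)).hom.comp (g.stalkMap (jY (f₁ x))).hom := by
      rw [Scheme.Hom.stalkMap_comp]
      rfl
    rw [h1]
    change Ideal.map (jY.stalkMap (f₁ x)).hom (Ideal.map (g.stalkMap (jY (f₁ x))).hom
      (IsLocalRing.maximalIdeal ↑(S.presheaf.stalk (g (jY (f₁ x)))))) =
      Ideal.map ((jY.stalkMap (f₁ x)).hom.comp (g.stalkMap (jY (f₁ x))).hom)
        (IsLocalRing.maximalIdeal ↑(S.presheaf.stalk (g (jY (f₁ x)))))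
    rw [Ideal.map_map]

/-- `QuotFlat` does not change when the source is replaced by an open subscheme. -/
theorem quotFlat_comp_left_iff {X₁ : Scheme.{u}} (jX : X₁ ⟶ X) [IsOpenImmersion jX] (f : X ⟶ Y)
    (g : Y ⟶ S) (F : X.Modules) [F.IsQuasicoherent] (x₁ : X₁) :
    QuotFlat (jX ≫ f) g ((Scheme.Modules.pullback jX).obj F) x₁ ↔ QuotFlat f g F (jX x₁) := by
  unfold QuotFlat
  letI algXX' : Algebra (X.presheaf.stalk (jX.base x₁)) (X₁.presheaf.stalk x₁) :=
    (jX.stalkMap x₁).hom.toAlgebra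
  letI modXM' : Module (X.presheaf.stalk (jX.base x₁))
      (((Scheme.Modules.pullback jX).obj F).presheaf.stalk x₁) :=
    FlatMod.moduleStalkOver jX _ x₁
  haveI : IsScalarTower (X.presheaf.stalk (jX.base x₁)) (X₁.presheaf.stalk x₁)
      (((Scheme.Modules.pullback jX).obj F).presheaf.stalk x₁) := IsScalarTower.of_compHom _ _ _
  obtain ⟨ψ, hψ⟩ := Helper16.FlatPull.exists_isBaseChange_stalk jX F x₁
  have hbij : Function.Bijective (algebraMap (X.presheaf.stalk (jX.base x₁))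
      (X₁.presheaf.stalk x₁)) := ConcreteCategory.bijective_of_isIso (jX.stalkMap x₁)
  have hψs := FibreFreeAlg.surjective_of_isBaseChange hbij.2 hψ
  have hψk := FibreFreeAlg.ker_eq_smul_top_of_isBaseChange hbij.2 hψ
  have hψi : Function.Injective ψ := by
    rw [← LinearMap.ker_eq_bot, hψk, (RingHom.injective_iff_ker_eq_bot _).mp hbij.1,
      Submodule.bot_smul]
  let μ : ↑(F.presheaf.stalk (jX x₁)) ≃+
      ↑(((Scheme.Modules.pullback jX).obj F).presheaf.stalk x₁) :=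
    AddEquiv.ofBijective ψ.toAddMonoidHom ⟨hψi, hψs⟩
  letI i1 : Module ↑(Y.presheaf.stalk (f (jX x₁))) ↑(F.presheaf.stalk (jX x₁)) :=
    FlatMod.moduleStalkOver f F (jX x₁)
  letI i2 : Module ↑(Y.presheaf.stalk (f (jX x₁)))
      ↑(((Scheme.Modules.pullback jX).obj F).presheaf.stalk x₁) :=
    FlatMod.moduleStalkOver (jX ≫ f) _ x₁
  have hcomp : ((jX ≫ f).stalkMap x₁).hom =
      (jX.stalkMap x₁).hom.comp (f.stalkMap (jX x₁)).hom := by
    rw [Scheme.Hom.stalkMap_comp]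
    rfl
  symm
  refine flat_quot_iff_of_equiv (RingEquiv.refl _) μ ?_ _ _ ?_
  · intro b m
    change ψ ((f.stalkMap (jX x₁)).hom b • m) = ((jX ≫ f).stalkMap x₁).hom b • ψ m
    rw [ψ.map_smul, hcomp]
    rfl
  · rw [show ((RingEquiv.refl ↑(Y.presheaf.stalk (f (jX x₁))) : _ ≃+* _) :
      ↑(Y.presheaf.stalk (f (jX x₁))) →+* ↑(Y.presheaf.stalk (f (jX x₁)))) = RingHom.id _ from rfl,
      Ideal.map_id]
    rfl

end OpenImm

section Combined

variable {X Y S : Scheme.{u}}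

/-- `QuotFlat` is invariant under compatible open immersions into source, intermediate scheme and
base. -/
theorem quotFlat_openImmersion_iff {X₁ Y₁ S₁ : Scheme.{u}} (jX : X₁ ⟶ X) (jY : Y₁ ⟶ Y)
    (jS : S₁ ⟶ S) [IsOpenImmersion jX] [IsOpenImmersion jY] [IsOpenImmersion jS]
    (f : X ⟶ Y) (g : Y ⟶ S) (f₁ : X₁ ⟶ Y₁) (g₁ : Y₁ ⟶ S₁) (e1 : f₁ ≫ jY = jX ≫ f)
    (e2 : g₁ ≫ jS = jY ≫ g) (F : X.Modules) [F.IsQuasicoherent] (x₁ : X₁) :
    QuotFlat f₁ g₁ ((Scheme.Modules.pullback jX).obj F) x₁ ↔ QuotFlat f g F (jX x₁) := by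
  rw [← quotFlat_comp_right_iff f₁ g₁ jS, e2, ← quotFlat_comp_mid_iff f₁ jY g, e1]
  exact quotFlat_comp_left_iff jX f g F x₁

theorem isPullback_fiberMap (f : X ⟶ Y) (g : Y ⟶ S) (s : S) :
    IsPullback ((f ≫ g).fiberι s) (MoreMor.fiberMap f g s) f (g.fiberι s) := by
  refine IsPullback.of_bot ?_ (fiberMap_fiberι f g s).symm
    (IsPullback.of_hasPullback g (S.fromSpecResidueField s))
  have h := fiberMap_fiberToSpecResidueField f g s
  change IsPullback ((f ≫ g).fiberι s) (MoreMor.fiberMap f g s ≫ g.fiberToSpecResidueField s)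
    (f ≫ g) (S.fromSpecResidueField s)
  rw [h]
  exact IsPullback.of_hasPullback (f ≫ g) (S.fromSpecResidueField s)

/-- **Translation**: fibrewise flatness at `x`, expressed with arbitrary cartesian fibre data, is
`QuotFlat`. -/
theorem forall_isFlatOverAt_iff_quotFlat (f : X ⟶ Y) (g : Y ⟶ S) (F : X.Modules)
    [F.IsQuasicoherent] (x : X) :
    (∀ (Xs Ys : Scheme.{u}) (ιX : Xs ⟶ X) (ιY : Ys ⟶ Y) (fs : Xs ⟶ Ys)
      (pY : Ys ⟶ Spec (S.residueField ((f ≫ g).base x))),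
      IsPullback ιY pY g (S.fromSpecResidueField ((f ≫ g).base x)) → IsPullback ιX fs f ιY →
        ∀ x' : ↥Xs, ιX.base x' = x →
          FlatMod.IsFlatOverAt fs ((Scheme.Modules.pullback ιX).obj F) x') ↔
      QuotFlat f g F x := by
  obtain ⟨s, hs⟩ : ∃ s, (f ≫ g) x = s := ⟨_, rfl⟩
  obtain ⟨z, hz⟩ := FibreFree.exists_fiberι_eq (f ≫ g) hs
  constructor
  · intro H
    subst hs
    have := H _ _ ((f ≫ g).fiberι _) (g.fiberι _) (MoreMor.fiberMap f g _)
      (g.fiberToSpecResidueField _) (IsPullback.of_hasPullback _ _) (isPullback_fiberMap f g _) z hz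
    rw [isFlatOverAt_fiberMap_iff, hz] at this
    exact this
  · intro hq Xs Ys ιX ιY fs pY hYs hXs x' hx'
    subst hs
    have H1 := isPullback_fiberMap f g ((f ≫ g) x)
    let b : Ys ≅ g.fiber ((f ≫ g) x) := hYs.isoPullback
    have hb1 : b.hom ≫ g.fiberι ((f ≫ g) x) = ιY := hYs.isoPullback_hom_fst
    have hw : ιX ≫ f = (fs ≫ b.hom) ≫ g.fiberι ((f ≫ g) x) := by
      rw [Category.assoc, hb1]; exact hXs.w
    let a := H1.lift ιX (fs ≫ b.hom) hw
    have ha1 : a ≫ (f ≫ g).fiberι ((f ≫ g) x) = ιX := H1.lift_fst _ _ hw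
    have ha2 : a ≫ MoreMor.fiberMap f g ((f ≫ g) x) = fs ≫ b.hom := H1.lift_snd _ _ hw
    have hsq : IsPullback a fs (MoreMor.fiberMap f g ((f ≫ g) x)) b.hom := by
      refine IsPullback.of_right ?_ ha2 H1
      rw [ha1, hb1]
      exact hXs
    haveI : ((Scheme.Modules.pullback ((f ≫ g).fiberι ((f ≫ g) x))).obj F).IsQuasicoherent :=
      ConsLocusMod.isQCoh_pullback _ F
    have hpt : ((f ≫ g).fiberι ((f ≫ g) x)) (a x') = x := by
      have := congrArg (fun φ : Xs ⟶ X => φ x') ha1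
      simp only [Scheme.Hom.comp_apply] at this
      rw [this]; exact hx'
    have h1 : FlatMod.IsFlatOverAt (MoreMor.fiberMap f g ((f ≫ g) x))
        ((Scheme.Modules.pullback ((f ≫ g).fiberι ((f ≫ g) x))).obj F) (a x') := by
      rw [isFlatOverAt_fiberMap_iff, hpt]
      exact hq
    have h2 := (isFlatOverAt_baseChange_iff hsq _ x').mpr h1
    exact isFlatOverAt_of_iso fs
      (ConsLocusMod.pbComp a _ F ≪≫ ConsLocusMod.pbCongr ha1 F) x' h2

end Combined

section Generic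

variable {X Y S : Scheme.{u}}

/-- Over an integral Noetherian base, the set of points of fibrewise flatness is open over a
nonempty open subset of the base. -/
theorem exists_isOpen_quotFlat_inter [IsIntegral S] [IsNoetherian S] (f : X ⟶ Y) (g : Y ⟶ S)
    [LocallyOfFiniteType g] [QuasiCompact g] [LocallyOfFiniteType (f ≫ g)] [QuasiCompact (f ≫ g)]
    (F : X.Modules) (hF : Coh.IsCoh F) :
    ∃ V : S.Opens, genericPoint S ∈ V ∧
      IsOpen ({x : X | QuotFlat f g F x} ∩ (f ≫ g) ⁻¹' (V : Set S)) := by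
  haveI : F.IsQuasicoherent := hF.1
  haveI : IsLocallyNoetherian X := LocallyOfFiniteType.isLocallyNoetherian (f ≫ g)
  haveI : CompactSpace X := QuasiCompact.compactSpace_of_compactSpace (f ≫ g)
  haveI : IsNoetherian X := {}
  have hFP : SheafOfModules.IsFinitePresentation (R := X.ringCatSheaf) F :=
    Helper49.isFinitePresentation_of_isFiniteType_of_noetherian F hF.2
  haveI : LocallyOfFinitePresentation (f ≫ g) :=
    LocallyOfFinitePresentation.iff_locallyOfFiniteType.mpr inferInstance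
  haveI : LocallyOfFinitePresentation f :=
    FibreCritScheme.locallyOfFinitePresentation_of_comp (g := g) inferInstance inferInstance
  obtain ⟨V₁, hV₁ne, hV₁⟩ := Groth.Agent.S4799.result (f ≫ g) F hFP
  obtain ⟨V₂, hV₂d, hV₂fl, -⟩ := Groth.Agent.S0414.result g
  have hV₂ : ∀ y : Y, g y ∈ V₂ → (g.stalkMap y).hom.Flat := by
    intro y hy
    have h1 := Flat.stalkMap (g ∣_ V₂) ⟨y, hy⟩
    exact (RingHom.Flat.respectsIso.arrow_mk_iso_iff
      (morphismRestrictStalkMap g V₂ ⟨y, hy⟩)).mp h1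
  have hη₁ : genericPoint S ∈ V₁ :=
    ((genericPoint_spec S).mem_open_set_iff V₁.2).mpr (by simpa using hV₁ne)
  have hη₂ : genericPoint S ∈ V₂ :=
    ((genericPoint_spec S).mem_open_set_iff V₂.2).mpr (by simpa using hV₂d.nonempty)
  refine ⟨V₁ ⊓ V₂, ⟨hη₁, hη₂⟩, ?_⟩
  have hNo : IsOpen {x : X | FlatMod.IsFlatOverAt f F x} := Groth.Agent.S4863.result f F hFP
  have hpre : IsOpen ((f ≫ g) ⁻¹' ((V₁ ⊓ V₂ : S.Opens) : Set S)) :=
    (V₁ ⊓ V₂).2.preimage (f ≫ g).continuous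
  convert hNo.inter hpre using 1
  ext x
  constructor
  · rintro ⟨hq, hxV⟩
    refine ⟨?_, hxV⟩
    exact (quotFlat_iff_isFlatOverAt f g F hFP x (hV₁ x hxV.1) (hV₂ (f x) hxV.2)).mp hq
  · rintro ⟨hfl, hxV⟩
    refine ⟨?_, hxV⟩
    exact (quotFlat_iff_isFlatOverAt f g F hFP x (hV₁ x hxV.1) (hV₂ (f x) hxV.2)).mpr hfl

end Generic

section Noeth

theorem isNowhereDense_trace_of_open_subset_compl {T : Type*} [TopologicalSpace T] {E Z U : Set T}
    (hZi : IsIrreducible Z) (hU : IsOpen U) (hne : (U ∩ Z).Nonempty) (hsub : U ∩ Z ⊆ Eᶜ) :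
    IsNowhereDense (Subtype.val ⁻¹' E : Set Z) := by
  obtain ⟨y, hyU, hyY⟩ := hne
  have : IrreducibleSpace Z := (isIrreducible_iff_irreducibleSpace (s := Z)).1 hZi
  have hVo : IsOpen (Subtype.val ⁻¹' U : Set Z) := hU.preimage continuous_subtype_val
  have hVd : Dense (Subtype.val ⁻¹' U : Set Z) := hVo.dense ⟨⟨y, hyY⟩, hyU⟩
  have hsub' : (Subtype.val ⁻¹' E : Set Z) ⊆ (Subtype.val ⁻¹' U : Set Z)ᶜ := by
    intro z hzE hzU
    exact hsub ⟨hzU, z.2⟩ hzE
  have hcl : closure (Subtype.val ⁻¹' E : Set Z) ⊆ (Subtype.val ⁻¹' U : Set Z)ᶜ :=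
    closure_minimal hsub' hVo.isClosed_compl
  rw [IsNowhereDense, ← Set.subset_empty_iff]
  calc interior (closure (Subtype.val ⁻¹' E : Set Z))
      ⊆ interior ((Subtype.val ⁻¹' U : Set Z)ᶜ) := interior_mono hcl
    _ = ∅ := by rw [interior_compl, hVd.closure_eq, Set.compl_univ]

/-- Over a Noetherian affine base, the set of points of fibrewise flatness is constructible. -/
theorem isConstructible_setOf_quotFlat {A₀ : CommRingCat.{u}} [IsNoetherianRing A₀]
    {X Y : Scheme.{u}} (f : X ⟶ Y) (g : Y ⟶ Spec A₀)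
    [LocallyOfFiniteType g] [QuasiCompact g] [LocallyOfFiniteType (f ≫ g)] [QuasiCompact (f ≫ g)]
    (F : X.Modules) [F.IsQuasicoherent]
    (hF : SheafOfModules.IsFinitePresentation (R := X.ringCatSheaf) F) :
    IsConstructible {x : X | QuotFlat f g F x} := by
  haveI : IsLocallyNoetherian X := LocallyOfFiniteType.isLocallyNoetherian (f ≫ g)
  haveI : CompactSpace X := QuasiCompact.compactSpace_of_compactSpace (f ≫ g)
  haveI : IsNoetherian X := {}
  rw [Helper12.ConstrTop.isConstructible_iff_forall_irreducible_closed]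
  intro Z hZc hZi
  obtain ⟨ξ, hξ⟩ := QuasiSober.sober hZi hZc
  -- the integral closed subscheme of the base
  let s₀ : ↥(Spec A₀) := (f ≫ g) ξ
  let p : Ideal A₀ := PrimeSpectrum.asIdeal s₀
  haveI hp : p.IsPrime := PrimeSpectrum.isPrime s₀
  haveI : IsDomain (A₀ ⧸ p) := Ideal.Quotient.isDomain p
  let b := primeIncl A₀ p
  have hbη : b (genericPoint _) = s₀ := primeIncl_genericPoint A₀ p
  let eX := pullback.fst (f ≫ g) b
  let eY := pullback.fst g b
  let gT := pullback.snd g b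
  let fT := fibreMap f g b
  have hfgT : fT ≫ gT = pullback.snd (f ≫ g) b := pullback.lift_snd _ _ _
  have hY : IsPullback eY gT g b := IsPullback.of_hasPullback g b
  have hX : IsPullback eX fT f eY := by
    refine IsPullback.of_bot ?_ (pullback.lift_fst _ _ _).symm hY
    rw [hfgT]
    exact IsPullback.of_hasPullback (f ≫ g) b
  haveI i1 : LocallyOfFiniteType gT := MorphismProperty.pullback_snd _ _ inferInstance
  haveI i2 : QuasiCompact gT := MorphismProperty.pullback_snd _ _ inferInstance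
  haveI i3 : LocallyOfFiniteType (fT ≫ gT) := by
    rw [hfgT]; exact MorphismProperty.pullback_snd _ _ inferInstance
  haveI i4 : QuasiCompact (fT ≫ gT) := by
    rw [hfgT]; exact MorphismProperty.pullback_snd _ _ inferInstance
  let FT := (Scheme.Modules.pullback eX).obj F
  haveI : FT.IsQuasicoherent := ConsLocusMod.isQCoh_pullback eX F
  have hFT : Coh.IsCoh FT := ConsLocusMod.isCoh_pullback eX F hF
  obtain ⟨V, hηV, hO⟩ := exists_isOpen_quotFlat_inter fT gT FT hFT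
  have hQ : ∀ x', QuotFlat fT gT FT x' ↔ QuotFlat f g F (eX x') := fun x' =>
    quotFlat_baseChange_iff f g F b hY hX FT (Iso.refl _) x'
  haveI : IsClosedImmersion eX := MorphismProperty.pullback_fst _ _ inferInstance
  have heXc := eX.isClosedEmbedding
  have hrange : Set.range eX = (f ≫ g) ⁻¹' Set.range b := Scheme.Pullback.range_fst (f ≫ g) b
  have hξr : ξ ∈ Set.range eX := by
    rw [hrange]
    exact ⟨_, hbη⟩
  obtain ⟨ξ', hξ'⟩ := hξr
  have hξ'η : (fT ≫ gT) ξ' = genericPoint _ := by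
    apply b.isClosedEmbedding.injective
    rw [hbη]
    have h1 : (fT ≫ gT) ≫ b = eX ≫ (f ≫ g) := by
      rw [hfgT]; exact pullback.condition.symm
    have h2 := congrArg (fun φ : pullback (f ≫ g) b ⟶ Spec A₀ => φ ξ') h1
    simp only [Scheme.Hom.comp_apply] at h2
    change b (gT (fT ξ')) = g (f ξ)
    rw [h2, hξ']
  have hZr : Z ⊆ Set.range eX := by
    rw [← hξ.def]
    exact closure_minimal (Set.singleton_subset_iff.mpr ⟨ξ', hξ'⟩) heXc.isClosed_range
  by_cases hξE : QuotFlat f g F ξ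
  · right
    refine ⟨(eX '' ({x' | QuotFlat fT gT FT x'} ∩ (fT ≫ gT) ⁻¹' (V : Set _))ᶜ)ᶜ,
      (heXc.isClosedMap _ hO.isClosed_compl).isOpen_compl, ⟨ξ, ?_, ?_⟩, ?_⟩
    · rintro ⟨y, hy, hyξ⟩
      have : y = ξ' := heXc.injective (hyξ.trans hξ'.symm)
      subst this
      apply hy
      refine ⟨(hQ y).mpr ?_, ?_⟩
      · rw [hξ']; exact hξE
      · change (fT ≫ gT) y ∈ V
        rw [hξ'η]; exact hηV
    · rw [← hξ.def]; exact subset_closure rfl
    · rintro z ⟨hzU, hzZ⟩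
      obtain ⟨z', rfl⟩ := hZr hzZ
      have hz' : z' ∈ {x' | QuotFlat fT gT FT x'} ∩ (fT ≫ gT) ⁻¹' (V : Set _) := by
        by_contra hcon
        exact hzU ⟨z', hcon, rfl⟩
      exact (hQ z').mp hz'.1
  · left
    refine isNowhereDense_trace_of_open_subset_compl hZi
      (U := (eX '' ((fT ≫ gT) ⁻¹' (V : Set _))ᶜ)ᶜ)
      (heXc.isClosedMap _ (V.2.preimage (fT ≫ gT).continuous).isClosed_compl).isOpen_compl
      ⟨ξ, ?_, ?_⟩ ?_
    · rintro ⟨y, hy, hyξ⟩
      have : y = ξ' := heXc.injective (hyξ.trans hξ'.symm)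
      subst this
      apply hy
      change (fT ≫ gT) y ∈ V
      rw [hξ'η]; exact hηV
    · rw [← hξ.def]; exact subset_closure rfl
    · rintro z ⟨hzU, hzZ⟩ hzE
      obtain ⟨z', rfl⟩ := hZr hzZ
      have hz'V : z' ∈ (fT ≫ gT) ⁻¹' (V : Set _) := by
        by_contra hcon
        exact hzU ⟨z', hcon, rfl⟩
      have hz'O : z' ∈ {x' | QuotFlat fT gT FT x'} ∩ (fT ≫ gT) ⁻¹' (V : Set _) :=
        ⟨(hQ z').mpr hzE, hz'V⟩
      have hspec : ξ' ⤳ z' := by
        apply heXc.isInducing.specializes_iff.mp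
        rw [hξ']
        exact hξ.specializes hzZ
      have hξ'O := hspec.mem_open hO hz'O
      apply hξE
      have := (hQ ξ').mp hξ'O.1
      rwa [hξ'] at this

end Noeth

section Main

variable {X Y S : Scheme.{u}}

/-- **EGA IV 11.2.8-type statement, in the source**: the set of points `x` of `X` such that the
fibre module `F_s` (`s` the image of `x`) is flat over the fibre `Y_s` at `x` is locally
constructible. -/
theorem isLocallyConstructible_setOf_quotFlat_source (f : X ⟶ Y) (g : Y ⟶ S)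
    [LocallyOfFinitePresentation g] [LocallyOfFinitePresentation (f ≫ g)]
    (F : X.Modules) [F.IsQuasicoherent]
    (hF : SheafOfModules.IsFinitePresentation (R := X.ringCatSheaf) F) :
    IsLocallyConstructible {x : X | QuotFlat f g F x} := by
  intro x
  obtain ⟨S₁, hS₁, hxS₁⟩ : ∃ S₁ : S.Opens, IsAffineOpen S₁ ∧ (f ≫ g) x ∈ S₁ := by
    obtain ⟨_, ⟨V, hV, rfl⟩, h1, -⟩ :=
      S.isBasis_affineOpens.exists_subset_of_mem_open (Set.mem_univ ((f ≫ g) x)) isOpen_univ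
    exact ⟨V, hV, h1⟩
  obtain ⟨Y₁, hY₁, hxY₁, hY₁S⟩ : ∃ Y₁ : Y.Opens, IsAffineOpen Y₁ ∧ f x ∈ Y₁ ∧
      Y₁ ≤ g ⁻¹ᵁ S₁ := by
    obtain ⟨_, ⟨V, hV, rfl⟩, h1, h2⟩ := Y.isBasis_affineOpens.exists_subset_of_mem_open
      (show f x ∈ ((g ⁻¹ᵁ S₁ : Y.Opens) : Set Y) from hxS₁) (g ⁻¹ᵁ S₁).2
    exact ⟨V, hV, h1, h2⟩
  obtain ⟨X₁, hX₁, hxX₁, hX₁Y⟩ : ∃ X₁ : X.Opens, IsAffineOpen X₁ ∧ x ∈ X₁ ∧
      X₁ ≤ f ⁻¹ᵁ Y₁ := by
    obtain ⟨_, ⟨V, hV, rfl⟩, h1, h2⟩ := X.isBasis_affineOpens.exists_subset_of_mem_open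
      (show x ∈ ((f ⁻¹ᵁ Y₁ : X.Opens) : Set X) from hxY₁) (f ⁻¹ᵁ Y₁).2
    exact ⟨V, hV, h1, h2⟩
  refine ⟨X₁, X₁.2.mem_nhds hxX₁, X₁.2, ?_⟩
  haveI : IsAffine S₁.toScheme := hS₁
  haveI : IsAffine Y₁.toScheme := hY₁
  haveI : IsAffine X₁.toScheme := hX₁
  have hr2 : Set.range (Y₁.ι ≫ g) ⊆ Set.range S₁.ι := by
    rintro _ ⟨y, rfl⟩
    rw [Scheme.Opens.range_ι]
    exact hY₁S y.2
  have hr1 : Set.range (X₁.ι ≫ f) ⊆ Set.range Y₁.ι := by
    rintro _ ⟨z, rfl⟩
    rw [Scheme.Opens.range_ι]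
    exact hX₁Y z.2
  let g₁ : Y₁.toScheme ⟶ S₁.toScheme := IsOpenImmersion.lift S₁.ι (Y₁.ι ≫ g) hr2
  let f₁ : X₁.toScheme ⟶ Y₁.toScheme := IsOpenImmersion.lift Y₁.ι (X₁.ι ≫ f) hr1
  have e2 : g₁ ≫ S₁.ι = Y₁.ι ≫ g := IsOpenImmersion.lift_fac _ _ _
  have e1 : f₁ ≫ Y₁.ι = X₁.ι ≫ f := IsOpenImmersion.lift_fac _ _ _
  haveI hg₁ : LocallyOfFinitePresentation g₁ := by
    refine FibreCritScheme.locallyOfFinitePresentation_of_comp (g := S₁.ι) ?_ inferInstance
    rw [e2]; infer_instance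
  haveI hfg₁ : LocallyOfFinitePresentation (f₁ ≫ g₁) := by
    refine FibreCritScheme.locallyOfFinitePresentation_of_comp (g := S₁.ι) ?_ inferInstance
    rw [Category.assoc, e2, ← Category.assoc, e1, Category.assoc]; infer_instance
  let F₁ := (Scheme.Modules.pullback X₁.ι).obj F
  haveI : F₁.IsQuasicoherent := ConsLocusMod.isQCoh_pullback X₁.ι F
  have hF₁ := ConsLocusMod.isFP_pullback X₁.ι F hF
  obtain ⟨A₀, hA₀, π, X₀, Y₀, f₀, g₀, qX, qY, F₀, a1, a2, a3, a4, a5, a6, hYsq, hXsq, hF₀q,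
    hF₀fp, ⟨eF⟩⟩ := exists_noetherian_model_mormod f₁ g₁ F₁ hF₁
  haveI := hA₀
  haveI := hF₀q
  have hE₀ : IsConstructible {x₀ : X₀ | QuotFlat f₀ g₀ F₀ x₀} :=
    isConstructible_setOf_quotFlat f₀ g₀ F₀ hF₀fp
  have h1 : (Subtype.val ⁻¹' {x : X | QuotFlat f g F x} : Set ↥(X₁ : Set X)) =
      qX ⁻¹' {x₀ : X₀ | QuotFlat f₀ g₀ F₀ x₀} := by
    ext x₁
    change QuotFlat f g F (X₁.ι x₁) ↔ QuotFlat f₀ g₀ F₀ (qX x₁)
    rw [← quotFlat_openImmersion_iff X₁.ι Y₁.ι S₁.ι f g f₁ g₁ e1 e2 F x₁]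
    exact quotFlat_baseChange_iff f₀ g₀ F₀ π hYsq hXsq F₁ eF.symm x₁
  change IsConstructible (Subtype.val ⁻¹' {x : X | QuotFlat f g F x} : Set ↥(X₁ : Set X))
  rw [h1]
  exact qX.isConstructible_preimage hE₀

end Main

end Groth.Agent.Lib.Helper23.FibreFlatPoint
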