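/-
Helper library (helper23): the locus of points of the base over which the fibre module is torsion
is locally constructible (EGA IV 9.4.9-type statement), via the dense locus (EGA IV 9.5.3).
-/
import Mathlib
import Groth.Prelude.Def_EGA4Misc
import Groth.Agent.Lib.Helper49.StalkNbhd2
import Groth.Agent.Lib.Helper16.FlatPull.Chart
import Groth.Agent.Lib.Helper23.ConsDensePair
import Groth.Agent.Lib.Helper45.QCohStalk
import Groth.Agent.Lib.Helper49.SupportPullback

set_option autoImplicit false
set_option linter.style.haveILetI false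
universe u
open CategoryTheory Limits AlgebraicGeometry Topology

namespace Groth.Agent.Lib.Helper23.FibreTorsion

open Groth.Agent.Lib

section Top

variable {X : Type*} [TopologicalSpace X]

/-- In a quasi-sober `T₀` space every point has a generization that is a maximal point. -/
theorem exists_maximal_specializes [QuasiSober X] [T0Space X] (x : X) :
    ∃ η : X, (∀ z : X, z ⤳ η → z = η) ∧ η ⤳ x := by
  obtain ⟨η, hη⟩ := QuasiSober.sober (isIrreducible_irreducibleComponent (x := x))
    isClosed_irreducibleComponent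
  refine ⟨η, fun z hz => ?_, hη.specializes mem_irreducibleComponent⟩
  have h1 : irreducibleComponent x ⊆ closure {z} := by
    rw [← hη.def]
    exact hz.closure_subset  
  have h2 : closure {z} = irreducibleComponent x :=
    (irreducibleComponent_property x).2.2 _
      (isIrreducible_singleton.closure.isPreirreducible) h1
  exact IsGenericPoint.eq h2 hη

/-- An open set containing all maximal points is dense. -/
theorem dense_of_forall_maximal_mem [QuasiSober X] [T0Space X] {U : Set X}
    (h : ∀ η : X, (∀ z : X, z ⤳ η → z = η) → η ∈ U) : Dense U := by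
  rw [dense_iff_inter_open]
  rintro W hW ⟨x, hx⟩
  obtain ⟨η, hη, hηx⟩ := exists_maximal_specializes x
  exact ⟨η, hηx.mem_open hW hx, h η hη⟩

/-- If there are finitely many maximal points, a dense open set contains all of them. -/
theorem mem_of_dense_of_maximal [QuasiSober X] [T0Space X]
    (hfin : {s : X | ∀ z : X, z ⤳ s → z = s}.Finite) {U : Set X} (hU : IsOpen U) (hd : Dense U)
    {η : X} (hη : ∀ z : X, z ⤳ η → z = η) : η ∈ U := by
  let W : Set X := (⋃ μ ∈ {s : X | (∀ z : X, z ⤳ s → z = s) ∧ s ≠ η}, closure {μ})ᶜ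
  have hWo : IsOpen W := by
    rw [isOpen_compl_iff]
    exact (hfin.subset fun s hs => hs.1).isClosed_biUnion fun _ _ => isClosed_closure
  have hηW : η ∈ W := by
    simp only [W, Set.mem_compl_iff, Set.mem_iUnion, not_exists]
    rintro μ ⟨hμ, hne⟩ hmem
    exact hne (hη μ (specializes_iff_mem_closure.mpr hmem))
  obtain ⟨y, hyW, hyU⟩ := dense_iff_inter_open.mp hd W hWo ⟨η, hηW⟩
  obtain ⟨μ, hμ, hμy⟩ := exists_maximal_specializes y
  have : μ = η := by
    by_contra hne
    apply hyW
    simp only [Set.mem_iUnion]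
    exact ⟨μ, ⟨hμ, hne⟩, specializes_iff_mem_closure.mp hμy⟩
  subst this
  exact hμy.mem_open hU hyU

/-- A Noetherian quasi-sober `T₀` space has finitely many maximal points. -/
theorem finite_maximal [TopologicalSpace.NoetherianSpace X] [QuasiSober X] [T0Space X] :
    {s : X | ∀ z : X, z ⤳ s → z = s}.Finite := by
  have hfin := TopologicalSpace.NoetherianSpace.finite_irreducibleComponents (α := X)
  refine Set.Finite.of_finite_image (f := fun s => closure {s}) (hfin.subset ?_) ?_
  · rintro _ ⟨s, hs, rfl⟩
    obtain ⟨η, hη⟩ := QuasiSober.sober (isIrreducible_irreducibleComponent (x := s))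
      isClosed_irreducibleComponent
    have : η = s := hs η (hη.specializes mem_irreducibleComponent)
    subst this
    change closure {η} ∈ irreducibleComponents X
    rw [hη.def]
    exact irreducibleComponent_mem_irreducibleComponents η
  · intro a _ b _ hab
    exact (inseparable_iff_closure_eq.mpr hab).eq

end Top

section Alg

/-- The kernel of the localization map at a prime `p` is contained in every prime contained in
it. -/
theorem ker_le_of_le_ker {A L : Type*} [CommRing A] [CommRing L] [Algebra A L] [Nontrivial L]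
    (p : Ideal A) [p.IsPrime] [IsLocalization.AtPrime L p] (q' : Ideal A) [hq' : q'.IsPrime]
    (h : q' ≤ RingHom.ker (algebraMap A L)) : RingHom.ker (algebraMap A L) ≤ q' := by
  intro a ha
  rw [RingHom.mem_ker, IsLocalization.map_eq_zero_iff p.primeCompl] at ha
  obtain ⟨m, hm⟩ := ha
  have hmem : (m : A) * a ∈ q' := by rw [hm]; exact zero_mem _
  rcases hq'.mem_or_mem hmem with h1 | h1
  · exfalso
    have h2 : (m : A) ∈ RingHom.ker (algebraMap A L) := h h1
    have h3 := IsLocalization.map_units L m
    rw [RingHom.mem_ker] at h2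
    rw [h2] at h3
    exact not_isUnit_zero h3
  · exact h1

theorem ker_le_prime {A L : Type*} [CommRing A] [CommRing L] [Algebra A L] [Nontrivial L]
    (p : Ideal A) [p.IsPrime] [IsLocalization.AtPrime L p] :
    RingHom.ker (algebraMap A L) ≤ p := by
  intro a ha
  by_contra hn
  have h3 := IsLocalization.map_units L (⟨a, hn⟩ : p.primeCompl)
  rw [RingHom.mem_ker] at ha
  simp only [ha] at h3
  exact not_isUnit_zero h3

end Alg

section Sch

open Groth.Agent.Lib.Helper45

attribute [local instance] stalkModuleSections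

variable {W : Scheme.{u}}

/-- The local ring at a maximal point is a field if it is a domain. -/
theorem isField_stalk_of_maximal (η : W) (hη : ∀ z : W, z ⤳ η → z = η)
    [IsDomain (W.presheaf.stalk η)] : IsField (W.presheaf.stalk η) := by
  obtain ⟨_, ⟨U, hU : IsAffineOpen U, rfl⟩, hηU, -⟩ :=
    W.isBasis_affineOpens.exists_subset_of_mem_open (Set.mem_univ η) isOpen_univ
  obtain ⟨ηU, rfl⟩ : ∃ ηU : U, (ηU : W) = η := ⟨⟨η, hηU⟩, rfl⟩
  haveI hloc := hU.isLocalization_stalk ηU
  have hk : (RingHom.ker (algebraMap Γ(W, U) (W.presheaf.stalk (ηU : W)))).IsPrime :=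
    RingHom.ker_isPrime _
  have hkq : RingHom.ker (algebraMap Γ(W, U) (W.presheaf.stalk (ηU : W))) ≤
      (hU.primeIdealOf ηU).asIdeal := ker_le_prime _
  obtain ⟨zU, hz⟩ : ∃ zU : U, hU.primeIdealOf zU = ⟨_, hk⟩ :=
    hU.isoSpec.hom.homeomorph.surjective _
  have hspec : zU ⤳ ηU := by
    apply hU.isoSpec.hom.homeomorph.isInducing.specializes_iff.mp
    change hU.primeIdealOf zU ⤳ hU.primeIdealOf ηU
    rw [← PrimeSpectrum.le_iff_specializes, hz]
    exact hkq
  have hzη : (zU : W) = (ηU : W) := hη _ (hspec.map continuous_subtype_val)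
  have hzη' : zU = ηU := Subtype.ext hzη
  subst hzη'
  have hmax : IsLocalRing.maximalIdeal (W.presheaf.stalk (zU : W)) = ⊥ := by
    rw [← IsLocalization.AtPrime.map_eq_maximalIdeal (hU.primeIdealOf zU).asIdeal
      (W.presheaf.stalk (zU : W)), hz, eq_bot_iff, Ideal.map_le_iff_le_comap]
    exact le_of_eq rfl
  exact IsLocalRing.isField_iff_maximalIdeal_eq.mpr hmax

/-- A torsion module over a field vanishes. -/
theorem subsingleton_of_torsion_eq_top_of_isField {R M : Type*} [CommRing R] [AddCommGroup M]
    [Module R M] (hR : IsField R) (h : Submodule.torsion R M = ⊤) : Subsingleton M := by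
  letI := hR.toField
  refine subsingleton_of_forall_eq 0 fun m => ?_
  have hm : m ∈ Submodule.torsion R M := by rw [h]; trivial
  rw [Submodule.mem_torsion_iff] at hm
  obtain ⟨a, ha⟩ := hm
  have ha0 : (a : R) ≠ 0 := nonZeroDivisors.coe_ne_zero a
  have : (a : R) • m = 0 := ha
  exact (smul_eq_zero.mp this).resolve_left ha0

variable (G : W.Modules) [G.IsQuasicoherent]

/-- If a dense open set of points has vanishing stalks, all stalks at points whose local ring is a
domain are torsion. -/
theorem torsion_eq_top_of_dense [IsLocallyNoetherian W] [CompactSpace W]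
    (hZo : IsOpen {z : W | Subsingleton ↑(G.presheaf.stalk z)})
    (hZd : Dense {z : W | Subsingleton ↑(G.presheaf.stalk z)}) (x : W)
    [IsDomain (W.presheaf.stalk x)] :
    Submodule.torsion (W.presheaf.stalk x) ↑(G.presheaf.stalk x) = ⊤ := by
  haveI : IsNoetherian W := {}
  obtain ⟨_, ⟨U, hU : IsAffineOpen U, rfl⟩, hxU, -⟩ :=
    W.isBasis_affineOpens.exists_subset_of_mem_open (Set.mem_univ x) isOpen_univ
  obtain ⟨xU, rfl⟩ : ∃ xU : U, (xU : W) = x := ⟨⟨x, hxU⟩, rfl⟩
  haveI hloc := hU.isLocalization_stalk xU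
  have hk : (RingHom.ker (algebraMap Γ(W, U) (W.presheaf.stalk (xU : W)))).IsPrime :=
    RingHom.ker_isPrime _
  have hkq : RingHom.ker (algebraMap Γ(W, U) (W.presheaf.stalk (xU : W))) ≤
      (hU.primeIdealOf xU).asIdeal := ker_le_prime _
  obtain ⟨ηU, hηq⟩ : ∃ ηU : U, hU.primeIdealOf ηU = ⟨_, hk⟩ :=
    hU.isoSpec.hom.homeomorph.surjective _
  -- `η` is a maximal point
  have hηmax : ∀ z : W, z ⤳ (ηU : W) → z = (ηU : W) := by
    intro z hz
    have hzU : z ∈ U := hz.mem_open U.2 ηU.2
    obtain ⟨zU, rfl⟩ : ∃ zU : U, (zU : W) = z := ⟨⟨z, hzU⟩, rfl⟩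
    have hz' : zU ⤳ ηU := Topology.IsInducing.subtypeVal.specializes_iff.mp hz
    have hz'' : hU.primeIdealOf zU ⤳ hU.primeIdealOf ηU :=
      hz'.map hU.isoSpec.hom.homeomorph.continuous
    rw [← PrimeSpectrum.le_iff_specializes, hηq] at hz''
    have hle : RingHom.ker (algebraMap Γ(W, U) (W.presheaf.stalk (xU : W))) ≤
        (hU.primeIdealOf zU).asIdeal :=
      ker_le_of_le_ker (hU.primeIdealOf xU).asIdeal (hU.primeIdealOf zU).asIdeal hz''
    have heq : hU.primeIdealOf zU = hU.primeIdealOf ηU := by
      rw [hηq]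
      exact PrimeSpectrum.ext (le_antisymm hz'' hle)
    have := hU.isoSpec.hom.homeomorph.injective heq
    rw [this]
  have hηZ : (ηU : W) ∈ {z : W | Subsingleton ↑(G.presheaf.stalk z)} :=
    mem_of_dense_of_maximal finite_maximal hZo hZd hηmax
  have hlocx := isLocalizedModule_germₗ hU G xU
  have hlocη := isLocalizedModule_germₗ hU G ηU
  rw [eq_top_iff]
  intro m _
  obtain ⟨⟨m₀, s⟩, hs⟩ := IsLocalizedModule.surj (hU.primeIdealOf xU).asIdeal.primeCompl
    (germₗ G xU) m
  have h0 : germₗ G ηU m₀ = 0 := by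
    haveI : Subsingleton ↑(G.presheaf.stalk (ηU : W)) := hηZ
    exact Subsingleton.elim _ _
  obtain ⟨a, ha⟩ := (IsLocalizedModule.eq_zero_iff (hU.primeIdealOf ηU).asIdeal.primeCompl
    (germₗ G ηU)).mp h0
  have ha' : (a : Γ(W, U)) ∉ RingHom.ker (algebraMap Γ(W, U) (W.presheaf.stalk (xU : W))) := by
    intro h
    have key : ∀ b : Γ(W, U),
        b ∈ RingHom.ker (algebraMap Γ(W, U) (W.presheaf.stalk (xU : W))) →
          b ∈ (hU.primeIdealOf ηU).asIdeal := by
      intro b hb
      rw [hηq]
      exact hb
    exact a.2 (key _ h)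
  have hs' : (s : Γ(W, U)) ∉ RingHom.ker (algebraMap Γ(W, U) (W.presheaf.stalk (xU : W))) :=
    fun h => s.2 (hkq h)
  rw [RingHom.mem_ker] at ha' hs'
  rw [Submodule.mem_torsion_iff]
  refine ⟨⟨algebraMap Γ(W, U) (W.presheaf.stalk (xU : W)) ((a : Γ(W, U)) * (s : Γ(W, U))), ?_⟩, ?_⟩
  · rw [map_mul]
    exact mem_nonZeroDivisors_of_ne_zero (mul_ne_zero ha' hs')
  · change algebraMap Γ(W, U) (W.presheaf.stalk (xU : W)) ((a : Γ(W, U)) * (s : Γ(W, U))) • m = 0
    rw [algebraMap_smul, mul_smul]
    have hs2 : (s : Γ(W, U)) • m = germₗ G xU m₀ := hs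
    rw [hs2, ← map_smul]
    have ha2 : (a : Γ(W, U)) • m₀ = 0 := ha
    rw [ha2, map_zero]

omit [G.IsQuasicoherent] in
/-- If all stalks are torsion (over local rings that are domains), the stalk at a maximal point
vanishes, so that the vanishing locus is dense. -/
theorem dense_of_torsion_eq_top (hdom : ∀ z : W, IsDomain (W.presheaf.stalk z))
    (ht : ∀ z : W, Submodule.torsion (W.presheaf.stalk z) ↑(G.presheaf.stalk z) = ⊤) :
    Dense {z : W | Subsingleton ↑(G.presheaf.stalk z)} := by
  apply dense_of_forall_maximal_mem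
  intro η hη
  haveI := hdom η
  exact subsingleton_of_torsion_eq_top_of_isField (isField_stalk_of_maximal η hη) (ht η)

end Sch

section Main

theorem isRetrocompact_of_isLocallyNoetherian {X : Scheme.{u}} [IsLocallyNoetherian X]
    (Z : Set X) : IsRetrocompact Z := by
  intro V hVc hVo
  let V' : X.Opens := ⟨V, hVo⟩
  haveI : CompactSpace V' := isCompact_iff_compactSpace.mp hVc
  haveI : IsNoetherian V'.toScheme := {}
  have hN : TopologicalSpace.NoetherianSpace ↥(V'.toScheme) := inferInstance
  have h1 : IsCompact ((Subtype.val : V' → X) ⁻¹' Z) :=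
    @TopologicalSpace.NoetherianSpace.isCompact _ _ hN _
  have h2 := h1.image continuous_subtype_val
  have h3 : (Subtype.val : V' → X) '' ((Subtype.val : V' → X) ⁻¹' Z) = Z ∩ V := by
    ext y
    constructor
    · rintro ⟨⟨y, hy⟩, hz, rfl⟩
      exact ⟨hz, hy⟩
    · rintro ⟨hz, hy⟩
      exact ⟨⟨y, hy⟩, hz, rfl⟩
  rwa [h3] at h2

/-- **EGA IV 9.4.9-type statement**: the set of points of the base over which the fibre module is
torsion is locally constructible. -/
theorem isLocallyConstructible_setOf_fibre_torsion {X S : Scheme.{u}} (f : X ⟶ S)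
    [IsLocallyNoetherian S] [LocallyOfFiniteType f] [QuasiCompact f] (F : X.Modules)
    [F.IsQuasicoherent] (hF : SheafOfModules.IsFinitePresentation (R := X.ringCatSheaf) F)
    (hint : ∀ (s : S) (x : ↥(f.fiber s)), IsDomain ((f.fiber s).presheaf.stalk x)) :
    IsLocallyConstructible {s : S | ∀ x : ↥(f.fiber s),
      Submodule.torsion ((f.fiber s).presheaf.stalk x)
        (((Scheme.Modules.pullback (f.fiberι s)).obj F).presheaf.stalk x) = ⊤} := by
  haveI hX : IsLocallyNoetherian X := LocallyOfFiniteType.isLocallyNoetherian f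
  haveI := hF
  have hFt : SheafOfModules.IsFiniteType (R := X.ringCatSheaf) F := inferInstance
  have hZo : IsOpen {x : X | Subsingleton ↑(F.presheaf.stalk x)} :=
    Helper49.isOpen_setOf_stalk_subsingleton F hFt
  haveI hlfp : LocallyOfFinitePresentation f := inferInstance
  haveI hqs : QuasiSeparated f := inferInstance
  have key := isLocallyConstructible_denseLocus f {x : X | Subsingleton ↑(F.presheaf.stalk x)}
    Set.univ (IsRetrocompact.isLocallyConstructible hZo (isRetrocompact_of_isLocallyNoetherian _))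
    IsLocallyConstructible.univ
  convert key using 1
  ext s
  rw [mem_denseLocus_iff, Set.preimage_univ, Set.univ_subset_iff, ← dense_iff_closure_eq]
  have hpre : (f.fiberι s) ⁻¹' {x : X | Subsingleton ↑(F.presheaf.stalk x)} =
      {z : ↥(f.fiber s) | Subsingleton
        ↑(((Scheme.Modules.pullback (f.fiberι s)).obj F).presheaf.stalk z)} := by
    have h1 := Helper49.SupportPullback.support_pullback (f.fiberι s) F hFt
    ext z
    have h2 := Set.ext_iff.mp h1 z
    simp only [Set.mem_ofPred_eq, Set.mem_preimage] at h2 ⊢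
    exact (not_iff_not.mp h2).symm
  have hopen : IsOpen {z : ↥(f.fiber s) | Subsingleton
      ↑(((Scheme.Modules.pullback (f.fiberι s)).obj F).presheaf.stalk z)} := by
    rw [← hpre]
    exact hZo.preimage (f.fiberι s).continuous
  rw [hpre]
  haveI : ((Scheme.Modules.pullback (f.fiberι s)).obj F).IsQuasicoherent :=
    Helper16.FlatPull.isQuasicoherent_pullback _ F
  haveI : LocallyOfFiniteType (f.fiberToSpecResidueField s) :=
    MorphismProperty.pullback_snd (P := @LocallyOfFiniteType) _ _ inferInstance
  haveI : IsLocallyNoetherian (f.fiber s) :=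
    LocallyOfFiniteType.isLocallyNoetherian (f.fiberToSpecResidueField s)
  constructor
  · intro h
    exact dense_of_torsion_eq_top _ (hint s) h
  · intro h x
    haveI := hint s x
    exact torsion_eq_top_of_dense _ hopen h x

end Main

end Groth.Agent.Lib.Helper23.FibreTorsion
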