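/-
Helper library (helper23): flatness of the pullback of a quasi-coherent module over the charts of a
cartesian square, in terms of base change of section modules; and the ring-level descent of
flatness to a stage of an elementwise colimit system (from helper76 / helper18).
-/
import Mathlib
import Groth.Agent.Lib.Helper18.LimFinLocFree
import Groth.Agent.H76.LimFlat
import Groth.Agent.Lib.Helper12.FlatOverSections
import Groth.Agent.Lib.Helper49.PullbackSections
import Groth.Agent.Lib.Helper16.FlatPull.Chart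

set_option autoImplicit false
set_option linter.style.haveILetI false
universe u
open CategoryTheory AlgebraicGeometry Limits TensorProduct

namespace Groth.Agent.Lib.Helper23.FlatStage

section Ring

open Groth.Agent.Lib.Helper18.LimTensor Groth.Agent.Lib.Helper18.LimFinLocFree

variable {R : Type u} [CommRing R] {J : Type*} [Category J] [IsCofiltered J]
  {A : J → Type u} [∀ j, CommRing (A j)] [∀ j, Algebra R (A j)]
  {τ : ∀ {j' j : J}, (j' ⟶ j) → (A j →ₐ[R] A j')}
  {B : Type u} [CommRing B] [Algebra R B] {t : ∀ j, A j →ₐ[R] B}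

/-- Flatness of the base change to a later stage. -/
theorem flat_stage_of_hom {S S' : Type u} [CommRing S] [CommRing S'] [Algebra R S] [Algebra R S']
    (φ : S →ₐ[R] S') (M₀ : Type u) [AddCommGroup M₀] [Module R M₀]
    (h : Module.Flat S (S ⊗[R] M₀)) : Module.Flat S' (S' ⊗[R] M₀) := by
  letI : Algebra S S' := φ.toRingHom.toAlgebra
  haveI : IsScalarTower R S S' :=
    IsScalarTower.of_algebraMap_eq fun r => (φ.commutes r).symm
  exact Module.Flat.of_linearEquiv
    (TensorProduct.AlgebraTensorModule.cancelBaseChange R S S' S' M₀).symm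

/-- **Descent of flatness to a stage** (EGA IV 11.2.6, ring level, global form), for an elementwise
colimit system: from some stage on, the base change of `M₀` is flat. -/
theorem exists_flat_forall (h : IsColimSystem A τ B t)
    (B₀ : Type u) [CommRing B₀] [Algebra R B₀] [Algebra.FinitePresentation R B₀]
    (M₀ : Type u) [AddCommGroup M₀] [Module B₀ M₀] [Module R M₀] [IsScalarTower R B₀ M₀]
    [Module.FinitePresentation B₀ M₀] (hL : Module.Flat B (B ⊗[R] M₀)) :
    ∃ j : J, ∀ (j' : J) (_ : j' ⟶ j), Module.Flat (A j') (A j' ⊗[R] M₀) := by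
  obtain ⟨j, hj⟩ := Groth.Agent.H76.LimFlat.exists_flat (algPathSystem_of_isColimSystem h) B₀ M₀ hL
  exact ⟨j, fun j' g => flat_stage_of_hom (τ g) M₀ hj⟩

end Ring

section Chart

open Groth.Agent.Lib.Helper49 Groth.Agent.Lib.Helper12.FlatOver

variable {X Y S T : Scheme.{u}} {f : T ⟶ S} {g : Y ⟶ X} {iX : X ⟶ S} {iY : Y ⟶ T}
  (H : IsPullback g iY iX f)
  {US : S.Opens} {UT : T.Opens} {UX : X.Opens} (hUST : UT ≤ f ⁻¹ᵁ US) (hUSX : UX ≤ iX ⁻¹ᵁ US)
  {UY : Y.Opens} (hUY : UY = g ⁻¹ᵁ UX ⊓ iY ⁻¹ᵁ UT)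

include H hUST hUSX hUY in
theorem isAffineOpen_chart (hUS : IsAffineOpen US) (hUT : IsAffineOpen UT)
    (hUX : IsAffineOpen UX) : IsAffineOpen UY := by
  have : IsAffine (Scheme.Opens.toScheme US) := hUS
  have : IsAffine (Scheme.Opens.toScheme UT) := hUT
  have : IsAffine (Scheme.Opens.toScheme UX) := hUX
  exact .of_isIso (Scheme.Hom.isPullback_resLE H hUST hUSX hUY).isoPullback.hom

include H in
/-- On the charts of a cartesian square, the sections of the pullback module are flat over the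
base chart iff the base change of the section module is. -/
theorem flat_sections_pullback_iff (hUS : IsAffineOpen US) (hUT : IsAffineOpen UT)
    (hUX : IsAffineOpen UX) (F : X.Modules) [F.IsQuasicoherent] :
    letI : Algebra Γ(S, US) Γ(T, UT) := (f.appLE US UT hUST).hom.toAlgebra
    letI : Module Γ(S, US) Γ(F, UX) := Module.compHom _ (iX.appLE US UX hUSX).hom
    letI : Module Γ(T, UT) Γ((Scheme.Modules.pullback g).obj F, UY) :=
      Module.compHom _ (iY.appLE UT UY (by rw [hUY]; exact inf_le_right)).hom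
    Module.Flat Γ(T, UT) Γ((Scheme.Modules.pullback g).obj F, UY) ↔
      Module.Flat Γ(T, UT) (Γ(T, UT) ⊗[Γ(S, US)] Γ(F, UX)) := by
  have e1 : UY ≤ g ⁻¹ᵁ UX := by rw [hUY]; exact inf_le_left
  have e2 : UY ≤ iY ⁻¹ᵁ UT := by rw [hUY]; exact inf_le_right
  have hUY' : IsAffineOpen UY := isAffineOpen_chart H hUST hUSX hUY hUS hUT hUX
  have hiso := isIso_pushoutSection_of_isAffineOpen H hUST hUSX hUY hUS hUT hUX
  have hpush := (isIso_pushoutSection_iff H hUST hUSX hUY).mp hiso
  letI algSX : Algebra Γ(S, US) Γ(X, UX) := (iX.appLE US UX hUSX).hom.toAlgebra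
  letI algST : Algebra Γ(S, US) Γ(T, UT) := (f.appLE US UT hUST).hom.toAlgebra
  letI algXY : Algebra Γ(X, UX) Γ(Y, UY) := (g.appLE UX UY e1).hom.toAlgebra
  letI algTY : Algebra Γ(T, UT) Γ(Y, UY) := (iY.appLE UT UY e2).hom.toAlgebra
  letI algSY : Algebra Γ(S, US) Γ(Y, UY) :=
    ((g.appLE UX UY e1).hom.comp (iX.appLE US UX hUSX).hom).toAlgebra
  haveI tSXY : IsScalarTower Γ(S, US) Γ(X, UX) Γ(Y, UY) := .of_algebraMap_eq' rfl
  haveI tSTY : IsScalarTower Γ(S, US) Γ(T, UT) Γ(Y, UY) :=
    .of_algebraMap_eq' congr($(hpush.w).hom)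
  have hP : Algebra.IsPushout Γ(S, US) Γ(X, UX) Γ(T, UT) Γ(Y, UY) :=
    CommRingCat.isPushout_iff_isPushout.mp hpush
  haveI hP' : Algebra.IsPushout Γ(S, US) Γ(T, UT) Γ(X, UX) Γ(Y, UY) := hP.symm
  letI modSF : Module Γ(S, US) Γ(F, UX) := Module.compHom _ (iX.appLE US UX hUSX).hom
  haveI tSXF : IsScalarTower Γ(S, US) Γ(X, UX) Γ(F, UX) := IsScalarTower.of_compHom _ _ _
  letI modTG : Module Γ(T, UT) Γ((Scheme.Modules.pullback g).obj F, UY) :=
    Module.compHom _ (iY.appLE UT UY e2).hom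
  haveI tTYG : IsScalarTower Γ(T, UT) Γ(Y, UY) Γ((Scheme.Modules.pullback g).obj F, UY) :=
    IsScalarTower.of_compHom _ _ _
  let ε₁ := pullbackSectionsEquiv g hUX hUY' e1 F
  let ε₂ := Algebra.IsPushout.cancelBaseChange Γ(S, US) Γ(T, UT) Γ(X, UX) Γ(Y, UY) Γ(F, UX)
  let ε : Γ((Scheme.Modules.pullback g).obj F, UY) ≃ₗ[Γ(T, UT)] (Γ(T, UT) ⊗[Γ(S, US)] Γ(F, UX)) :=
    (ε₁.restrictScalars Γ(T, UT)).trans ε₂
  exact ⟨fun h => Module.Flat.of_linearEquiv ε.symm, fun h => Module.Flat.of_linearEquiv ε⟩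

include H hUY in
/-- On the charts of a cartesian square, the pullback module is flat over the base at all points
of the chart iff the base change of the section module is flat. -/
theorem forall_isFlatOverAt_chart_iff (hUS : IsAffineOpen US) (hUT : IsAffineOpen UT)
    (hUX : IsAffineOpen UX) (F : X.Modules) [F.IsQuasicoherent] :
    letI : Algebra Γ(S, US) Γ(T, UT) := (f.appLE US UT hUST).hom.toAlgebra
    letI : Module Γ(S, US) Γ(F, UX) := Module.compHom _ (iX.appLE US UX hUSX).hom
    (∀ y : Y, y ∈ UY → FlatMod.IsFlatOverAt iY ((Scheme.Modules.pullback g).obj F) y) ↔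
      Module.Flat Γ(T, UT) (Γ(T, UT) ⊗[Γ(S, US)] Γ(F, UX)) := by
  have e2 : UY ≤ iY ⁻¹ᵁ UT := by rw [hUY]; exact inf_le_right
  have hUY' : IsAffineOpen UY := isAffineOpen_chart H hUST hUSX hUY hUS hUT hUX
  haveI : ((Scheme.Modules.pullback g).obj F).IsQuasicoherent :=
    Groth.Agent.Lib.Helper16.FlatPull.isQuasicoherent_pullback g F
  rw [← flat_sections_pullback_iff H hUST hUSX hUY hUS hUT hUX F]
  constructor
  · intro h
    exact flat_sections_of_isFlatOverAt iY _ hUT hUY' e2 (fun x => h x.1 x.2)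
  · intro h y hy
    exact isFlatOverAt_of_flat_sections iY _ hUT hUY' e2 h ⟨y, hy⟩

end Chart

end Groth.Agent.Lib.Helper23.FlatStage
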