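/-
Helper library (helper23): EGA IV 11.2.6 at scheme level — descent of flatness of a finitely
presented module to a stage of a cofiltered limit of schemes with affine transition maps.
Chart version (`exists_stage_forall_isFlatOverAt_chart`).
-/
import Mathlib
import Groth.Agent.Lib.Helper23.FlatStageChart
import Groth.Agent.Lib.Helper49.FinitePresentation2

set_option autoImplicit false
set_option linter.style.haveILetI false
universe u
open CategoryTheory AlgebraicGeometry Limits TensorProduct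

namespace Groth.Agent.Lib.Helper23.FlatStage

section Core

open Groth.Agent.Lib.Helper18.LimSystem Groth.Agent.Lib.Helper49

variable {J : Type u} [SmallCategory J] [IsCofiltered J] (E : J ⥤ Scheme.{u}) (cE : Cone E)
  [∀ (i j : J) (f : i ⟶ j), IsAffineHom (E.map f)] (j₀ : J)

attribute [local instance] algA algB

/-- **EGA IV 11.2.6, chart form.** Let `(E_j)` be a cofiltered system of schemes with affine
transition maps and limit `cE.pt`, `f₀ : X₀ ⟶ E_{j₀}` locally of finite presentation, `F₀` a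
quasi-coherent finitely presented module on `X₀`, `V ⊆ E_{j₀}` and `U ⊆ f₀⁻¹ V` affine opens.
If the base change of `F₀` to the limit is flat over the limit at all points over `U`, then from
some stage on the base change of `F₀` to the stage is flat over the stage at all points over `U`. -/
theorem exists_stage_forall_isFlatOverAt_chart (hcE : IsLimit cE) {V : (E.obj j₀).Opens}
    (hV : IsAffineOpen V) {X₀ : Scheme.{u}} (f₀ : X₀ ⟶ E.obj j₀) [LocallyOfFinitePresentation f₀]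
    {U : X₀.Opens} (hU : IsAffineOpen U) (hUV : U ≤ f₀ ⁻¹ᵁ V)
    (F₀ : X₀.Modules) [F₀.IsQuasicoherent]
    (hF₀ : SheafOfModules.IsFinitePresentation (R := X₀.ringCatSheaf) F₀)
    {X : Scheme.{u}} (f : X ⟶ cE.pt) (q : X ⟶ X₀) (H : IsPullback q f f₀ (cE.π.app j₀))
    (hfl : ∀ x : X, q x ∈ U →
      FlatMod.IsFlatOverAt f ((Scheme.Modules.pullback q).obj F₀) x) :
    ∃ k : Over j₀, ∀ (k' : Over j₀) (_ : k' ⟶ k) {Xk : Scheme.{u}} (fk : Xk ⟶ E.obj k'.left)
      (pk : Xk ⟶ X₀), IsPullback pk fk f₀ (E.map k'.hom) → ∀ z : Xk, pk z ∈ U →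
        FlatMod.IsFlatOverAt fk ((Scheme.Modules.pullback pk).obj F₀) z := by
  have haff : IsAffineHom (cE.π.app j₀) := isAffineHom_π_app E cE hcE j₀
  have hVinf : IsAffineOpen (cE.π.app j₀ ⁻¹ᵁ V) := hV.preimage (cE.π.app j₀)
  letI algRB₀ : Algebra Γ(E.obj j₀, V) Γ(X₀, U) := (f₀.appLE V U hUV).hom.toAlgebra
  haveI : Algebra.FinitePresentation Γ(E.obj j₀, V) Γ(X₀, U) :=
    LocallyOfFinitePresentation.finitePresentation_appLE f₀ hV hU hUV
  letI modRM₀ : Module Γ(E.obj j₀, V) Γ(F₀, U) := Module.compHom _ (f₀.appLE V U hUV).hom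
  haveI : IsScalarTower Γ(E.obj j₀, V) Γ(X₀, U) Γ(F₀, U) := IsScalarTower.of_compHom _ _ _
  haveI : Module.FinitePresentation Γ(X₀, U) Γ(F₀, U) :=
    finitePresentation_sections_of_isFinitePresentation F₀ hF₀ hU
  have hsys := isColimSystem E cE j₀ V hcE hV
  have hL : Module.Flat Γ(cE.pt, cE.π.app j₀ ⁻¹ᵁ V)
      (Γ(cE.pt, cE.π.app j₀ ⁻¹ᵁ V) ⊗[Γ(E.obj j₀, V)] Γ(F₀, U)) :=
    (forall_isFlatOverAt_chart_iff H (le_refl _) hUV rfl hV hVinf hU F₀).mp
      (fun y hy => hfl y hy.1)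
  obtain ⟨k, hk⟩ := exists_flat_forall hsys Γ(X₀, U) Γ(F₀, U) hL
  refine ⟨k, fun k' a Xk fk pk Hk z hz => ?_⟩
  have hVk : IsAffineOpen (E.map k'.hom ⁻¹ᵁ V) := hV.preimage _
  refine (forall_isFlatOverAt_chart_iff Hk (le_refl _) hUV rfl hV hVk hU F₀).mpr (hk k' a) z
    ⟨hz, ?_⟩
  change (E.map k'.hom) (fk z) ∈ V
  rw [← Scheme.Hom.comp_apply, ← Hk.w, Scheme.Hom.comp_apply]
  exact hUV hz

/-- **EGA IV 11.2.6 (ii), global form.** If `X₀` is quasi-compact and the base change of `F₀` to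
the limit is flat over the limit, then from some stage on the base change of `F₀` to the stage is
flat over the stage. -/
theorem exists_stage_isFlatOver (hcE : IsLimit cE) {X₀ : Scheme.{u}} [CompactSpace X₀]
    (f₀ : X₀ ⟶ E.obj j₀) [LocallyOfFinitePresentation f₀]
    (F₀ : X₀.Modules) [F₀.IsQuasicoherent]
    (hF₀ : SheafOfModules.IsFinitePresentation (R := X₀.ringCatSheaf) F₀)
    {X : Scheme.{u}} (f : X ⟶ cE.pt) (q : X ⟶ X₀) (H : IsPullback q f f₀ (cE.π.app j₀))
    (hfl : FlatMod.IsFlatOver f ((Scheme.Modules.pullback q).obj F₀)) :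
    ∃ k : Over j₀, ∀ (k' : Over j₀) (_ : k' ⟶ k) {Xk : Scheme.{u}} (fk : Xk ⟶ E.obj k'.left)
      (pk : Xk ⟶ X₀), IsPullback pk fk f₀ (E.map k'.hom) →
        FlatMod.IsFlatOver fk ((Scheme.Modules.pullback pk).obj F₀) := by
  classical
  choose V W hV hW hWV hxW using Groth.Agent.Lib.Helper16.FlatPull.exists_charts f₀
  obtain ⟨t, ht⟩ := CompactSpace.elim_nhds_subcover (fun x => ((W x : X₀.Opens) : Set X₀))
    (fun x => (W x).2.mem_nhds (hxW x))
  have key : ∀ x : X₀, ∃ k : Over j₀, ∀ (k' : Over j₀) (_ : k' ⟶ k) {Xk : Scheme.{u}}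
      (fk : Xk ⟶ E.obj k'.left) (pk : Xk ⟶ X₀), IsPullback pk fk f₀ (E.map k'.hom) →
      ∀ z : Xk, pk z ∈ W x →
        FlatMod.IsFlatOverAt fk ((Scheme.Modules.pullback pk).obj F₀) z := fun x =>
    exists_stage_forall_isFlatOverAt_chart E cE j₀ hcE (hV x) f₀ (hW x) (hWV x) F₀ hF₀ f q H
      (fun y _ => hfl y)
  choose κ hκ using key
  obtain ⟨m, hm⟩ := IsCofiltered.inf_objs_exists (t.image κ)
  refine ⟨m, fun k' a Xk fk pk Hk z => ?_⟩
  have hz : pk z ∈ ⋃ x ∈ t, ((W x : X₀.Opens) : Set X₀) := by rw [ht]; trivial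
  obtain ⟨x, hx, hzx⟩ := Set.mem_iUnion₂.mp hz
  obtain ⟨b⟩ := hm (Finset.mem_image_of_mem κ hx)
  exact hκ x k' (a ≫ b) fk pk Hk z hzx

end Core

end Groth.Agent.Lib.Helper23.FlatStage
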