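/-
Helper library (helper23): the relative setting of EGA IV 11.2.6 — `S = lim S_i`, `Y₀ ⟶ S_{i₀}`,
`X₀ ⟶ Y₀`, with base changes `X ⟶ Y` to `S`.  The system `Y_i = Y₀ ×_{S_{i₀}} S_i` with limit `Y`.
-/
import Mathlib
import Groth.Agent.Lib.Helper23.BaseChangeLim

set_option autoImplicit false
universe u
open CategoryTheory AlgebraicGeometry Limits

namespace Groth.Agent.Lib.Helper23.FlatStage

section Rel

variable {I : Type u} [SmallCategory I] (D : I ⥤ Scheme.{u}) (c : Cone D) (i₀ : I)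
  {X₀ Y₀ : Scheme.{u}} (f₀ : X₀ ⟶ Y₀) (g₀ : Y₀ ⟶ D.obj i₀)
  {X Y : Scheme.{u}} (f : X ⟶ Y) (g : Y ⟶ c.pt) (qY : Y ⟶ Y₀) (qX : X ⟶ X₀)
  (hY : IsPullback qY g g₀ (c.π.app i₀)) (hX : IsPullback qX f f₀ qY)

/-- The terminal object of the slice. -/
abbrev relTop : Over i₀ := Over.mk (𝟙 i₀)

/-- The comparison isomorphism `Y ≅ S ×_{S_{i₀}} Y₀`. -/
noncomputable def relIso : Y ≅ pullback (c.π.app i₀) g₀ := hY.flip.isoPullback

/-- The cone over the system `(Y_i)` with point `Y`. -/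
noncomputable def relCone : Cone (bcDiagram D i₀ g₀) :=
  (bcCone D c i₀ g₀).extend (relIso D c i₀ g₀ g qY hY).hom

/-- The cone over the system `(Y_i)` with point `Y` is a limit cone. -/
noncomputable def isLimitRelCone [IsCofiltered I] (hc : IsLimit c) :
    IsLimit (relCone D c i₀ g₀ g qY hY) :=
  IsLimit.ofIsoLimit (isLimitBcCone D c i₀ g₀ hc)
    ((bcCone D c i₀ g₀).extendIso (relIso D c i₀ g₀ g qY hY).symm)

/-- The projection `Y ⟶ Y_j`. -/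
noncomputable def relπ (j : Over i₀) : Y ⟶ (bcDiagram D i₀ g₀).obj j :=
  (relCone D c i₀ g₀ g qY hY).π.app j

@[reassoc]
theorem relπ_fst (j : Over i₀) :
    relπ D c i₀ g₀ g qY hY j ≫ bcFst D i₀ g₀ j = g ≫ c.π.app j.left := by
  let π' : pullback (c.π.app i₀) g₀ ⟶ (bcDiagram D i₀ g₀).obj j := (bcCone D c i₀ g₀).π.app j
  let φ1 : pullback (c.π.app i₀) g₀ ⟶ c.pt := pullback.fst _ _
  have h1 : π' ≫ bcFst D i₀ g₀ j = φ1 ≫ c.π.app j.left := bcCone_π_fst D c i₀ g₀ j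
  have h2 : (relIso D c i₀ g₀ g qY hY).hom ≫ φ1 = g := hY.flip.isoPullback_hom_fst
  change ((relIso D c i₀ g₀ g qY hY).hom ≫ π') ≫ bcFst D i₀ g₀ j = _
  rw [Category.assoc, h1, ← Category.assoc, h2]

@[reassoc]
theorem relπ_snd (j : Over i₀) :
    relπ D c i₀ g₀ g qY hY j ≫ bcSnd D i₀ g₀ j = qY := by
  let π' : pullback (c.π.app i₀) g₀ ⟶ (bcDiagram D i₀ g₀).obj j := (bcCone D c i₀ g₀).π.app j
  let φ2 : pullback (c.π.app i₀) g₀ ⟶ Y₀ := pullback.snd _ _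
  have h1 : π' ≫ bcSnd D i₀ g₀ j = φ2 := bcCone_π_snd D c i₀ g₀ j
  have h2 : (relIso D c i₀ g₀ g qY hY).hom ≫ φ2 = qY := hY.flip.isoPullback_hom_snd
  change ((relIso D c i₀ g₀ g qY hY).hom ≫ π') ≫ bcSnd D i₀ g₀ j = _
  rw [Category.assoc, h1, h2]

/-- The projection of the top stage `Y_{top} ⟶ Y₀`, an isomorphism. -/
noncomputable def relσ : (bcDiagram D i₀ g₀).obj (relTop i₀) ⟶ Y₀ := bcSnd D i₀ g₀ (relTop i₀)

instance : IsIso (relσ D i₀ g₀) := by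
  change IsIso (pullback.snd (D.map (𝟙 i₀)) g₀)
  infer_instance

/-- `f₀` as a morphism to the top stage. -/
noncomputable def relF₀ : X₀ ⟶ (bcDiagram D i₀ g₀).obj (relTop i₀) := f₀ ≫ inv (relσ D i₀ g₀)

@[reassoc]
theorem relF₀_σ : relF₀ D i₀ f₀ g₀ ≫ relσ D i₀ g₀ = f₀ := by
  simp [relF₀]

@[reassoc]
theorem map_relσ (k : Over (relTop i₀)) :
    (bcDiagram D i₀ g₀).map k.hom ≫ relσ D i₀ g₀ = bcSnd D i₀ g₀ k.left :=
  bcDiagram_map_snd D i₀ g₀ k.hom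

include hX in
/-- The limit square over the system `(Y_i)`. -/
theorem isPullback_rel :
    IsPullback qX f (relF₀ D i₀ f₀ g₀) (relπ D c i₀ g₀ g qY hY (relTop i₀)) := by
  refine hX.of_iso (Iso.refl _) (Iso.refl _) (Iso.refl _) (asIso (relσ D i₀ g₀)).symm ?_ ?_ ?_ ?_
  · simp
  · simp
  · simp [relF₀]
  · rw [Iso.refl_hom, Category.id_comp, Iso.symm_hom, asIso_inv, IsIso.comp_inv_eq]
    exact (relπ_snd D c i₀ g₀ g qY hY (relTop i₀)).symm

/-- The stage square over the system `(Y_i)`. -/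
theorem isPullback_rel_stage (k : Over (relTop i₀)) :
    IsPullback (pullback.fst f₀ (bcSnd D i₀ g₀ k.left)) (pullback.snd f₀ (bcSnd D i₀ g₀ k.left))
      (relF₀ D i₀ f₀ g₀) ((bcDiagram D i₀ g₀).map k.hom) := by
  refine (IsPullback.of_hasPullback f₀ (bcSnd D i₀ g₀ k.left)).of_iso (Iso.refl _) (Iso.refl _)
    (Iso.refl _) (asIso (relσ D i₀ g₀)).symm ?_ ?_ ?_ ?_
  · simp
  · simp
  · simp [relF₀]
  · rw [Iso.refl_hom, Category.id_comp, Iso.symm_hom, asIso_inv, IsIso.comp_inv_eq]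
    exact (map_relσ D i₀ g₀ k).symm

include hX in
/-- The canonical morphism `X ⟶ X_k`. -/
theorem exists_relLift (k : Over (relTop i₀)) :
    ∃ vX : X ⟶ pullback f₀ (bcSnd D i₀ g₀ k.left),
      vX ≫ pullback.fst f₀ (bcSnd D i₀ g₀ k.left) = qX ∧
      vX ≫ pullback.snd f₀ (bcSnd D i₀ g₀ k.left) = f ≫ relπ D c i₀ g₀ g qY hY k.left :=
  ⟨pullback.lift qX (f ≫ relπ D c i₀ g₀ g qY hY k.left) (by
      rw [Category.assoc, relπ_snd, hX.w]),
    pullback.lift_fst _ _ _, pullback.lift_snd _ _ _⟩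

end Rel

end Groth.Agent.Lib.Helper23.FlatStage
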