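/-
Helper library (helper23): the stages of the Noetherian approximation system of `Spec A` are
spectra of finitely generated `ℤ`-subalgebras of `A`.
-/
import Mathlib
import Groth.Agent.Lib.Helper23.NoethApprox

set_option autoImplicit false
universe u
open CategoryTheory AlgebraicGeometry Limits

namespace Groth.Agent.Lib.Helper23

attribute [local instance] ulZAlgebra

/-- An injective ring map from a finitely generated ring identifies it with a finitely generated
subalgebra of the target. -/
theorem exists_subalgebra_of_injective {R : CommRingCat.{u}} {A : Type u} [CommRing A]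
    (θ : R ⟶ CommRingCat.of A) (hinj : Function.Injective θ.hom)
    (hft : Algebra.FiniteType ℤ R) :
    ∃ (A₀ : Subalgebra ℤ A) (_ : A₀.FG) (ρ : R ≅ CommRingCat.of ↥A₀),
      ρ.hom ≫ CommRingCat.ofHom A₀.val.toRingHom = θ := by
  let A₀ : Subalgebra ℤ A := subalgebraOfSubring θ.hom.range
  let e : R ≃+* ↥A₀ := RingEquiv.ofBijective θ.hom.rangeRestrict
    ⟨fun a b hab => hinj (congrArg Subtype.val hab), θ.hom.rangeRestrict_surjective⟩
  refine ⟨A₀, ?_, e.toCommRingCatIso, ?_⟩
  · rw [Subalgebra.fg_iff_finiteType]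
    exact hft.equiv e.toIntAlgEquiv
  · ext x
    rfl

theorem finiteType_int_adjoin_ulZ {B : Type u} [CommRing B] (s : Finset B) :
    Algebra.FiniteType ℤ (Algebra.adjoin (ULift.{u} ℤ) (s : Set B)) := by
  have h1 : Algebra.FiniteType (ULift.{u} ℤ) (Algebra.adjoin (ULift.{u} ℤ) (s : Set B)) :=
    (Subalgebra.fg_iff_finiteType _).mp (Subalgebra.fg_adjoin_finset s)
  have h0 : Algebra.FiniteType ℤ (ULift.{u} ℤ) :=
    (inferInstance : Algebra.FiniteType ℤ ℤ).equiv
      (ULift.ringEquiv : ULift.{u} ℤ ≃+* ℤ).symm.toIntAlgEquiv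
  haveI := IsScalarTower.of_algebraMap_eq (R := ℤ) (S := ULift.{u} ℤ)
    (A := Algebra.adjoin (ULift.{u} ℤ) (s : Set B)) (fun x =>
      (eq_intCast (algebraMap ℤ (Algebra.adjoin (ULift.{u} ℤ) (s : Set B))) x).trans
        (eq_intCast ((algebraMap (ULift.{u} ℤ) (Algebra.adjoin (ULift.{u} ℤ) (s : Set B))).comp
          (algebraMap ℤ (ULift.{u} ℤ))) x).symm)
  exact Algebra.FiniteType.trans h0 h1

/-- The stages of the Noetherian approximation system of `Spec A` are spectra of finitely
generated subrings of `A`, compatibly with the projections. -/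
theorem exists_subalgebra_noethStage (A : Type u) [CommRing A]
    (m : (Finset Γ(Spec (CommRingCat.of A), ⊤))ᵒᵖ) :
    ∃ (A₀ : Subalgebra ℤ A) (_ : A₀.FG)
      (ρ : noethRing (Spec (CommRingCat.of A)) m ≅ CommRingCat.of ↥A₀),
      (noethCone (Spec (CommRingCat.of A))).π.app m =
        Spec.map (CommRingCat.ofHom A₀.val.toRingHom) ≫ Spec.map ρ.hom := by
  let ι : noethRing (Spec (CommRingCat.of A)) m ⟶ Γ(Spec (CommRingCat.of A), ⊤) :=
    CommRingCat.ofHom (Algebra.adjoin (ULift.{u} ℤ)
      (m.unop : Set Γ(Spec (CommRingCat.of A), ⊤))).val.toRingHom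
  let θ : noethRing (Spec (CommRingCat.of A)) m ⟶ CommRingCat.of A :=
    ι ≫ (Scheme.ΓSpecIso (CommRingCat.of A)).hom
  have hinj : Function.Injective θ.hom := by
    have h1 : Function.Injective ι.hom := Subtype.val_injective
    have h2 : Function.Injective (Scheme.ΓSpecIso (CommRingCat.of A)).hom.hom :=
      ((ConcreteCategory.isIso_iff_bijective _).mp inferInstance).1
    exact h2.comp h1
  obtain ⟨A₀, hA₀, ρ, hρ⟩ := exists_subalgebra_of_injective θ hinj
    (finiteType_int_adjoin_ulZ _)
  refine ⟨A₀, hA₀, ρ, ?_⟩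
  rw [← Spec.map_comp, hρ]
  change (Spec (CommRingCat.of A)).toSpecΓ ≫ Spec.map ι =
    Spec.map (ι ≫ (Scheme.ΓSpecIso (CommRingCat.of A)).hom)
  rw [Spec.map_comp, SpecMap_ΓSpecIso_hom]

end Groth.Agent.Lib.Helper23
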