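/-
Helper library (helper23): Noetherian approximation of a pair (scheme of finite presentation over an
affine scheme, finitely presented module), for EGA IV 11.2.6-type statements.
-/
import Mathlib
import Groth.Agent.Lib.Helper23.FlatStageRel
import Groth.Agent.Lib.Helper23.NoethSubalg
import Groth.Agent.Lib.Helper23.FpDescentHom
import Groth.Agent.S4788

set_option autoImplicit false
universe u
open CategoryTheory AlgebraicGeometry Limits

namespace Groth.Agent.Lib.Helper23.FlatStage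

section RelPullback

variable {I : Type u} [SmallCategory I] (D : I ⥤ Scheme.{u}) (c : Cone D) (i₀ : I)
  {Y₀ : Scheme.{u}} (g₀ : Y₀ ⟶ D.obj i₀)
  {Y : Scheme.{u}} (g : Y ⟶ c.pt) (qY : Y ⟶ Y₀)
  (hY : IsPullback qY g g₀ (c.π.app i₀))

/-- `Y` is the fibre product of each stage `Y_j` with the limit `S`. -/
theorem isPullback_relπ (j : Over i₀) :
    IsPullback (relπ D c i₀ g₀ g qY hY j) g (bcFst D i₀ g₀ j) (c.π.app j.left) := by
  let π' : pullback (c.π.app i₀) g₀ ⟶ (bcDiagram D i₀ g₀).obj j := (bcCone D c i₀ g₀).π.app j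
  let φ1 : pullback (c.π.app i₀) g₀ ⟶ c.pt := pullback.fst _ _
  have h1 : IsPullback π' φ1 (bcFst D i₀ g₀ j) (c.π.app j.left) :=
    (isPullback_bcCone_π D c i₀ g₀ j).flip
  have h2 : (relIso D c i₀ g₀ g qY hY).hom ≫ φ1 = g := hY.flip.isoPullback_hom_fst
  refine h1.of_iso (relIso D c i₀ g₀ g qY hY).symm (Iso.refl _) (Iso.refl _) (Iso.refl _)
    ?_ ?_ ?_ ?_
  · rw [Iso.symm_hom, Iso.refl_hom, Category.comp_id]
    change π' = (relIso D c i₀ g₀ g qY hY).inv ≫ (relIso D c i₀ g₀ g qY hY).hom ≫ π'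
    rw [Iso.inv_hom_id_assoc]
  · rw [Iso.symm_hom, Iso.refl_hom, Category.comp_id]
    exact (Iso.inv_comp_eq _).mpr h2.symm |>.symm
  · simp
  · simp

end RelPullback

section Noeth

variable {A : Type u} [CommRing A] {X : Scheme.{u}}
  (f : X ⟶ Spec (CommRingCat.of A)) [LocallyOfFinitePresentation f] [QuasiCompact f]
  [QuasiSeparated f] (F : X.Modules) [F.IsQuasicoherent]
  (hF : SheafOfModules.IsFinitePresentation (R := X.ringCatSheaf) F)

include hF in
/-- Noetherian approximation of a scheme of finite presentation over an affine scheme together with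
a finitely presented quasi-coherent module. -/
theorem exists_noeth_model :
    ∃ (j₀ : (Finset Γ(Spec (CommRingCat.of A), ⊤))ᵒᵖ) (X₀ : Scheme.{u})
      (f₀ : X₀ ⟶ (noethDiagram (Spec (CommRingCat.of A))).obj j₀) (q₀ : X ⟶ X₀)
      (F₀ : X₀.Modules),
      LocallyOfFinitePresentation f₀ ∧ QuasiCompact f₀ ∧ QuasiSeparated f₀ ∧
      IsPullback q₀ f f₀ ((noethCone (Spec (CommRingCat.of A))).π.app j₀) ∧
      F₀.IsQuasicoherent ∧ SheafOfModules.IsFinitePresentation (R := X₀.ringCatSheaf) F₀ ∧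
      Nonempty ((Scheme.Modules.pullback q₀).obj F₀ ≅ F) := by
  obtain ⟨i₁, X₁, u₁, q₁, a1, a2, a3, h₁⟩ := descends_noeth f
  let D := noethDiagram (Spec (CommRingCat.of A))
  let c := noethCone (Spec (CommRingCat.of A))
  have hc : IsLimit c := isLimitNoethCone (Spec (CommRingCat.of A))
  haveI hD : ∀ {i j : (Finset Γ(Spec (CommRingCat.of A), ⊤))ᵒᵖ} (φ : i ⟶ j),
      IsAffineHom (D.map φ) := fun φ => inferInstance
  haveI : ∀ (i j : Over i₁) (a : i ⟶ j), IsAffineHom ((bcDiagram D i₁ u₁).map a) :=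
    fun _ _ a => inferInstance
  haveI : CompactSpace X₁ := QuasiCompact.compactSpace_of_compactSpace u₁
  haveI : QuasiSeparatedSpace X₁ := quasiSeparatedSpace_of_quasiSeparated u₁
  haveI : CompactSpace ↥((bcDiagram D i₁ u₁).obj (relTop i₁)) :=
    (relσ D i₁ u₁).homeomorph.symm.compactSpace
  haveI : QuasiSeparatedSpace ↥((bcDiagram D i₁ u₁).obj (relTop i₁)) :=
    (quasiSeparatedSpace_congr (relσ D i₁ u₁).homeomorph).mpr inferInstance
  let c' := relCone D c i₁ u₁ f q₁ h₁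
  have hc' : IsLimit c' := isLimitRelCone D c i₁ u₁ f q₁ h₁ hc
  let F' : c'.pt.Modules := F
  haveI : Coh.IsQCoh F' := ‹F.IsQuasicoherent›
  obtain ⟨j, -, Fj, hFjq, hFjfp, ⟨e⟩⟩ :=
    Groth.Agent.S4788.result (bcDiagram D i₁ u₁) c' hc' (relTop i₁) F' hF
  have hpb : IsPullback (bcSnd D i₁ u₁ j) (bcFst D i₁ u₁ j) u₁ (D.map j.hom) :=
    (isPullback_bcObj D i₁ u₁ j).flip
  refine ⟨j.left, (bcDiagram D i₁ u₁).obj j, bcFst D i₁ u₁ j, relπ D c i₁ u₁ f q₁ h₁ j, Fj,
    MorphismProperty.of_isPullback hpb a1, MorphismProperty.of_isPullback hpb a2,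
    MorphismProperty.of_isPullback hpb a3, isPullback_relπ D c i₁ u₁ f q₁ h₁ j, hFjq, hFjfp, ⟨e⟩⟩

end Noeth

end Groth.Agent.Lib.Helper23.FlatStage
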