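/-
Helper library (helper23): packaging a stage of the Noetherian approximation system as a finitely
generated subring, with the flatness transfer.
-/
import Mathlib
import Groth.Agent.Lib.Helper23.FlatStageNoeth
import Groth.Agent.Lib.Helper23.ConsLocusMod
import Groth.Agent.Lib.Helper16.FlatPull.Main
import Groth.Agent.Lib.Helper18.TransSec

set_option autoImplicit false
universe u
open CategoryTheory AlgebraicGeometry Limits

namespace Groth.Agent.Lib.Helper23.FlatStage

section Package

variable {A : Type u} [CommRing A] {X : Scheme.{u}}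
  (f : X ⟶ Spec (CommRingCat.of A)) (F : X.Modules)

/-- A stage of the Noetherian approximation, repackaged over a finitely generated subring. -/
theorem noeth_package {j₀ : (Finset Γ(Spec (CommRingCat.of A), ⊤))ᵒᵖ} {X₀ : Scheme.{u}}
    (f₀ : X₀ ⟶ (noethDiagram (Spec (CommRingCat.of A))).obj j₀) (q₀ : X ⟶ X₀)
    [LocallyOfFinitePresentation f₀] [QuasiCompact f₀]
    (H : IsPullback q₀ f f₀ ((noethCone (Spec (CommRingCat.of A))).π.app j₀))
    (F₀ : X₀.Modules) [F₀.IsQuasicoherent]
    (hF₀ : SheafOfModules.IsFinitePresentation (R := X₀.ringCatSheaf) F₀)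
    (e : (Scheme.Modules.pullback q₀).obj F₀ ≅ F) (k : Over j₀) :
    ∃ (A₀ : Subalgebra ℤ A) (_ : A₀.FG)
      (fA : pullback f₀ ((noethDiagram (Spec (CommRingCat.of A))).map k.hom) ⟶
        Spec (CommRingCat.of ↥A₀))
      (_ : LocallyOfFiniteType fA) (_ : QuasiCompact fA)
      (_ : Coh.IsCoh ((Scheme.Modules.pullback
        (pullback.fst f₀ ((noethDiagram (Spec (CommRingCat.of A))).map k.hom))).obj F₀))
      (_ : IsPullback (toStage (noethDiagram (Spec (CommRingCat.of A)))
          (noethCone (Spec (CommRingCat.of A))) H k.hom) f fA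
        (Spec.map (CommRingCat.ofHom A₀.val.toRingHom)))
      (_ : (Scheme.Modules.pullback (toStage (noethDiagram (Spec (CommRingCat.of A)))
          (noethCone (Spec (CommRingCat.of A))) H k.hom)).obj
        ((Scheme.Modules.pullback
          (pullback.fst f₀ ((noethDiagram (Spec (CommRingCat.of A))).map k.hom))).obj F₀) ≅ F),
      ∀ z, FlatMod.IsFlatOverAt
          (pullback.snd f₀ ((noethDiagram (Spec (CommRingCat.of A))).map k.hom))
          ((Scheme.Modules.pullback
            (pullback.fst f₀ ((noethDiagram (Spec (CommRingCat.of A))).map k.hom))).obj F₀) z →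
        FlatMod.IsFlatOverAt fA
          ((Scheme.Modules.pullback
            (pullback.fst f₀ ((noethDiagram (Spec (CommRingCat.of A))).map k.hom))).obj F₀) z := by
  obtain ⟨A₀, hA₀, ρ, hρ⟩ := exists_subalgebra_noethStage A k.left
  let D := noethDiagram (Spec (CommRingCat.of A))
  let c := noethCone (Spec (CommRingCat.of A))
  let fk : pullback f₀ (D.map k.hom) ⟶ Spec (noethRing (Spec (CommRingCat.of A)) k.left) :=
    pullback.snd f₀ (D.map k.hom)
  let pk := pullback.fst f₀ (D.map k.hom)
  let v := toStage D c H k.hom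
  have hpb : IsPullback v f fk (c.π.app k.left) := isPullback_toStage D c H k.hom
  have hfk1 : LocallyOfFinitePresentation fk :=
    MorphismProperty.of_isPullback (IsPullback.of_hasPullback f₀ (D.map k.hom)) inferInstance
  have hfk2 : QuasiCompact fk :=
    MorphismProperty.of_isPullback (IsPullback.of_hasPullback f₀ (D.map k.hom)) inferInstance
  let fA : pullback f₀ (D.map k.hom) ⟶ Spec (CommRingCat.of ↥A₀) := fk ≫ Spec.map ρ.inv
  let πk : Spec (CommRingCat.of A) ⟶ Spec (noethRing (Spec (CommRingCat.of A)) k.left) :=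
    c.π.app k.left
  have hρ'' : πk = Spec.map (CommRingCat.ofHom A₀.val.toRingHom) ≫ Spec.map ρ.hom := hρ
  have hρ' : πk ≫ Spec.map ρ.inv = Spec.map (CommRingCat.ofHom A₀.val.toRingHom) := by
    rw [hρ'', Category.assoc, ← Spec.map_comp, Iso.inv_hom_id, Spec.map_id, Category.comp_id]
  refine ⟨A₀, hA₀, fA, inferInstance, inferInstance,
    ConsLocusMod.isCoh_pullback pk F₀ hF₀, ?_,
    Groth.Agent.Lib.Helper18.TransSec.compIso v pk q₀ (toStage_fst D c H k.hom) F₀ ≪≫ e, ?_⟩
  · refine hpb.of_iso (Iso.refl _) (Iso.refl _) (Iso.refl _)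
      (Scheme.Spec.mapIso ρ.symm.op) ?_ ?_ ?_ ?_
    · exact (Category.comp_id _).trans (Category.id_comp _).symm
    · simp
    · rw [Iso.refl_hom, Category.id_comp]
      rfl
    · rw [Iso.refl_hom, Category.id_comp]
      exact hρ'
  · intro z hz
    refine Groth.Agent.Lib.Helper16.FlatPull.isFlatOverAt_comp_of_flat fk (Spec.map ρ.inv) _ z
      ?_ hz
    apply RingHom.Flat.of_bijective
    exact (ConcreteCategory.isIso_iff_bijective _).mp inferInstance

end Package

end Groth.Agent.Lib.Helper23.FlatStage
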