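/-
Helper library (helper23): EGA IV 11.2.6 (i) at scheme level — pointwise descent of flatness of a
finitely presented module to a stage of a cofiltered limit of schemes with affine transition maps.
-/
import Mathlib
import Groth.Agent.Lib.Helper23.FlatStageCore
import Groth.Agent.Lib.Helper23.BaseChangeLim
import Groth.Agent.Lib.Helper23.FibreFlatCons
import Groth.Agent.H76.FlatLocusSheaf
import Groth.Agent.Lib.Helper49.PrinPartFP

set_option autoImplicit false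
set_option linter.style.haveILetI false
universe u
open CategoryTheory AlgebraicGeometry Limits TensorProduct

namespace Groth.Agent.Lib.Helper23.FlatStage

section Point

open Groth.Agent.Lib.Helper18.TransSec Groth.Agent.Lib.Helper23.FibreFlatCons

variable {J : Type u} [SmallCategory J] [IsCofiltered J] (E : J ⥤ Scheme.{u}) (cE : Cone E)
  [hE : ∀ (i j : J) (f : i ⟶ j), IsAffineHom (E.map f)] (j₀ : J)

/-- **EGA IV 11.2.6 (i), pointwise form.** If the base change of `F₀` to the limit is flat over the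
limit at a point `x`, then from some stage on the base change of `F₀` to the stage is flat over the
stage at the image of `x`. -/
theorem exists_stage_isFlatOverAt (hcE : IsLimit cE) {X₀ : Scheme.{u}}
    (f₀ : X₀ ⟶ E.obj j₀) [LocallyOfFinitePresentation f₀]
    (F₀ : X₀.Modules) [F₀.IsQuasicoherent]
    (hF₀ : SheafOfModules.IsFinitePresentation (R := X₀.ringCatSheaf) F₀)
    {X : Scheme.{u}} (f : X ⟶ cE.pt) (q : X ⟶ X₀) (H : IsPullback q f f₀ (cE.π.app j₀)) (x : X)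
    (hfl : FlatMod.IsFlatOverAt f ((Scheme.Modules.pullback q).obj F₀) x) :
    ∃ k : Over j₀, ∀ (k' : Over j₀) (_ : k' ⟶ k) {Xk : Scheme.{u}} (fk : Xk ⟶ E.obj k'.left)
      (pk : Xk ⟶ X₀) (v : X ⟶ Xk), IsPullback pk fk f₀ (E.map k'.hom) → v ≫ pk = q →
        v ≫ fk = f ≫ cE.π.app k'.left →
        FlatMod.IsFlatOverAt fk ((Scheme.Modules.pullback pk).obj F₀) (v x) := by
  haveI hE' : ∀ {i j : J} (f : i ⟶ j), IsAffineHom (E.map f) := fun f => hE _ _ f
  -- the flat locus upstairs is open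
  haveI : LocallyOfFinitePresentation f := MorphismProperty.of_isPullback H inferInstance
  haveI hGq : ((Scheme.Modules.pullback q).obj F₀).IsQuasicoherent :=
    Groth.Agent.Lib.Helper16.FlatPull.isQuasicoherent_pullback q F₀
  have hGfp := Groth.Agent.Lib.Helper49.PrinPartFP.isFinitePresentation_pullback q F₀ hF₀
  have hopen := Groth.Agent.H76.FlatLocusSheaf.isOpen_isFlatOverAt f _ hGfp
  let Ω : X.Opens := ⟨_, hopen⟩
  -- `X` as the limit of the base-changed system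
  let eX : X ≅ pullback (cE.π.app j₀) f₀ := H.flip.isoPullback
  let φ1 : pullback (cE.π.app j₀) f₀ ⟶ cE.pt := pullback.fst _ _
  let φ2 : pullback (cE.π.app j₀) f₀ ⟶ X₀ := pullback.snd _ _
  have heX1 : eX.hom ≫ φ1 = f := H.flip.isoPullback_hom_fst
  have heX2 : eX.hom ≫ φ2 = q := H.flip.isoPullback_hom_snd
  have hbasis := isBasis_preimage_isAffineOpen (bcDiagram E j₀ f₀) (bcCone E cE j₀ f₀)
    (isLimitBcCone E cE j₀ f₀ hcE)
  have hx' : eX.hom x ∈ eX.inv ⁻¹ᵁ Ω := by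
    change eX.inv (eX.hom x) ∈ Ω
    rw [← Scheme.Hom.comp_apply, eX.hom_inv_id]
    exact hfl
  obtain ⟨_, ⟨κ, W', hW', rfl⟩, hxW', hW'Ω⟩ :=
    TopologicalSpace.Opens.isBasis_iff_nbhd.mp hbasis hx'
  -- the stage `κ`
  let πκ : pullback (cE.π.app j₀) f₀ ⟶ (bcDiagram E j₀ f₀).obj κ := (bcCone E cE j₀ f₀).π.app κ
  have hπ1 : πκ ≫ bcFst E j₀ f₀ κ = φ1 ≫ cE.π.app κ.left :=
    bcCone_π_fst E cE j₀ f₀ κ
  have hπ2 : πκ ≫ bcSnd E j₀ f₀ κ = φ2 := bcCone_π_snd E cE j₀ f₀ κ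
  let vκ : X ⟶ (bcDiagram E j₀ f₀).obj κ := eX.hom ≫ πκ
  let fκ : (bcDiagram E j₀ f₀).obj κ ⟶ E.obj κ.left := bcFst E j₀ f₀ κ
  let pκ : (bcDiagram E j₀ f₀).obj κ ⟶ X₀ := bcSnd E j₀ f₀ κ
  have hpbκ : IsPullback pκ fκ f₀ (E.map κ.hom) := (isPullback_bcObj E j₀ f₀ κ).flip
  have hv1 : vκ ≫ pκ = q := by
    change (eX.hom ≫ πκ) ≫ bcSnd E j₀ f₀ κ = q
    rw [Category.assoc, hπ2, heX2]
  have hv2 : vκ ≫ fκ = f ≫ cE.π.app κ.left := by
    change (eX.hom ≫ πκ) ≫ bcFst E j₀ f₀ κ = f ≫ cE.π.app κ.left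
    rw [Category.assoc, hπ1, ← Category.assoc, heX1]
  have Hκ : IsPullback vκ f fκ (cE.π.app κ.left) := by
    have h1 : IsPullback πκ φ1 fκ (cE.π.app κ.left) :=
      (isPullback_bcCone_π E cE j₀ f₀ κ).flip
    refine h1.of_iso eX.symm (Iso.refl _) (Iso.refl _) (Iso.refl _) ?_ ?_ ?_ ?_
    · rw [Iso.symm_hom, Iso.refl_hom, Category.comp_id]
      change πκ = eX.inv ≫ eX.hom ≫ πκ
      rw [Iso.inv_hom_id_assoc]
    · rw [Iso.symm_hom, Iso.refl_hom, Category.comp_id, ← heX1, Iso.inv_hom_id_assoc]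
    · simp
    · simp
  haveI : LocallyOfFinitePresentation fκ := MorphismProperty.of_isPullback hpbκ inferInstance
  -- charts at the stage `κ`
  have hyW' : vκ x ∈ W' := hxW'
  obtain ⟨V', hV', hyV', -⟩ :=
    exists_isAffineOpen_mem_and_subset (x := fκ (vκ x)) (U := ⊤) trivial
  obtain ⟨U', hU', hyU', hU'le⟩ :=
    exists_isAffineOpen_mem_and_subset (x := vκ x) (U := W' ⊓ fκ ⁻¹ᵁ V') ⟨hyW', hyV'⟩
  have hU'W' : U' ≤ W' := fun z hz => (hU'le hz).1
  have hU'V' : U' ≤ fκ ⁻¹ᵁ V' := fun z hz => (hU'le hz).2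
  haveI hFκq : ((Scheme.Modules.pullback pκ).obj F₀).IsQuasicoherent :=
    Groth.Agent.Lib.Helper16.FlatPull.isQuasicoherent_pullback pκ F₀
  have hFκfp := Groth.Agent.Lib.Helper49.PrinPartFP.isFinitePresentation_pullback pκ F₀ hF₀
  have hflκ : ∀ x'' : X, vκ x'' ∈ U' → FlatMod.IsFlatOverAt f
      ((Scheme.Modules.pullback vκ).obj ((Scheme.Modules.pullback pκ).obj F₀)) x'' := by
    intro x'' hx''
    have h1 : eX.hom x'' ∈ eX.inv ⁻¹ᵁ Ω := hW'Ω (hU'W' hx'')
    have h2 : x'' ∈ Ω := by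
      have : eX.inv (eX.hom x'') ∈ Ω := h1
      rwa [← Scheme.Hom.comp_apply, eX.hom_inv_id] at this
    exact isFlatOverAt_of_iso f (compIso vκ pκ q hv1 F₀).symm x'' h2
  obtain ⟨k, hk⟩ := exists_stage_forall_isFlatOverAt_chart E cE κ.left hcE hV' fκ hU' hU'V'
    _ hFκfp f vκ Hκ hflκ
  -- back to the slice over `j₀`
  refine ⟨Over.mk (k.hom ≫ κ.hom), fun K' b Xk fk pk v Hk hvp hvf => ?_⟩
  let k'' : Over κ.left := Over.mk (b.left ≫ k.hom)
  let a : k'' ⟶ k := Over.homMk b.left rfl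
  have hK' : E.map k''.hom ≫ E.map κ.hom = E.map K'.hom := by
    rw [← E.map_comp]
    congr 1
    have := Over.w b
    simpa [k''] using this
  let p' : Xk ⟶ (bcDiagram E j₀ f₀).obj κ :=
    (isPullback_bcObj E j₀ f₀ κ).lift (fk ≫ E.map k''.hom) pk (by
      rw [Category.assoc, hK', Hk.w])
  have hp'1 : p' ≫ fκ = fk ≫ E.map k''.hom := IsPullback.lift_fst _ _ _ _
  have hp'2 : p' ≫ pκ = pk := IsPullback.lift_snd _ _ _ _
  have Hp' : IsPullback p' fk fκ (E.map k''.hom) := by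
    refine IsPullback.of_right ?_ hp'1 hpbκ
    rw [hp'2, hK']
    exact Hk
  have hvp' : v ≫ p' = vκ := by
    apply (isPullback_bcObj E j₀ f₀ κ).hom_ext
    · change (v ≫ p') ≫ fκ = vκ ≫ fκ
      rw [Category.assoc, hp'1, ← Category.assoc, hvf, hv2, Category.assoc]
      congr 1
      exact cE.w k''.hom
    · change (v ≫ p') ≫ pκ = vκ ≫ pκ
      rw [Category.assoc, hp'2, hvp, hv1]
  have hz : p' (v x) ∈ U' := by
    rw [← Scheme.Hom.comp_apply, hvp']
    exact hyU'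
  have h3 := hk k'' a fk p' Hp' (v x) hz
  exact isFlatOverAt_of_iso fk (compIso p' pκ pk hp'2 F₀) (v x) h3

end Point

end Groth.Agent.Lib.Helper23.FlatStage
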