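/-
Helper library (helper23): a flat surjective morphism of schemes is injective on sections.
-/
import Mathlib.AlgebraicGeometry.Morphisms.Flat

set_option autoImplicit false
open CategoryTheory CategoryTheory.Limits AlgebraicGeometry
universe u

namespace Groth.Agent.Lib.Helper23

/-- The stalk maps of a flat morphism of schemes are injective. -/
theorem stalkMap_injective_of_flat {X Y : Scheme.{u}} (f : X ⟶ Y) [Flat f] (x : X) :
    Function.Injective (f.stalkMap x) := by
  algebraize [(f.stalkMap x).hom]
  have : Module.FaithfullyFlat (Y.presheaf.stalk (f x)) (X.presheaf.stalk x) :=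
    @Module.FaithfullyFlat.of_flat_of_isLocalHom _ _ _ _ _ _ _
      (Flat.stalkMap f x) (f.toLRSHom.prop x)
  exact ‹RingHom.FaithfullyFlat _›.injective

/-- A flat surjective morphism of schemes is injective on sections over every open. -/
theorem app_injective_of_flat_of_surjective {X Y : Scheme.{u}} (f : X ⟶ Y) [Flat f] [Surjective f]
    (V : Y.Opens) : Function.Injective (f.app V) := by
  intro s t hst
  apply TopCat.Presheaf.section_ext Y.sheaf V s t
  intro y hy
  obtain ⟨x, rfl⟩ := f.surjective y
  apply stalkMap_injective_of_flat f x
  show f.stalkMap x (Y.presheaf.germ V (f x) hy s) = f.stalkMap x (Y.presheaf.germ V (f x) hy t)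
  rw [Scheme.Hom.germ_stalkMap_apply, Scheme.Hom.germ_stalkMap_apply, hst]

end Groth.Agent.Lib.Helper23
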