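import Mathlib
import Groth.Agent.Lib.Helper49.HomAdj
import Groth.Agent.Lib.Helper45.HomExtend
import Groth.Agent.Lib.Helper32.ExtZeroMono

/-!
# `𝓗om(F, I)` is flasque for injective `I` (helper23)

* `homOfSectionOn U g : F|_U ⟶ I|_U`: the morphism defined by a section `g` of `𝓗om(F, I)` over `U`.
* `exists_hom_of_section`: for `I` injective, every section of `𝓗om(F, I)` over `U` is the family
  of stalk maps of a global morphism `F ⟶ I`.
* `homSh_res_surjective`, `sheafHom_res_surjective`.
-/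

set_option autoImplicit false
set_option linter.style.haveILetI false
universe u
open CategoryTheory CategoryTheory.Limits AlgebraicGeometry TopologicalSpace Opposite

namespace Groth.Agent.Lib.Helper23.HomShFlasque

open Groth.Agent.Lib.Helper45 Groth.Agent.Lib.Helper45.RefHullCoh
  Groth.Agent.Lib.Helper45.RefHullHom Groth.Agent.Lib.Helper45.RefHullStalk
  Groth.Agent.Lib.Helper45.HomExtend

variable {X : Scheme.{u}} {F I : X.Modules}

/-- restriction of a section of `𝓗om(F, I)` over `U` to a smaller open. -/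
noncomputable def resTo {U : X.Opens} (g : Γ(RefHull.homSh F I, U)) (W : X.Opens) (h : W ≤ U) :
    Γ(RefHull.homSh F I, W) :=
  (RefHull.homSh F I).presheaf.map (homOfLE h).op g

theorem resTo_apply {U : X.Opens} (g : Γ(RefHull.homSh F I, U)) (W : X.Opens) (h : W ≤ U)
    (y : W) : (resTo g W h).1 y = g.1 ⟨y.1, h y.2⟩ := rfl

theorem image_le (U : X.Opens) (W : (U : Scheme.{u}).Opens) : U.ι ''ᵁ W ≤ U := by
  intro x hx
  obtain ⟨y, -, rfl⟩ := hx
  exact y.2

/-- The morphism `F|_U ⟶ I|_U` defined by a section of `𝓗om(F, I)` over `U`. -/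
noncomputable def homOfSectionOn (U : X.Opens) (g : Γ(RefHull.homSh F I, U)) :
    F.restrict U.ι ⟶ I.restrict U.ι :=
  ⟨PresheafOfModules.homMk
    { app := fun W => AddCommGrpCat.ofHom
        { toFun := fun (m : Γ(F, U.ι ''ᵁ W.unop)) =>
            (evalSec (resTo g (U.ι ''ᵁ W.unop) (image_le U W.unop)) m : Γ(I, U.ι ''ᵁ W.unop))
          map_zero' := evalSec_zero_right _
          map_add' := fun (a b : Γ(F, U.ι ''ᵁ W.unop)) =>
            evalSec_add_right (resTo g (U.ι ''ᵁ W.unop) (image_le U W.unop)) a b }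
      naturality := fun {W W'} i => by
        ext s
        change evalSec (resTo g (U.ι ''ᵁ unop W') (image_le U W'.unop))
            (F.presheaf.map (U.ι.opensFunctor.map i.unop).op s) =
          I.presheaf.map (U.ι.opensFunctor.map i.unop).op
            (evalSec (resTo g (U.ι ''ᵁ unop W) (image_le U W.unop)) s)
        refine evalSec_eq _ _ _ fun y hy => ?_
        rw [TopCat.Presheaf.germ_res_apply' I.presheaf (U.ι.opensFunctor.map i.unop).op y hy,
          TopCat.Presheaf.germ_res_apply' F.presheaf (U.ι.opensFunctor.map i.unop).op y hy,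
          germ_evalSec]
        rfl }
    (fun W r s => by
      let s' : Γ(F, U.ι ''ᵁ W.unop) := s
      change evalSec (resTo g (U.ι ''ᵁ unop W) (image_le U W.unop))
          (((U.ι.appIso W.unop).inv r : Γ(X, U.ι ''ᵁ W.unop)) • s') =
        ((U.ι.appIso W.unop).inv r : Γ(X, U.ι ''ᵁ W.unop)) •
          evalSec (resTo g (U.ι ''ᵁ unop W) (image_le U W.unop)) s'
      exact evalSec_smul_right _ _ _)⟩

theorem homOfSectionOn_app (U : X.Opens) (g : Γ(RefHull.homSh F I, U))
    (W : (U : Scheme.{u}).Opens) (m : Γ(F, U.ι ''ᵁ W)) :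
    (homOfSectionOn U g).app W m = evalSec (resTo g (U.ι ''ᵁ W) (image_le U W)) m := rfl

/-- For `I` injective, every section of `𝓗om(F, I)` over an open `U` is the family of stalk maps
of a global morphism `F ⟶ I`. -/
theorem exists_hom_of_section (hI : Injective I) (U : X.Opens) (g : Γ(RefHull.homSh F I, U)) :
    ∃ ψ : F ⟶ I, ∀ y : U, RefHull.stalkMapₗ ψ y.1 = g.1 y := by
  let adj := CxOX.extZeroAdj U.ι
  let φ := homOfSectionOn U g
  let φ' : (CxOX.extZero U.ι).obj (F.restrict U.ι) ⟶ I := (adj.homEquiv _ _).symm φ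
  haveI := Groth.Agent.Lib.Helper32.ExtZeroMono.mono_extZeroAdj_counit U F
  let ψ : F ⟶ I := Injective.factorThru φ' (adj.counit.app F)
  have hψ : adj.counit.app F ≫ ψ = φ' := Injective.comp_factorThru _ _
  have hres : (Scheme.Modules.restrictFunctor U.ι).map ψ = φ := by
    have h1 := congrArg (adj.homEquiv _ _) hψ
    rw [Equiv.apply_symm_apply] at h1
    rw [← h1, Adjunction.homEquiv_unit, Functor.map_comp, ← Category.assoc,
      adj.right_triangle_components, Category.id_comp]
  refine ⟨ψ, fun y => ?_⟩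
  ext γ
  obtain ⟨W₀, hyW₀, m₀, rfl⟩ := TopCat.Presheaf.exists_germ_eq F.presheaf γ
  let W' : (U : Scheme.{u}).Opens := U.ι ⁻¹ᵁ W₀
  have hle : U.ι ''ᵁ W' ≤ W₀ := by
    intro x hx
    obtain ⟨z, hz, rfl⟩ := hx
    exact hz
  have hyV : y.1 ∈ U.ι ''ᵁ W' := ⟨y, hyW₀, rfl⟩
  let m : Γ(F, U.ι ''ᵁ W') := F.presheaf.map (homOfLE hle).op m₀
  have hm : F.presheaf.germ (U.ι ''ᵁ W') y.1 hyV m = F.presheaf.germ W₀ y.1 hyW₀ m₀ :=
    TopCat.Presheaf.germ_res_apply F.presheaf (homOfLE hle) y.1 hyV m₀
  rw [← hm, RefHull.stalkMapₗ_germ]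
  have h2 : ψ.app (U.ι ''ᵁ W') m = φ.app W' m := by
    rw [← hres]
    rfl
  rw [h2, homOfSectionOn_app, germ_evalSec, resTo_apply]

/-- `𝓗om(F, I)` (concrete version) is flasque for `I` injective. -/
theorem homSh_res_surjective (hI : Injective I) {U V : X.Opens} (hUV : U ≤ V) :
    Function.Surjective ((RefHull.homSh F I).presheaf.map (homOfLE hUV).op) := by
  intro g
  obtain ⟨ψ, hψ⟩ := exists_hom_of_section hI U g
  refine ⟨RefHull.ofHom ψ V, ?_⟩
  apply Subtype.ext
  funext y
  exact hψ y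

/-- `𝓗om(F, I)` (the right adjoint of `F ⊗ -`) is flasque for `I` injective. -/
theorem sheafHom_res_surjective [DCoh.HasSheafHom F] (hI : Injective I) {U V : X.Opens}
    (hUV : U ≤ V) :
    Function.Surjective (((DCoh.sheafHom F).obj I).val.map (homOfLE hUV).op).hom := by
  let e := Groth.Agent.Lib.Helper49.HomAdj.sheafHomIso F I
  intro s
  obtain ⟨t, ht⟩ := homSh_res_surjective (F := F) hI hUV (e.hom.app U s)
  refine ⟨e.inv.app V t, ?_⟩
  change ((DCoh.sheafHom F).obj I).presheaf.map (homOfLE hUV).op (e.inv.app V t) = s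
  have hn := e.inv.mapPresheaf.naturality (homOfLE hUV).op
  have hn' := congrArg (fun k => k.hom t) hn
  simp only [Scheme.Modules.mapPresheaf_app] at hn'
  have hn'' : ((DCoh.sheafHom F).obj I).presheaf.map (homOfLE hUV).op (e.inv.app V t) =
    e.inv.app U ((RefHull.homSh F I).presheaf.map (homOfLE hUV).op t) := hn'.symm
  rw [hn'', ht]
  change (e.hom.app U ≫ e.inv.app U) s = s
  rw [← Scheme.Modules.Hom.comp_app, e.hom_inv_id]
  rfl

end Groth.Agent.Lib.Helper23.HomShFlasque
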