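/-
Helper library (helper23): ring-level lemmas for EGA IV 11.2.7-type statements (injectivity of a
homomorphism with flat cokernel and base change).
-/
import Mathlib
import Groth.Agent.H76.FlatKerFP

set_option autoImplicit false
set_option linter.style.haveILetI false
universe u
open TensorProduct

namespace Groth.Agent.Lib.Helper23.InjFlat

section Ring

variable {R : Type*} [CommRing R] {M₀ N₀ C₀ : Type*} [AddCommGroup M₀] [Module R M₀]
  [AddCommGroup N₀] [Module R N₀] [AddCommGroup C₀] [Module R C₀]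

/-- If `M₀ → N₀ → C₀ → 0` is exact with `C₀` flat, the kernel of `T ⊗ M₀ → T ⊗ N₀` is the image of
`T ⊗ Ker`. -/
theorem mem_range_lTensor_ker (φ₀ : M₀ →ₗ[R] N₀) (π₀ : N₀ →ₗ[R] C₀)
    (hex : Function.Exact φ₀ π₀) (hπ : Function.Surjective π₀) [Module.Flat R C₀]
    (T : Type*) [AddCommGroup T] [Module R T] (w : T ⊗[R] M₀) (hw : φ₀.lTensor T w = 0) :
    w ∈ LinearMap.range ((LinearMap.ker φ₀).subtype.lTensor T) := by
  let I := LinearMap.range φ₀
  let ρ : M₀ →ₗ[R] I := φ₀.rangeRestrict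
  have hexI : Function.Exact I.subtype π₀ := by
    intro n
    rw [hex n]
    constructor
    · rintro ⟨m, rfl⟩
      exact ⟨⟨φ₀ m, m, rfl⟩, rfl⟩
    · rintro ⟨⟨_, m, rfl⟩, rfl⟩
      exact ⟨m, rfl⟩
  have hι : Function.Injective (I.subtype.lTensor T) :=
    Groth.Agent.H76.FlatKerFP.lTensor_injective_of_flat_coker I.subtype π₀
      Subtype.val_injective hexI hπ T
  have hfac : I.subtype ∘ₗ ρ = φ₀ := by
    ext m
    rfl
  have h1 : ρ.lTensor T w = 0 := by
    apply hι
    rw [map_zero, ← LinearMap.comp_apply, ← LinearMap.lTensor_comp, hfac]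
    exact hw
  have hex2 : Function.Exact (LinearMap.ker φ₀).subtype ρ := by
    intro m
    constructor
    · intro hm
      have : φ₀ m = 0 := congrArg Subtype.val hm
      exact ⟨⟨m, this⟩, rfl⟩
    · rintro ⟨⟨m', hm'⟩, rfl⟩
      exact Subtype.ext hm'
  have hρ : Function.Surjective ρ := LinearMap.surjective_rangeRestrict φ₀
  exact (lTensor_exact T hex2 hρ w).mp h1

variable {R' : Type*} [CommRing R'] [Algebra R R'] {M' N' : Type*} [AddCommGroup M']
  [AddCommGroup N'] [Module R M'] [Module R' M'] [IsScalarTower R R' M'] [Module R N']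
  [Module R' N'] [IsScalarTower R R' N']

/-- If `M₀ → N₀ → C₀ → 0` is exact with `C₀` flat, the kernel of the base change `M' → N'` is
generated by the image of the kernel of `M₀ → N₀`. -/
theorem mem_span_of_flat_coker (φ₀ : M₀ →ₗ[R] N₀) (π₀ : N₀ →ₗ[R] C₀)
    (hex : Function.Exact φ₀ π₀) (hπ : Function.Surjective π₀) [Module.Flat R C₀]
    (bM : M₀ →ₗ[R] M') (bN : N₀ →ₗ[R] N') (hbM : IsBaseChange R' bM) (hbN : IsBaseChange R' bN)
    (φ' : M' →ₗ[R'] N') (hφ' : ∀ m, φ' (bM m) = bN (φ₀ m)) (z : M') (hz : φ' z = 0) :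
    z ∈ Submodule.span R' (bM '' (LinearMap.ker φ₀ : Set M₀)) := by
  have key : ∀ w : R' ⊗[R] M₀, hbN.equiv (φ₀.lTensor R' w) = φ' (hbM.equiv w) := by
    intro w
    induction w with
    | zero => simp
    | tmul r m =>
      rw [LinearMap.lTensor_tmul, hbN.equiv_tmul, hbM.equiv_tmul, map_smul, hφ']
    | add x y hx hy => simp only [map_add, hx, hy]
  have main : ∀ v : R' ⊗[R] (LinearMap.ker φ₀),
      hbM.equiv ((LinearMap.ker φ₀).subtype.lTensor R' v) ∈
        Submodule.span R' (bM '' (LinearMap.ker φ₀ : Set M₀)) := by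
    intro v
    induction v with
    | zero => simp
    | tmul r k =>
      rw [LinearMap.lTensor_tmul, Submodule.subtype_apply, hbM.equiv_tmul]
      exact Submodule.smul_mem _ _ (Submodule.subset_span ⟨k.1, k.2, rfl⟩)
    | add x y hx hy =>
      rw [map_add, map_add]
      exact Submodule.add_mem _ hx hy
  obtain ⟨w, rfl⟩ := hbM.equiv.surjective z
  have hw : φ₀.lTensor R' w = 0 := hbN.equiv.injective (by rw [key, hz, map_zero])
  obtain ⟨v, rfl⟩ := mem_range_lTensor_ker φ₀ π₀ hex hπ R' w hw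
  exact main v

end Ring

section Pushout

variable (R R' B₀ B' : Type*) [CommRing R] [CommRing R'] [CommRing B₀] [CommRing B']
  [Algebra R R'] [Algebra R B₀] [Algebra B₀ B'] [Algebra R' B'] [Algebra R B']
  [IsScalarTower R B₀ B'] [IsScalarTower R R' B'] [Algebra.IsPushout R R' B₀ B']
  {M₀ M' : Type*} [AddCommGroup M₀] [Module R M₀] [Module B₀ M₀] [IsScalarTower R B₀ M₀]
  [AddCommGroup M'] [Module B' M'] [Module B₀ M'] [IsScalarTower B₀ B' M'] [Module R' M']
  [IsScalarTower R' B' M'] [Module R M'] [IsScalarTower R R' M'] [IsScalarTower R B₀ M']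

/-- In a pushout square of rings, a base change along `B₀ → B'` is a base change along
`R → R'`. -/
theorem isBaseChange_restrictScalars_of_isPushout (f : M₀ →ₗ[B₀] M') (hf : IsBaseChange B' f) :
    IsBaseChange R' (f.restrictScalars R) := by
  let e : R' ⊗[R] M₀ ≃ₗ[R'] M' :=
    (Algebra.IsPushout.cancelBaseChange R R' B₀ B' M₀).symm ≪≫ₗ (hf.equiv.restrictScalars R')
  refine IsBaseChange.of_equiv e (fun x => ?_)
  change hf.equiv ((Algebra.IsPushout.cancelBaseChange R R' B₀ B' M₀).symm (1 ⊗ₜ x)) = f x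
  rw [Algebra.IsPushout.cancelBaseChange_symm_tmul, map_one, hf.equiv_tmul, one_smul]

end Pushout

end Groth.Agent.Lib.Helper23.InjFlat
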