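/-
Helper library (helper23): on the charts of a cartesian square, if the cokernel of `h : F ⟶ G` is
flat over the base, then the kernel of the sections of the pulled back homomorphism is generated by
the pull backs of the kernel of the sections of `h` (EGA IV 11.2.7-type).
-/
import Mathlib
import Groth.Agent.Lib.Helper23.InjFlatRing
import Groth.Agent.Lib.Helper23.FlatStageChart
import Groth.Agent.Lib.Helper23.CokerFlatOpen
import Groth.Agent.Lib.Helper18.PullSecBC

set_option autoImplicit false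
set_option linter.style.haveILetI false
universe u
open CategoryTheory AlgebraicGeometry Limits TensorProduct

namespace Groth.Agent.Lib.Helper23.InjFlat

section Chart

open Groth.Agent.Lib Groth.Agent.Lib.Helper49 Groth.Agent.Lib.Helper49.UnitChart
  Groth.Agent.Lib.Helper23.FlatStage

theorem pullSLE_zero {X Y : Scheme.{u}} (f : X ⟶ Y) (L : Y.Modules) (V : Y.Opens) (W : X.Opens)
    (h : W ≤ f ⁻¹ᵁ V) : pullSLE f L V W h 0 = 0 := by
  have h1 := pullSLE_add f L V W h 0 0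
  rw [add_zero] at h1
  exact left_eq_add.mp h1

variable {X Y S T : Scheme.{u}} {f : T ⟶ S} {g : Y ⟶ X} {iX : X ⟶ S} {iY : Y ⟶ T}
  (H : IsPullback g iY iX f)
  {US : S.Opens} {UT : T.Opens} {UX : X.Opens} (hUST : UT ≤ f ⁻¹ᵁ US) (hUSX : UX ≤ iX ⁻¹ᵁ US)
  {UY : Y.Opens} (hUY : UY = g ⁻¹ᵁ UX ⊓ iY ⁻¹ᵁ UT)

include H hUST in
/-- If `Coker h` is flat over the base chart, every element of `Γ(Y, UY)` killing the pull backs
of the kernel of `h` on `UX` kills the kernel of `g^* h` on `UY`. -/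
theorem smul_eq_zero_of_pullSLE_ker (hUS : IsAffineOpen US) (hUT : IsAffineOpen UT)
    (hUX : IsAffineOpen UX) {F G : X.Modules} [F.IsQuasicoherent] [G.IsQuasicoherent] (h : F ⟶ G)
    (hflat : letI : Module Γ(S, US) Γ(cokernel h, UX) := Module.compHom _ (iX.appLE US UX hUSX).hom
      Module.Flat Γ(S, US) Γ(cokernel h, UX))
    (b : Γ(Y, UY))
    (hb : ∀ m : Γ(F, UX), (h.app UX).hom m = 0 →
      b • pullSLE g F UX UY (by rw [hUY]; exact inf_le_left) m = 0)
    (s : Γ((Scheme.Modules.pullback g).obj F, UY))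
    (hs : (((Scheme.Modules.pullback g).map h).app UY).hom s = 0) : b • s = 0 := by
  have e1 : UY ≤ g ⁻¹ᵁ UX := by rw [hUY]; exact inf_le_left
  have e2 : UY ≤ iY ⁻¹ᵁ UT := by rw [hUY]; exact inf_le_right
  have hUY' : IsAffineOpen UY := isAffineOpen_chart H hUST hUSX hUY hUS hUT hUX
  have hiso := isIso_pushoutSection_of_isAffineOpen H hUST hUSX hUY hUS hUT hUX
  have hpush := (isIso_pushoutSection_iff H hUST hUSX hUY).mp hiso
  letI algSX : Algebra Γ(S, US) Γ(X, UX) := (iX.appLE US UX hUSX).hom.toAlgebra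
  letI algST : Algebra Γ(S, US) Γ(T, UT) := (f.appLE US UT hUST).hom.toAlgebra
  letI algXY : Algebra Γ(X, UX) Γ(Y, UY) := (g.appLE UX UY e1).hom.toAlgebra
  letI algTY : Algebra Γ(T, UT) Γ(Y, UY) := (iY.appLE UT UY e2).hom.toAlgebra
  letI algSY : Algebra Γ(S, US) Γ(Y, UY) :=
    ((g.appLE UX UY e1).hom.comp (iX.appLE US UX hUSX).hom).toAlgebra
  haveI tSXY : IsScalarTower Γ(S, US) Γ(X, UX) Γ(Y, UY) := .of_algebraMap_eq' rfl
  haveI tSTY : IsScalarTower Γ(S, US) Γ(T, UT) Γ(Y, UY) :=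
    .of_algebraMap_eq' congr($(hpush.w).hom)
  have hP : Algebra.IsPushout Γ(S, US) Γ(X, UX) Γ(T, UT) Γ(Y, UY) :=
    CommRingCat.isPushout_iff_isPushout.mp hpush
  haveI hP' : Algebra.IsPushout Γ(S, US) Γ(T, UT) Γ(X, UX) Γ(Y, UY) := hP.symm
  -- modules downstairs
  letI modSF : Module Γ(S, US) Γ(F, UX) := Module.compHom _ (iX.appLE US UX hUSX).hom
  haveI tSXF : IsScalarTower Γ(S, US) Γ(X, UX) Γ(F, UX) := IsScalarTower.of_compHom _ _ _
  letI modSG : Module Γ(S, US) Γ(G, UX) := Module.compHom _ (iX.appLE US UX hUSX).hom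
  haveI tSXG : IsScalarTower Γ(S, US) Γ(X, UX) Γ(G, UX) := IsScalarTower.of_compHom _ _ _
  letI modSC : Module Γ(S, US) Γ(cokernel h, UX) := Module.compHom _ (iX.appLE US UX hUSX).hom
  haveI tSXC : IsScalarTower Γ(S, US) Γ(X, UX) Γ(cokernel h, UX) :=
    IsScalarTower.of_compHom _ _ _
  haveI : Module.Flat Γ(S, US) Γ(cokernel h, UX) := hflat
  -- modules upstairs
  let F' := (Scheme.Modules.pullback g).obj F
  let G' := (Scheme.Modules.pullback g).obj G
  letI modXF' : Module Γ(X, UX) Γ(F', UY) := Module.compHom _ (g.appLE UX UY e1).hom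
  haveI tXYF' : IsScalarTower Γ(X, UX) Γ(Y, UY) Γ(F', UY) := IsScalarTower.of_compHom _ _ _
  letI modTF' : Module Γ(T, UT) Γ(F', UY) := Module.compHom _ (iY.appLE UT UY e2).hom
  haveI tTYF' : IsScalarTower Γ(T, UT) Γ(Y, UY) Γ(F', UY) := IsScalarTower.of_compHom _ _ _
  letI modSF' : Module Γ(S, US) Γ(F', UY) := Module.compHom _ (algebraMap Γ(S, US) Γ(Y, UY))
  haveI tSYF' : IsScalarTower Γ(S, US) Γ(Y, UY) Γ(F', UY) := IsScalarTower.of_compHom _ _ _
  haveI tSXF' : IsScalarTower Γ(S, US) Γ(X, UX) Γ(F', UY) :=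
    IsScalarTower.of_algebraMap_smul fun r m => rfl
  haveI tSTF' : IsScalarTower Γ(S, US) Γ(T, UT) Γ(F', UY) := by
    refine IsScalarTower.of_algebraMap_smul fun r m => ?_
    change algebraMap Γ(T, UT) Γ(Y, UY) (algebraMap Γ(S, US) Γ(T, UT) r) • m =
      algebraMap Γ(S, US) Γ(Y, UY) r • m
    rw [← IsScalarTower.algebraMap_apply]
  letI modXG' : Module Γ(X, UX) Γ(G', UY) := Module.compHom _ (g.appLE UX UY e1).hom
  haveI tXYG' : IsScalarTower Γ(X, UX) Γ(Y, UY) Γ(G', UY) := IsScalarTower.of_compHom _ _ _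
  letI modTG' : Module Γ(T, UT) Γ(G', UY) := Module.compHom _ (iY.appLE UT UY e2).hom
  haveI tTYG' : IsScalarTower Γ(T, UT) Γ(Y, UY) Γ(G', UY) := IsScalarTower.of_compHom _ _ _
  letI modSG' : Module Γ(S, US) Γ(G', UY) := Module.compHom _ (algebraMap Γ(S, US) Γ(Y, UY))
  haveI tSYG' : IsScalarTower Γ(S, US) Γ(Y, UY) Γ(G', UY) := IsScalarTower.of_compHom _ _ _
  haveI tSXG' : IsScalarTower Γ(S, US) Γ(X, UX) Γ(G', UY) :=
    IsScalarTower.of_algebraMap_smul fun r m => rfl
  haveI tSTG' : IsScalarTower Γ(S, US) Γ(T, UT) Γ(G', UY) := by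
    refine IsScalarTower.of_algebraMap_smul fun r m => ?_
    change algebraMap Γ(T, UT) Γ(Y, UY) (algebraMap Γ(S, US) Γ(T, UT) r) • m =
      algebraMap Γ(S, US) Γ(Y, UY) r • m
    rw [← IsScalarTower.algebraMap_apply]
  -- the base changes
  obtain ⟨bF, hbF, hbcF⟩ := exists_isBaseChange_pullSLE g hUX hUY' e1 F
  obtain ⟨bG, hbG, hbcG⟩ := exists_isBaseChange_pullSLE g hUX hUY' e1 G
  have hbcF' := isBaseChange_restrictScalars_of_isPushout Γ(S, US) Γ(T, UT) Γ(X, UX) Γ(Y, UY)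
    bF hbcF
  have hbcG' := isBaseChange_restrictScalars_of_isPushout Γ(S, US) Γ(T, UT) Γ(X, UX) Γ(Y, UY)
    bG hbcG
  let φ₀ : Γ(F, UX) →ₗ[Γ(S, US)] Γ(G, UX) := (Helper45.appₗ h UX).restrictScalars Γ(S, US)
  let π₀ : Γ(G, UX) →ₗ[Γ(S, US)] Γ(cokernel h, UX) :=
    (Helper45.appₗ (cokernel.π h) UX).restrictScalars Γ(S, US)
  have hCq : (cokernel h).IsQuasicoherent := isQuasicoherent_cokernel h inferInstance inferInstance
  have hπ : Function.Surjective π₀ :=
    Groth.Agent.Lib.Helper42.app_surjective_of_epi (cokernel.π h) hUX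
  have hex : Function.Exact φ₀ π₀ := by
    intro n
    have h1 := CokerFlatOpen.range_app_eq_ker h hUX
    have h2 : n ∈ LinearMap.ker (Helper45.appₗ (cokernel.π h) UX) ↔
        n ∈ LinearMap.range (Helper45.appₗ h UX) := by rw [h1]
    exact h2
  let φ' : Γ(F', UY) →ₗ[Γ(T, UT)] Γ(G', UY) :=
    (Helper45.appₗ ((Scheme.Modules.pullback g).map h) UY).restrictScalars Γ(T, UT)
  have hφ' : ∀ m, φ' ((bF.restrictScalars Γ(S, US)) m) = (bG.restrictScalars Γ(S, US)) (φ₀ m) := by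
    intro m
    change (((Scheme.Modules.pullback g).map h).app UY).hom (bF m) = bG ((h.app UX).hom m)
    rw [hbF, hbG, pullSLE_naturality]
  have hmem := mem_span_of_flat_coker φ₀ π₀ hex hπ (bF.restrictScalars Γ(S, US))
    (bG.restrictScalars Γ(S, US)) hbcF' hbcG' φ' hφ' s hs
  clear hs
  induction hmem using Submodule.span_induction with
  | mem x hx =>
    obtain ⟨m, hm, rfl⟩ := hx
    change b • bF m = 0
    rw [hbF]
    exact hb m hm
  | zero => exact smul_zero b
  | add x y _ _ hx hy => rw [smul_add, hx, hy, add_zero]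
  | smul t x _ hx =>
    rw [← algebraMap_smul Γ(Y, UY) t x, smul_comm, hx, smul_zero]

include H hUST in
/-- Generator form of `smul_eq_zero_of_pullSLE_ker`. -/
theorem smul_eq_zero_of_gen (hUS : IsAffineOpen US) (hUT : IsAffineOpen UT)
    (hUX : IsAffineOpen UX) {F G : X.Modules} [F.IsQuasicoherent] [G.IsQuasicoherent] (h : F ⟶ G)
    (hflat : letI : Module Γ(S, US) Γ(cokernel h, UX) := Module.compHom _ (iX.appLE US UX hUSX).hom
      Module.Flat Γ(S, US) Γ(cokernel h, UX))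
    {ι : Type*} (gen : ι → Γ(F, UX))
    (hspan : ∀ m : Γ(F, UX), (h.app UX).hom m = 0 →
      m ∈ Submodule.span Γ(X, UX) (Set.range gen))
    (b : Γ(Y, UY))
    (hb : ∀ i, b • pullSLE g F UX UY (by rw [hUY]; exact inf_le_left) (gen i) = 0)
    (s : Γ((Scheme.Modules.pullback g).obj F, UY))
    (hs : (((Scheme.Modules.pullback g).map h).app UY).hom s = 0) : b • s = 0 := by
  refine smul_eq_zero_of_pullSLE_ker H hUST hUSX hUY hUS hUT hUX h hflat b (fun m hm => ?_) s hs
  have hm' := hspan m hm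
  clear hm
  induction hm' using Submodule.span_induction with
  | mem x hx =>
    obtain ⟨i, rfl⟩ := hx
    exact hb i
  | zero => rw [pullSLE_zero, smul_zero]
  | add x y _ _ hx hy => rw [pullSLE_add, smul_add, hx, hy, add_zero]
  | smul r x _ hx => rw [pullSLE_smul, smul_comm, hx, smul_zero]

end Chart

end Groth.Agent.Lib.Helper23.InjFlat
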