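/-
Helper library (helper23): the condition "`φ_x` is injective and `Coker φ` is `f`-flat at `x`"
(EGA IV 11.3.7 / 11.2.7): invariance under isomorphisms, local structure, base change.
-/
import Mathlib
import Groth.Agent.Lib.Helper23.InjFlatChart
import Groth.Agent.Lib.Helper23.FibreFlatCons
import Groth.Agent.Lib.Helper18.TransSec
import Groth.Agent.Lib.Helper49.PrinPartFP
import Groth.Agent.Lib.Helper16.FlatPull.BaseChange

set_option autoImplicit false
set_option linter.style.haveILetI false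
universe u
open CategoryTheory AlgebraicGeometry Limits TensorProduct

namespace Groth.Agent.Lib.Helper23.InjFlat

open Groth.Agent.Lib Groth.Agent.Lib.Helper49 Groth.Agent.Lib.Helper45
  Groth.Agent.Lib.Helper12.FlatOver Groth.Agent.Lib.Helper18.TransSec
  Groth.Agent.Lib.Helper23.FibreFlatCons

variable {X Y : Scheme.{u}}

/-- `φ_x` is injective and `Coker φ` is `f`-flat at `x`. -/
def InjFlatAt (f : X ⟶ Y) {F G : X.Modules} (φ : F ⟶ G) (x : X) : Prop :=
  Function.Injective (stalkMap φ x).hom ∧ FlatMod.IsFlatOverAt f (cokernel φ) x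

theorem stalkMap_injective_of_iso {F G F' G' : X.Modules} (φ : F ⟶ G) (φ' : F' ⟶ G')
    (eF : F ≅ F') (eG : G ≅ G') (w : φ ≫ eG.hom = eF.hom ≫ φ') (x : X)
    (h : Function.Injective (stalkMap φ x).hom) : Function.Injective (stalkMap φ' x).hom := by
  have e : φ' = eF.inv ≫ φ ≫ eG.hom := by rw [w, Iso.inv_hom_id_assoc]
  rw [e]
  intro a b hab
  rw [stalkMap_comp_apply', stalkMap_comp_apply', stalkMap_comp_apply', stalkMap_comp_apply'] at hab
  exact stalkMap_injective_of_mono eF.inv x (h (stalkMap_injective_of_mono eG.hom x hab))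

theorem InjFlatAt.of_iso (f : X ⟶ Y) {F G F' G' : X.Modules} (φ : F ⟶ G) (φ' : F' ⟶ G')
    (eF : F ≅ F') (eG : G ≅ G') (w : φ ≫ eG.hom = eF.hom ≫ φ') (x : X)
    (h : InjFlatAt f φ x) : InjFlatAt f φ' x :=
  ⟨stalkMap_injective_of_iso φ φ' eF eG w x h.1,
    isFlatOverAt_of_iso f (cokernel.mapIso φ φ' eF eG w) x h.2⟩

/-- Pullback commutes with cokernels. -/
noncomputable def cokIso {X' : Scheme.{u}} (q : X' ⟶ X) {F G : X.Modules} (h : F ⟶ G) :
    (Scheme.Modules.pullback q).obj (cokernel h) ≅ cokernel ((Scheme.Modules.pullback q).map h) := by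
  haveI : (Scheme.Modules.pullback q).IsLeftAdjoint :=
    ⟨_, ⟨Scheme.Modules.pullbackPushforwardAdjunction q⟩⟩
  exact PreservesCokernel.iso (Scheme.Modules.pullback q) h

/-- Naturality of `compIso`. -/
theorem compIso_naturality {X' X₀ : Scheme.{u}} (σ : X ⟶ X') (φ : X' ⟶ X₀) (φ' : X ⟶ X₀)
    (e : σ ≫ φ = φ') {F₀ G₀ : X₀.Modules} (h₀ : F₀ ⟶ G₀) :
    (Scheme.Modules.pullback σ).map ((Scheme.Modules.pullback φ).map h₀) ≫
        (compIso σ φ φ' e G₀).hom =
      (compIso σ φ φ' e F₀).hom ≫ (Scheme.Modules.pullback φ').map h₀ :=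
  (Scheme.Modules.pullbackComp σ φ ≪≫ Scheme.Modules.pullbackCongr e).hom.naturality h₀

/-- Transfer along `σ^* φ^* ≅ φ'^*`. -/
theorem InjFlatAt.comp_iff {X' X₀ : Scheme.{u}} (f : X ⟶ Y) (σ : X ⟶ X') (φ : X' ⟶ X₀)
    (φ' : X ⟶ X₀) (e : σ ≫ φ = φ') {F₀ G₀ : X₀.Modules} (h₀ : F₀ ⟶ G₀) (x : X) :
    InjFlatAt f ((Scheme.Modules.pullback σ).map ((Scheme.Modules.pullback φ).map h₀)) x ↔
      InjFlatAt f ((Scheme.Modules.pullback φ').map h₀) x :=
  ⟨InjFlatAt.of_iso f _ _ (compIso σ φ φ' e F₀) (compIso σ φ φ' e G₀)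
      (compIso_naturality σ φ φ' e h₀) x,
    InjFlatAt.of_iso f _ _ (compIso σ φ φ' e F₀).symm (compIso σ φ φ' e G₀).symm (by
      rw [Iso.symm_hom, Iso.symm_hom, Iso.eq_inv_comp, ← Category.assoc, Iso.comp_inv_eq]
      exact (compIso_naturality σ φ φ' e h₀).symm) x⟩

theorem isFiniteType_of_isFinitePresentation' (F : X.Modules)
    (hF : SheafOfModules.IsFinitePresentation (R := X.ringCatSheaf) F) :
    SheafOfModules.IsFiniteType (R := X.ringCatSheaf) F :=
  CokerFlatOpen.isFiniteType_of_isFinitePresentation F hF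

theorem isFinitePresentation_cokernel' {F F' : X.Modules} [F.IsQuasicoherent]
    [F'.IsQuasicoherent]
    (hF : SheafOfModules.IsFinitePresentation (R := X.ringCatSheaf) F)
    (hF' : SheafOfModules.IsFinitePresentation (R := X.ringCatSheaf) F') (u : F' ⟶ F) :
    SheafOfModules.IsFinitePresentation (R := X.ringCatSheaf) (cokernel u) :=
  Groth.Agent.Lib.Helper18.FPPullEpi.isFinitePresentation_cokernel u
    (isFiniteType_of_isFinitePresentation' F' hF') hF

/-- If the cokernel of `u` is flat over the base chart, the kernel of `u` on sections over the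
chart is finitely generated. -/
theorem ker_app_fg (f : X ⟶ Y) [LocallyOfFinitePresentation f]
    (F F' : X.Modules) [F.IsQuasicoherent] [F'.IsQuasicoherent]
    (hF : SheafOfModules.IsFinitePresentation (R := X.ringCatSheaf) F)
    (hF' : SheafOfModules.IsFinitePresentation (R := X.ringCatSheaf) F') (u : F' ⟶ F)
    {V : Y.Opens} (hV : IsAffineOpen V) {W : X.Opens} (hW : IsAffineOpen W) (hWV : W ≤ f ⁻¹ᵁ V)
    (hflat : letI : Module Γ(Y, V) Γ(cokernel u, W) := Module.compHom _ (f.appLE V W hWV).hom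
      Module.Flat Γ(Y, V) Γ(cokernel u, W)) :
    (LinearMap.ker (Helper45.appₗ u W)).FG := by
  haveI hCq : (cokernel u).IsQuasicoherent :=
    isQuasicoherent_cokernel u inferInstance inferInstance
  have hC := isFinitePresentation_cokernel' hF hF' u
  letI algAB : Algebra Γ(Y, V) Γ(X, W) := (f.appLE V W hWV).hom.toAlgebra
  letI modAN : Module Γ(Y, V) Γ(cokernel u, W) := Module.compHom _ (f.appLE V W hWV).hom
  haveI : IsScalarTower Γ(Y, V) Γ(X, W) Γ(cokernel u, W) := IsScalarTower.of_compHom _ _ _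
  have hfp : (f.appLE V W hWV).hom.FinitePresentation :=
    HasRingHomProperty.appLE (P := @LocallyOfFinitePresentation) f inferInstance ⟨V, hV⟩ ⟨W, hW⟩
      hWV
  haveI : Algebra.FinitePresentation Γ(Y, V) Γ(X, W) := hfp
  haveI : Module.FinitePresentation Γ(X, W) Γ(F, W) :=
    finitePresentation_sections_of_isFinitePresentation F hF hW
  haveI : Module.FinitePresentation Γ(X, W) Γ(F', W) :=
    finitePresentation_sections_of_isFinitePresentation F' hF' hW
  haveI : Module.FinitePresentation Γ(X, W) Γ(cokernel u, W) :=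
    finitePresentation_sections_of_isFinitePresentation (cokernel u) hC hW
  haveI : Module.Flat Γ(Y, V) Γ(cokernel u, W) := hflat
  have hπsurj : Function.Surjective (Helper45.appₗ (cokernel.π u) W) :=
    Groth.Agent.Lib.Helper42.app_surjective_of_epi (cokernel.π u) hW
  haveI hkfp : Module.FinitePresentation Γ(X, W)
      (LinearMap.ker (Helper45.appₗ (cokernel.π u) W)) :=
    Groth.Agent.H76.FlatKerFP.finitePresentation_ker Γ(Y, V) (Helper45.appₗ (cokernel.π u) W)
      hπsurj
  have hrange := CokerFlatOpen.range_app_eq_ker u hW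
  let φ' : Γ(F', W) →ₗ[Γ(X, W)] LinearMap.ker (Helper45.appₗ (cokernel.π u) W) :=
    (Helper45.appₗ u W).codRestrict _ (fun m => by rw [← hrange]; exact ⟨m, rfl⟩)
  have hφ' : Function.Surjective φ' := by
    rintro ⟨k, hk⟩
    rw [← hrange] at hk
    obtain ⟨m, hm⟩ := hk
    exact ⟨m, Subtype.ext hm⟩
  have := Module.FinitePresentation.fg_ker φ' hφ'
  rwa [LinearMap.ker_codRestrict] at this

/-- **Local structure.** If `Coker u` is `f`-flat at `x`, there are affine charts `W ∋ x`,
`V ⊇ f(W)` such that `Γ(Coker u, W)` is flat over `Γ(Y, V)` and the kernel of `u` on `W` is finitely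
generated. -/
theorem exists_chart_flat_fg (f : X ⟶ Y) [LocallyOfFinitePresentation f]
    (F F' : X.Modules) [F.IsQuasicoherent] [F'.IsQuasicoherent]
    (hF : SheafOfModules.IsFinitePresentation (R := X.ringCatSheaf) F)
    (hF' : SheafOfModules.IsFinitePresentation (R := X.ringCatSheaf) F') (u : F' ⟶ F) (x : X)
    (hx : FlatMod.IsFlatOverAt f (cokernel u) x) :
    ∃ (V : Y.Opens) (W : X.Opens) (_ : IsAffineOpen V) (_ : IsAffineOpen W) (hWV : W ≤ f ⁻¹ᵁ V),
      x ∈ W ∧
      (letI : Module Γ(Y, V) Γ(cokernel u, W) := Module.compHom _ (f.appLE V W hWV).hom;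
        Module.Flat Γ(Y, V) Γ(cokernel u, W)) ∧
      (LinearMap.ker (Helper45.appₗ u W)).FG := by
  haveI hCq : (cokernel u).IsQuasicoherent :=
    isQuasicoherent_cokernel u inferInstance inferInstance
  have hC := isFinitePresentation_cokernel' hF hF' u
  have hO₁ : IsOpen {x : X | FlatMod.IsFlatOverAt f (cokernel u) x} :=
    Groth.Agent.H76.FlatLocusSheaf.isOpen_isFlatOverAt f (cokernel u) hC
  obtain ⟨V, hV, hxV, -⟩ := exists_isAffineOpen_mem_and_subset (x := f x) (U := ⊤) trivial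
  obtain ⟨W, hW, hxW, hWle⟩ := exists_isAffineOpen_mem_and_subset (x := x)
    (U := f ⁻¹ᵁ V ⊓ ⟨_, hO₁⟩) ⟨hxV, hx⟩
  have hWV : W ≤ f ⁻¹ᵁ V := hWle.trans inf_le_left
  have hWflat : ∀ x' : W, FlatMod.IsFlatOverAt f (cokernel u) (x' : X) := fun x' => (hWle x'.2).2
  have hfl := flat_sections_of_isFlatOverAt f (cokernel u) hV hW hWV hWflat
  exact ⟨V, W, hV, hW, hWV, hxW, hfl, ker_app_fg f F F' hF hF' u hV hW hWV hfl⟩

end Groth.Agent.Lib.Helper23.InjFlat
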