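/-
Helper library (helper23): base change of the condition "`φ_x` is injective and `Coker φ` is
`f`-flat at `x`" (EGA IV 11.3.7-type).
-/
import Mathlib
import Groth.Agent.Lib.Helper23.InjFlatBasic

set_option autoImplicit false
set_option linter.style.haveILetI false
universe u
open CategoryTheory AlgebraicGeometry Limits TensorProduct

namespace Groth.Agent.Lib.Helper23.InjFlat

open Groth.Agent.Lib Groth.Agent.Lib.Helper49 Groth.Agent.Lib.Helper45
  Groth.Agent.Lib.Helper49.UnitChart Groth.Agent.Lib.Helper23.FlatStage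
  Groth.Agent.Lib.Helper23.FibreFlatCons

/-- **Base change.** -/
theorem InjFlatAt.baseChange {X S X' S' : Scheme.{u}} (f : X ⟶ S) (f' : X' ⟶ S') (g' : X' ⟶ X)
    (g : S' ⟶ S) (hc : IsPullback g' f' f g) [LocallyOfFinitePresentation f]
    (F G : X.Modules) [F.IsQuasicoherent] [G.IsQuasicoherent]
    (hF : SheafOfModules.IsFinitePresentation (R := X.ringCatSheaf) F)
    (hG : SheafOfModules.IsFinitePresentation (R := X.ringCatSheaf) G) (φ : F ⟶ G) (x' : X')
    (h : InjFlatAt f φ (g' x')) :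
    InjFlatAt f' ((Scheme.Modules.pullback g').map φ) x' := by
  haveI hCq : (cokernel φ).IsQuasicoherent :=
    isQuasicoherent_cokernel φ inferInstance inferInstance
  refine ⟨?_, isFlatOverAt_of_iso f' (cokIso g' φ) x'
    (Groth.Agent.Lib.Helper16.FlatPull.isFlatOverAt_baseChange f f' g' g hc (cokernel φ) x' h.2)⟩
  obtain ⟨V, W, hV, hW, hWV, hxW, hfl, hfg⟩ := exists_chart_flat_fg f G F hG hF φ (g' x') h.2
  obtain ⟨b, hbq, hb⟩ := CokerFlatOpen.exists_notMem_of_stalkMap_injective φ hW hfg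
    ⟨g' x', hxW⟩ h.1
  have hgf : g (f' x') = f (g' x') := by
    rw [← Scheme.Hom.comp_apply, ← Scheme.Hom.comp_apply, hc.w]
  obtain ⟨V₁, hV₁, hxV₁, eV₁⟩ := exists_isAffineOpen_mem_and_subset (x := f' x') (U := g ⁻¹ᵁ V)
    (by change g (f' x') ∈ V; rw [hgf]; exact hWV hxW)
  let W' : X'.Opens := g' ⁻¹ᵁ W ⊓ f' ⁻¹ᵁ V₁
  have hW' : IsAffineOpen W' := isAffineOpen_chart hc eV₁ hWV rfl hV hV₁ hW
  have hx'W' : x' ∈ W' := ⟨hxW, hxV₁⟩
  have e1 : W' ≤ g' ⁻¹ᵁ W := inf_le_left
  let b' : Γ(X', W') := (g'.appLE W W' e1).hom b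
  haveI : ((Scheme.Modules.pullback g').obj F).IsQuasicoherent :=
    Groth.Agent.Lib.Helper16.FlatPull.isQuasicoherent_pullback g' F
  haveI : ((Scheme.Modules.pullback g').obj G).IsQuasicoherent :=
    Groth.Agent.Lib.Helper16.FlatPull.isQuasicoherent_pullback g' G
  have hb' : ∀ m : Γ(F, W), (φ.app W).hom m = 0 → b' • pullSLE g' F W W' e1 m = 0 := by
    intro m hm
    rw [← pullSLE_smul, hb m hm, pullSLE_zero]
  have hkill : ∀ s ∈ LinearMap.ker (Helper45.appₗ ((Scheme.Modules.pullback g').map φ) W'),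
      b' • s = 0 := fun s hs =>
    smul_eq_zero_of_pullSLE_ker hc eV₁ hWV rfl hV hV₁ hW φ hfl b' hb' s hs
  have hnot : b' ∉ (hW'.primeIdealOf ⟨x', hx'W'⟩).asIdeal := by
    have hcomap := IsAffineOpen.comap_primeIdealOf_appLE (f := g') (x := x') W hW W' hW' e1 hx'W'
    intro hmem
    apply hbq
    have h9 := congrArg (fun p : PrimeSpectrum _ => b ∈ p.asIdeal) hcomap
    exact (eq_iff_iff.mp h9).mp hmem
  exact CokerFlatOpen.stalkMap_injective_of_notMem ((Scheme.Modules.pullback g').map φ) hW' b'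
    hkill ⟨x', hx'W'⟩ hnot

end Groth.Agent.Lib.Helper23.InjFlat
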