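/-
Helper library (helper23): descent of the injectivity of a stalk map to a stage of a cofiltered
limit of schemes with affine transition maps, when the kernels of the sections of the pulled back
homomorphisms are generated (up to torsion) by the pull backs of finitely many sections.
-/
import Mathlib
import Groth.Agent.Lib.Helper23.InjFlatChart
import Groth.Agent.Lib.Helper18.LimSystem
import Groth.Agent.Lib.Helper18.LimTensor2

set_option autoImplicit false
set_option linter.style.haveILetI false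
universe u
open CategoryTheory AlgebraicGeometry Limits TensorProduct

namespace Groth.Agent.Lib.Helper23.InjFlat

section Local

open Groth.Agent.Lib Groth.Agent.Lib.Helper49 Groth.Agent.Lib.Helper45

attribute [local instance] Groth.Agent.Lib.Helper45.stalkModuleSections

variable {X : Scheme.{u}}

/-- If the stalk map of `u` at `x` is injective, every section of the kernel of `u` over an affine
neighbourhood of `x` is killed by a function not vanishing at `x`. -/
theorem exists_notMem_smul_eq_zero {F F' : X.Modules} [F'.IsQuasicoherent] (u : F' ⟶ F)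
    {W : X.Opens} (hW : IsAffineOpen W) (x : W)
    (hinj : Function.Injective (stalkMap u (x : X)).hom) (m : Γ(F', W))
    (hm : (u.app W).hom m = 0) :
    ∃ b : Γ(X, W), b ∉ (hW.primeIdealOf x).asIdeal ∧ b • m = 0 := by
  haveI := isLocalizedModule_germₗ hW F' x
  have h0 : germₗ F' x m = 0 := by
    apply hinj
    have h1 := stalkMap_germ u W x x.2 m
    rw [hm, map_zero] at h1
    rw [map_zero]
    exact h1
  obtain ⟨c, hc⟩ := (IsLocalizedModule.eq_zero_iff (hW.primeIdealOf x).asIdeal.primeCompl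
    (germₗ F' x)).mp h0
  exact ⟨c.1, c.2, hc⟩

/-- Finite family version of `exists_notMem_smul_eq_zero`. -/
theorem exists_notMem_forall_smul_eq_zero {F F' : X.Modules} [F'.IsQuasicoherent] (u : F' ⟶ F)
    {W : X.Opens} (hW : IsAffineOpen W) (x : W)
    (hinj : Function.Injective (stalkMap u (x : X)).hom) {ι : Type*} [Finite ι]
    (m : ι → Γ(F', W)) (hm : ∀ i, (u.app W).hom (m i) = 0) :
    ∃ b : Γ(X, W), b ∉ (hW.primeIdealOf x).asIdeal ∧ ∀ i, b • m i = 0 := by
  classical
  cases nonempty_fintype ι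
  choose cc hcc1 hcc2 using fun i => exists_notMem_smul_eq_zero u hW x hinj (m i) (hm i)
  refine ⟨∏ i, cc i, ?_, fun i => ?_⟩
  · intro hmem
    obtain ⟨i, -, hi⟩ := Ideal.IsPrime.prod_mem_iff.mp hmem
    exact hcc1 i hi
  · rw [← Finset.prod_erase_mul _ _ (Finset.mem_univ i), mul_smul, hcc2, smul_zero]

end Local

section Lim

open Groth.Agent.Lib Groth.Agent.Lib.Helper49 Groth.Agent.Lib.Helper49.UnitChart
  Groth.Agent.Lib.Helper18.LimSystem Groth.Agent.Lib.Helper18.LimTensor
  Groth.Agent.Lib.Helper18.PullSecBC Groth.Agent.Lib.Helper13.LimSections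

variable {I : Type u} [SmallCategory I] [IsCofiltered I] (D : I ⥤ Scheme.{u}) (c : Cone D)
  [∀ (i j : I) (f : i ⟶ j), IsAffineHom (D.map f)] (i₀ : I)

attribute [local instance] algA algB

/-- **Descent of stalk injectivity to a stage.** -/
theorem exists_stage_stalkMap_injective (hc : IsLimit c) {U : (D.obj i₀).Opens}
    (hU : IsAffineOpen U)
    {F G : (D.obj i₀).Modules} [F.IsQuasicoherent] [G.IsQuasicoherent] (h : F ⟶ G)
    {ι : Type*} [Finite ι] (gen : ι → Γ(F, U)) (hgen : ∀ i, (h.app U).hom (gen i) = 0)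
    (hstage : ∀ (k : Over i₀) (b : Γ(D.obj k.left, D.map k.hom ⁻¹ᵁ U)),
      (∀ i, b • pullSLE (D.map k.hom) F U (D.map k.hom ⁻¹ᵁ U) le_rfl (gen i) = 0) →
      ∀ s : Γ((Scheme.Modules.pullback (D.map k.hom)).obj F, D.map k.hom ⁻¹ᵁ U),
        (((Scheme.Modules.pullback (D.map k.hom)).map h).app (D.map k.hom ⁻¹ᵁ U)).hom s = 0 →
          b • s = 0)
    (z : c.pt) (hz : c.π.app i₀ z ∈ U)
    (hinj : Function.Injective
      (stalkMap ((Scheme.Modules.pullback (c.π.app i₀)).map h) z).hom) :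
    ∃ k : Over i₀, Function.Injective
      (stalkMap ((Scheme.Modules.pullback (D.map k.hom)).map h) (c.π.app k.left z)).hom := by
  classical
  haveI hD : ∀ {i j : I} (f : i ⟶ j), IsAffineHom (D.map f) := fun f => inferInstance
  have haff : IsAffineHom (c.π.app i₀) := isAffineHom_π_app D c hc i₀
  have hUlim : IsAffineOpen (c.π.app i₀ ⁻¹ᵁ U) := hU.preimage (c.π.app i₀)
  haveI : ((Scheme.Modules.pullback (c.π.app i₀)).obj F).IsQuasicoherent :=
    Groth.Agent.Lib.Helper16.FlatPull.isQuasicoherent_pullback _ F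
  haveI : ((Scheme.Modules.pullback (c.π.app i₀)).obj G).IsQuasicoherent :=
    Groth.Agent.Lib.Helper16.FlatPull.isQuasicoherent_pullback _ G
  -- a function at the limit killing the pull backs of the generators
  obtain ⟨b, hb1, hb2⟩ := exists_notMem_forall_smul_eq_zero
    ((Scheme.Modules.pullback (c.π.app i₀)).map h) hUlim ⟨z, hz⟩ hinj
    (fun i => pullSLE (c.π.app i₀) F U (c.π.app i₀ ⁻¹ᵁ U) le_rfl (gen i))
    (fun i => by rw [pullSLE_naturality, hgen, pullSLE_zero])
  -- descend it to a stage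
  have hsys := isColimSystem D c i₀ U hc hU
  obtain ⟨k, y, hy⟩ := hsys.surj b
  have h5 : ∀ i, ∃ (k' : Over i₀) (f : k' ⟶ k),
      (τa D i₀ U f y) ⊗ₜ[Γ(D.obj i₀, U)] gen i =
        (0 : Γ(D.obj k'.left, D.map k'.hom ⁻¹ᵁ U) ⊗[Γ(D.obj i₀, U)] Γ(F, U)) := by
    intro i
    have h6 := (sum_smul_pullSLE_eq_zero_iff (X := c.pt) (c.π.app i₀) hU hUlim le_rfl F rfl
      (fun _ : Unit => b) (fun _ => gen i)).mp (by simpa using hb2 i)
    have h7 := hsys.exists_sum_tmul_eq_zero k (fun _ : Unit => y) (fun _ => gen i)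
      (by simpa [hy] using h6)
    simpa using h7
  obtain ⟨k', f, hk'⟩ := exists_common_stage k
    (fun i k' f => (τa D i₀ U f y) ⊗ₜ[Γ(D.obj i₀, U)] gen i =
      (0 : Γ(D.obj k'.left, D.map k'.hom ⁻¹ᵁ U) ⊗[Γ(D.obj i₀, U)] Γ(F, U)))
    (fun i k₁ f₁ h1 k₂ g => by
      have h2 := congrArg ((τa D i₀ U g).toLinearMap.rTensor Γ(F, U)) h1
      rw [LinearMap.rTensor_tmul, map_zero] at h2
      rw [hsys.τ_comp]
      exact h2) h5
  let y' := τa D i₀ U f y
  have hU' : IsAffineOpen (D.map k'.hom ⁻¹ᵁ U) := hU.preimage _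
  have h6 : ∀ i, y' • pullSLE (D.map k'.hom) F U (D.map k'.hom ⁻¹ᵁ U) le_rfl (gen i) = 0 := by
    intro i
    have h7 := (sum_smul_pullSLE_eq_zero_iff (D.map k'.hom) hU hU' le_rfl F rfl
      (fun _ : Unit => y') (fun _ => gen i)).mpr (by simpa using hk' i)
    simpa using h7
  have h7 := hstage k' y' h6
  have hzk : c.π.app k'.left z ∈ D.map k'.hom ⁻¹ᵁ U := by
    change D.map k'.hom (c.π.app k'.left z) ∈ U
    rw [← Scheme.Hom.comp_apply, c.w]
    exact hz
  have hnot : y' ∉ (hU'.primeIdealOf ⟨c.π.app k'.left z, hzk⟩).asIdeal := by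
    have hcomap := IsAffineOpen.comap_primeIdealOf_appLE (f := c.π.app k'.left) (x := z)
      (D.map k'.hom ⁻¹ᵁ U) hU' (c.π.app i₀ ⁻¹ᵁ U) hUlim (preimage_preimage_eq D c k' U).ge hz
    intro hmem
    apply hb1
    have h8 : ta D c i₀ U k' y' = b := by rw [hsys.t_τ, hy]
    rw [← h8]
    have h9 := congrArg (fun p : PrimeSpectrum _ => y' ∈ p.asIdeal) hcomap
    exact (eq_iff_iff.mp h9).mpr hmem
  refine ⟨k', ?_⟩
  haveI : ((Scheme.Modules.pullback (D.map k'.hom)).obj F).IsQuasicoherent :=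
    Groth.Agent.Lib.Helper16.FlatPull.isQuasicoherent_pullback _ F
  haveI : ((Scheme.Modules.pullback (D.map k'.hom)).obj G).IsQuasicoherent :=
    Groth.Agent.Lib.Helper16.FlatPull.isQuasicoherent_pullback _ G
  exact CokerFlatOpen.stalkMap_injective_of_notMem ((Scheme.Modules.pullback (D.map k'.hom)).map h)
    hU' y' (fun s hs => h7 s hs) ⟨_, hzk⟩ hnot

end Lim

end Groth.Agent.Lib.Helper23.InjFlat
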