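/-
Helper library (helper23): EGA IV 11.2.7-type descent to a stage of a cofiltered limit of schemes
with affine transition maps of the condition "`h_x` is injective and `Coker h` is flat at `x`".
-/
import Mathlib
import Groth.Agent.Lib.Helper23.InjFlatBC
import Groth.Agent.Lib.Helper23.InjFlatLim
import Groth.Agent.Lib.Helper23.FlatStagePoint
import Groth.Agent.Lib.Helper23.FlatStageRel

set_option autoImplicit false
set_option linter.style.haveILetI false
universe u
open CategoryTheory AlgebraicGeometry Limits TensorProduct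

namespace Groth.Agent.Lib.Helper23.InjFlat

open Groth.Agent.Lib Groth.Agent.Lib.Helper49 Groth.Agent.Lib.Helper45
  Groth.Agent.Lib.Helper49.UnitChart Groth.Agent.Lib.Helper23.FlatStage
  Groth.Agent.Lib.Helper23.FibreFlatCons Groth.Agent.Lib.Helper18.TransSec

variable {J : Type u} [SmallCategory J] [IsCofiltered J] (E : J ⥤ Scheme.{u}) (cE : Cone E)
  [hE : ∀ (i j : J) (f : i ⟶ j), IsAffineHom (E.map f)] (j₀ : J)

/-- **EGA IV 11.2.7-type, pointwise form.** If `h_x` is injective and `Coker h` is flat over the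
limit at `x`, the same holds at the image of `x` in some stage. -/
theorem exists_stage_injFlatAt (hcE : IsLimit cE) {X₀ : Scheme.{u}}
    (f₀ : X₀ ⟶ E.obj j₀) [LocallyOfFinitePresentation f₀]
    (F₀ G₀ : X₀.Modules) [F₀.IsQuasicoherent] [G₀.IsQuasicoherent]
    (hF₀ : SheafOfModules.IsFinitePresentation (R := X₀.ringCatSheaf) F₀)
    (hG₀ : SheafOfModules.IsFinitePresentation (R := X₀.ringCatSheaf) G₀) (h₀ : F₀ ⟶ G₀)
    {X : Scheme.{u}} (f : X ⟶ cE.pt) (q : X ⟶ X₀) (H : IsPullback q f f₀ (cE.π.app j₀)) (x : X)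
    (hx : InjFlatAt f ((Scheme.Modules.pullback q).map h₀) x) :
    ∃ K : Over j₀, InjFlatAt (bcFst E j₀ f₀ K)
      ((Scheme.Modules.pullback (bcSnd E j₀ f₀ K)).map h₀) (relπ E cE j₀ f₀ f q H K x) := by
  haveI hE' : ∀ {i j : J} (f : i ⟶ j), IsAffineHom (E.map f) := fun f => hE _ _ f
  haveI hC₀q : (cokernel h₀).IsQuasicoherent :=
    isQuasicoherent_cokernel h₀ inferInstance inferInstance
  have hC₀ := isFinitePresentation_cokernel' hG₀ hF₀ h₀
  -- the flat stage
  have hflC : FlatMod.IsFlatOverAt f ((Scheme.Modules.pullback q).obj (cokernel h₀)) x :=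
    isFlatOverAt_of_iso f (cokIso q h₀).symm x hx.2
  obtain ⟨κ, hκ⟩ := exists_stage_isFlatOverAt E cE j₀ hcE f₀ (cokernel h₀) hC₀ f q H x hflC
  have flat_at : ∀ (K : Over j₀) (_ : K ⟶ κ), FlatMod.IsFlatOverAt (bcFst E j₀ f₀ K)
      (cokernel ((Scheme.Modules.pullback (bcSnd E j₀ f₀ K)).map h₀))
      (relπ E cE j₀ f₀ f q H K x) := by
    intro K a
    have h1 := hκ K a (bcFst E j₀ f₀ K) (bcSnd E j₀ f₀ K) (relπ E cE j₀ f₀ f q H K)
      (isPullback_bcObj E j₀ f₀ K).flip (relπ_snd E cE j₀ f₀ f q H K)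
      (relπ_fst E cE j₀ f₀ f q H K)
    exact isFlatOverAt_of_iso _ (cokIso _ h₀) _ h1
  -- the stage `κ`
  let fκ : (bcDiagram E j₀ f₀).obj κ ⟶ E.obj κ.left := bcFst E j₀ f₀ κ
  let pκ : (bcDiagram E j₀ f₀).obj κ ⟶ X₀ := bcSnd E j₀ f₀ κ
  let vκ : X ⟶ (bcDiagram E j₀ f₀).obj κ := relπ E cE j₀ f₀ f q H κ
  have hpbκ : IsPullback pκ fκ f₀ (E.map κ.hom) := (isPullback_bcObj E j₀ f₀ κ).flip
  have hv1 : vκ ≫ pκ = q := relπ_snd E cE j₀ f₀ f q H κ
  haveI : LocallyOfFinitePresentation fκ := MorphismProperty.of_isPullback hpbκ inferInstance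
  haveI hFκq : ((Scheme.Modules.pullback pκ).obj F₀).IsQuasicoherent :=
    Groth.Agent.Lib.Helper16.FlatPull.isQuasicoherent_pullback pκ F₀
  haveI hGκq : ((Scheme.Modules.pullback pκ).obj G₀).IsQuasicoherent :=
    Groth.Agent.Lib.Helper16.FlatPull.isQuasicoherent_pullback pκ G₀
  have hFκfp := Groth.Agent.Lib.Helper49.PrinPartFP.isFinitePresentation_pullback pκ F₀ hF₀
  have hGκfp := Groth.Agent.Lib.Helper49.PrinPartFP.isFinitePresentation_pullback pκ G₀ hG₀
  obtain ⟨V', U', hV', hU', hU'V', hxU', hfl, S, hS⟩ := exists_chart_flat_fg fκ _ _ hGκfp hFκfp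
    ((Scheme.Modules.pullback pκ).map h₀) (vκ x) (flat_at κ (𝟙 κ))
  -- generators of the kernel
  have hgen : ∀ i : S, (((Scheme.Modules.pullback pκ).map h₀).app U').hom (i : _) = 0 := by
    intro i
    have h1 : (i : Γ((Scheme.Modules.pullback pκ).obj F₀, U')) ∈
        LinearMap.ker (Helper45.appₗ ((Scheme.Modules.pullback pκ).map h₀) U') := by
      rw [← hS]
      exact Submodule.subset_span i.2
    exact h1
  have hspan : ∀ m : Γ((Scheme.Modules.pullback pκ).obj F₀, U'),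
      (((Scheme.Modules.pullback pκ).map h₀).app U').hom m = 0 →
      m ∈ Submodule.span Γ((bcDiagram E j₀ f₀).obj κ, U')
        (Set.range fun i : S => (i : Γ((Scheme.Modules.pullback pκ).obj F₀, U'))) := by
    intro m hm
    have h1 : m ∈ LinearMap.ker (Helper45.appₗ ((Scheme.Modules.pullback pκ).map h₀) U') := hm
    rw [← hS] at h1
    have e : (Set.range fun i : S => (i : Γ((Scheme.Modules.pullback pκ).obj F₀, U'))) =
        (S : Set Γ((Scheme.Modules.pullback pκ).obj F₀, U')) := by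
      ext y
      simp
    rw [e]
    exact h1
  -- descent of injectivity
  have hinj : Function.Injective (stalkMap ((Scheme.Modules.pullback vκ).map
      ((Scheme.Modules.pullback pκ).map h₀)) x).hom :=
    ((InjFlatAt.comp_iff f vκ pκ q hv1 h₀ x).mpr hx).1
  obtain ⟨k, hk⟩ := exists_stage_stalkMap_injective (bcDiagram E j₀ f₀)
    (relCone E cE j₀ f₀ f q H) κ (isLimitRelCone E cE j₀ f₀ f q H hcE) hU'
    ((Scheme.Modules.pullback pκ).map h₀)
    (fun i : S => (i : Γ((Scheme.Modules.pullback pκ).obj F₀, U'))) hgen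
    (fun k b hb s hs => by
      have Hk : IsPullback ((bcDiagram E j₀ f₀).map k.hom) (bcFst E j₀ f₀ k.left) fκ
          (E.map k.hom.left) := (isPullback_bcDiagram_map E j₀ f₀ k.hom).flip
      have hUY : (bcDiagram E j₀ f₀).map k.hom ⁻¹ᵁ U' =
          (bcDiagram E j₀ f₀).map k.hom ⁻¹ᵁ U' ⊓
            bcFst E j₀ f₀ k.left ⁻¹ᵁ (E.map k.hom.left ⁻¹ᵁ V') := by
        refine le_antisymm (le_inf le_rfl ?_) inf_le_left
        intro y hy
        change E.map k.hom.left (bcFst E j₀ f₀ k.left y) ∈ V'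
        rw [← Scheme.Hom.comp_apply, ← Hk.w, Scheme.Hom.comp_apply]
        exact hU'V' hy
      exact smul_eq_zero_of_gen Hk le_rfl hU'V' hUY hV' (hV'.preimage _) hU'
        ((Scheme.Modules.pullback pκ).map h₀) hfl _ hspan b hb s hs)
    x hxU' hinj
  refine ⟨k.left, ?_, flat_at k.left k.hom⟩
  exact stalkMap_injective_of_iso _ _
    (compIso ((bcDiagram E j₀ f₀).map k.hom) pκ (bcSnd E j₀ f₀ k.left)
      (bcDiagram_map_snd E j₀ f₀ k.hom) F₀)
    (compIso ((bcDiagram E j₀ f₀).map k.hom) pκ (bcSnd E j₀ f₀ k.left)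
      (bcDiagram_map_snd E j₀ f₀ k.hom) G₀)
    (compIso_naturality _ _ _ _ h₀) _ hk

end Groth.Agent.Lib.Helper23.InjFlat
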