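/-
Helper library (helper23): a dense-range continuous map which separates the (finitely many)
irreducible components of the source induces a bijection on irreducible components.
-/
import Mathlib.Topology.Irreducible
import Mathlib.Topology.NoetherianSpace

set_option autoImplicit false
universe u v

namespace Groth.Agent.Lib.Helper23

open Set

/-- An irreducible set contained in a finite union of closed sets `F i` is contained in one. -/
theorem exists_subset_of_subset_iUnion_closure {X Y : Type*} [TopologicalSpace X]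
    [TopologicalSpace Y] {T : Set (Set X)} (hT : T.Finite) (F : Set X → Set Y)
    (hF : ∀ Z ∈ T, IsClosed (F Z)) {W : Set Y} (hW : IsIrreducible W) (hWF : W ⊆ ⋃ Z ∈ T, F Z) :
    ∃ Z ∈ T, W ⊆ F Z := by
  classical
  obtain ⟨z, hz, hWz⟩ := isIrreducible_iff_sUnion_isClosed.mp hW (hT.toFinset.image F)
    (by
      intro z hz
      obtain ⟨Z, hZ, rfl⟩ := Finset.mem_image.mp hz
      exact hF Z (hT.mem_toFinset.mp hZ))
    (by
      intro w hw
      obtain ⟨Z, hZ, hwZ⟩ := mem_iUnion₂.mp (hWF hw)
      exact mem_sUnion.mpr ⟨F Z, by simpa using ⟨Z, hZ, rfl⟩, hwZ⟩)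
  obtain ⟨Z, hZ, rfl⟩ := Finset.mem_image.mp hz
  exact ⟨Z, hT.mem_toFinset.mp hZ, hWz⟩

/-- Let `f : X → Y` be continuous with dense range, `X` with finitely many irreducible components,
such that distinct components of `X` are separated by an open set of `Y`. Then
`Z ↦ closure (f '' Z)` is a bijection between the irreducible components of `X` and of `Y`. -/
theorem bijOn_irreducibleComponents_closure_image {X Y : Type*} [TopologicalSpace X]
    [TopologicalSpace Y] (f : X → Y) (hf : Continuous f) (hd : DenseRange f)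
    (hfin : (irreducibleComponents X).Finite)
    (hsep : ∀ Z ∈ irreducibleComponents X, ∀ Z' ∈ irreducibleComponents X, Z ≠ Z' →
      ∃ B : Set Y, IsOpen B ∧ (f '' Z ∩ B).Nonempty ∧ Disjoint (f '' Z') B) :
    Set.BijOn (fun Z : Set X => closure (f '' Z)) (irreducibleComponents X)
      (irreducibleComponents Y) := by
  have hirr : ∀ Z ∈ irreducibleComponents X, IsIrreducible (closure (f '' Z)) := fun Z hZ =>
    (hZ.1.image f hf.continuousOn).closure
  -- (b): no inclusions between images of distinct components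
  have hb : ∀ Z ∈ irreducibleComponents X, ∀ Z' ∈ irreducibleComponents X,
      closure (f '' Z) ⊆ closure (f '' Z') → Z = Z' := by
    intro Z hZ Z' hZ' hsub
    by_contra hne
    obtain ⟨B, hB, ⟨y, hyZ, hyB⟩, hdisj⟩ := hsep Z hZ Z' hZ' hne
    have h1 : y ∈ closure (f '' Z') := hsub (subset_closure hyZ)
    have h2 : Disjoint (closure (f '' Z')) B := hdisj.closure_left hB
    exact Set.disjoint_left.mp h2 h1 hyB
  -- (c): the closures cover `Y`
  have hc : (⋃ Z ∈ irreducibleComponents X, closure (f '' Z)) = univ := by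
    have hcl : IsClosed (⋃ Z ∈ irreducibleComponents X, closure (f '' Z)) :=
      hfin.isClosed_biUnion fun Z _ => isClosed_closure
    rw [← univ_subset_iff, ← hd.closure_eq, hcl.closure_subset_iff]
    rintro _ ⟨x, rfl⟩
    have hx : x ∈ ⋃₀ irreducibleComponents X := by rw [sUnion_irreducibleComponents]; trivial
    obtain ⟨Z, hZ, hxZ⟩ := mem_sUnion.mp hx
    exact mem_iUnion₂.mpr ⟨Z, hZ, subset_closure ⟨x, hxZ, rfl⟩⟩
  have hcover : ∀ W : Set Y, IsIrreducible W → ∃ Z ∈ irreducibleComponents X,
      W ⊆ closure (f '' Z) := fun W hW =>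
    exists_subset_of_subset_iUnion_closure hfin (fun Z => closure (f '' Z))
      (fun _ _ => isClosed_closure) hW (by rw [hc]; exact subset_univ _)
  refine ⟨?_, ?_, ?_⟩
  · -- maps to
    intro Z hZ
    refine ⟨hirr Z hZ, fun W hW hZW => ?_⟩
    obtain ⟨Z', hZ', hWZ'⟩ := hcover W hW
    have : Z = Z' := hb Z hZ Z' hZ' (hZW.trans hWZ')
    subst this
    exact hWZ'
  · -- injective
    intro Z hZ Z' hZ' heq
    exact hb Z hZ Z' hZ' (le_of_eq heq)
  · -- surjective
    intro W hW
    obtain ⟨Z, hZ, hWZ⟩ := hcover W hW.1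
    exact ⟨Z, hZ, (hW.2 (hirr Z hZ) hWZ).antisymm hWZ |>.symm ▸ rfl⟩

end Groth.Agent.Lib.Helper23
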