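/-
Helper library (helper23): category-theoretic plumbing for transporting isomorphisms along
pullback squares (used for EGA IV 8.8.2.5-type statements).
-/
import Mathlib

set_option autoImplicit false
universe v u
open CategoryTheory Limits

namespace Groth.Agent.Lib.Helper23

variable {C : Type u} [Category.{v} C]

/-- If `X = X₀ ×_{T₀} T` and `Xj = X₀ ×_{T₀} Tj` with `T ⟶ Tj ⟶ T₀`, then `X = Xj ×_{Tj} T`. -/
theorem exists_isPullback_of_comp {X Xj X₀ T Tj T₀ : C} {qX : X ⟶ X₀} {a : X ⟶ T}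
    {a₀ : X₀ ⟶ T₀} {π₀ : T ⟶ T₀} (hX : IsPullback qX a a₀ π₀) {pX : Xj ⟶ X₀} {aj : Xj ⟶ Tj}
    {ψ : Tj ⟶ T₀} (hXj : IsPullback pX aj a₀ ψ) (π : T ⟶ Tj) (hπ : π ≫ ψ = π₀) :
    ∃ sX : X ⟶ Xj, sX ≫ pX = qX ∧ sX ≫ aj = a ≫ π ∧ IsPullback sX a aj π := by
  subst hπ
  have hw : qX ≫ a₀ = (a ≫ π) ≫ ψ := by rw [Category.assoc]; exact hX.w
  refine ⟨hXj.lift qX (a ≫ π) hw, hXj.lift_fst _ _ hw, hXj.lift_snd _ _ hw, ?_⟩
  refine IsPullback.of_right ?_ (hXj.lift_snd _ _ hw) hXj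
  rw [hXj.lift_fst _ _ hw]
  exact hX

/-- Transport an isomorphism over `Tj` to an isomorphism of the base changes over `T`. -/
theorem exists_iso_of_isPullback {X Y Xj Yj T Tj : C} {sX : X ⟶ Xj} {a : X ⟶ T} {aj : Xj ⟶ Tj}
    {π : T ⟶ Tj} (hX : IsPullback sX a aj π) {sY : Y ⟶ Yj} {b : Y ⟶ T} {bj : Yj ⟶ Tj}
    (hY : IsPullback sY b bj π) (e : Xj ≅ Yj) (he : e.hom ≫ bj = aj) :
    ∃ e' : X ≅ Y, e'.hom ≫ b = a ∧ e'.hom ≫ sY = sX ≫ e.hom := by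
  have he' : e.inv ≫ aj = bj := by rw [← he, Iso.inv_hom_id_assoc]
  have hw1 : (sX ≫ e.hom) ≫ bj = a ≫ π := by rw [Category.assoc, he]; exact hX.w
  have hw2 : (sY ≫ e.inv) ≫ aj = b ≫ π := by rw [Category.assoc, he']; exact hY.w
  refine ⟨⟨hY.lift (sX ≫ e.hom) a hw1, hX.lift (sY ≫ e.inv) b hw2, ?_, ?_⟩,
    hY.lift_snd _ _ hw1, hY.lift_fst _ _ hw1⟩
  · apply hX.hom_ext
    · rw [Category.assoc, hX.lift_fst _ _ hw2, ← Category.assoc, hY.lift_fst _ _ hw1,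
        Category.assoc, Iso.hom_inv_id, Category.comp_id, Category.id_comp]
    · rw [Category.assoc, hX.lift_snd _ _ hw2, hY.lift_snd _ _ hw1, Category.id_comp]
  · apply hY.hom_ext
    · rw [Category.assoc, hY.lift_fst _ _ hw1, ← Category.assoc, hX.lift_fst _ _ hw2,
        Category.assoc, Iso.inv_hom_id, Category.comp_id, Category.id_comp]
    · rw [Category.assoc, hY.lift_snd _ _ hw1, hX.lift_snd _ _ hw2, Category.id_comp]

end Groth.Agent.Lib.Helper23
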