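/-
Helper library (helper23): the inverse system of affine schemes over an affine open `U ⊆ S`
attached to a directed system of `Γ(S, U)`-algebras, as a diagram in `Over U`, and the limit cone
of its image in `Over S`.
-/
import Mathlib
import Groth.Agent.Lib.Helper23.LfpOfColim

set_option autoImplicit false
universe u
open CategoryTheory Limits AlgebraicGeometry

namespace Groth.Agent.Lib.Helper23

section

variable {S : Scheme.{u}} {U : S.Opens} (hU : IsAffineOpen U) {J : Type u} [Preorder J]
  (F : J ⥤ Under Γ(S, U))

/-- The inverse system of affine `U`-schemes attached to a system of `Γ(S, U)`-algebras. -/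
noncomputable def overDiagram : Jᵒᵖ ⥤ Over (U : Scheme.{u}) where
  obj j := Over.mk (Spec.map (F.obj j.unop).hom ≫ hU.isoSpec.inv)
  map {i j} a := Over.homMk (Spec.map (F.map a.unop).right) (by
    have hw : (F.obj j.unop).hom ≫ (F.map a.unop).right = (F.obj i.unop).hom :=
      Under.w (F.map a.unop)
    change Spec.map (F.map a.unop).right ≫ Spec.map (F.obj j.unop).hom ≫ hU.isoSpec.inv =
      Spec.map (F.obj i.unop).hom ≫ hU.isoSpec.inv
    rw [← Category.assoc, ← Spec.map_comp, hw])
  map_id j := by
    ext1
    change Spec.map (F.map (𝟙 j.unop)).right = 𝟙 _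
    rw [F.map_id]
    exact Spec.map_id _
  map_comp {i j k} a b := by
    ext1
    change Spec.map (F.map (b.unop ≫ a.unop)).right =
      Spec.map (F.map a.unop).right ≫ Spec.map (F.map b.unop).right
    rw [F.map_comp, ← Spec.map_comp]
    rfl

instance (j : Jᵒᵖ) : IsAffine ((overDiagram hU F).obj j).left := by
  dsimp [overDiagram]; infer_instance

/-- The cone over the image in `Over S` of `overDiagram` attached to a cocone. -/
noncomputable def overCone (cc : Cocone F) : Cone (overDiagram hU F ⋙ Over.map U.ι) where
  pt := Over.mk (Spec.map cc.pt.hom ≫ hU.fromSpec)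
  π :=
    { app := fun j => Over.homMk (Spec.map (cc.ι.app j.unop).right) (by
        have hw : (F.obj j.unop).hom ≫ (cc.ι.app j.unop).right = cc.pt.hom :=
          Under.w (cc.ι.app j.unop)
        change Spec.map (cc.ι.app j.unop).right ≫
          (Spec.map (F.obj j.unop).hom ≫ hU.isoSpec.inv) ≫ U.ι = Spec.map cc.pt.hom ≫ hU.fromSpec
        rw [Category.assoc, ← Category.assoc, ← Spec.map_comp, hw]
        rfl)
      naturality := by
        intro i j a
        ext1
        change 𝟙 _ ≫ Spec.map (cc.ι.app j.unop).right =
          Spec.map (cc.ι.app i.unop).right ≫ Spec.map (F.map a.unop).right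
        rw [Category.id_comp, ← Spec.map_comp]
        have h3 : (F.map a.unop).right ≫ (cc.ι.app i.unop).right = (cc.ι.app j.unop).right :=
          congr($(cc.w a.unop).right)
        rw [h3] }

/-- The cone `overCone` attached to a colimit cocone is a limit cone. -/
noncomputable def isLimitOverCone [IsDirected J (· ≤ ·)] [Nonempty J] {cc : Cocone F}
    (hcc : IsColimit cc) : IsLimit (overCone hU F cc) := by
  let j₀ : J := Classical.arbitrary J
  let sc : Cone (overDiagram hU F ⋙ Over.map U.ι) → Cone (specDiagram F) := fun s =>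
    { pt := s.pt.left
      π :=
        { app := fun j => (s.π.app j).left
          naturality := by
            intro i j a
            have := congr($(s.π.naturality a).left)
            exact this } }
  let L : ∀ s : Cone (overDiagram hU F ⋙ Over.map U.ι), s.pt.left ⟶ Spec cc.pt.right :=
    fun s => (isLimitSpecCone F hcc).lift (sc s)
  have hL : ∀ (s : Cone (overDiagram hU F ⋙ Over.map U.ι)) (j : J),
      L s ≫ Spec.map (cc.ι.app j).right = (s.π.app (Opposite.op j)).left :=
    fun s j => (isLimitSpecCone F hcc).fac (sc s) (Opposite.op j)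
  have hLu : ∀ (T : Scheme.{u}) (m m' : T ⟶ Spec cc.pt.right),
      (∀ j : J, m ≫ Spec.map (cc.ι.app j).right = m' ≫ Spec.map (cc.ι.app j).right) → m = m' :=
    fun T m m' hm => (isLimitSpecCone F hcc).hom_ext (fun j => hm j.unop)
  refine
    { lift := fun s => Over.homMk (L s) ?_
      fac := ?_
      uniq := ?_ }
  · have h2 : (s.π.app (Opposite.op j₀)).left ≫
        ((Spec.map (F.obj j₀).hom ≫ hU.isoSpec.inv) ≫ U.ι) = s.pt.hom :=
      Over.w (s.π.app (Opposite.op j₀))
    have hw : (F.obj j₀).hom ≫ (cc.ι.app j₀).right = cc.pt.hom := Under.w (cc.ι.app j₀)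
    have h3 : Spec.map cc.pt.hom = Spec.map (cc.ι.app j₀).right ≫ Spec.map (F.obj j₀).hom := by
      rw [← Spec.map_comp, hw]
    change L s ≫ (Spec.map cc.pt.hom ≫ hU.fromSpec) = s.pt.hom
    calc L s ≫ (Spec.map cc.pt.hom ≫ hU.fromSpec)
        = (L s ≫ Spec.map (cc.ι.app j₀).right) ≫
            ((Spec.map (F.obj j₀).hom ≫ hU.isoSpec.inv) ≫ U.ι) := by
          rw [h3]
          simp only [Category.assoc]
          rfl
      _ = s.pt.hom := by rw [hL s j₀]; exact h2
  · intro s j
    ext1
    exact hL s j.unop
  · intro s m hm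
    ext1
    apply hLu
    intro j
    refine Eq.trans ?_ (hL s j).symm
    exact congr($(hm (Opposite.op j)).left)

end

end Groth.Agent.Lib.Helper23
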