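/-
Helper library (helper23): in a cofiltered limit of schemes with affine dominant transition maps,
the projections are dominant.
-/
import Mathlib.AlgebraicGeometry.AffineTransitionLimit
import Mathlib.AlgebraicGeometry.Morphisms.UnderlyingMap

set_option autoImplicit false
open CategoryTheory CategoryTheory.Limits AlgebraicGeometry
universe u

namespace Groth.Agent.Lib.Helper23

/-- If an affine open `W` of a stage has nonempty preimage in every later stage, its preimage in
the limit is nonempty. -/
theorem exists_π_mem_of_forall_nonempty {I : Type u} [Category.{u} I] [IsCofiltered I]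
    (D : I ⥤ Scheme.{u}) (c : Cone D) (hc : IsLimit c)
    [∀ {i j : I} (f : i ⟶ j), IsAffineHom (D.map f)] (j : I) (W : (D.obj j).Opens)
    (hW : IsAffineOpen W)
    (hne : ∀ (k : I) (φ : k ⟶ j), ∃ y : D.obj k, D.map φ y ∈ W) :
    ∃ x : c.pt, c.π.app j x ∈ W := by
  have (k : Over j) : IsAffine ((opensDiagram D j W).obj k) := hW.preimage (D.map _)
  have (k : Over j) : CompactSpace ((opensDiagram D j W).obj k) := inferInstance
  have (k : Over j) : Nonempty ((opensDiagram D j W).obj k) := by
    obtain ⟨y, hy⟩ := hne k.left k.hom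
    exact ⟨⟨y, hy⟩⟩
  obtain ⟨x⟩ := Scheme.nonempty_of_isLimit (opensDiagram D j W) (opensCone D c j W)
    (isLimitOpensCone D c hc j W)
  exact ⟨x.1, x.2⟩

/-- In a cofiltered limit of schemes with affine dominant transition maps, the projections are
dominant. -/
theorem isDominant_π_app {I : Type u} [Category.{u} I] [IsCofiltered I]
    (D : I ⥤ Scheme.{u}) (c : Cone D) (hc : IsLimit c)
    [∀ {i j : I} (f : i ⟶ j), IsAffineHom (D.map f)]
    (hd : ∀ (i j : I) (φ : i ⟶ j), IsDominant (D.map φ)) (j : I) :
    IsDominant (c.π.app j) := by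
  refine ⟨?_⟩
  rw [DenseRange, dense_iff_inter_open]
  intro U hU ⟨y, hy⟩
  obtain ⟨_, ⟨W, hW : IsAffineOpen W, rfl⟩, hyW, hWU⟩ :=
    (D.obj j).isBasis_affineOpens.exists_subset_of_mem_open hy hU
  obtain ⟨x, hx⟩ := exists_π_mem_of_forall_nonempty D c hc j W hW (fun k φ => by
    have := hd k j φ
    obtain ⟨z, hz⟩ := (D.map φ).denseRange.exists_mem_open W.2 ⟨y, hyW⟩
    exact ⟨z, hz⟩)
  exact ⟨c.π.app j x, hWU hx, x, rfl⟩

end Groth.Agent.Lib.Helper23
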