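/-
Helper library (helper23): a morphism between cofiltered limits (with affine transition maps) that
is a base change of its stages is an open map if its stages eventually are.
-/
import Mathlib
import Groth.Agent.Lib.Helper23.BaseChangeLim

set_option autoImplicit false
universe u
open CategoryTheory AlgebraicGeometry Limits

namespace Groth.Agent.Lib.Helper23

/-- Points of a fibre product (given by a pullback square) surject onto compatible pairs. -/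
theorem IsPullback.exists_preimage {P X Y S : Scheme.{u}} {fst : P ⟶ X} {snd : P ⟶ Y}
    {f : X ⟶ S} {g : Y ⟶ S} (h : IsPullback fst snd f g) (x : X) (y : Y) (hxy : f x = g y) :
    ∃ z : P, fst z = x ∧ snd z = y := by
  obtain ⟨z, hz1, hz2⟩ := Scheme.Pullback.exists_preimage_pullback x y hxy
  refine ⟨h.isoPullback.inv z, ?_, ?_⟩
  · rw [← Scheme.Hom.comp_apply, h.isoPullback_inv_fst]
    exact hz1
  · rw [← Scheme.Hom.comp_apply, h.isoPullback_inv_snd]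
    exact hz2

section OpenMap

variable {J : Type u} [Category.{u} J] [IsCofiltered J] (𝒳 𝒴 : J ⥤ Scheme.{u})
  (c𝒳 : Cone 𝒳) (c𝒴 : Cone 𝒴) (hc𝒳 : IsLimit c𝒳)
  [∀ {i j : J} (f : i ⟶ j), IsAffineHom (𝒳.map f)]

include hc𝒳 in
theorem isOpenMap_of_eventually_isOpenMap (F : c𝒳.pt ⟶ c𝒴.pt) (Fj : ∀ j : J, 𝒳.obj j ⟶ 𝒴.obj j)
    (hpb : ∀ j : J, IsPullback (c𝒳.π.app j) F (Fj j) (c𝒴.π.app j))
    (j₁ : J) (hopen : ∀ (j : J) (_ : j ⟶ j₁), IsOpenMap (Fj j)) : IsOpenMap F := by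
  intro O hO
  rw [isOpen_iff_forall_mem_open]
  rintro _ ⟨x, hxO, rfl⟩
  obtain ⟨_, ⟨j, V, hV, rfl⟩, hxV, hVO⟩ :=
    TopologicalSpace.Opens.isBasis_iff_nbhd.mp (isBasis_preimage_isAffineOpen 𝒳 c𝒳 hc𝒳)
      (U := ⟨O, hO⟩) hxO
  let k := IsCofiltered.min j j₁
  let a : k ⟶ j := IsCofiltered.minToLeft j j₁
  let b : k ⟶ j₁ := IsCofiltered.minToRight j j₁
  let V' : (𝒳.obj k).Opens := 𝒳.map a ⁻¹ᵁ V
  have hFk : IsOpen (Fj k '' (V' : Set (𝒳.obj k))) := hopen k b _ V'.2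
  refine ⟨c𝒴.π.app k ⁻¹' (Fj k '' (V' : Set (𝒳.obj k))), ?_, hFk.preimage (c𝒴.π.app k).continuous,
    ?_⟩
  · rintro y ⟨v, hv, hvy⟩
    obtain ⟨x', hx'1, hx'2⟩ := IsPullback.exists_preimage (hpb k) v y hvy
    refine ⟨x', hVO ?_, hx'2⟩
    change c𝒳.π.app j x' ∈ V
    have h1 : 𝒳.map a (c𝒳.π.app k x') ∈ V := by
      rw [hx'1]
      exact hv
    rwa [← Scheme.Hom.comp_apply, c𝒳.w] at h1
  · refine ⟨c𝒳.π.app k x, ?_, ?_⟩
    · change 𝒳.map a (c𝒳.π.app k x) ∈ V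
      rw [← Scheme.Hom.comp_apply, c𝒳.w]
      exact hxV
    · rw [← Scheme.Hom.comp_apply, ← Scheme.Hom.comp_apply, (hpb k).w]

end OpenMap

end Groth.Agent.Lib.Helper23
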