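/-
Helper library (helper23): maximal points (points without proper generizations) of schemes and of
cofiltered limits of schemes with affine transition maps (EGA IV 8.4.1, 8.4.2).
-/
import Mathlib
import Groth.Agent.Lib.Helper23.LimPoints

set_option autoImplicit false
universe u
open CategoryTheory AlgebraicGeometry Limits Topology

namespace Groth.Agent.Lib.Helper23

section Top

variable {X : Type*} [TopologicalSpace X]

/-- In a quasi-sober `T₀` space every point has a generization that is a maximal point. -/
theorem exists_maximal_specializes [QuasiSober X] [T0Space X] (x : X) :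
    ∃ η : X, (∀ z : X, z ⤳ η → z = η) ∧ η ⤳ x := by
  obtain ⟨η, hη⟩ := QuasiSober.sober (isIrreducible_irreducibleComponent (x := x))
    isClosed_irreducibleComponent
  refine ⟨η, fun z hz => ?_, hη.specializes mem_irreducibleComponent⟩
  have h1 : irreducibleComponent x ⊆ closure {z} := by
    rw [← hη.def]
    exact hz.closure_subset  
  have h2 : closure {z} = irreducibleComponent x :=
    (irreducibleComponent_property x).2.2 _
      (isIrreducible_singleton.closure.isPreirreducible) h1
  exact IsGenericPoint.eq h2 hη

/-- An open set containing all maximal points is dense. -/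
theorem dense_of_forall_maximal_mem [QuasiSober X] [T0Space X] {U : Set X}
    (h : ∀ η : X, (∀ z : X, z ⤳ η → z = η) → η ∈ U) : Dense U := by
  rw [dense_iff_inter_open]
  rintro W hW ⟨x, hx⟩
  obtain ⟨η, hη, hηx⟩ := exists_maximal_specializes x
  exact ⟨η, hηx.mem_open hW hx, h η hη⟩

/-- If there are finitely many maximal points, a dense open set contains all of them. -/
theorem mem_of_dense_of_maximal [QuasiSober X] [T0Space X]
    (hfin : {s : X | ∀ z : X, z ⤳ s → z = s}.Finite) {U : Set X} (hU : IsOpen U) (hd : Dense U)
    {η : X} (hη : ∀ z : X, z ⤳ η → z = η) : η ∈ U := by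
  let W : Set X := (⋃ μ ∈ {s : X | (∀ z : X, z ⤳ s → z = s) ∧ s ≠ η}, closure {μ})ᶜ
  have hWo : IsOpen W := by
    rw [isOpen_compl_iff]
    exact (hfin.subset fun s hs => hs.1).isClosed_biUnion fun _ _ => isClosed_closure
  have hηW : η ∈ W := by
    simp only [W, Set.mem_compl_iff, Set.mem_iUnion, not_exists]
    rintro μ ⟨hμ, hne⟩ hmem
    exact hne (hη μ (specializes_iff_mem_closure.mpr hmem))
  obtain ⟨y, hyW, hyU⟩ := dense_iff_inter_open.mp hd W hWo ⟨η, hηW⟩
  obtain ⟨μ, hμ, hμy⟩ := exists_maximal_specializes y
  have : μ = η := by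
    by_contra hne
    apply hyW
    simp only [Set.mem_iUnion]
    exact ⟨μ, ⟨hμ, hne⟩, specializes_iff_mem_closure.mp hμy⟩
  subst this
  exact hμy.mem_open hU hyU

end Top

section Lim

variable {I : Type u} [Category.{u} I] [IsCofiltered I] (D : I ⥤ Scheme.{u}) (c : Cone D)
  (hc : IsLimit c) [∀ {i j : I} (f : i ⟶ j), IsAffineHom (D.map f)]

include hc in
/-- A point of the limit all of whose images in the stages are maximal is maximal. -/
theorem maximal_of_forall_π_app_maximal {s : c.pt}
    (h : ∀ (i : I) (z : D.obj i), z ⤳ c.π.app i s → z = c.π.app i s) :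
    ∀ z : c.pt, z ⤳ s → z = s := fun z hz =>
  eq_of_forall_π_app_eq D c hc fun i => h i _ (hz.map (c.π.app i).continuous)

include hc in
/-- EGA IV 8.4.1: if all stages have finitely many maximal points, preserved by the transition
maps, a compatible family of nonempty finite sets of maximal points `G i` yields a
maximal point of the limit mapping into `G i` for all `i`. -/
theorem exists_maximal_point_of_finite (G : ∀ i, Set (D.obj i)) (hGfin : ∀ i, (G i).Finite)
    (hGne : ∀ i, (G i).Nonempty)
    (hGm : ∀ {i j : I} (φ : i ⟶ j), Set.MapsTo (D.map φ) (G i) (G j)) :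
    ∃ p : c.pt, ∀ i, c.π.app i p ∈ G i := by
  let F : I ⥤ Type u :=
    { obj := fun i => ↥(G i)
      map := fun {i j} φ => TypeCat.ofHom (fun z => (⟨D.map φ z.1, hGm φ z.2⟩ : ↥(G j)))
      map_id := fun i => by
        ext z
        simp
      map_comp := fun {i j k} φ ψ => by
        ext z
        simp }
  have : ∀ i, Finite (F.obj i) := fun i => (hGfin i).to_subtype
  have : ∀ i, Nonempty (F.obj i) := fun i => (hGne i).to_subtype
  obtain ⟨u, hu⟩ := nonempty_sections_of_finite_cofiltered_system F
  obtain ⟨p, hp⟩ := exists_point_of_compatible D c hc (fun i => (u i).1)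
    (fun {i j} f => congrArg Subtype.val (hu f))
  exact ⟨p, fun i => (hp i).symm ▸ (u i).2⟩

end Lim

end Groth.Agent.Lib.Helper23
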