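/-
Helper library (helper23): descent of an isomorphism of finitely presented modules along a
cofiltered limit of base schemes (relative form of EGA IV 8.5.2.5), and the descent of an
isomorphism of modules over an algebraically closed (or arbitrary) extension to a finite extension.
-/
import Mathlib
import Groth.Agent.S4790
import Groth.Agent.Lib.Helper23.IsoDescent
import Groth.Agent.Lib.Helper23.LfpOfColim
import Groth.Agent.Lib.Helper23.BaseChangeLim
import Groth.Agent.Lib.Helper23.ConsLocusMod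

set_option autoImplicit false
set_option linter.style.haveILetI false
universe u
open CategoryTheory Limits AlgebraicGeometry

namespace Groth.Agent.Lib.Helper23.ModIsoDescent

open Groth.Agent.Lib.Helper23 Groth.Agent.Lib.Helper23.ConsLocusMod

section Relative

variable {I : Type u} [SmallCategory I] [IsCofiltered I] (D : I ⥤ Scheme.{u}) (c : Cone D)
  (hc : IsLimit c) [∀ {i j : I} (f : i ⟶ j), IsAffineHom (D.map f)] (i₀ : I)
  {X₀ : Scheme.{u}} (g₀ : X₀ ⟶ D.obj i₀) [CompactSpace X₀] [QuasiSeparatedSpace X₀]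
  (F₀ G₀ : X₀.Modules) [F₀.IsQuasicoherent] [G₀.IsQuasicoherent]
  (hF₀ : SheafOfModules.IsFinitePresentation (R := X₀.ringCatSheaf) F₀)
  (hG₀ : SheafOfModules.IsFinitePresentation (R := X₀.ringCatSheaf) G₀)

include hc hF₀ hG₀ in
/-- If the pullbacks of `F₀` and `G₀` to the limit `X₀ ×_{S_{i₀}} S` are isomorphic, so are their
pullbacks to some stage `X₀ ×_{S_{i₀}} S_j`. -/
theorem exists_stage_iso
    (e : (Scheme.Modules.pullback (bcPtSnd D c i₀ g₀)).obj F₀ ≅
      (Scheme.Modules.pullback (bcPtSnd D c i₀ g₀)).obj G₀) :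
    ∃ j : Over i₀, Nonempty ((Scheme.Modules.pullback (bcSnd D i₀ g₀ j)).obj F₀ ≅
      (Scheme.Modules.pullback (bcSnd D i₀ g₀ j)).obj G₀) := by
  let j₀ : Over i₀ := Over.mk (𝟙 i₀)
  haveI : IsIso (bcSnd D i₀ g₀ j₀) := by
    change IsIso (pullback.snd (D.map (𝟙 i₀)) g₀)
    infer_instance
  haveI : CompactSpace ↥((bcDiagram D i₀ g₀).obj j₀) :=
    (bcSnd D i₀ g₀ j₀).homeomorph.symm.compactSpace
  haveI : QuasiSeparatedSpace ↥((bcDiagram D i₀ g₀).obj j₀) :=
    (quasiSeparatedSpace_congr (bcSnd D i₀ g₀ j₀).homeomorph).mpr inferInstance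
  let F₁ := (Scheme.Modules.pullback (bcSnd D i₀ g₀ j₀)).obj F₀
  let G₁ := (Scheme.Modules.pullback (bcSnd D i₀ g₀ j₀)).obj G₀
  haveI hF₁q : F₁.IsQuasicoherent := isQCoh_pullback _ F₀
  haveI hG₁q : G₁.IsQuasicoherent := isQCoh_pullback _ G₀
  have hF₁ := isFP_pullback (bcSnd D i₀ g₀ j₀) F₀ hF₀
  have hG₁ := isFP_pullback (bcSnd D i₀ g₀ j₀) G₀ hG₀
  have hAff : ∀ (i j : Over i₀) (f : i ⟶ j), IsAffineHom ((bcDiagram D i₀ g₀).map f) :=
    fun _ _ f => inferInstance
  have key := (Groth.Agent.S4790.result (bcDiagram D i₀ g₀) (bcCone D c i₀ g₀)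
    (isLimitBcCone D c i₀ g₀ hc) j₀ F₁ G₁ hF₁ hG₁).mp ?_
  · obtain ⟨j, φ, ⟨ej⟩⟩ := key
    refine ⟨j, ⟨?_⟩⟩
    have h1 : (bcDiagram D i₀ g₀).map φ ≫ bcSnd D i₀ g₀ j₀ = bcSnd D i₀ g₀ j :=
      bcDiagram_map_snd D i₀ g₀ φ
    exact (pbCongr h1 F₀).symm ≪≫ (ConsLocusMod.pbComp _ _ F₀).symm ≪≫ ej ≪≫
      ConsLocusMod.pbComp _ _ G₀ ≪≫ pbCongr h1 G₀
  · have h1 : (bcCone D c i₀ g₀).π.app j₀ ≫ bcSnd D i₀ g₀ j₀ = bcPtSnd D c i₀ g₀ :=
      bcCone_π_snd D c i₀ g₀ j₀
    exact ⟨ConsLocusMod.pbComp _ _ F₀ ≪≫ pbCongr h1 F₀ ≪≫ e ≪≫ (pbCongr h1 G₀).symm ≪≫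
      (ConsLocusMod.pbComp _ _ G₀).symm⟩

end Relative

section Field

/-- If two finitely presented modules on a scheme of finite type over a field `k` become
isomorphic over some extension field `Ω`, they become isomorphic over a finite extension of `k`. -/
theorem exists_iso_baseChange_finite_extension {k : Type u} [Field k] {X : Scheme.{u}}
    (p : X ⟶ Spec (CommRingCat.of k)) [LocallyOfFiniteType p] [QuasiCompact p]
    (F G : X.Modules) [F.IsQuasicoherent] [G.IsQuasicoherent]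
    (hF : SheafOfModules.IsFinitePresentation (R := X.ringCatSheaf) F)
    (hG : SheafOfModules.IsFinitePresentation (R := X.ringCatSheaf) G)
    (Ω : Type u) [Field Ω] [Algebra k Ω]
    (e : (Scheme.Modules.pullback
        (pullback.fst p (Spec.map (CommRingCat.ofHom (algebraMap k Ω))))).obj F ≅
      (Scheme.Modules.pullback
        (pullback.fst p (Spec.map (CommRingCat.ofHom (algebraMap k Ω))))).obj G) :
    ∃ (k' : Type u) (_ : Field k') (_ : Algebra k k') (_ : Module.Finite k k'),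
      Nonempty ((Scheme.Modules.pullback
          (pullback.fst p (Spec.map (CommRingCat.ofHom (algebraMap k k'))))).obj F ≅
        (Scheme.Modules.pullback
          (pullback.fst p (Spec.map (CommRingCat.ofHom (algebraMap k k'))))).obj G) := by
  classical
  let Fd : Finset Ω ⥤ Under (CommRingCat.of k) := fgDiagram k Ω
  let cc : Limits.Cocone Fd := fgCocone k Ω
  have hcc : Limits.IsColimit cc := isColimitFgCocone
  let β : ∀ j : (Finset Ω)ᵒᵖ, (specDiagram Fd).obj j ⟶ Spec (CommRingCat.of k) :=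
    fun j => Spec.map (Fd.obj j.unop).hom
  have hβ : ∀ {i j : (Finset Ω)ᵒᵖ} (a : i ⟶ j), (specDiagram Fd).map a ≫ β j = β i := by
    intro i j a
    have hw : (Fd.obj j.unop).hom ≫ (Fd.map a.unop).right = (Fd.obj i.unop).hom :=
      Under.w (Fd.map a.unop)
    change Spec.map (Fd.map a.unop).right ≫ Spec.map (Fd.obj j.unop).hom =
      Spec.map (Fd.obj i.unop).hom
    rw [← Spec.map_comp, hw]
  let i₀ : (Finset Ω)ᵒᵖ := Opposite.op ∅
  have hβc : (specCone Fd cc).π.app i₀ ≫ β i₀ =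
      Spec.map (CommRingCat.ofHom (algebraMap k Ω)) := by
    have hw : (Fd.obj i₀.unop).hom ≫ (cc.ι.app i₀.unop).right = cc.pt.hom :=
      Under.w (cc.ι.app i₀.unop)
    change Spec.map (cc.ι.app i₀.unop).right ≫ Spec.map (Fd.obj i₀.unop).hom = _
    rw [← Spec.map_comp, hw]
    rfl
  have hXn : IsLocallyNoetherian X := LocallyOfFiniteType.isLocallyNoetherian p
  have hp2 : QuasiSeparated p := inferInstance
  have a2 : QuasiCompact (pullback.snd p (β i₀)) := MorphismProperty.pullback_snd _ _ inferInstance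
  have a3 : QuasiSeparated (pullback.snd p (β i₀)) :=
    MorphismProperty.pullback_snd _ _ inferInstance
  haveI : CompactSpace ↥(pullback p (β i₀)) :=
    QuasiCompact.compactSpace_of_compactSpace (pullback.snd p (β i₀))
  haveI : QuasiSeparatedSpace ↥(pullback p (β i₀)) :=
    quasiSeparatedSpace_of_quasiSeparated (pullback.snd p (β i₀))
  let D := specDiagram Fd
  let c := specCone Fd cc
  have hc : IsLimit c := isLimitSpecCone Fd hcc
  let g₀ : pullback p (β i₀) ⟶ D.obj i₀ := pullback.snd p (β i₀)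
  let q₀ : pullback p (β i₀) ⟶ X := pullback.fst p (β i₀)
  let F₀ := (Scheme.Modules.pullback q₀).obj F
  let G₀ := (Scheme.Modules.pullback q₀).obj G
  haveI : F₀.IsQuasicoherent := isQCoh_pullback q₀ F
  haveI : G₀.IsQuasicoherent := isQCoh_pullback q₀ G
  have hF₀ := isFP_pullback q₀ F hF
  have hG₀ := isFP_pullback q₀ G hG
  have hbig : IsPullback (bcPtSnd D c i₀ g₀ ≫ q₀) (bcPtFst D c i₀ g₀) p
      (Spec.map (CommRingCat.ofHom (algebraMap k Ω))) := by
    have h0 := (isPullback_bcPt D c i₀ g₀).flip.paste_horiz (IsPullback.of_hasPullback p (β i₀))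
    refine IsPullback.of_iso h0 (Iso.refl _) (Iso.refl _) (Iso.refl _) (Iso.refl _) ?_ ?_ ?_ ?_
    · rw [Iso.refl_hom, Iso.refl_hom, Category.comp_id, Category.id_comp]
    · rw [Iso.refl_hom, Iso.refl_hom, Category.comp_id, Category.id_comp]
    · rw [Iso.refl_hom, Iso.refl_hom, Category.comp_id, Category.id_comp]
    · rw [Iso.refl_hom, Iso.refl_hom, Category.comp_id, Category.id_comp]
      exact hβc
  let θ := hbig.isoPullback
  have hθ : θ.hom ≫ pullback.fst p (Spec.map (CommRingCat.ofHom (algebraMap k Ω))) =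
      bcPtSnd D c i₀ g₀ ≫ q₀ := hbig.isoPullback_hom_fst
  have e' : (Scheme.Modules.pullback (bcPtSnd D c i₀ g₀)).obj F₀ ≅
      (Scheme.Modules.pullback (bcPtSnd D c i₀ g₀)).obj G₀ :=
    ConsLocusMod.pbComp _ q₀ F ≪≫ pbCongr hθ.symm F ≪≫ (ConsLocusMod.pbComp θ.hom _ F).symm ≪≫
      (Scheme.Modules.pullback θ.hom).mapIso e ≪≫ ConsLocusMod.pbComp θ.hom _ G ≪≫
      pbCongr hθ G ≪≫ (ConsLocusMod.pbComp _ q₀ G).symm
  obtain ⟨j, ⟨ej⟩⟩ := exists_stage_iso D c hc i₀ g₀ F₀ G₀ hF₀ hG₀ e'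
  -- a closed point of the stage
  let R : Subalgebra k Ω := Algebra.adjoin k ((j.left.unop : Finset Ω) : Set Ω)
  have hRft : Algebra.FiniteType k R :=
    (Subalgebra.fg_iff_finiteType R).mp ⟨j.left.unop, rfl⟩
  obtain ⟨m, hm⟩ := Ideal.exists_maximal R
  letI : Field (R ⧸ m) := Ideal.Quotient.field m
  have hfin : Module.Finite k (R ⧸ m) := finite_of_finite_type_of_isJacobsonRing k (R ⧸ m)
  let γ : Spec (CommRingCat.of (R ⧸ m)) ⟶ D.obj j.left :=
    Spec.map (CommRingCat.ofHom (Ideal.Quotient.mk m))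
  have hγ : γ ≫ (D.map j.hom ≫ β i₀) =
      Spec.map (CommRingCat.ofHom (algebraMap k (R ⧸ m))) := by
    rw [hβ j.hom]
    change Spec.map (CommRingCat.ofHom (Ideal.Quotient.mk m)) ≫
      Spec.map (CommRingCat.ofHom (algebraMap k R)) = _
    rw [← Spec.map_comp]
    rfl
  let fst' := pullback.fst p (Spec.map (CommRingCat.ofHom (algebraMap k (R ⧸ m))))
  let snd' := pullback.snd p (Spec.map (CommRingCat.ofHom (algebraMap k (R ⧸ m))))
  let τ : pullback p (Spec.map (CommRingCat.ofHom (algebraMap k (R ⧸ m)))) ⟶ pullback p (β i₀) :=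
    pullback.lift fst' (snd' ≫ γ ≫ D.map j.hom) (by
      rw [Category.assoc, Category.assoc, hγ]
      exact pullback.condition)
  have hτ1 : τ ≫ q₀ = fst' := pullback.lift_fst _ _ _
  have hτ2 : τ ≫ g₀ = snd' ≫ γ ≫ D.map j.hom := pullback.lift_snd _ _ _
  let σ : pullback p (Spec.map (CommRingCat.ofHom (algebraMap k (R ⧸ m)))) ⟶
      (bcDiagram D i₀ g₀).obj j :=
    (isPullback_bcObj D i₀ g₀ j).lift (snd' ≫ γ) τ (by rw [Category.assoc, hτ2])
  have hσ : σ ≫ bcSnd D i₀ g₀ j ≫ q₀ = fst' := by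
    rw [← Category.assoc, (isPullback_bcObj D i₀ g₀ j).lift_snd, hτ1]
  have iF : (Scheme.Modules.pullback fst').obj F ≅
      (Scheme.Modules.pullback σ).obj ((Scheme.Modules.pullback (bcSnd D i₀ g₀ j)).obj F₀) :=
    pbCongr hσ.symm F ≪≫ (ConsLocusMod.pbComp σ _ F).symm ≪≫
      (Scheme.Modules.pullback σ).mapIso (ConsLocusMod.pbComp (bcSnd D i₀ g₀ j) q₀ F).symm
  have iG : (Scheme.Modules.pullback fst').obj G ≅
      (Scheme.Modules.pullback σ).obj ((Scheme.Modules.pullback (bcSnd D i₀ g₀ j)).obj G₀) :=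
    pbCongr hσ.symm G ≪≫ (ConsLocusMod.pbComp σ _ G).symm ≪≫
      (Scheme.Modules.pullback σ).mapIso (ConsLocusMod.pbComp (bcSnd D i₀ g₀ j) q₀ G).symm
  exact ⟨R ⧸ m, inferInstance, inferInstance, hfin,
    ⟨iF ≪≫ (Scheme.Modules.pullback σ).mapIso ej ≪≫ iG.symm⟩⟩

end Field

end Groth.Agent.Lib.Helper23.ModIsoDescent
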