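/-
Helper library (helper23): Hom out of a finite / finitely presented module commutes with
directed colimits of modules (in `ModuleCat`).
-/
import Mathlib.Algebra.Category.ModuleCat.Colimits
import Mathlib.Algebra.Category.ModuleCat.FilteredColimits
import Mathlib.Algebra.Module.FinitePresentation
import Mathlib.CategoryTheory.Limits.Types.Colimits
import Mathlib.CategoryTheory.Limits.Types.Filtered
import Mathlib.CategoryTheory.Limits.ConcreteCategory.Basic
import Mathlib.CategoryTheory.Filtered.Basic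
import Mathlib.Order.Directed

set_option autoImplicit false
open CategoryTheory CategoryTheory.Limits
universe u

namespace Groth.Agent.Lib.Helper23

variable {A : Type u} [CommRing A] {J : Type u} [Preorder J] [IsDirected J (· ≤ ·)] [Nonempty J]

/-- Two elements of stages of a directed system of modules with the same image in the colimit
become equal at a later stage. -/
theorem moduleColim_exists_of_ι_eq (N : J ⥤ ModuleCat.{u} A) {i j : J} (x : N.obj i) (y : N.obj j)
    (h : colimit.ι N i x = colimit.ι N j y) :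
    ∃ (k : J) (hi : i ≤ k) (hj : j ≤ k), N.map (homOfLE hi) x = N.map (homOfLE hj) y := by
  obtain ⟨k, f, g, hfg⟩ := Concrete.colimit_exists_of_rep_eq N x y h
  exact ⟨k, leOfHom f, leOfHom g, hfg⟩

/-- Every element of the colimit comes from a stage. -/
theorem moduleColim_exists_rep (N : J ⥤ ModuleCat.{u} A) (x : (colimit N : ModuleCat.{u} A)) :
    ∃ (j : J) (y : N.obj j), colimit.ι N j y = x :=
  Concrete.colimit_exists_rep N x

omit [IsDirected J (· ≤ ·)] [Nonempty J] in
theorem moduleColim_ι_map (N : J ⥤ ModuleCat.{u} A) {i j : J} (h : i ≤ j) (x : N.obj i) :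
    colimit.ι N j (N.map (homOfLE h) x) = colimit.ι N i x := by
  rw [← ModuleCat.comp_apply, colimit.w]

/-- Injectivity of `colim Hom(M, N_j) → Hom(M, colim N_j)` for `M` finite. -/
theorem moduleColim_hom_injective (M : ModuleCat.{u} A) [Module.Finite A M]
    (N : J ⥤ ModuleCat.{u} A) {i j : J} (f : M ⟶ N.obj i) (g : M ⟶ N.obj j)
    (h : f ≫ colimit.ι N i = g ≫ colimit.ι N j) :
    ∃ (k : J) (hi : i ≤ k) (hj : j ≤ k), f ≫ N.map (homOfLE hi) = g ≫ N.map (homOfLE hj) := by
  classical
  obtain ⟨S, hS⟩ := (Module.Finite.fg_top : (⊤ : Submodule A M).FG)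
  have hpt : ∀ s : M, ∃ (k : J) (hi : i ≤ k) (hj : j ≤ k),
      N.map (homOfLE hi) (f s) = N.map (homOfLE hj) (g s) := by
    intro s
    apply moduleColim_exists_of_ι_eq
    have := congrArg (fun φ : M ⟶ colimit N => φ s) h
    simpa using this
  choose k hik hjk hk using hpt
  obtain ⟨k₀, hk₀⟩ := Finset.exists_le (insert i (insert j (S.image k)))
  have hik₀ : i ≤ k₀ := hk₀ i (Finset.mem_insert_self _ _)
  have hjk₀ : j ≤ k₀ := hk₀ j (Finset.mem_insert_of_mem (Finset.mem_insert_self _ _))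
  have hkk₀ : ∀ s ∈ S, k s ≤ k₀ := fun s hs =>
    hk₀ _ (Finset.mem_insert_of_mem (Finset.mem_insert_of_mem (Finset.mem_image_of_mem k hs)))
  refine ⟨k₀, hik₀, hjk₀, ?_⟩
  apply ModuleCat.hom_ext
  apply LinearMap.ext_on hS
  intro s hs
  have h1 : N.map (homOfLE hik₀) = N.map (homOfLE (hik s)) ≫ N.map (homOfLE (hkk₀ s hs)) := by
    rw [← N.map_comp]; rfl
  have h2 : N.map (homOfLE hjk₀) = N.map (homOfLE (hjk s)) ≫ N.map (homOfLE (hkk₀ s hs)) := by
    rw [← N.map_comp]; rfl
  simp only [ModuleCat.hom_comp, LinearMap.coe_comp, Function.comp_apply]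
  rw [h1, h2]
  simp only [ModuleCat.hom_comp, LinearMap.coe_comp, Function.comp_apply]
  exact congrArg _ (hk s)

/-- Surjectivity of `colim Hom(M, N_j) → Hom(M, colim N_j)` for `M` finitely presented. -/
theorem moduleColim_hom_surjective (M : ModuleCat.{u} A) [Module.FinitePresentation A M]
    (N : J ⥤ ModuleCat.{u} A) (h : M ⟶ colimit N) :
    ∃ (k : J) (f : M ⟶ N.obj k), f ≫ colimit.ι N k = h := by
  classical
  obtain ⟨n, m, f, g, hf, hfg⟩ := Module.FinitePresentation.exists_fin' A M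
  -- lift the images of the basis vectors
  have hrep : ∀ i : Fin n, ∃ (j : J) (y : N.obj j),
      colimit.ι N j y = h.hom (f (Pi.basisFun A (Fin n) i)) :=
    fun i => moduleColim_exists_rep N _
  choose j x hx using hrep
  obtain ⟨j₀, hj₀⟩ := Finset.exists_le (Finset.univ.image j)
  have hjj₀ : ∀ i, j i ≤ j₀ := fun i => hj₀ _ (Finset.mem_image_of_mem j (Finset.mem_univ i))
  let φ : (Fin n → A) →ₗ[A] N.obj j₀ :=
    (Pi.basisFun A (Fin n)).constr A (fun i => N.map (homOfLE (hjj₀ i)) (x i))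
  have hφ : ∀ v, colimit.ι N j₀ (φ v) = h.hom (f v) := by
    intro v
    have : (colimit.ι N j₀).hom ∘ₗ φ = h.hom ∘ₗ f := by
      apply (Pi.basisFun A (Fin n)).ext
      intro i
      simp only [LinearMap.coe_comp, Function.comp_apply, φ, Module.Basis.constr_basis]
      rw [← hx i]
      exact moduleColim_ι_map N (hjj₀ i) (x i)
    exact congrArg (fun ψ => ψ v) this
  -- the relations die at a later stage
  have hrel : ∀ l : Fin m, ∃ (k : J) (hk : j₀ ≤ k),
      N.map (homOfLE hk) (φ (g (Pi.basisFun A (Fin m) l))) = 0 := by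
    intro l
    have h0 : colimit.ι N j₀ (φ (g (Pi.basisFun A (Fin m) l))) = colimit.ι N j₀ 0 := by
      rw [hφ, hfg.apply_apply_eq_zero, map_zero, map_zero]
    obtain ⟨k, hi, hj, hk⟩ := moduleColim_exists_of_ι_eq N _ _ h0
    exact ⟨k, hi, by rw [hk, map_zero]⟩
  choose k hk hk0 using hrel
  obtain ⟨k₀, hk₀⟩ := Finset.exists_le (insert j₀ (Finset.univ.image k))
  have hj₀k₀ : j₀ ≤ k₀ := hk₀ j₀ (Finset.mem_insert_self _ _)
  have hkk₀ : ∀ l, k l ≤ k₀ := fun l =>
    hk₀ _ (Finset.mem_insert_of_mem (Finset.mem_image_of_mem k (Finset.mem_univ l)))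
  let φ' : (Fin n → A) →ₗ[A] N.obj k₀ := (N.map (homOfLE hj₀k₀)).hom ∘ₗ φ
  have hφ'g : φ' ∘ₗ g = 0 := by
    apply (Pi.basisFun A (Fin m)).ext
    intro l
    have h1 : N.map (homOfLE hj₀k₀) = N.map (homOfLE (hk l)) ≫ N.map (homOfLE (hkk₀ l)) := by
      rw [← N.map_comp]; rfl
    simp only [LinearMap.coe_comp, Function.comp_apply, φ', LinearMap.zero_apply]
    rw [h1]
    simp only [ModuleCat.hom_comp, LinearMap.coe_comp, Function.comp_apply]
    rw [hk0 l, map_zero]
  have hker : LinearMap.ker f ≤ LinearMap.ker φ' := by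
    intro v hv
    obtain ⟨w, rfl⟩ := (hfg v).mp hv
    exact congrArg (fun ψ => ψ w) hφ'g
  let ψ : M →ₗ[A] N.obj k₀ :=
    (LinearMap.ker f).liftQ φ' hker ∘ₗ (f.quotKerEquivOfSurjective hf).symm.toLinearMap
  have hψ : ∀ v, ψ (f v) = φ' v := by
    intro v
    have : (f.quotKerEquivOfSurjective hf).symm (f v) = (LinearMap.ker f).mkQ v := by
      rw [LinearEquiv.symm_apply_eq]
      rfl
    simp only [ψ, LinearMap.coe_comp, LinearEquiv.coe_coe, Function.comp_apply, this]
    rfl
  refine ⟨k₀, ModuleCat.ofHom ψ, ?_⟩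
  apply ModuleCat.hom_ext
  apply LinearMap.ext
  intro y
  obtain ⟨v, rfl⟩ := hf y
  simp only [ModuleCat.hom_comp, ModuleCat.hom_ofHom, LinearMap.coe_comp, Function.comp_apply]
  rw [hψ v, ← hφ v]
  exact moduleColim_ι_map N hj₀k₀ (φ v)

end Groth.Agent.Lib.Helper23
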