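/-
Helper library (helper23): modules that are free modulo a nilpotent ideal: free covers, and the
equational-criterion argument showing that the coefficients of the relations die in every base
change that makes the module flat.
-/
import Mathlib

set_option autoImplicit false
universe u
open TensorProduct

namespace Groth.Agent.Lib.Helper23

section Nakayama

variable {A : Type*} [CommRing A] {M : Type*} [AddCommGroup M] [Module A M]

/-- Nakayama's lemma for a nilpotent ideal. -/
theorem eq_top_of_sup_smul_eq_top_of_isNilpotent {J : Ideal A} (hJ : IsNilpotent J)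
    (N : Submodule A M) (h : N ⊔ J • (⊤ : Submodule A M) = ⊤) : N = ⊤ := by
  obtain ⟨n, hn⟩ := hJ
  have key : ∀ k : ℕ, N ⊔ (J ^ k) • (⊤ : Submodule A M) = ⊤ := by
    intro k
    induction k with
    | zero => simp
    | succ k ih =>
      rw [eq_top_iff]
      calc (⊤ : Submodule A M) = N ⊔ (J ^ k) • (⊤ : Submodule A M) := ih.symm
        _ = N ⊔ (J ^ k) • (N ⊔ J • (⊤ : Submodule A M)) := by rw [h]
        _ = N ⊔ ((J ^ k) • N ⊔ (J ^ k) • (J • (⊤ : Submodule A M))) := by
            rw [Submodule.smul_sup]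
        _ ≤ N ⊔ (J ^ (k + 1)) • (⊤ : Submodule A M) := by
            refine sup_le le_sup_left (sup_le ?_ ?_)
            · exact le_sup_of_le_left Submodule.smul_le_right
            · rw [← Submodule.mul_smul, ← pow_succ]
              exact le_sup_right
  have := key n
  rw [hn] at this
  simpa using this

end Nakayama

section Cover

variable {A : Type*} [CommRing A] {M : Type*} [AddCommGroup M] [Module A M] {J : Ideal A}
  {ι : Type*} (b : Module.Basis ι (A ⧸ J) ((A ⧸ J) ⊗[A] M))

/-- Lifts to `M` of the elements of a basis of `M / J M`. -/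
noncomputable def liftBasis (j : ι) : M :=
  (TensorProduct.mk_surjective A M (A ⧸ J) Ideal.Quotient.mk_surjective (b j)).choose

theorem mk_liftBasis (j : ι) : (1 : A ⧸ J) ⊗ₜ[A] liftBasis b j = b j :=
  (TensorProduct.mk_surjective A M (A ⧸ J) Ideal.Quotient.mk_surjective (b j)).choose_spec

/-- The free cover of `M` attached to a basis of `M / J M`. -/
noncomputable def cover : (ι →₀ A) →ₗ[A] M := Finsupp.linearCombination A (liftBasis b)

theorem cover_single (j : ι) (a : A) : cover b (Finsupp.single j a) = a • liftBasis b j := by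
  simp [cover]

/-- The coordinate functionals `M → A / J` attached to the basis. -/
noncomputable def coordJ (j : ι) : M →ₗ[A] (A ⧸ J) :=
  ((b.coord j).restrictScalars A).comp (TensorProduct.mk A (A ⧸ J) M 1)

theorem coordJ_liftBasis [DecidableEq ι] (j j' : ι) :
    coordJ b j (liftBasis b j') = if j' = j then 1 else 0 := by
  simp only [coordJ, LinearMap.coe_comp, LinearMap.coe_restrictScalars, Function.comp_apply,
    TensorProduct.mk_apply, mk_liftBasis, Module.Basis.coord_apply, Module.Basis.repr_self]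
  rw [Finsupp.single_apply]

theorem cover_surjective (hJ : IsNilpotent J) : Function.Surjective (cover b) := by
  classical
  rw [← LinearMap.range_eq_top]
  apply eq_top_of_sup_smul_eq_top_of_isNilpotent hJ
  rw [eq_top_iff]
  intro m _
  -- the coordinates of the class of `m`
  let c := b.repr ((1 : A ⧸ J) ⊗ₜ[A] m)
  choose a ha using fun j => Ideal.Quotient.mk_surjective (c j)
  let y : M := ∑ j ∈ c.support, a j • liftBasis b j
  have hy : y ∈ LinearMap.range (cover b) := by
    refine Submodule.sum_mem _ fun j _ => ?_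
    exact ⟨Finsupp.single j (a j), cover_single b j (a j)⟩
  have hx : (1 : A ⧸ J) ⊗ₜ[A] y = (1 : A ⧸ J) ⊗ₜ[A] m := by
    have h1 : (1 : A ⧸ J) ⊗ₜ[A] y = ∑ j ∈ c.support, c j • b j := by
      simp only [y, TensorProduct.tmul_sum, TensorProduct.tmul_smul]
      refine Finset.sum_congr rfl fun j _ => ?_
      rw [mk_liftBasis, ← ha j, ← Ideal.Quotient.algebraMap_eq, algebraMap_smul]
    rw [h1]
    have h2 := b.linearCombination_repr ((1 : A ⧸ J) ⊗ₜ[A] m)
    rw [Finsupp.linearCombination_apply, Finsupp.sum] at h2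
    exact h2
  have hker : m - y ∈ J • (⊤ : Submodule A M) := by
    have h0 : (1 : A ⧸ J) ⊗ₜ[A] (m - y) = 0 := by
      rw [TensorProduct.tmul_sub, hx, sub_self]
    have := congrArg (TensorProduct.quotTensorEquivQuotSMul M J) h0
    rw [TensorProduct.quotTensorEquivQuotSMul_mk_one_tmul, map_zero,
      Submodule.Quotient.mk_eq_zero] at this
    exact this
  have : m = y + (m - y) := by abel
  rw [this]
  exact Submodule.add_mem_sup hy hker

end Cover

section Flat

variable {A : Type*} [CommRing A] {M : Type*} [AddCommGroup M] [Module A M] {J : Ideal A}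
  {ι : Type*} (b : Module.Basis ι (A ⧸ J) ((A ⧸ J) ⊗[A] M))

/-- The kernel of `A' → A' ⊗ (A / J)` is contained in `J A'`. -/
theorem mem_map_of_tmul_one_eq_zero (A' : Type*) [CommRing A'] [Algebra A A'] (c : A')
    (hc : c ⊗ₜ[A] (1 : A ⧸ J) = 0) : c ∈ Ideal.map (algebraMap A A') J := by
  have h1 := congrArg (TensorProduct.tensorQuotEquivQuotSMul A' J) hc
  rw [← map_one (Ideal.Quotient.mk J), TensorProduct.tensorQuotEquivQuotSMul_tmul_mk, map_zero,
    Submodule.Quotient.mk_eq_zero, one_smul] at h1
  have hle : J • (⊤ : Submodule A A') ≤ (Ideal.map (algebraMap A A') J).restrictScalars A := by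
    rw [Submodule.smul_le]
    intro r hr n _
    change r • n ∈ Ideal.map (algebraMap A A') J
    rw [Algebra.smul_def]
    exact Ideal.mul_mem_right _ _ (Ideal.mem_map_of_mem _ hr)
  exact hle h1

/-- An ideal contained in its product with a nilpotent ideal is zero. -/
theorem eq_bot_of_le_mul_of_isNilpotent {R : Type*} [CommRing R] (c n : Ideal R)
    (hn : IsNilpotent n) (h : c ≤ c * n) : c = ⊥ := by
  obtain ⟨k, hk⟩ := hn
  have key : ∀ m : ℕ, c ≤ c * n ^ m := by
    intro m
    induction m with
    | zero => simp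
    | succ m ih =>
      calc c ≤ c * n := h
        _ ≤ (c * n ^ m) * n := Ideal.mul_mono_left ih
        _ = c * n ^ (m + 1) := by rw [mul_assoc, ← pow_succ]
  have := key k
  rw [hk] at this
  simpa using this

/-- **Key lemma**: if a base change `A' ⊗ M` is flat over `A'`, the coefficients of every relation
between the lifted basis elements die in `A'`. -/
theorem algebraMap_apply_eq_zero_of_flat (hJ : IsNilpotent J) (A' : Type*) [CommRing A']
    [Algebra A A'] [Module.Flat A' (A' ⊗[A] M)] (x : ι →₀ A) (hx : cover b x = 0) (j : ι) :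
    algebraMap A A' (x j) = 0 := by
  classical
  let S := {i // i ∈ x.support}
  let f : S → A' := fun i => algebraMap A A' (x i.1)
  let n : S → A' ⊗[A] M := fun i => (1 : A') ⊗ₜ[A] liftBasis b i.1
  -- the relation
  have hrel : ∑ i : S, f i • n i = 0 := by
    have h1 : (1 : A') ⊗ₜ[A] (cover b x) = 0 := by rw [hx, TensorProduct.tmul_zero]
    rw [cover, Finsupp.linearCombination_apply, Finsupp.sum, TensorProduct.tmul_sum] at h1
    rw [← Finset.sum_coe_sort] at h1
    rw [← h1]
    refine Finset.sum_congr rfl fun i _ => ?_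
    simp only [f, n]
    rw [TensorProduct.tmul_smul, algebraMap_smul]
  obtain ⟨k, a, y, h1, h2⟩ := Module.Flat.isTrivialRelation_of_sum_smul_eq_zero hrel
  -- coordinate functionals after base change
  let φ : ι → (A' ⊗[A] M →ₗ[A'] A' ⊗[A] (A ⧸ J)) := fun j' => (coordJ b j').baseChange A'
  have hsurj : ∀ z : A' ⊗[A] (A ⧸ J), ∃ d : A', d ⊗ₜ[A] (1 : A ⧸ J) = z := fun z =>
    TensorProduct.flip_mk_surjective A' (R := A) (T := A ⧸ J) Ideal.Quotient.mk_surjective z
  choose d hd using fun (l : Fin k) (j' : ι) => hsurj (φ j' (y l))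
  let 𝔫 : Ideal A' := Ideal.map (algebraMap A A') J
  have h𝔫 : IsNilpotent 𝔫 := by
    obtain ⟨m, hm⟩ := hJ
    refine ⟨m, ?_⟩
    rw [← Ideal.map_pow, hm, Ideal.zero_eq_bot, Ideal.map_bot, Ideal.zero_eq_bot]
  have hε : ∀ (i j' : S), (∑ l, a i l * d l j'.1) - (if i = j' then 1 else 0) ∈ 𝔫 := by
    intro i j'
    apply mem_map_of_tmul_one_eq_zero
    rw [TensorProduct.sub_tmul, sub_eq_zero]
    have e1 : φ j'.1 (n i) = (if i = j' then (1 : A') else 0) ⊗ₜ[A] (1 : A ⧸ J) := by
      simp only [φ, n, LinearMap.baseChange_tmul, coordJ_liftBasis]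
      by_cases hij : i = j'
      · subst hij; simp
      · have : i.1 ≠ j'.1 := fun h => hij (Subtype.ext h)
        simp [hij, this]
    have e2 : φ j'.1 (n i) = (∑ l, a i l * d l j'.1) ⊗ₜ[A] (1 : A ⧸ J) := by
      rw [h1 i, map_sum, TensorProduct.sum_tmul]
      refine Finset.sum_congr rfl fun l _ => ?_
      rw [map_smul, ← hd l j'.1, TensorProduct.smul_tmul', smul_eq_mul]
    rw [← e2, e1]
  let 𝔠 : Ideal A' := Ideal.span (Set.range f)
  have h𝔠 : 𝔠 ≤ 𝔠 * 𝔫 := by
    rw [Ideal.span_le]
    rintro _ ⟨j', rfl⟩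
    have h3 : f j' = - ∑ i, f i * ((∑ l, a i l * d l j'.1) - (if i = j' then 1 else 0)) := by
      have h4 : ∑ l, (∑ i, f i * a i l) * d l j'.1 = 0 := by
        refine Finset.sum_eq_zero fun l _ => ?_
        rw [h2 l, zero_mul]
      have h5 : ∑ i, f i * (∑ l, a i l * d l j'.1) = 0 := by
        rw [← h4]
        simp only [Finset.mul_sum, Finset.sum_mul]
        rw [Finset.sum_comm]
        refine Finset.sum_congr rfl fun l _ => Finset.sum_congr rfl fun i _ => ?_
        ring
      simp only [mul_sub, Finset.sum_sub_distrib, h5, zero_sub, neg_neg, mul_ite, mul_one, mul_zero]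
      rw [Finset.sum_ite_eq' Finset.univ j' f]
      simp
    rw [h3]
    refine neg_mem (Ideal.sum_mem _ fun i _ => ?_)
    exact Ideal.mul_mem_mul (Ideal.subset_span ⟨i, rfl⟩) (hε i j')
  have h𝔠0 : 𝔠 = ⊥ := eq_bot_of_le_mul_of_isNilpotent 𝔠 𝔫 h𝔫 h𝔠
  by_cases hj : j ∈ x.support
  · have : f ⟨j, hj⟩ ∈ 𝔠 := Ideal.subset_span ⟨⟨j, hj⟩, rfl⟩
    rw [h𝔠0] at this
    exact this
  · rw [Finsupp.notMem_support_iff.mp hj, map_zero]

end Flat

section Free

variable {A : Type*} [CommRing A] {M : Type*} [AddCommGroup M] [Module A M] {J : Ideal A}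
  {ι : Type*} (b : Module.Basis ι (A ⧸ J) ((A ⧸ J) ⊗[A] M))

theorem lTensor_bijective_of_forall_tmul_eq_zero {N : Type*} [AddCommGroup N] [Module A N]
    (g : N →ₗ[A] M) (hg : Function.Surjective g) (A' : Type*) [CommRing A'] [Algebra A A']
    (h0 : ∀ x : N, g x = 0 → ∀ a' : A', a' ⊗ₜ[A] x = 0) :
    Function.Bijective (g.lTensor A') := by
  constructor
  · have hex0 := LinearMap.exact_subtype_ker_map g
    have hex : Function.Exact ((LinearMap.ker g).subtype.lTensor A') (g.lTensor A') :=
      lTensor_exact A' hex0 hg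
    have hzero : (LinearMap.ker g).subtype.lTensor A' = 0 := by
      apply TensorProduct.ext'
      intro a' x
      rw [LinearMap.lTensor_tmul, LinearMap.zero_apply, Submodule.subtype_apply]
      exact h0 x.1 x.2 a'
    rw [injective_iff_map_eq_zero]
    intro z hz
    obtain ⟨w, rfl⟩ := (hex z).mp hz
    rw [hzero, LinearMap.zero_apply]
  · exact LinearMap.lTensor_surjective A' hg

/-- If the coefficients of all relations die in `A'`, the base change of the cover is bijective. -/
theorem lTensor_cover_bijective (hJ : IsNilpotent J) (A' : Type*) [CommRing A'] [Algebra A A']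
    (h : ∀ x : ι →₀ A, cover b x = 0 → ∀ j, algebraMap A A' (x j) = 0) :
    Function.Bijective ((cover b).lTensor A') := by
  apply lTensor_bijective_of_forall_tmul_eq_zero (cover b) (cover_surjective b hJ) A'
  intro x hx a'
  conv_lhs => rw [← Finsupp.sum_single x]
  rw [Finsupp.sum, TensorProduct.tmul_sum]
  refine Finset.sum_eq_zero fun j _ => ?_
  have h1 : Finsupp.single j (x j) = (x j) • Finsupp.single j (1 : A) := by simp
  rw [h1, TensorProduct.tmul_smul, TensorProduct.smul_tmul', Algebra.smul_def, h x hx j,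
    zero_mul, TensorProduct.zero_tmul]

theorem free_baseChange_of_forall (hJ : IsNilpotent J) (A' : Type*) [CommRing A'] [Algebra A A']
    (h : ∀ x : ι →₀ A, cover b x = 0 → ∀ j, algebraMap A A' (x j) = 0) :
    Module.Free A' (A' ⊗[A] M) := by
  have hb : Function.Bijective ((cover b).baseChange A') := lTensor_cover_bijective b hJ A' h
  exact Module.Free.of_equiv (LinearEquiv.ofBijective _ hb)

/-- The ideal generated by the coefficients of all relations between the lifted basis elements. -/
def relIdeal : Ideal A := Ideal.span {a | ∃ x : ι →₀ A, cover b x = 0 ∧ ∃ j, x j = a}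

theorem map_relIdeal_eq_bot_iff (A' : Type*) [CommRing A'] [Algebra A A'] :
    Ideal.map (algebraMap A A') (relIdeal b) = ⊥ ↔
      ∀ x : ι →₀ A, cover b x = 0 → ∀ j, algebraMap A A' (x j) = 0 := by
  rw [relIdeal, Ideal.map_span, Ideal.span_eq_bot]
  constructor
  · intro h x hx j
    exact h _ ⟨x j, ⟨x, hx, j, rfl⟩, rfl⟩
  · rintro h _ ⟨_, ⟨x, hx, j, rfl⟩, rfl⟩
    exact h x hx j

theorem free_iff_map_relIdeal (hJ : IsNilpotent J) (A' : Type*) [CommRing A'] [Algebra A A'] :
    Module.Free A' (A' ⊗[A] M) ↔ Ideal.map (algebraMap A A') (relIdeal b) = ⊥ := by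
  rw [map_relIdeal_eq_bot_iff]
  constructor
  · intro hfree x hx j
    exact algebraMap_apply_eq_zero_of_flat b hJ A' x hx j
  · exact free_baseChange_of_forall b hJ A'

theorem flat_iff_map_relIdeal (hJ : IsNilpotent J) (A' : Type*) [CommRing A'] [Algebra A A'] :
    Module.Flat A' (A' ⊗[A] M) ↔ Ideal.map (algebraMap A A') (relIdeal b) = ⊥ := by
  constructor
  · intro hflat
    rw [map_relIdeal_eq_bot_iff]
    intro x hx j
    exact algebraMap_apply_eq_zero_of_flat b hJ A' x hx j
  · intro h
    have := (free_iff_map_relIdeal b hJ A').mpr h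
    infer_instance

end Free

end Groth.Agent.Lib.Helper23
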