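/-
Helper library (helper23): the fibre of a fibre product over a pair of points `(x, y)` is a single
point when `κ(x)` is a primary extension of `κ(s)` and `κ(y)` is algebraic over `κ(s)`.
-/
import Mathlib
import Groth.Agent.S2150

set_option autoImplicit false
universe u
open CategoryTheory AlgebraicGeometry Limits TensorProduct

namespace Groth.Agent.Lib.Helper23.PrimaryFibre

/-- An irreducible prime spectrum all of whose points are closed is a single point. -/
theorem subsingleton_of_irreducible_of_forall_isMaximal {R : Type*} [CommRing R]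
    [IrreducibleSpace (PrimeSpectrum R)] (h : ∀ p : PrimeSpectrum R, p.asIdeal.IsMaximal) :
    Subsingleton (PrimeSpectrum R) := by
  have hη := genericPoint_spec (PrimeSpectrum R)
  have hcl : closure {genericPoint (PrimeSpectrum R)} = {genericPoint (PrimeSpectrum R)} :=
    ((PrimeSpectrum.isClosed_singleton_iff_isMaximal _).mpr (h _)).closure_eq
  have key : ∀ x : PrimeSpectrum R, x = genericPoint (PrimeSpectrum R) := fun x => by
    have hx : x ∈ closure {genericPoint (PrimeSpectrum R)} := by
      rw [hη.def]; trivial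
    rwa [hcl] at hx
  exact ⟨fun p q => by rw [key p, key q]⟩

theorem irreducibleSpace_of_homeomorph {X Y : Type*} [TopologicalSpace X] [TopologicalSpace Y]
    (h : X ≃ₜ Y) [IrreducibleSpace X] : IrreducibleSpace Y := by
  haveI : Nonempty Y := ⟨h (Classical.arbitrary X)⟩
  refine { isPreirreducible_univ := ?_, toNonempty := inferInstance }
  have := (IrreducibleSpace.isIrreducible_univ X).isPreirreducible.image h
    h.continuous.continuousOn
  rwa [Set.image_univ, h.surjective.range_eq] at this

/-- If `K/k` is primary and `L/k` is algebraic then `Spec (K ⊗[k] L)` is a single point. -/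
theorem subsingleton_primeSpectrum_tensor {k K L : Type u} [Field k] [Field K] [Field L]
    [Algebra k K] [Algebra k L] [Algebra.IsIntegral k L]
    (hK : ∀ α : K, IsSeparable k α → α ∈ Set.range (algebraMap k K)) :
    Subsingleton (PrimeSpectrum (K ⊗[k] L)) := by
  haveI : IrreducibleSpace (PrimeSpectrum (L ⊗[k] K)) := (Groth.Agent.S2150.result.mpr hK) L
  haveI : IrreducibleSpace (PrimeSpectrum (K ⊗[k] L)) :=
    irreducibleSpace_of_homeomorph
      (PrimeSpectrum.homeomorphOfRingEquiv (Algebra.TensorProduct.comm k L K).toRingEquiv)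
  apply subsingleton_of_irreducible_of_forall_isMaximal
  intro p
  haveI : Algebra.IsIntegral K (K ⊗[k] L) := inferInstance
  refine Ideal.isMaximal_of_isIntegral_of_isMaximal_comap (R := K) p.asIdeal ?_
  have hbot : p.asIdeal.comap (algebraMap K (K ⊗[k] L)) = ⊥ :=
    ((Ideal.eq_bot_or_top _).resolve_right (Ideal.IsPrime.ne_top inferInstance))
  rw [hbot]
  exact Ideal.bot_isMaximal

/-- Categorical form: the pushout of `k → K` (primary) and `k → L` (integral), fields, has a
one-point spectrum. -/
theorem subsingleton_primeSpectrum_pushout {k K L : CommRingCat.{u}} (hk : IsField k)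
    (hK : IsField K) (hL : IsField L) (φ : k ⟶ K) (ψ : k ⟶ L)
    (hφ : letI := φ.hom.toAlgebra
      ∀ α : K, IsSeparable k α → α ∈ φ.hom.range)
    (hψ : ψ.hom.IsIntegral) :
    Subsingleton (PrimeSpectrum (pushout φ ψ : CommRingCat.{u})) := by
  letI := hk.toField
  letI := hK.toField
  letI := hL.toField
  letI algK : Algebra k K := φ.hom.toAlgebra
  letI algL : Algebra k L := ψ.hom.toAlgebra
  haveI : Algebra.IsIntegral k L := ⟨hψ⟩
  have h1 : Subsingleton (PrimeSpectrum (K ⊗[k] L)) :=
    subsingleton_primeSpectrum_tensor (k := k) (K := K) (L := L) (fun α hα => hφ α hα)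
  let e : CommRingCat.of (K ⊗[k] L) ≅ pushout φ ψ :=
    (CommRingCat.isPushout_tensorProduct k K L).isoPushout
  exact (PrimeSpectrum.homeomorphOfRingEquiv e.commRingCatIsoToRingEquiv).symm.subsingleton

theorem subsingleton_primeSpectrum_triplet_tensor {X Y S : Scheme.{u}} {f : X ⟶ S} {g : Y ⟶ S}
    (T : Scheme.Pullback.Triplet f g)
    (hprim : letI := (f.residueFieldMap T.x).hom.toAlgebra
      ∀ a : ↑(X.residueField T.x), IsSeparable ↑(S.residueField (f T.x)) a →
        a ∈ (f.residueFieldMap T.x).hom.range)
    (halg : (g.residueFieldMap T.y).hom.IsIntegral) :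
    Subsingleton (PrimeSpectrum T.tensor) := by
  obtain ⟨x, y, s, hx, hy⟩ := T
  subst hx
  show Subsingleton (PrimeSpectrum (pushout _ _ : CommRingCat.{u}))
  refine subsingleton_primeSpectrum_pushout (Field.toIsField _) (Field.toIsField _)
    (Field.toIsField _) _ _ ?_ ?_
  · have hφeq : (S.residueFieldCongr (rfl : f x = f x)).inv ≫ f.residueFieldMap x =
        f.residueFieldMap x := by
      simp
    dsimp only
    rw [hφeq]
    exact hprim
  · dsimp only
    rw [CommRingCat.hom_comp]
    refine RingHom.IsIntegral.trans _ _ ?_ halg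
    exact RingHom.isIntegral_of_surjective _
      ((S.residueFieldCongr hy).symm.commRingCatIsoToRingEquiv.surjective)

/-- The fibre of `X ×[S] Y` over `(x, y)` is a single point if `κ(x)` is primary over `κ(f x)` and
`κ(y)` is algebraic over `κ(g y)`. -/
theorem pullback_point_unique {X Y S : Scheme.{u}} (f : X ⟶ S) (g : Y ⟶ S) (x : X) (y : Y)
    (hprim : letI := (f.residueFieldMap x).hom.toAlgebra
      ∀ a : ↑(X.residueField x), IsSeparable ↑(S.residueField (f x)) a →
        a ∈ (f.residueFieldMap x).hom.range)
    (halg : (g.residueFieldMap y).hom.IsIntegral)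
    (t₁ t₂ : ↑(pullback f g)) (h₁ : pullback.fst f g t₁ = x) (h₁' : pullback.snd f g t₁ = y)
    (h₂ : pullback.fst f g t₂ = x) (h₂' : pullback.snd f g t₂ = y) : t₁ = t₂ := by
  apply Scheme.Pullback.carrierEquiv.injective
  rw [Scheme.Pullback.carrierEquiv_eq_iff]
  have e : (Scheme.Pullback.carrierEquiv t₁).1 = (Scheme.Pullback.carrierEquiv t₂).1 := by
    apply Scheme.Pullback.Triplet.ext
    · show pullback.fst f g t₁ = pullback.fst f g t₂
      rw [h₁, h₂]
    · show pullback.snd f g t₁ = pullback.snd f g t₂
      rw [h₁', h₂']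
  refine ⟨e, ?_⟩
  suffices Subsingleton (PrimeSpectrum (Scheme.Pullback.carrierEquiv t₂).1.tensor) from
    Subsingleton.elim (α := PrimeSpectrum (Scheme.Pullback.carrierEquiv t₂).1.tensor) _ _
  subst h₂ h₂'
  exact subsingleton_primeSpectrum_triplet_tensor (Scheme.Pullback.Triplet.ofPoint t₂) hprim halg

end Groth.Agent.Lib.Helper23.PrimaryFibre
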