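/-
Helper library (helper23): descending flatness at a point of `X ×_A Spec S` to a finitely generated
`A`-subalgebra of `S` (EGA IV 11.2.6 applied to the system of finitely generated subalgebras).
-/
import Mathlib
import Groth.Agent.Lib.Helper23.FgSubalgOver
import Groth.Agent.Lib.Helper23.FlatStagePoint
import Groth.Agent.Lib.Helper49.FinitePresentation

set_option autoImplicit false
set_option linter.style.haveILetI false
universe u
open CategoryTheory AlgebraicGeometry Limits

namespace Groth.Agent.Lib.Helper23.PrimaryFlatStage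

open Groth.Agent.Lib.Helper23.FgSubalgOver

/-- Every object of `WithTerminal J` receives a morphism from an object of `J`. -/
theorem exists_of_hom {J : Type*} [Category J] [Nonempty J] (Y : WithTerminal J) :
    ∃ (j : J), Nonempty (WithTerminal.of j ⟶ Y) := by
  match Y with
  | WithTerminal.of j => exact ⟨j, ⟨𝟙 _⟩⟩
  | WithTerminal.star => exact ⟨Classical.arbitrary J, ⟨WithTerminal.homFrom _⟩⟩

/-- Flatness at a point of `X ×_A Spec S` descends to `X ×_A Spec T` for a finitely generated
`A`-subalgebra `T` of `S`. -/
theorem exists_fg_stage {A : Type u} [CommRing A] [IsNoetherianRing A]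
    {X : Scheme.{u}} (f : X ⟶ Spec (CommRingCat.of A)) [LocallyOfFiniteType f]
    (F : X.Modules) [F.IsQuasicoherent]
    (hF : SheafOfModules.IsFiniteType (R := X.ringCatSheaf) F)
    {S : Type u} [CommRing S] (v : A →+* S)
    (x' : ↥(pullback f (Spec.map (CommRingCat.ofHom v))))
    (hfl : FlatMod.IsFlatOverAt (pullback.snd f (Spec.map (CommRingCat.ofHom v)))
        ((Scheme.Modules.pullback (pullback.fst f (Spec.map (CommRingCat.ofHom v)))).obj F) x') :
    ∃ (T : Type u) (_ : CommRing T) (a : A →+* T) (jS : T →+* S), jS.comp a = v ∧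
      Function.Injective jS ∧ a.FiniteType ∧
      ∃ xT : ↥(pullback f (Spec.map (CommRingCat.ofHom a))),
        pullback.fst f (Spec.map (CommRingCat.ofHom a)) xT =
          pullback.fst f (Spec.map (CommRingCat.ofHom v)) x' ∧
        pullback.snd f (Spec.map (CommRingCat.ofHom a)) xT =
          Spec.map (CommRingCat.ofHom jS) (pullback.snd f (Spec.map (CommRingCat.ofHom v)) x') ∧
        FlatMod.IsFlatOverAt (pullback.snd f (Spec.map (CommRingCat.ofHom a)))
          ((Scheme.Modules.pullback (pullback.fst f (Spec.map (CommRingCat.ofHom a)))).obj F)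
          xT := by
  letI algAS : Algebra A S := v.toAlgebra
  haveI : IsLocallyNoetherian X := LocallyOfFiniteType.isLocallyNoetherian f
  have hFfp := Groth.Agent.Lib.Helper49.isFinitePresentation_of_isFiniteType_of_noetherian F hF
  haveI hlfp : LocallyOfFinitePresentation f := inferInstance
  let f₀ : X ⟶ (specD' A S).obj WithTerminal.star := f
  haveI : LocallyOfFinitePresentation f₀ := hlfp
  obtain ⟨k, hk⟩ := Groth.Agent.Lib.Helper23.FlatStage.exists_stage_isFlatOverAt
    (specD' A S) (specC' A S) WithTerminal.star (isLimitSpecC' A S) (X₀ := X) f₀ F hFfp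
    (pullback.snd f (Spec.map (CommRingCat.ofHom v)))
    (pullback.fst f (Spec.map (CommRingCat.ofHom v)))
    (IsPullback.of_hasPullback f (Spec.map (CommRingCat.ofHom v))) x' hfl
  obtain ⟨j, ⟨g⟩⟩ := exists_of_hom k.left
  let k' : Over (WithTerminal.star : WithTerminal (Finset S)ᵒᵖ) :=
    Over.mk (WithTerminal.homFrom j)
  let φ : k' ⟶ k := Over.homMk g (Subsingleton.elim _ _)
  let T := Algebra.adjoin A ((j.unop : Finset S) : Set S)
  refine ⟨T, inferInstance, algebraMap A T, T.val.toRingHom, ?_, Subtype.val_injective, ?_, ?_⟩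
  · ext r
    rfl
  · exact (RingHom.finiteType_algebraMap).mpr
      ⟨(Subalgebra.fg_top _).mpr (Subalgebra.fg_adjoin_finset _)⟩
  · have hcond : pullback.fst f (Spec.map (CommRingCat.ofHom v)) ≫ f =
        (pullback.snd f (Spec.map (CommRingCat.ofHom v)) ≫
          Spec.map (CommRingCat.ofHom T.val.toRingHom)) ≫
          Spec.map (CommRingCat.ofHom (algebraMap A T)) := by
      rw [Category.assoc, ← Spec.map_comp, pullback.condition]
      rfl
    let vX : pullback f (Spec.map (CommRingCat.ofHom v)) ⟶
        pullback f (Spec.map (CommRingCat.ofHom (algebraMap A T))) :=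
      pullback.lift (pullback.fst _ _) (pullback.snd _ _ ≫
        Spec.map (CommRingCat.ofHom T.val.toRingHom)) hcond
    have hres := hk k' φ (Xk := pullback f (Spec.map (CommRingCat.ofHom (algebraMap A T))))
      (pullback.snd f (Spec.map (CommRingCat.ofHom (algebraMap A T))))
      (pullback.fst f (Spec.map (CommRingCat.ofHom (algebraMap A T)))) vX
      (IsPullback.of_hasPullback f (Spec.map (CommRingCat.ofHom (algebraMap A T))))
      (pullback.lift_fst _ _ _) (pullback.lift_snd _ _ _)
    refine ⟨vX x', ?_, ?_, hres⟩
    · rw [← Scheme.Hom.comp_apply, pullback.lift_fst]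
    · rw [← Scheme.Hom.comp_apply, pullback.lift_snd, Scheme.Hom.comp_apply]

end Groth.Agent.Lib.Helper23.PrimaryFlatStage
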