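/-
Helper library (helper23): EGA IV 11.4, "one flat point suffices when `κ(x)` is primary".
Over an Artinian local base `A`, if the pullback of `F` to `X ×_A Spec S` (`S` local) is flat at
one point over `x` and the closed point, then `S` can be replaced by a local ring `S'` with the same
kernel `A → S'` for which flatness holds at *every* point over `x` and the closed point.
-/
import Mathlib
import Groth.Agent.Lib.Helper23.PrimaryFlatStage
import Groth.Agent.Lib.Helper23.PrimaryFibre
import Groth.Agent.Lib.Helper23.ResidueIntegral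
import Groth.Agent.Lib.Helper23.FibreClosedPoint
import Groth.Agent.Lib.Helper16.FlatPull.BaseChange
import Groth.Agent.Lib.Helper49.PrinPartFP

set_option autoImplicit false
set_option linter.style.haveILetI false
universe u
open CategoryTheory AlgebraicGeometry Limits

namespace Groth.Agent.Lib.Helper23.PrimaryFlatPoint

open Groth.Agent.Lib.Helper23.FibreFlatCons

/-- Kernel computation: `T ⊆ S` local, `𝔫 = T ∩ 𝔪_S ⊆ 𝔫'`; then `A → T → T_𝔫'` and `A → T → S` have
the same kernel. -/
theorem ker_comp_localization_eq {A T S : Type*} [CommRing A] [CommRing T] [CommRing S]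
    [IsLocalRing S] (a : A →+* T) (jS : T →+* S) (hj : Function.Injective jS)
    (𝔫' : Ideal T) [𝔫'.IsPrime]
    (hle : (IsLocalRing.maximalIdeal S).comap jS ≤ 𝔫') :
    RingHom.ker ((algebraMap T (Localization.AtPrime 𝔫')).comp a) = RingHom.ker (jS.comp a) := by
  ext r
  simp only [RingHom.mem_ker, RingHom.comp_apply]
  constructor
  · intro h
    rw [IsLocalization.map_eq_zero_iff 𝔫'.primeCompl] at h
    obtain ⟨u, hu⟩ := h
    have hunit : IsUnit (jS u) := by
      by_contra hnu
      exact u.2 (hle ((IsLocalRing.mem_maximalIdeal _).mpr hnu))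
    have : jS (u : T) * jS (a r) = 0 := by rw [← map_mul, hu, map_zero]
    exact (hunit.mul_right_eq_zero).mp this
  · intro h
    rw [hj (h.trans (map_zero jS).symm), map_zero]

/-- **Key lemma.** -/
theorem exists_local_of_flat_point {A : Type u} [CommRing A] [IsArtinianRing A] [IsLocalRing A]
    {X : Scheme.{u}} (f : X ⟶ Spec (CommRingCat.of A)) [LocallyOfFiniteType f]
    (F : X.Modules) [F.IsQuasicoherent]
    (hF : SheafOfModules.IsFiniteType (R := X.ringCatSheaf) F) (x : X)
    (hprim : letI := (f.residueFieldMap x).hom.toAlgebra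
      ∀ a : ↑(X.residueField x), IsSeparable ↑((Spec (CommRingCat.of A)).residueField (f x)) a →
        a ∈ (f.residueFieldMap x).hom.range)
    {S : Type u} [CommRing S] [IsLocalRing S] (v : A →+* S)
    (x' : ↥(pullback f (Spec.map (CommRingCat.ofHom v))))
    (h1 : pullback.fst f (Spec.map (CommRingCat.ofHom v)) x' = x)
    (h2 : pullback.snd f (Spec.map (CommRingCat.ofHom v)) x' = IsLocalRing.closedPoint S)
    (hfl : FlatMod.IsFlatOverAt (pullback.snd f (Spec.map (CommRingCat.ofHom v)))
        ((Scheme.Modules.pullback (pullback.fst f (Spec.map (CommRingCat.ofHom v)))).obj F) x') :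
    ∃ (S' : Type u) (_ : CommRing S') (_ : IsLocalRing S') (w : A →+* S'),
      RingHom.ker w = RingHom.ker v ∧
      ∀ x'' : ↥(pullback f (Spec.map (CommRingCat.ofHom w))),
        pullback.fst f (Spec.map (CommRingCat.ofHom w)) x'' = x →
        pullback.snd f (Spec.map (CommRingCat.ofHom w)) x'' = IsLocalRing.closedPoint S' →
        FlatMod.IsFlatOverAt (pullback.snd f (Spec.map (CommRingCat.ofHom w)))
          ((Scheme.Modules.pullback (pullback.fst f (Spec.map (CommRingCat.ofHom w)))).obj F)
          x'' := by
  -- Step 1: descend to a finitely generated subalgebra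
  obtain ⟨T, _, a, jS, hja, hjinj, hafin, xT, hxT1, hxT2, hxTfl⟩ :=
    Groth.Agent.Lib.Helper23.PrimaryFlatStage.exists_fg_stage f F hF v x' hfl
  rw [h1] at hxT1
  rw [h2] at hxT2
  letI algAT : Algebra A T := a.toAlgebra
  haveI : Algebra.FiniteType A T := hafin
  haveI : IsJacobsonRing T := isJacobsonRing_of_finiteType (A := A) (B := T)
  haveI : IsLocallyNoetherian X := LocallyOfFiniteType.isLocallyNoetherian f
  have hFfp := Groth.Agent.Lib.Helper49.isFinitePresentation_of_isFiniteType_of_noetherian F hF
  -- Step 2: the flat locus and a point over a closed point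
  haveI : LocallyOfFinitePresentation f := inferInstance
  haveI : LocallyOfFinitePresentation (pullback.snd f (Spec.map (CommRingCat.ofHom a))) :=
    MorphismProperty.pullback_snd _ _ inferInstance
  haveI hqc : ((Scheme.Modules.pullback
      (pullback.fst f (Spec.map (CommRingCat.ofHom a)))).obj F).IsQuasicoherent :=
    Groth.Agent.Lib.Helper16.FlatPull.isQuasicoherent_pullback _ F
  have hfpT := Groth.Agent.Lib.Helper49.PrinPartFP.isFinitePresentation_pullback
    (pullback.fst f (Spec.map (CommRingCat.ofHom a))) F hFfp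
  have hopen := Groth.Agent.H76.FlatLocusSheaf.isOpen_isFlatOverAt
    (pullback.snd f (Spec.map (CommRingCat.ofHom a))) _ hfpT
  let W : (pullback f (Spec.map (CommRingCat.ofHom a))).Opens := ⟨_, hopen⟩
  have huo : UniversallyOpen (X.fromSpecResidueField
      (pullback.fst f (Spec.map (CommRingCat.ofHom a)) xT) ≫ f) :=
    Groth.Agent.Lib.Helper23.FibreClosedPoint.universallyOpen_fromSpecResidueField_comp f _
  obtain ⟨z, hzW, hz1, hzcl, hzsp⟩ :=
    Groth.Agent.Lib.Helper23.FibreClosedPoint.exists_mem_fibre_over_closedPoint f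
      (Spec.map (CommRingCat.ofHom a)) W xT (show xT ∈ W from hxTfl) huo
  rw [hxT1] at hz1
  rw [hxT2] at hzsp
  have hzfl : FlatMod.IsFlatOverAt (pullback.snd f (Spec.map (CommRingCat.ofHom a)))
      ((Scheme.Modules.pullback (pullback.fst f (Spec.map (CommRingCat.ofHom a)))).obj F) z := hzW
  -- Step 3: the local ring `S' = T_𝔫'`
  set y := pullback.snd f (Spec.map (CommRingCat.ofHom a)) z with hy
  let 𝔫' : Ideal T := y.asIdeal
  haveI h𝔫'max : 𝔫'.IsMaximal := (PrimeSpectrum.isClosed_singleton_iff_isMaximal y).mp hzcl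
  have hle : (IsLocalRing.maximalIdeal S).comap jS ≤ 𝔫' :=
    (PrimeSpectrum.le_iff_specializes
      (Spec.map (CommRingCat.ofHom jS) (IsLocalRing.closedPoint S)) y).mpr hzsp
  refine ⟨Localization.AtPrime 𝔫', inferInstance, inferInstance,
    (algebraMap T (Localization.AtPrime 𝔫')).comp a, ?_, ?_⟩
  · rw [← hja]
    exact ker_comp_localization_eq a jS hjinj 𝔫' hle
  · -- Step 4
    set S' := Localization.AtPrime 𝔫' with hS'
    let b : CommRingCat.of T ⟶ CommRingCat.of S' := CommRingCat.ofHom (algebraMap T S')
    set w : A →+* S' := (algebraMap T S').comp a with hw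
    have hwb : Spec.map (CommRingCat.ofHom w) = Spec.map b ≫ Spec.map (CommRingCat.ofHom a) := by
      rw [← Spec.map_comp]
      rfl
    have hcond : pullback.fst f (Spec.map (CommRingCat.ofHom w)) ≫ f =
        (pullback.snd f (Spec.map (CommRingCat.ofHom w)) ≫ Spec.map b) ≫
          Spec.map (CommRingCat.ofHom a) := by
      rw [Category.assoc, ← hwb, pullback.condition]
    let r : pullback f (Spec.map (CommRingCat.ofHom w)) ⟶
        pullback f (Spec.map (CommRingCat.ofHom a)) :=
      pullback.lift (pullback.fst _ _) (pullback.snd _ _ ≫ Spec.map b) hcond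
    have hr1 : r ≫ pullback.fst f (Spec.map (CommRingCat.ofHom a)) =
        pullback.fst f (Spec.map (CommRingCat.ofHom w)) := pullback.lift_fst _ _ _
    have hr2 : r ≫ pullback.snd f (Spec.map (CommRingCat.ofHom a)) =
        pullback.snd f (Spec.map (CommRingCat.ofHom w)) ≫ Spec.map b := pullback.lift_snd _ _ _
    have hbig : IsPullback (r ≫ pullback.fst f (Spec.map (CommRingCat.ofHom a)))
        (pullback.snd f (Spec.map (CommRingCat.ofHom w))) f
        (Spec.map b ≫ Spec.map (CommRingCat.ofHom a)) := by
      rw [hr1, ← hwb]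
      exact IsPullback.of_hasPullback f (Spec.map (CommRingCat.ofHom w))
    have hc : IsPullback r (pullback.snd f (Spec.map (CommRingCat.ofHom w)))
        (pullback.snd f (Spec.map (CommRingCat.ofHom a))) (Spec.map b) :=
      IsPullback.of_right hbig hr2 (IsPullback.of_hasPullback f (Spec.map (CommRingCat.ofHom a)))
    -- the closed point of `S'` lies over `y`
    have hyb : (Spec.map b) (IsLocalRing.closedPoint S') = y := by
      apply PrimeSpectrum.ext
      exact IsLocalization.AtPrime.under_maximalIdeal S' 𝔫'
    obtain ⟨z', hz'1, hz'2⟩ := Scheme.exists_preimage_of_isPullback hc z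
      (IsLocalRing.closedPoint S') hyb.symm
    have hfl1 := Groth.Agent.Lib.Helper16.FlatPull.isFlatOverAt_baseChange
      (pullback.snd f (Spec.map (CommRingCat.ofHom a)))
      (pullback.snd f (Spec.map (CommRingCat.ofHom w))) r (Spec.map b) hc
      ((Scheme.Modules.pullback (pullback.fst f (Spec.map (CommRingCat.ofHom a)))).obj F) z'
      (by rw [hz'1]; exact hzfl)
    have hfl2 := isFlatOverAt_of_iso (pullback.snd f (Spec.map (CommRingCat.ofHom w)))
      ((Scheme.Modules.pullbackComp r
        (pullback.fst f (Spec.map (CommRingCat.ofHom a)))).app F) z' hfl1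
    rw [hr1] at hfl2
    have hz'x : pullback.fst f (Spec.map (CommRingCat.ofHom w)) z' = x := by
      rw [← hr1, Scheme.Hom.comp_apply, hz'1, hz1]
    have halg : ((Spec.map (CommRingCat.ofHom w)).residueFieldMap
        (IsLocalRing.closedPoint S')).hom.IsIntegral :=
      Groth.Agent.Lib.Helper23.ResidueIntegral.residueFieldMap_isIntegral (CommRingCat.ofHom w)
        (IsLocalRing.closedPoint S')
        (Groth.Agent.Lib.Helper23.ResidueIntegral.isIntegral_comp_residueField (A := A) 𝔫')
    intro x'' hx''1 hx''2
    have := Groth.Agent.Lib.Helper23.PrimaryFibre.pullback_point_unique f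
      (Spec.map (CommRingCat.ofHom w)) x (IsLocalRing.closedPoint S') hprim halg x'' z'
      hx''1 hx''2 hz'x hz'2
    rw [this]
    exact hfl2

end Groth.Agent.Lib.Helper23.PrimaryFlatPoint
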