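/-
Helper library (helper23): variant of `PrimaryFlatPoint.exists_local_of_flat_point` where the
primary-extension hypothesis is replaced by the abstract uniqueness of points it is used for, and
the new local ring is also known to be Noetherian.
-/
import Mathlib
import Groth.Agent.Lib.Helper23.PrimaryFlatPoint

set_option autoImplicit false
set_option linter.style.haveILetI false
universe u
open CategoryTheory AlgebraicGeometry Limits

namespace Groth.Agent.Lib.Helper23.PrimaryFlatPoint

open Groth.Agent.Lib.Helper23.FibreFlatCons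

/-- **Key lemma**, abstract uniqueness form. -/
theorem exists_local_of_flat_point' {A : Type u} [CommRing A] [IsArtinianRing A] [IsLocalRing A]
    {X : Scheme.{u}} (f : X ⟶ Spec (CommRingCat.of A)) [LocallyOfFiniteType f]
    (F : X.Modules) [F.IsQuasicoherent]
    (hF : SheafOfModules.IsFiniteType (R := X.ringCatSheaf) F) (x : X)
    (huniq : ∀ (S' : Type u) [CommRing S'] [IsLocalRing S'] (w : A →+* S'),
      ((algebraMap S' (IsLocalRing.maximalIdeal S').ResidueField).comp w).IsIntegral →
      ∀ t₁ t₂ : ↥(pullback f (Spec.map (CommRingCat.ofHom w))),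
        pullback.fst f (Spec.map (CommRingCat.ofHom w)) t₁ = x →
        pullback.snd f (Spec.map (CommRingCat.ofHom w)) t₁ = IsLocalRing.closedPoint S' →
        pullback.fst f (Spec.map (CommRingCat.ofHom w)) t₂ = x →
        pullback.snd f (Spec.map (CommRingCat.ofHom w)) t₂ = IsLocalRing.closedPoint S' → t₁ = t₂)
    {S : Type u} [CommRing S] [IsLocalRing S] (v : A →+* S)
    (x' : ↥(pullback f (Spec.map (CommRingCat.ofHom v))))
    (h1 : pullback.fst f (Spec.map (CommRingCat.ofHom v)) x' = x)
    (h2 : pullback.snd f (Spec.map (CommRingCat.ofHom v)) x' = IsLocalRing.closedPoint S)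
    (hfl : FlatMod.IsFlatOverAt (pullback.snd f (Spec.map (CommRingCat.ofHom v)))
        ((Scheme.Modules.pullback (pullback.fst f (Spec.map (CommRingCat.ofHom v)))).obj F) x') :
    ∃ (S' : Type u) (_ : CommRing S') (_ : IsLocalRing S') (_ : IsNoetherianRing S')
      (w : A →+* S'), RingHom.ker w = RingHom.ker v ∧
      ∀ x'' : ↥(pullback f (Spec.map (CommRingCat.ofHom w))),
        pullback.fst f (Spec.map (CommRingCat.ofHom w)) x'' = x →
        pullback.snd f (Spec.map (CommRingCat.ofHom w)) x'' = IsLocalRing.closedPoint S' →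
        FlatMod.IsFlatOverAt (pullback.snd f (Spec.map (CommRingCat.ofHom w)))
          ((Scheme.Modules.pullback (pullback.fst f (Spec.map (CommRingCat.ofHom w)))).obj F)
          x'' := by
  -- Step 1: descend to a finitely generated subalgebra
  obtain ⟨T, _, a, jS, hja, hjinj, hafin, xT, hxT1, hxT2, hxTfl⟩ :=
    Groth.Agent.Lib.Helper23.PrimaryFlatStage.exists_fg_stage f F hF v x' hfl
  rw [h1] at hxT1
  rw [h2] at hxT2
  letI algAT : Algebra A T := a.toAlgebra
  haveI : Algebra.FiniteType A T := hafin
  haveI : IsJacobsonRing T := isJacobsonRing_of_finiteType (A := A) (B := T)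
  haveI : IsLocallyNoetherian X := LocallyOfFiniteType.isLocallyNoetherian f
  have hFfp := Groth.Agent.Lib.Helper49.isFinitePresentation_of_isFiniteType_of_noetherian F hF
  -- Step 2: the flat locus and a point over a closed point
  haveI : LocallyOfFinitePresentation f := inferInstance
  haveI : LocallyOfFinitePresentation (pullback.snd f (Spec.map (CommRingCat.ofHom a))) :=
    MorphismProperty.pullback_snd _ _ inferInstance
  haveI hqc : ((Scheme.Modules.pullback
      (pullback.fst f (Spec.map (CommRingCat.ofHom a)))).obj F).IsQuasicoherent :=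
    Groth.Agent.Lib.Helper16.FlatPull.isQuasicoherent_pullback _ F
  have hfpT := Groth.Agent.Lib.Helper49.PrinPartFP.isFinitePresentation_pullback
    (pullback.fst f (Spec.map (CommRingCat.ofHom a))) F hFfp
  have hopen := Groth.Agent.H76.FlatLocusSheaf.isOpen_isFlatOverAt
    (pullback.snd f (Spec.map (CommRingCat.ofHom a))) _ hfpT
  let W : (pullback f (Spec.map (CommRingCat.ofHom a))).Opens := ⟨_, hopen⟩
  have huo : UniversallyOpen (X.fromSpecResidueField
      (pullback.fst f (Spec.map (CommRingCat.ofHom a)) xT) ≫ f) :=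
    Groth.Agent.Lib.Helper23.FibreClosedPoint.universallyOpen_fromSpecResidueField_comp f _
  obtain ⟨z, hzW, hz1, hzcl, hzsp⟩ :=
    Groth.Agent.Lib.Helper23.FibreClosedPoint.exists_mem_fibre_over_closedPoint f
      (Spec.map (CommRingCat.ofHom a)) W xT (show xT ∈ W from hxTfl) huo
  rw [hxT1] at hz1
  rw [hxT2] at hzsp
  have hzfl : FlatMod.IsFlatOverAt (pullback.snd f (Spec.map (CommRingCat.ofHom a)))
      ((Scheme.Modules.pullback (pullback.fst f (Spec.map (CommRingCat.ofHom a)))).obj F) z := hzW
  -- Step 3: the local ring `S' = T_𝔫'`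
  set y := pullback.snd f (Spec.map (CommRingCat.ofHom a)) z with hy
  let 𝔫' : Ideal T := y.asIdeal
  haveI h𝔫'max : 𝔫'.IsMaximal := (PrimeSpectrum.isClosed_singleton_iff_isMaximal y).mp hzcl
  have hle : (IsLocalRing.maximalIdeal S).comap jS ≤ 𝔫' :=
    (PrimeSpectrum.le_iff_specializes
      (Spec.map (CommRingCat.ofHom jS) (IsLocalRing.closedPoint S)) y).mpr hzsp
  haveI : IsNoetherianRing T := Algebra.FiniteType.isNoetherianRing A T
  refine ⟨Localization.AtPrime 𝔫', inferInstance, inferInstance, inferInstance,
    (algebraMap T (Localization.AtPrime 𝔫')).comp a, ?_, ?_⟩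
  · rw [← hja]
    exact ker_comp_localization_eq a jS hjinj 𝔫' hle
  · -- Step 4
    set S' := Localization.AtPrime 𝔫' with hS'
    let b : CommRingCat.of T ⟶ CommRingCat.of S' := CommRingCat.ofHom (algebraMap T S')
    set w : A →+* S' := (algebraMap T S').comp a with hw
    have hwb : Spec.map (CommRingCat.ofHom w) = Spec.map b ≫ Spec.map (CommRingCat.ofHom a) := by
      rw [← Spec.map_comp]
      rfl
    have hcond : pullback.fst f (Spec.map (CommRingCat.ofHom w)) ≫ f =
        (pullback.snd f (Spec.map (CommRingCat.ofHom w)) ≫ Spec.map b) ≫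
          Spec.map (CommRingCat.ofHom a) := by
      rw [Category.assoc, ← hwb, pullback.condition]
    let r : pullback f (Spec.map (CommRingCat.ofHom w)) ⟶
        pullback f (Spec.map (CommRingCat.ofHom a)) :=
      pullback.lift (pullback.fst _ _) (pullback.snd _ _ ≫ Spec.map b) hcond
    have hr1 : r ≫ pullback.fst f (Spec.map (CommRingCat.ofHom a)) =
        pullback.fst f (Spec.map (CommRingCat.ofHom w)) := pullback.lift_fst _ _ _
    have hr2 : r ≫ pullback.snd f (Spec.map (CommRingCat.ofHom a)) =
        pullback.snd f (Spec.map (CommRingCat.ofHom w)) ≫ Spec.map b := pullback.lift_snd _ _ _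
    have hbig : IsPullback (r ≫ pullback.fst f (Spec.map (CommRingCat.ofHom a)))
        (pullback.snd f (Spec.map (CommRingCat.ofHom w))) f
        (Spec.map b ≫ Spec.map (CommRingCat.ofHom a)) := by
      rw [hr1, ← hwb]
      exact IsPullback.of_hasPullback f (Spec.map (CommRingCat.ofHom w))
    have hc : IsPullback r (pullback.snd f (Spec.map (CommRingCat.ofHom w)))
        (pullback.snd f (Spec.map (CommRingCat.ofHom a))) (Spec.map b) :=
      IsPullback.of_right hbig hr2 (IsPullback.of_hasPullback f (Spec.map (CommRingCat.ofHom a)))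
    -- the closed point of `S'` lies over `y`
    have hyb : (Spec.map b) (IsLocalRing.closedPoint S') = y := by
      apply PrimeSpectrum.ext
      exact IsLocalization.AtPrime.under_maximalIdeal S' 𝔫'
    obtain ⟨z', hz'1, hz'2⟩ := Scheme.exists_preimage_of_isPullback hc z
      (IsLocalRing.closedPoint S') hyb.symm
    have hfl1 := Groth.Agent.Lib.Helper16.FlatPull.isFlatOverAt_baseChange
      (pullback.snd f (Spec.map (CommRingCat.ofHom a)))
      (pullback.snd f (Spec.map (CommRingCat.ofHom w))) r (Spec.map b) hc
      ((Scheme.Modules.pullback (pullback.fst f (Spec.map (CommRingCat.ofHom a)))).obj F) z'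
      (by rw [hz'1]; exact hzfl)
    have hfl2 := isFlatOverAt_of_iso (pullback.snd f (Spec.map (CommRingCat.ofHom w)))
      ((Scheme.Modules.pullbackComp r
        (pullback.fst f (Spec.map (CommRingCat.ofHom a)))).app F) z' hfl1
    rw [hr1] at hfl2
    have hz'x : pullback.fst f (Spec.map (CommRingCat.ofHom w)) z' = x := by
      rw [← hr1, Scheme.Hom.comp_apply, hz'1, hz1]
    intro x'' hx''1 hx''2
    have := huniq S' w
      (Groth.Agent.Lib.Helper23.ResidueIntegral.isIntegral_comp_residueField (A := A) 𝔫')
      x'' z' hx''1 hx''2 hz'x hz'2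
    rw [this]
    exact hfl2

end Groth.Agent.Lib.Helper23.PrimaryFlatPoint
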