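/-
Helper library (helper23): the per-index step of EGA IV 11.4 "one flat point + primary", adic case.
Given `f : X ⟶ Y` (Y locally Noetherian), a local homomorphism `φ : 𝒪_{Y,f x} → A` and one flat
point over `(x, closed point of A)`, produce a Noetherian local `S'` and a local homomorphism
`ψ : 𝒪_{Y,f x} → S'` with `𝔪^{n+1} ⊆ ker ψ ⊆ φ⁻¹(𝔪_A^{n+1})` for which flatness holds at all points
over `(x, closed point of S')`.
-/
import Mathlib
import Groth.Agent.Lib.Helper23.PrimaryFlatPoint2
import Groth.Agent.Lib.Helper23.ResidueIntegral2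
import Groth.Agent.Lib.Helper80.PullbackFiniteType
import Groth.Agent.H76.LocalFamilyFlatNoeth

set_option autoImplicit false
set_option linter.style.haveILetI false
universe u
open CategoryTheory AlgebraicGeometry Limits

namespace Groth.Agent.Lib.Helper23.PrimaryFlatAdic

open Groth.Agent.Lib.Helper23.FibreFlatCons

/-- A ring homomorphism from a zero-dimensional local ring to a nontrivial ring is local. -/
theorem isLocalHom_of_krullDimLE_zero {R S : Type*} [CommRing R] [IsLocalRing R]
    [Ring.KrullDimLE 0 R] [CommRing S] [Nontrivial S] (w : R →+* S) : IsLocalHom w := by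
  refine ⟨fun a ha => ?_⟩
  by_contra hna
  have hmem : a ∈ IsLocalRing.maximalIdeal R := (IsLocalRing.mem_maximalIdeal a).mpr hna
  rw [← Ring.KrullDimLE.isNilpotent_iff_mem_maximalIdeal] at hmem
  have hnil : IsNilpotent (w a) := hmem.map w
  exact ha.not_isNilpotent hnil

theorem isIntegral_residueFieldMap_congr {X Y : Scheme.{u}} {g g' : X ⟶ Y} (h : g = g') (p : X)
    (hg : (g.residueFieldMap p).hom.IsIntegral) : (g'.residueFieldMap p).hom.IsIntegral := by
  subst h
  exact hg

/-- Integrality of the residue field map of `Spec S'' ⟶ Spec (O/𝔞) ⟶ Spec O ⟶ Y` at the closed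
point, when `O/𝔞 → S'' → κ(S'')` is integral. -/
theorem isIntegral_residueFieldMap_of_quotient {Y : Scheme.{u}} (y : Y)
    (𝔞 : Ideal (Y.presheaf.stalk y : Type u))
    [IsLocalRing ((Y.presheaf.stalk y : Type u) ⧸ 𝔞)]
    [Ring.KrullDimLE 0 ((Y.presheaf.stalk y : Type u) ⧸ 𝔞)]
    {S'' : Type u} [CommRing S''] [IsLocalRing S'']
    (w : ((Y.presheaf.stalk y : Type u) ⧸ 𝔞) →+* S'')
    (hint : ((algebraMap S'' (IsLocalRing.maximalIdeal S'').ResidueField).comp w).IsIntegral) :
    ((Spec.map (CommRingCat.ofHom w) ≫ Spec.map (CommRingCat.ofHom (Ideal.Quotient.mk 𝔞)) ≫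
      Y.fromSpecStalk y).residueFieldMap (IsLocalRing.closedPoint S'')).hom.IsIntegral := by
  haveI : IsLocalHom w := isLocalHom_of_krullDimLE_zero w
  haveI : IsLocalHom (Ideal.Quotient.mk 𝔞) :=
    IsLocalHom.of_surjective _ Ideal.Quotient.mk_surjective
  haveI : IsLocalHom (w.comp (Ideal.Quotient.mk 𝔞)) := RingHom.isLocalHom_comp _ _
  have heq : Spec.map (CommRingCat.ofHom (w.comp (Ideal.Quotient.mk 𝔞))) ≫ Y.fromSpecStalk y =
      Spec.map (CommRingCat.ofHom w) ≫ Spec.map (CommRingCat.ofHom (Ideal.Quotient.mk 𝔞)) ≫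
        Y.fromSpecStalk y := by
    rw [← Category.assoc, ← Spec.map_comp, ← CommRingCat.ofHom_comp]
  refine isIntegral_residueFieldMap_congr heq _ ?_
  have hloc' : IsLocalHom (w.comp (Ideal.Quotient.mk 𝔞)) := inferInstance
  refine Groth.Agent.Lib.Helper23.ResidueIntegral.residueFieldMap_SpecMap_fromSpecStalk_isIntegral
    y (R := CommRingCat.of S'') (CommRingCat.ofHom (w.comp (Ideal.Quotient.mk 𝔞)))
    (hψ := hloc') ?_
  show (((algebraMap S'' (IsLocalRing.maximalIdeal S'').ResidueField).comp w).comp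
    (Ideal.Quotient.mk 𝔞)).IsIntegral
  exact RingHom.IsIntegral.trans _ _
    (RingHom.isIntegral_of_surjective _ Ideal.Quotient.mk_surjective) hint

/-- Uniqueness of points over `(xn, closed point)` in `X_n ×_{R} Spec S''`, where
`X_n = X ×_Y Spec R`, deduced from the primary hypothesis on `κ(x)/κ(f x)`. -/
theorem point_unique_of_prim {X Y : Scheme.{u}} (f : X ⟶ Y) (x : X)
    (hprim : letI := (f.residueFieldMap x).hom.toAlgebra
      ∀ a : ↑(X.residueField x), IsSeparable ↑(Y.residueField (f x)) a →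
        a ∈ (f.residueFieldMap x).hom.range)
    {R : Type u} [CommRing R] (jn : Spec (CommRingCat.of R) ⟶ Y)
    (xn : ↥(pullback f jn)) (hxn : pullback.fst f jn xn = x)
    {S'' : Type u} [CommRing S''] [IsLocalRing S''] (w : R →+* S'')
    (halg : ((Spec.map (CommRingCat.ofHom w) ≫ jn).residueFieldMap
      (IsLocalRing.closedPoint S'')).hom.IsIntegral)
    (t₁ t₂ : ↥(pullback (pullback.snd f jn) (Spec.map (CommRingCat.ofHom w))))
    (h₁ : pullback.fst (pullback.snd f jn) (Spec.map (CommRingCat.ofHom w)) t₁ = xn)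
    (h₁' : pullback.snd (pullback.snd f jn) (Spec.map (CommRingCat.ofHom w)) t₁ =
      IsLocalRing.closedPoint S'')
    (h₂ : pullback.fst (pullback.snd f jn) (Spec.map (CommRingCat.ofHom w)) t₂ = xn)
    (h₂' : pullback.snd (pullback.snd f jn) (Spec.map (CommRingCat.ofHom w)) t₂ =
      IsLocalRing.closedPoint S'') : t₁ = t₂ := by
  let e := pullbackLeftPullbackSndIso f jn (Spec.map (CommRingCat.ofHom w))
  have he1 : e.hom ≫ pullback.fst f (Spec.map (CommRingCat.ofHom w) ≫ jn) =
      pullback.fst _ _ ≫ pullback.fst f jn := pullbackLeftPullbackSndIso_hom_fst _ _ _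
  have he2 : e.hom ≫ pullback.snd f (Spec.map (CommRingCat.ofHom w) ≫ jn) =
      pullback.snd _ _ := pullbackLeftPullbackSndIso_hom_snd _ _ _
  have key : e.hom t₁ = e.hom t₂ := by
    refine Groth.Agent.Lib.Helper23.PrimaryFibre.pullback_point_unique f
      (Spec.map (CommRingCat.ofHom w) ≫ jn) x (IsLocalRing.closedPoint S'') hprim halg
      (e.hom t₁) (e.hom t₂) ?_ ?_ ?_ ?_
    · rw [← Scheme.Hom.comp_apply, he1, Scheme.Hom.comp_apply, h₁, hxn]
    · rw [← Scheme.Hom.comp_apply, he2, h₁']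
    · rw [← Scheme.Hom.comp_apply, he1, Scheme.Hom.comp_apply, h₂, hxn]
    · rw [← Scheme.Hom.comp_apply, he2, h₂']
  have := congrArg e.inv key
  simpa [← Scheme.Hom.comp_apply] using this

set_option maxHeartbeats 1600000 in
/-- **Per-index step, adic case.** -/
theorem exists_local_of_flat_point_adic {X Y : Scheme.{u}} [IsLocallyNoetherian Y]
    (f : X ⟶ Y) [LocallyOfFiniteType f] (F : X.Modules) (hF : Coh.IsCoh F) (x : X)
    (hprim : letI := (f.residueFieldMap x).hom.toAlgebra
      ∀ a : ↑(X.residueField x), IsSeparable ↑(Y.residueField (f x)) a →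
        a ∈ (f.residueFieldMap x).hom.range)
    {A : Type u} [CommRing A] [IsLocalRing A]
    (φ : (Y.presheaf.stalk (f x) : Type u) →+* A) [IsLocalHom φ] (n : ℕ)
    (x' : ↥(pullback f (Spec.map (CommRingCat.ofHom φ) ≫ Y.fromSpecStalk (f x))))
    (h1 : pullback.fst f (Spec.map (CommRingCat.ofHom φ) ≫ Y.fromSpecStalk (f x)) x' = x)
    (h2 : pullback.snd f (Spec.map (CommRingCat.ofHom φ) ≫ Y.fromSpecStalk (f x)) x' =
      IsLocalRing.closedPoint A)
    (hfl : FlatMod.IsFlatOverAt
      (pullback.snd f (Spec.map (CommRingCat.ofHom φ) ≫ Y.fromSpecStalk (f x)))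
      ((Scheme.Modules.pullback
        (pullback.fst f (Spec.map (CommRingCat.ofHom φ) ≫ Y.fromSpecStalk (f x)))).obj F) x') :
    ∃ (S' : Type u) (_ : CommRing S') (_ : IsLocalRing S') (_ : IsNoetherianRing S')
      (ψ : (Y.presheaf.stalk (f x) : Type u) →+* S') (_ : IsLocalHom ψ),
      IsLocalRing.maximalIdeal (Y.presheaf.stalk (f x) : Type u) ^ (n + 1) ≤ RingHom.ker ψ ∧
      RingHom.ker ψ ≤ (IsLocalRing.maximalIdeal A ^ (n + 1)).comap φ ∧
      ∀ x'' : ↥(pullback f (Spec.map (CommRingCat.ofHom ψ) ≫ Y.fromSpecStalk (f x))),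
        pullback.fst f (Spec.map (CommRingCat.ofHom ψ) ≫ Y.fromSpecStalk (f x)) x'' = x →
        pullback.snd f (Spec.map (CommRingCat.ofHom ψ) ≫ Y.fromSpecStalk (f x)) x'' =
          IsLocalRing.closedPoint S' →
        FlatMod.IsFlatOverAt
          (pullback.snd f (Spec.map (CommRingCat.ofHom ψ) ≫ Y.fromSpecStalk (f x)))
          ((Scheme.Modules.pullback
            (pullback.fst f (Spec.map (CommRingCat.ofHom ψ) ≫ Y.fromSpecStalk (f x)))).obj F)
          x'' := by
  classical
  haveI hqcF : F.IsQuasicoherent := hF.1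
  -- (0) rings
  haveI hloc : IsLocalRing (Y.presheaf.stalk (f x) : Type u) := inferInstance
  haveI hnoe : IsNoetherianRing (Y.presheaf.stalk (f x) : Type u) := inferInstance
  set 𝔞 : Ideal (Y.presheaf.stalk (f x) : Type u) :=
    IsLocalRing.maximalIdeal (Y.presheaf.stalk (f x) : Type u) ^ (n + 1) with h𝔞
  have h𝔞ne : 𝔞 ≠ ⊤ := by
    intro h
    have h1 : IsLocalRing.maximalIdeal (Y.presheaf.stalk (f x) : Type u) = ⊤ := by
      rw [eq_top_iff, ← h]
      exact Ideal.pow_le_self (Nat.succ_ne_zero n)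
    exact Ideal.IsPrime.ne_top inferInstance h1
  haveI hRart : IsArtinianRing ((Y.presheaf.stalk (f x) : Type u) ⧸ 𝔞) :=
    Groth.Agent.H76.LocalFamilyFlatNoeth.isArtinianRing_quotient_of_pow_le 𝔞 h𝔞ne ⟨n + 1, le_rfl⟩
  haveI : Nontrivial ((Y.presheaf.stalk (f x) : Type u) ⧸ 𝔞) :=
    Ideal.Quotient.nontrivial_iff.mpr h𝔞ne
  haveI hRloc : IsLocalRing ((Y.presheaf.stalk (f x) : Type u) ⧸ 𝔞) :=
    IsLocalRing.of_surjective' (Ideal.Quotient.mk 𝔞) Ideal.Quotient.mk_surjective
  set 𝔟 : Ideal A := IsLocalRing.maximalIdeal A ^ (n + 1) with h𝔟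
  have h𝔟ne : 𝔟 ≠ ⊤ := by
    intro h
    have h1 : IsLocalRing.maximalIdeal A = ⊤ := by
      rw [eq_top_iff, ← h]
      exact Ideal.pow_le_self (Nat.succ_ne_zero n)
    exact Ideal.IsPrime.ne_top inferInstance h1
  haveI : Nontrivial (A ⧸ 𝔟) := Ideal.Quotient.nontrivial_iff.mpr h𝔟ne
  haveI hCloc : IsLocalRing (A ⧸ 𝔟) :=
    IsLocalRing.of_surjective' (Ideal.Quotient.mk 𝔟) Ideal.Quotient.mk_surjective
  have h𝔞𝔟 : 𝔞 ≤ 𝔟.comap φ := by
    rw [h𝔞, h𝔟, ← IsLocalRing.maximalIdeal_comap φ]
    exact Ideal.le_comap_pow φ (n + 1)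
  let π : (Y.presheaf.stalk (f x) : Type u) →+* (Y.presheaf.stalk (f x) : Type u) ⧸ 𝔞 :=
    Ideal.Quotient.mk 𝔞
  let ρ : A →+* A ⧸ 𝔟 := Ideal.Quotient.mk 𝔟
  let v : ((Y.presheaf.stalk (f x) : Type u) ⧸ 𝔞) →+* A ⧸ 𝔟 := Ideal.quotientMap 𝔟 φ h𝔞𝔟
  have hcomm : v.comp π = ρ.comp φ := by
    ext a
    exact Ideal.quotientMap_mk (J := 𝔞) (I := 𝔟) (f := φ) (H := h𝔞𝔟)
  haveI hπloc : IsLocalHom π := IsLocalHom.of_surjective π Ideal.Quotient.mk_surjective
  haveI hρloc : IsLocalHom ρ := IsLocalHom.of_surjective ρ Ideal.Quotient.mk_surjective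
  -- (1) the Artinian base change
  let j : Spec (Y.presheaf.stalk (f x)) ⟶ Y := Y.fromSpecStalk (f x)
  let jn : Spec (CommRingCat.of ((Y.presheaf.stalk (f x) : Type u) ⧸ 𝔞)) ⟶ Y :=
    Spec.map (CommRingCat.ofHom π) ≫ j
  let fn := pullback.snd f jn
  haveI : LocallyOfFiniteType fn := MorphismProperty.pullback_snd _ _ inferInstance
  have hFn : Coh.IsCoh ((Scheme.Modules.pullback (pullback.fst f jn)).obj F) :=
    Groth.Agent.Lib.Helper80.isCoh_pullback (pullback.fst f jn) F hF
  haveI hFnqc : ((Scheme.Modules.pullback (pullback.fst f jn)).obj F).IsQuasicoherent := hFn.1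
  -- (2) the comparison of fibre products
  let g : Spec (CommRingCat.of A) ⟶ Y := Spec.map (CommRingCat.ofHom φ) ≫ j
  have hsq : Spec.map (CommRingCat.ofHom v) ≫ jn = Spec.map (CommRingCat.ofHom ρ) ≫ g := by
    show Spec.map (CommRingCat.ofHom v) ≫ Spec.map (CommRingCat.ofHom π) ≫ j =
      Spec.map (CommRingCat.ofHom ρ) ≫ Spec.map (CommRingCat.ofHom φ) ≫ j
    rw [← Category.assoc, ← Spec.map_comp, ← Category.assoc, ← Spec.map_comp,
      ← CommRingCat.ofHom_comp, ← CommRingCat.ofHom_comp, hcomm]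
  have hcond : (pullback.fst fn (Spec.map (CommRingCat.ofHom v)) ≫ pullback.fst f jn) ≫ f =
      (pullback.snd fn (Spec.map (CommRingCat.ofHom v)) ≫ Spec.map (CommRingCat.ofHom ρ)) ≫ g := by
    rw [Category.assoc, pullback.condition, ← Category.assoc, pullback.condition,
      Category.assoc, hsq, Category.assoc]
  let θ : pullback fn (Spec.map (CommRingCat.ofHom v)) ⟶ pullback f g :=
    pullback.lift _ _ hcond
  have hθ1 : θ ≫ pullback.fst f g =
      pullback.fst fn (Spec.map (CommRingCat.ofHom v)) ≫ pullback.fst f jn :=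
    pullback.lift_fst _ _ _
  have hθ2 : θ ≫ pullback.snd f g =
      pullback.snd fn (Spec.map (CommRingCat.ofHom v)) ≫ Spec.map (CommRingCat.ofHom ρ) :=
    pullback.lift_snd _ _ _
  have hbig : IsPullback (θ ≫ pullback.fst f g) (pullback.snd fn (Spec.map (CommRingCat.ofHom v)))
      f (Spec.map (CommRingCat.ofHom ρ) ≫ g) := by
    rw [hθ1, ← hsq]
    exact (IsPullback.of_hasPullback fn (Spec.map (CommRingCat.ofHom v))).paste_horiz
      (IsPullback.of_hasPullback f jn)
  have hθ : IsPullback θ (pullback.snd fn (Spec.map (CommRingCat.ofHom v)))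
      (pullback.snd f g) (Spec.map (CommRingCat.ofHom ρ)) :=
    IsPullback.of_right hbig hθ2 (IsPullback.of_hasPullback f g)
  -- (3) the point over `x'`
  have hclosed : (Spec.map (CommRingCat.ofHom ρ)) (IsLocalRing.closedPoint (A ⧸ 𝔟)) =
      IsLocalRing.closedPoint A := IsLocalRing.comap_closedPoint ρ
  obtain ⟨x'C, hC1, hC2⟩ := Scheme.exists_preimage_of_isPullback hθ x'
    (IsLocalRing.closedPoint (A ⧸ 𝔟)) (by rw [hclosed]; exact h2)
  -- (4) flatness at that point
  haveI hFgqc : ((Scheme.Modules.pullback (pullback.fst f g)).obj F).IsQuasicoherent :=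
    Groth.Agent.Lib.Helper16.FlatPull.isQuasicoherent_pullback _ F
  have hflC0 := Groth.Agent.Lib.Helper16.FlatPull.isFlatOverAt_baseChange
    (pullback.snd f g) (pullback.snd fn (Spec.map (CommRingCat.ofHom v))) θ
    (Spec.map (CommRingCat.ofHom ρ)) hθ
    ((Scheme.Modules.pullback (pullback.fst f g)).obj F) x'C (by rw [hC1]; exact hfl)
  have hflC : FlatMod.IsFlatOverAt (pullback.snd fn (Spec.map (CommRingCat.ofHom v)))
      ((Scheme.Modules.pullback (pullback.fst fn (Spec.map (CommRingCat.ofHom v)))).obj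
        ((Scheme.Modules.pullback (pullback.fst f jn)).obj F)) x'C := by
    refine isFlatOverAt_of_iso _ ?_ x'C hflC0
    exact (Scheme.Modules.pullbackComp θ (pullback.fst f g)).app F ≪≫
      (Scheme.Modules.pullbackCongr hθ1).app F ≪≫
      ((Scheme.Modules.pullbackComp (pullback.fst fn (Spec.map (CommRingCat.ofHom v)))
        (pullback.fst f jn)).app F).symm
  -- (5) the point of `X_n`
  set xn := pullback.fst fn (Spec.map (CommRingCat.ofHom v)) x'C with hxn
  have hxn1 : pullback.fst f jn xn = x := by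
    rw [hxn, ← Scheme.Hom.comp_apply, ← hθ1, Scheme.Hom.comp_apply, hC1]
    exact h1
  have hall_closed : ∀ p : ↥(Spec (CommRingCat.of ((Y.presheaf.stalk (f x) : Type u) ⧸ 𝔞))),
      p = IsLocalRing.closedPoint ((Y.presheaf.stalk (f x) : Type u) ⧸ 𝔞) := by
    intro p
    apply PrimeSpectrum.ext
    exact Ring.KrullDimLE.eq_maximalIdeal_of_isPrime p.asIdeal
  -- (6) uniqueness of points
  have huniq : ∀ (S'' : Type u) [CommRing S''] [IsLocalRing S'']
      (w : ((Y.presheaf.stalk (f x) : Type u) ⧸ 𝔞) →+* S''),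
      ((algebraMap S'' (IsLocalRing.maximalIdeal S'').ResidueField).comp w).IsIntegral →
      ∀ t₁ t₂ : ↥(pullback fn (Spec.map (CommRingCat.ofHom w))),
        pullback.fst fn (Spec.map (CommRingCat.ofHom w)) t₁ = xn →
        pullback.snd fn (Spec.map (CommRingCat.ofHom w)) t₁ = IsLocalRing.closedPoint S'' →
        pullback.fst fn (Spec.map (CommRingCat.ofHom w)) t₂ = xn →
        pullback.snd fn (Spec.map (CommRingCat.ofHom w)) t₂ = IsLocalRing.closedPoint S'' →
        t₁ = t₂ := by
    intro S'' _ _ w hint t₁ t₂ a b c d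
    exact point_unique_of_prim f x hprim jn xn hxn1 w
      (isIntegral_residueFieldMap_of_quotient (f x) 𝔞 w hint) t₁ t₂ a b c d
  -- (7) the key lemma over the Artinian base
  obtain ⟨S', instCR, instLR, instNoeth, w, hkerw, hall⟩ :=
    Groth.Agent.Lib.Helper23.PrimaryFlatPoint.exists_local_of_flat_point' fn
      ((Scheme.Modules.pullback (pullback.fst f jn)).obj F) hFn.2 xn huniq v x'C rfl hC2 hflC
  -- (8) conclusions
  haveI hwloc : IsLocalHom w := isLocalHom_of_krullDimLE_zero w
  have hψloc : IsLocalHom (w.comp π) := RingHom.isLocalHom_comp _ _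
  refine ⟨S', instCR, instLR, instNoeth, w.comp π, hψloc, ?_, ?_, ?_⟩
  · intro a ha
    rw [RingHom.mem_ker, RingHom.comp_apply]
    have : π a = 0 := Ideal.Quotient.eq_zero_iff_mem.mpr ha
    rw [this, map_zero]
  · intro a ha
    rw [RingHom.mem_ker, RingHom.comp_apply] at ha
    have h3 : π a ∈ RingHom.ker w := ha
    rw [hkerw, RingHom.mem_ker] at h3
    have h4 : ρ (φ a) = 0 := by
      rw [← RingHom.comp_apply, ← hcomm]
      exact h3
    rw [Ideal.mem_comap]
    exact Ideal.Quotient.eq_zero_iff_mem.mp h4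
  · intro x'' hx''1 hx''2
    have heq : Spec.map (CommRingCat.ofHom w) ≫ jn =
        Spec.map (CommRingCat.ofHom (w.comp π)) ≫ j := by
      show Spec.map (CommRingCat.ofHom w) ≫ Spec.map (CommRingCat.ofHom π) ≫ j = _
      rw [← Category.assoc, ← Spec.map_comp, ← CommRingCat.ofHom_comp]
    let e' : pullback fn (Spec.map (CommRingCat.ofHom w)) ≅
        pullback f (Spec.map (CommRingCat.ofHom (w.comp π)) ≫ j) :=
      pullbackLeftPullbackSndIso f jn (Spec.map (CommRingCat.ofHom w)) ≪≫
        pullback.congrHom rfl heq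
    have he'1 : e'.hom ≫ pullback.fst f (Spec.map (CommRingCat.ofHom (w.comp π)) ≫ j) =
        pullback.fst fn (Spec.map (CommRingCat.ofHom w)) ≫ pullback.fst f jn := by
      simp only [e', Iso.trans_hom, Category.assoc, pullback.congrHom_hom, pullback.map,
        pullback.lift_fst, Category.comp_id, pullbackLeftPullbackSndIso_hom_fst, fn]
    have he'2 : e'.hom ≫ pullback.snd f (Spec.map (CommRingCat.ofHom (w.comp π)) ≫ j) =
        pullback.snd fn (Spec.map (CommRingCat.ofHom w)) := by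
      simp only [e', Iso.trans_hom, Category.assoc, pullback.congrHom_hom, pullback.map,
        pullback.lift_snd, Category.comp_id, pullbackLeftPullbackSndIso_hom_snd, fn]
    have hi1 : e'.inv ≫ pullback.fst fn (Spec.map (CommRingCat.ofHom w)) ≫ pullback.fst f jn =
        pullback.fst f (Spec.map (CommRingCat.ofHom (w.comp π)) ≫ j) := by
      rw [← he'1, Iso.inv_hom_id_assoc]
    have hi2 : e'.inv ≫ pullback.snd fn (Spec.map (CommRingCat.ofHom w)) =
        pullback.snd f (Spec.map (CommRingCat.ofHom (w.comp π)) ≫ j) := by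
      rw [← he'2, Iso.inv_hom_id_assoc]
    set t := e'.inv x'' with ht
    have ht2 : pullback.snd fn (Spec.map (CommRingCat.ofHom w)) t = IsLocalRing.closedPoint S' := by
      rw [ht, ← Scheme.Hom.comp_apply, hi2]
      exact hx''2
    have halg_n : (jn.residueFieldMap
        (IsLocalRing.closedPoint ((Y.presheaf.stalk (f x) : Type u) ⧸ 𝔞))).hom.IsIntegral := by
      refine Groth.Agent.Lib.Helper23.ResidueIntegral.residueFieldMap_SpecMap_fromSpecStalk_isIntegral
        (f x) (R := CommRingCat.of ((Y.presheaf.stalk (f x) : Type u) ⧸ 𝔞))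
        (CommRingCat.ofHom π) (hψ := hπloc) ?_
      refine RingHom.isIntegral_of_surjective _ ?_
      exact (Ideal.algebraMap_residueField_surjective _).comp Ideal.Quotient.mk_surjective
    have ht1 : pullback.fst fn (Spec.map (CommRingCat.ofHom w)) t = xn := by
      refine Groth.Agent.Lib.Helper23.PrimaryFibre.pullback_point_unique f jn x
        (IsLocalRing.closedPoint ((Y.presheaf.stalk (f x) : Type u) ⧸ 𝔞)) hprim halg_n _ _ ?_
        (hall_closed _) hxn1 (hall_closed _)
      rw [ht, ← Scheme.Hom.comp_apply, ← Scheme.Hom.comp_apply, hi1]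
      exact hx''1
    have hflt := hall t ht1 ht2
    have hsqiso : IsPullback e'.inv
        (pullback.snd f (Spec.map (CommRingCat.ofHom (w.comp π)) ≫ j))
        (pullback.snd fn (Spec.map (CommRingCat.ofHom w))) (𝟙 _) :=
      IsPullback.of_horiz_isIso ⟨by rw [hi2, Category.comp_id]⟩
    haveI : ((Scheme.Modules.pullback (pullback.fst fn (Spec.map (CommRingCat.ofHom w)))).obj
        ((Scheme.Modules.pullback (pullback.fst f jn)).obj F)).IsQuasicoherent :=
      Groth.Agent.Lib.Helper16.FlatPull.isQuasicoherent_pullback _ _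
    have hfl3 := Groth.Agent.Lib.Helper16.FlatPull.isFlatOverAt_baseChange
      (pullback.snd fn (Spec.map (CommRingCat.ofHom w)))
      (pullback.snd f (Spec.map (CommRingCat.ofHom (w.comp π)) ≫ j)) e'.inv (𝟙 _) hsqiso
      ((Scheme.Modules.pullback (pullback.fst fn (Spec.map (CommRingCat.ofHom w)))).obj
        ((Scheme.Modules.pullback (pullback.fst f jn)).obj F)) x'' hflt
    refine isFlatOverAt_of_iso _ ?_ x'' hfl3
    exact (Scheme.Modules.pullbackComp e'.inv
        (pullback.fst fn (Spec.map (CommRingCat.ofHom w)))).app _ ≪≫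
      (Scheme.Modules.pullbackComp (e'.inv ≫ pullback.fst fn (Spec.map (CommRingCat.ofHom w)))
        (pullback.fst f jn)).app F ≪≫
      (Scheme.Modules.pullbackCongr (by rw [Category.assoc, hi1])).app F

end Groth.Agent.Lib.Helper23.PrimaryFlatAdic
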