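/-
Helper library (helper23): the closure of a pro-constructible subset of a scheme consists of the
specializations of its points; consequently preimages along flat (more generally generalizing)
morphisms commute with closures of pro-constructible sets (EGA IV 2.3.10 / 1.10).
-/
import Mathlib
import Groth.Agent.Lib.Helper16.ProConsMore

set_option autoImplicit false
universe u
open CategoryTheory AlgebraicGeometry Topology Set

namespace Groth.Agent.Lib.Helper23

open Groth.Agent.Lib.Helper16

/-- In a spectral space, every point of the closure of an intersection of constructible sets is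
a specialization of a point of that intersection. -/
theorem exists_specializes_of_mem_closure_sInter {W : Type*} [TopologicalSpace W] [CompactSpace W]
    [QuasiSober W] [PrespectralSpace W] [QuasiSeparatedSpace W] {S : Set (Set W)}
    (hS : ∀ C ∈ S, IsConstructible C) {x : W} (hx : x ∈ closure (⋂₀ S)) :
    ∃ z ∈ ⋂₀ S, z ⤳ x := by
  classical
  by_contra hcon
  push Not at hcon
  let N : Set (Set W) := {V | IsOpen V ∧ IsCompact V ∧ x ∈ V}
  have hZ : ∀ C ∈ S ∪ N, IsConstructible C := by
    rintro C (hC | ⟨hCo, hCc, -⟩)
    · exact hS C hC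
    · exact hCc.isConstructible hCo
  have hemp : ⋂₀ (S ∪ N) = ∅ := by
    rw [eq_empty_iff_forall_notMem]
    intro z hz
    refine hcon z (fun C hC => hz C (Or.inl hC)) ?_
    rw [specializes_iff_forall_open]
    intro o ho hxo
    obtain ⟨V, ⟨hVo, hVc⟩, hxV, hVo'⟩ :=
      PrespectralSpace.isTopologicalBasis.mem_nhds_iff.mp (ho.mem_nhds hxo)
    exact hVo' (hz V (Or.inr ⟨hVo, hVc, hxV⟩))
  obtain ⟨Z₀, hZ₀, hfin, hZ₀e⟩ := exists_finite_sInter_eq_empty hZ hemp
  let V₀ : Set W := ⋂₀ {V ∈ Z₀ | V ∈ N}
  have hV₀o : IsOpen V₀ := (hfin.subset (fun V hV => hV.1)).isOpen_sInter fun V hV => hV.2.1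
  have hxV₀ : x ∈ V₀ := fun V hV => hV.2.2.2
  obtain ⟨z, hzV₀, hzS⟩ := mem_closure_iff.mp hx V₀ hV₀o hxV₀
  have : z ∈ ⋂₀ Z₀ := by
    intro C hC
    rcases hZ₀ hC with hCS | hCN
    · exact hzS C hCS
    · exact hzV₀ C ⟨hC, hCN⟩
  rw [hZ₀e] at this
  exact this

/-- Every point of the closure of a pro-constructible subset of a scheme is a specialization of a
point of that subset. -/
theorem exists_specializes_of_mem_closure_of_isProConstructible {X : Scheme.{u}} {E : Set X}
    (hE : ProCons.IsProConstructible E) {x : X} (hx : x ∈ closure E) : ∃ z ∈ E, z ⤳ x := by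
  obtain ⟨U, hU, hxU⟩ := exists_affine_nhd x
  obtain ⟨_, _, _, _, _⟩ := spectral_of_isAffineOpen hU
  obtain ⟨S, hS, hES⟩ := exists_sInter_of_isProConstructible hE (W := (U : Set X)) U.2
  have hx' : (⟨x, hxU⟩ : (U : Set X)) ∈ closure (⋂₀ S) := by
    rw [← hES, closure_subtype, Subtype.image_preimage_coe]
    exact U.2.inter_closure ⟨hxU, hx⟩
  obtain ⟨z, hzS, hzx⟩ := exists_specializes_of_mem_closure_sInter hS hx'
  rw [← hES] at hzS
  exact ⟨z.1, hzS, hzx.map continuous_subtype_val⟩

/-- Preimages along a generalizing continuous map of schemes commute with closures of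
pro-constructible sets. -/
theorem closure_preimage_eq_of_generalizingMap {T X : Scheme.{u}} (h : T ⟶ X)
    (hg : GeneralizingMap h.base) {E : Set X} (hE : ProCons.IsProConstructible E) :
    closure (h.base ⁻¹' E) = h.base ⁻¹' closure E := by
  apply subset_antisymm
  · exact h.continuous.closure_preimage_subset E
  · intro t ht
    obtain ⟨z, hzE, hzt⟩ := exists_specializes_of_mem_closure_of_isProConstructible hE ht
    obtain ⟨t', ht't, rfl⟩ := hg hzt
    exact ht't.mem_closed isClosed_closure (subset_closure hzE)

/-- Preimages along a flat morphism commute with closures of pro-constructible sets. -/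
theorem closure_preimage_eq_of_flat {T X : Scheme.{u}} (h : T ⟶ X) [Flat h] {E : Set X}
    (hE : ProCons.IsProConstructible E) :
    closure (h.base ⁻¹' E) = h.base ⁻¹' closure E :=
  closure_preimage_eq_of_generalizingMap h (Flat.generalizingMap h) hE

end Groth.Agent.Lib.Helper23
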