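import Mathlib
import Groth.Agent.Lib.Helper23.FlatGeneric
import Groth.Agent.Lib.Helper55.Catenary

set_option autoImplicit false
universe u

namespace Groth.Agent.Lib.Helper23.PruferDim

open Groth.Agent.Lib.Helper23.FlatGeneric

section Comparable

variable {R : Type*} [CommRing R]

/-- Local comparability at a prime: the localization is a valuation ring, phrased in `R`. -/
def LocComparable (q : Ideal R) : Prop :=
  ∀ a b : R, ∃ u : R, u ∉ q ∧ ∃ c : R, u * a = c * b ∨ u * b = c * a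

/-- local divisibility at `q` -/
def LocDvd (q : Ideal R) (a b : R) : Prop := ∃ u : R, u ∉ q ∧ ∃ c : R, u * b = c * a

theorem LocDvd.refl (q : Ideal R) [q.IsPrime] (a : R) : LocDvd q a a :=
  ⟨1, fun h => Ideal.IsPrime.ne_top' ((Ideal.eq_top_iff_one q).mpr h), 1, rfl⟩

theorem LocDvd.trans {q : Ideal R} [q.IsPrime] {a b c : R} (h1 : LocDvd q a b)
    (h2 : LocDvd q b c) : LocDvd q a c := by
  obtain ⟨u, hu, c₁, e1⟩ := h1
  obtain ⟨v, hv, c₂, e2⟩ := h2
  refine ⟨u * v, fun h => ?_, c₂ * c₁, ?_⟩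
  · rcases Ideal.IsPrime.mem_or_mem ‹q.IsPrime› h with h | h
    · exact hu h
    · exact hv h
  · calc u * v * c = u * (v * c) := by ring
      _ = u * (c₂ * b) := by rw [e2]
      _ = c₂ * (u * b) := by ring
      _ = c₂ * (c₁ * a) := by rw [e1]
      _ = c₂ * c₁ * a := by ring

theorem LocComparable.total {q : Ideal R} (h : LocComparable q) (a b : R) :
    LocDvd q a b ∨ LocDvd q b a := by
  obtain ⟨u, hu, c, e | e⟩ := h a b
  · exact Or.inr ⟨u, hu, c, e⟩
  · exact Or.inl ⟨u, hu, c, e⟩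

/-- A finite nonempty family has an element dividing all others locally. -/
theorem exists_locDvd_all {q : Ideal R} [q.IsPrime] (h : LocComparable q) {σ : Type*}
    (T : Finset σ) (hT : T.Nonempty) (a : σ → R) :
    ∃ m₀ ∈ T, ∀ m ∈ T, LocDvd q (a m₀) (a m) := by
  classical
  induction T using Finset.induction_on with
  | empty => exact absurd hT Finset.not_nonempty_empty
  | insert m₁ T hm₁ ih =>
    by_cases hTe : T.Nonempty
    · obtain ⟨m₀, hm₀, hall⟩ := ih hTe
      rcases h.total (a m₀) (a m₁) with h1 | h1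
      · refine ⟨m₀, Finset.mem_insert_of_mem hm₀, fun m hm => ?_⟩
        rcases Finset.mem_insert.mp hm with rfl | hm
        · exact h1
        · exact hall m hm
      · refine ⟨m₁, Finset.mem_insert_self _ _, fun m hm => ?_⟩
        rcases Finset.mem_insert.mp hm with rfl | hm
        · exact LocDvd.refl q _
        · exact h1.trans (hall m hm)
    · rw [Finset.not_nonempty_iff_eq_empty] at hTe
      subst hTe
      refine ⟨m₁, Finset.mem_insert_self _ _, fun m hm => ?_⟩
      rcases Finset.mem_insert.mp hm with rfl | hm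
      · exact LocDvd.refl q _
      · exact absurd hm (Finset.notMem_empty _)

end Comparable

section Lift

variable {R S : Type*} [CommRing R] [IsDomain R] [CommRing S] [Algebra R S]

omit [IsDomain R] in
theorem aeval_mem_of_coeff_mem (P : Ideal S) {ι : Type*} (x : ι → S) (Φ : MvPolynomial ι R)
    (h : ∀ m, Φ.coeff m ∈ P.under R) : MvPolynomial.aeval x Φ ∈ P := by
  rw [MvPolynomial.aeval_def, MvPolynomial.eval₂_eq]
  refine Ideal.sum_mem _ fun m _ => ?_
  exact Ideal.mul_mem_right _ _ (h m)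

/-- **Lifting of algebraic independence over a prime where the base is locally a valuation
ring**, in elementary form. -/
theorem coeff_mem_under_of_coeff_mem (P Q : Ideal S) [P.IsPrime] [Q.IsPrime] (hPQ : P ≤ Q)
    (hc : LocComparable (Q.under R)) {ι : Type*} (x : ι → S)
    (h : ∀ Φ : MvPolynomial ι R, MvPolynomial.aeval x Φ ∈ Q → ∀ m, Φ.coeff m ∈ Q.under R)
    (Φ : MvPolynomial ι R) (hΦ : MvPolynomial.aeval x Φ ∈ P) (m : ι →₀ ℕ) :
    Φ.coeff m ∈ P.under R := by
  classical
  by_contra hm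
  set p := P.under R with hp
  set q := Q.under R with hq
  haveI : q.IsPrime := Ideal.IsPrime.under R Q
  haveI : p.IsPrime := Ideal.IsPrime.under R P
  set T : Finset (ι →₀ ℕ) := Φ.support.filter (fun m => Φ.coeff m ∉ p) with hT
  have hmT : m ∈ T := by
    rw [hT, Finset.mem_filter, MvPolynomial.mem_support_iff]
    refine ⟨fun h0 => hm ?_, hm⟩
    rw [h0]
    exact p.zero_mem
  obtain ⟨m₀, hm₀, hall⟩ := exists_locDvd_all hc T ⟨m, hmT⟩ (fun m => Φ.coeff m)
  choose! uu huu cc hcc using hall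
  set c₀ := Φ.coeff m₀ with hc₀
  have hc₀p : c₀ ∉ p := (Finset.mem_filter.mp hm₀).2
  have hc₀0 : c₀ ≠ 0 := fun h0 => hc₀p (h0 ▸ p.zero_mem)
  set u : R := ∏ m' ∈ T, uu m' with hu
  have huq : u ∉ q := by
    rw [hu]
    intro hmem
    obtain ⟨m', hm', hmem'⟩ := (Ideal.IsPrime.prod_mem_iff).mp hmem
    exact huu m' hm' hmem'
  set g : (ι →₀ ℕ) → R := fun m' => (∏ m'' ∈ T.erase m', uu m'') * cc m' with hg
  set Ψ : MvPolynomial ι R := ∑ m' ∈ T, MvPolynomial.monomial m' (g m') with hΨ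
  have hΨcoeff : ∀ m', Ψ.coeff m' = if m' ∈ T then g m' else 0 := by
    intro m'
    rw [hΨ, MvPolynomial.coeff_sum]
    simp only [MvPolynomial.coeff_monomial]
    rw [Finset.sum_ite_eq' T m']
  -- `c₀ Ψ ≡ u Φ` modulo `p`
  have hdiff : ∀ m', (MvPolynomial.C c₀ * Ψ - MvPolynomial.C u * Φ).coeff m' ∈ p := by
    intro m'
    rw [MvPolynomial.coeff_sub, MvPolynomial.coeff_C_mul, MvPolynomial.coeff_C_mul, hΨcoeff]
    by_cases hm' : m' ∈ T
    · rw [if_pos hm']
      have h1 : c₀ * g m' = u * Φ.coeff m' := by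
        rw [hg, hu, ← Finset.mul_prod_erase T uu hm']
        have := hcc m' hm'
        calc c₀ * ((∏ m'' ∈ T.erase m', uu m'') * cc m')
            = (∏ m'' ∈ T.erase m', uu m'') * (cc m' * c₀) := by ring
          _ = (∏ m'' ∈ T.erase m', uu m'') * (uu m' * Φ.coeff m') := by rw [this]
          _ = uu m' * (∏ m'' ∈ T.erase m', uu m'') * Φ.coeff m' := by ring
      rw [h1, sub_self]
      exact p.zero_mem
    · rw [if_neg hm', mul_zero, zero_sub]
      apply neg_mem
      apply Ideal.mul_mem_left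
      by_contra hcon
      apply hm'
      rw [hT, Finset.mem_filter, MvPolynomial.mem_support_iff]
      exact ⟨fun h0 => hcon (h0 ▸ p.zero_mem), hcon⟩
  have h2 := aeval_mem_of_coeff_mem P x _ hdiff
  rw [map_sub, map_mul, map_mul, MvPolynomial.aeval_C, MvPolynomial.aeval_C] at h2
  have h3 : algebraMap R S c₀ * MvPolynomial.aeval x Ψ ∈ P := by
    have h4 : algebraMap R S u * MvPolynomial.aeval x Φ ∈ P := Ideal.mul_mem_left _ _ hΦ
    have := Ideal.add_mem _ h2 h4
    rwa [sub_add_cancel] at this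
  have h5 : MvPolynomial.aeval x Ψ ∈ P := by
    rcases Ideal.IsPrime.mem_or_mem ‹P.IsPrime› h3 with h | h
    · exact absurd h hc₀p
    · exact h
  have h6 := h Ψ (hPQ h5) m₀
  rw [hΨcoeff, if_pos hm₀] at h6
  -- the `m₀` coefficient of `Ψ` is `u`
  have h7 : cc m₀ = uu m₀ := by
    have := hcc m₀ hm₀
    exact (mul_right_cancel₀ hc₀0 this).symm
  apply huq
  rw [hu, ← Finset.mul_prod_erase T uu hm₀]
  rw [hg] at h6
  simp only at h6
  rw [h7] at h6
  rwa [mul_comm]

end Lift

section Trdeg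

variable {R S : Type u} [CommRing R] [IsDomain R] [CommRing S] [Algebra R S]

/-- **(a')** the residual transcendence degree does not increase under specialization, when the
base is locally a valuation ring at the contraction of the bigger prime. -/
theorem trdeg_quotient_le (P Q : Ideal S) [P.IsPrime] [Q.IsPrime] (hPQ : P ≤ Q)
    (hc : LocComparable (Q.under R)) :
    Algebra.trdeg (R ⧸ Q.under R) (S ⧸ Q) ≤ Algebra.trdeg (R ⧸ P.under R) (S ⧸ P) := by
  obtain ⟨σ, hσ⟩ := exists_isTranscendenceBasis (R ⧸ Q.under R) (S ⧸ Q)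
  rw [← hσ.cardinalMk_eq_trdeg]
  choose y hy using fun i : σ => Ideal.Quotient.mk_surjective (i : S ⧸ Q)
  have hy' : (fun i : σ => Ideal.Quotient.mk Q (y i)) = Subtype.val := funext hy
  have hind : AlgebraicIndependent (R ⧸ Q.under R) (fun i : σ => Ideal.Quotient.mk Q (y i)) :=
    hy' ▸ hσ.1
  have h1 : ∀ Φ : MvPolynomial σ R, MvPolynomial.aeval y Φ ∈ Q → ∀ m, Φ.coeff m ∈ Q.under R :=
    fun Φ hΦ m => coeff_mem_of_algebraicIndependent (Q.under R) Q y hind Φ hΦ m
  have h2 : ∀ Φ : MvPolynomial σ R, MvPolynomial.aeval y Φ ∈ P → ∀ m, Φ.coeff m ∈ P.under R :=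
    fun Φ hΦ m => coeff_mem_under_of_coeff_mem P Q hPQ hc y h1 Φ hΦ m
  have hind' := algebraicIndependent_of_coeff_mem (P.under R) P y h2
  exact hind'.cardinalMk_le_trdeg

end Trdeg

section GoingDown

variable {R S : Type*} [CommRing R] [CommRing S] [Algebra R S]

/-- **Going down** over a base which is locally a valuation ring, relative to a prime `P`. -/
theorem exists_prime_between (P Q : Ideal S) [P.IsPrime] [Q.IsPrime] (hPQ : P ≤ Q)
    (hc : LocComparable (Q.under R)) (t : Ideal R) [t.IsPrime] (hpt : P.under R ≤ t)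
    (htq : t ≤ Q.under R) :
    ∃ Q₂ : Ideal S, Q₂.IsPrime ∧ P ≤ Q₂ ∧ Q₂ ≤ Q ∧ Q₂.under R = t := by
  set q := Q.under R with hq
  haveI : q.IsPrime := Ideal.IsPrime.under R Q
  set I : Ideal S := P ⊔ t.map (algebraMap R S) with hI
  set M : Submonoid S := (t.primeCompl.map (algebraMap R S : R →* S)) ⊔ Q.primeCompl with hM
  have hdisj : Disjoint (I : Set S) (M : Set S) := by
    rw [Set.disjoint_left]
    intro x hxI hxM
    rw [SetLike.mem_coe, hM, Submonoid.mem_sup] at hxM
    obtain ⟨_, ⟨a, hat, rfl⟩, s, hs, rfl⟩ := hxM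
    have hat' : a ∉ t := hat
    have hs' : s ∉ Q := hs
    rw [SetLike.mem_coe, hI, Submodule.mem_sup] at hxI
    obtain ⟨π, hπ, τ, hτ, hsum⟩ := hxI
    -- key claim on elements of `t S`
    have key : ∀ τ ∈ t.map (algebraMap R S), ∃ u : R, u ∉ q ∧ ∃ σ ∈ Q,
        algebraMap R S u * τ = algebraMap R S a * σ := by
      intro τ hτ
      refine Submodule.span_induction (p := fun τ _ => ∃ u : R, u ∉ q ∧ ∃ σ ∈ Q,
        algebraMap R S u * τ = algebraMap R S a * σ) ?_ ?_ ?_ ?_ hτ
      · rintro _ ⟨t₁, ht₁, rfl⟩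
        obtain ⟨u, hu, c, e | e⟩ := hc a t₁
        · exfalso
          have : u * a ∈ t := e ▸ Ideal.mul_mem_left _ _ ht₁
          rcases Ideal.IsPrime.mem_or_mem ‹t.IsPrime› this with h | h
          · exact hu (htq h)
          · exact hat' h
        · have hct : c ∈ t := by
            have : c * a ∈ t := e ▸ Ideal.mul_mem_left _ _ ht₁
            rcases Ideal.IsPrime.mem_or_mem ‹t.IsPrime› this with h | h
            · exact h
            · exact absurd h hat'
          refine ⟨u, hu, algebraMap R S c, htq hct, ?_⟩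
          rw [← map_mul, ← map_mul, e, mul_comm]
      · exact ⟨1, fun h => Ideal.IsPrime.ne_top' ((Ideal.eq_top_iff_one q).mpr h), 0, Q.zero_mem,
          by simp⟩
      · rintro τ₁ τ₂ _ _ ⟨u₁, hu₁, σ₁, hσ₁, e₁⟩ ⟨u₂, hu₂, σ₂, hσ₂, e₂⟩
        refine ⟨u₁ * u₂, fun h => ?_, algebraMap R S u₂ * σ₁ + algebraMap R S u₁ * σ₂,
          Ideal.add_mem _ (Ideal.mul_mem_left _ _ hσ₁) (Ideal.mul_mem_left _ _ hσ₂), ?_⟩
        · rcases Ideal.IsPrime.mem_or_mem ‹q.IsPrime› h with h | h
          · exact hu₁ h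
          · exact hu₂ h
        · rw [map_mul]
          calc algebraMap R S u₁ * algebraMap R S u₂ * (τ₁ + τ₂)
              = algebraMap R S u₂ * (algebraMap R S u₁ * τ₁) +
                algebraMap R S u₁ * (algebraMap R S u₂ * τ₂) := by ring
            _ = algebraMap R S u₂ * (algebraMap R S a * σ₁) +
                algebraMap R S u₁ * (algebraMap R S a * σ₂) := by rw [e₁, e₂]
            _ = algebraMap R S a * (algebraMap R S u₂ * σ₁ + algebraMap R S u₁ * σ₂) := by ring
      · rintro s' τ₁ _ ⟨u₁, hu₁, σ₁, hσ₁, e₁⟩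
        refine ⟨u₁, hu₁, s' * σ₁, Ideal.mul_mem_left _ _ hσ₁, ?_⟩
        rw [smul_eq_mul]
        calc algebraMap R S u₁ * (s' * τ₁) = s' * (algebraMap R S u₁ * τ₁) := by ring
          _ = s' * (algebraMap R S a * σ₁) := by rw [e₁]
          _ = algebraMap R S a * (s' * σ₁) := by ring
    obtain ⟨u, hu, σ, hσ, e⟩ := key τ hτ
    have haP : algebraMap R S a ∉ P := fun h => hat' (hpt h)
    have h1 : algebraMap R S a * (algebraMap R S u * s - σ) ∈ P := by
      have : algebraMap R S a * (algebraMap R S u * s - σ) = algebraMap R S u * π := by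
        have hs2 : (algebraMap R S : R →* S) a * s = π + τ := hsum.symm
        have hs3 : algebraMap R S a * s = π + τ := hs2
        calc algebraMap R S a * (algebraMap R S u * s - σ)
            = algebraMap R S u * (algebraMap R S a * s) - algebraMap R S a * σ := by ring
          _ = algebraMap R S u * (π + τ) - algebraMap R S u * τ := by rw [hs3, e]
          _ = algebraMap R S u * π := by ring
      rw [this]
      exact Ideal.mul_mem_left _ _ hπ
    have h2 : algebraMap R S u * s - σ ∈ P := by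
      rcases Ideal.IsPrime.mem_or_mem ‹P.IsPrime› h1 with h | h
      · exact absurd h haP
      · exact h
    have h3 : algebraMap R S u * s ∈ Q := by
      have := Ideal.add_mem _ (hPQ h2) hσ
      rwa [sub_add_cancel] at this
    rcases Ideal.IsPrime.mem_or_mem ‹Q.IsPrime› h3 with h | h
    · exact hu h
    · exact hs' h
  obtain ⟨Q₂, hQ₂, hIQ₂, hQ₂M⟩ := Ideal.exists_le_prime_disjoint I M hdisj
  refine ⟨Q₂, hQ₂, le_sup_left.trans hIQ₂, ?_, ?_⟩
  · intro x hx
    by_contra hxQ
    exact Set.disjoint_left.mp hQ₂M hx (Submonoid.mem_sup_right (show x ∈ Q.primeCompl from hxQ))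
  · apply le_antisymm
    · intro a ha
      by_contra hat
      refine Set.disjoint_left.mp hQ₂M (show algebraMap R S a ∈ Q₂ from ha)
        (Submonoid.mem_sup_left ⟨a, hat, rfl⟩)
    · intro a ha
      exact hIQ₂ (Ideal.mem_sup_right (Ideal.mem_map_of_mem _ ha))

end GoingDown

section Height

variable {R : Type*} [CommRing R]

theorem locComparable_of_valuationRing [IsDomain R] (q : Ideal R) [q.IsPrime]
    [ValuationRing (Localization.AtPrime q)] : LocComparable q := by
  intro a b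
  have hinj : Function.Injective (algebraMap R (Localization.AtPrime q)) :=
    IsLocalization.injective _ q.primeCompl_le_nonZeroDivisors
  obtain ⟨c, hc⟩ := ValuationRing.cond (algebraMap R (Localization.AtPrime q) a)
    (algebraMap R (Localization.AtPrime q) b)
  obtain ⟨c₀, s, rfl⟩ := IsLocalization.exists_mk'_eq q.primeCompl c
  refine ⟨s, s.2, c₀, ?_⟩
  rcases hc with h | h
  · right
    apply hinj
    rw [map_mul, map_mul, ← h, mul_comm (algebraMap R _ a), ← mul_assoc,
      IsLocalization.mk'_spec'_mk]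
  · left
    apply hinj
    rw [map_mul, map_mul, ← h, mul_comm (algebraMap R _ b), ← mul_assoc,
      IsLocalization.mk'_spec'_mk]

theorem prime_le_total {q : Ideal R} (hc : LocComparable q) (t p : Ideal R) [t.IsPrime]
    [p.IsPrime] (ht : t ≤ q) (hp : p ≤ q) : t ≤ p ∨ p ≤ t := by
  by_contra hcon
  push Not at hcon
  obtain ⟨h1, h2⟩ := hcon
  obtain ⟨a, hat, hap⟩ := Set.not_subset.mp h1
  obtain ⟨b, hbp, hbt⟩ := Set.not_subset.mp h2
  obtain ⟨u, hu, c, e | e⟩ := hc a b
  · have : u * a ∈ p := e ▸ Ideal.mul_mem_left _ _ hbp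
    rcases Ideal.IsPrime.mem_or_mem ‹p.IsPrime› this with h | h
    · exact hu (hp h)
    · exact hap h
  · have : u * b ∈ t := e ▸ Ideal.mul_mem_left _ _ hat
    rcases Ideal.IsPrime.mem_or_mem ‹t.IsPrime› this with h | h
    · exact hu (ht h)
    · exact hbt h

/-- If `p ⋖ q` among primes and the primes below `q` are totally ordered, `ht q = ht p + 1`. -/
theorem height_eq_add_one_of_covBy {p q : Ideal R} [p.IsPrime] [q.IsPrime] (hc : LocComparable q)
    (hpq : p < q) (hcov : ∀ t : Ideal R, t.IsPrime → p < t → t < q → False)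
    (hfin : q.height ≠ ⊤) : q.height = p.height + 1 := by
  haveI : q.FiniteHeight := ⟨Or.inr hfin⟩
  have hlt : p.height < q.height := Ideal.height_strict_mono_of_isPrime_of_isPrime hpq
  have hpfin : p.height ≠ ⊤ := (lt_of_lt_of_le hlt le_top).ne
  apply le_antisymm
  · obtain ⟨n, hn⟩ := ENat.ne_top_iff_exists.mp hpfin
    rw [← hn]
    have : q.height ≤ ((n + 1 : ℕ) : ℕ∞) := by
      rw [Ideal.height_le_iff]
      intro t ht htq
      have htp : t ≤ p := by
        rcases prime_le_total hc t p htq.le hpq.le with h | h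
        · exact h
        · rcases eq_or_lt_of_le h with h' | h'
          · exact h'.ge
          · exact (hcov t ht h' htq).elim
      have := Ideal.height_mono htp
      rw [← hn] at this
      exact lt_of_le_of_lt this (by exact_mod_cast Nat.lt_succ_self n)
    exact_mod_cast this
  · exact Order.add_one_le_of_lt hlt

end Height

section SameFibre

open Groth.Agent.Lib.Helper23.FlatDimTrdeg

/-- strict decrease of the dimension of quotients by primes, finite type algebras over a field -/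
theorem ringKrullDim_quotient_lt_of_lt (k F : Type u) [Field k] [CommRing F] [Algebra k F]
    [Algebra.FiniteType k F] (𝔓 𝔔 : Ideal F) [𝔓.IsPrime] [𝔔.IsPrime] (h : 𝔓 < 𝔔) :
    ringKrullDim (F ⧸ 𝔔) + 1 ≤ ringKrullDim (F ⧸ 𝔓) := by
  obtain ⟨x, hx𝔔, hx𝔓⟩ := Set.exists_of_ssubset h
  have hne : Ideal.Quotient.mk 𝔓 x ≠ 0 := fun h0 => hx𝔓 (Ideal.Quotient.eq_zero_iff_mem.mp h0)
  refine ringKrullDim_succ_le_of_surjective (Ideal.Quotient.factor h.le)
    (Ideal.Quotient.factor_surjective h.le) (mem_nonZeroDivisors_of_ne_zero hne) ?_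
  rw [Ideal.Quotient.factor_mk]
  exact Ideal.Quotient.eq_zero_iff_mem.mpr hx𝔔

variable {R S : Type u} [CommRing R] [CommRing S] [Algebra R S] [Algebra.FiniteType R S]

set_option maxHeartbeats 1000000 in
/-- The case where both primes lie over the same prime of the base. -/
theorem sameFibre (P Q : Ideal S) [P.IsPrime] [Q.IsPrime] (hPQ : P < Q)
    (h : P.under R = Q.under R) :
    ∃ a b : ℕ, Algebra.trdeg (R ⧸ P.under R) (S ⧸ P) = a ∧
      Algebra.trdeg (R ⧸ Q.under R) (S ⧸ Q) = b ∧ b < a ∧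
      ((∀ Q₂ : Ideal S, Q₂.IsPrime → P < Q₂ → Q₂ < Q → False) → a = b + 1) := by
  set p := P.under R with hp
  haveI : p.IsPrime := Ideal.IsPrime.under R P
  let e := PrimeSpectrum.primesOverOrderIsoFiber R S p
  let xP : p.primesOver S := ⟨P, ‹P.IsPrime›, ⟨rfl⟩⟩
  let xQ : p.primesOver S := ⟨Q, ‹Q.IsPrime›, ⟨h⟩⟩
  set 𝔓 := e xP with h𝔓
  set 𝔔 := e xQ with h𝔔
  have hlt : 𝔓 < 𝔔 := e.strictMono (show xP < xQ from hPQ)
  have hcP : 𝔓.asIdeal.comap (Algebra.TensorProduct.includeRight : S →ₐ[R] p.Fiber S) = P := by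
    have h1 := PrimeSpectrum.coe_primesOverOrderIsoFiber_symm_apply (R := R) (S := S) (p := p) 𝔓
    rw [h𝔓, e.symm_apply_apply] at h1
    exact h1.symm
  have hcQ : 𝔔.asIdeal.comap (Algebra.TensorProduct.includeRight : S →ₐ[R] p.Fiber S) = Q := by
    have h1 := PrimeSpectrum.coe_primesOverOrderIsoFiber_symm_apply (R := R) (S := S) (p := p) 𝔔
    rw [h𝔔, e.symm_apply_apply] at h1
    exact h1.symm
  obtain ⟨a, ha1, ha2⟩ := Groth.Agent.Lib.Helper55.exists_ringKrullDim_eq_and_trdeg_eq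
    p.ResidueField (p.Fiber S ⧸ 𝔓.asIdeal)
  obtain ⟨b, hb1, hb2⟩ := Groth.Agent.Lib.Helper55.exists_ringKrullDim_eq_and_trdeg_eq
    p.ResidueField (p.Fiber S ⧸ 𝔔.asIdeal)
  have hPa : Algebra.trdeg (R ⧸ P.under R) (S ⧸ P) = a := by
    rw [← ha2, ← trdeg_quotient_eq_trdeg_fiber_quotient p 𝔓.asIdeal]
    exact trdeg_quotient_congr rfl hcP.symm
  have hQb : Algebra.trdeg (R ⧸ Q.under R) (S ⧸ Q) = b := by
    rw [← hb2, ← trdeg_quotient_eq_trdeg_fiber_quotient p 𝔔.asIdeal]
    exact trdeg_quotient_congr h.symm hcQ.symm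
  refine ⟨a, b, hPa, hQb, ?_, ?_⟩
  · have h1 := ringKrullDim_quotient_lt_of_lt p.ResidueField (p.Fiber S) 𝔓.asIdeal 𝔔.asIdeal hlt
    rw [ha1, hb1] at h1
    have : b + 1 ≤ a := by exact_mod_cast h1
    omega
  · intro hcov
    have hcovF : 𝔓 ⋖ 𝔔 := by
      refine ⟨hlt, fun 𝔑 h1 h2 => ?_⟩
      have h1' : xP < e.symm 𝔑 := by
        have := e.symm.strictMono h1
        rwa [h𝔓, e.symm_apply_apply] at this
      have h2' : e.symm 𝔑 < xQ := by
        have := e.symm.strictMono h2
        rwa [h𝔔, e.symm_apply_apply] at this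
      exact hcov (e.symm 𝔑).1 (e.symm 𝔑).2.1 h1' h2'
    have h1 := Groth.Agent.Lib.Helper55.ringKrullDim_quotient_eq_add_one_of_covBy
      p.ResidueField (p.Fiber S) 𝔓 𝔔 hcovF
    rw [ha1, hb1] at h1
    exact_mod_cast h1

end SameFibre

section DomainCase

open Groth.Agent.Lib.Helper23.FlatDimTrdeg

variable {A C : Type u} [CommRing A] [CommRing C] [IsDomain A] [IsDomain C] [Algebra A C]
  [FaithfulSMul A C] [Algebra.FiniteType A C]

set_option maxHeartbeats 1000000 in
/-- **(c'')** Chevalley's inequality at a height one prime over a nonzero prime of the base. -/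
theorem trdeg_le_of_covBy_bot (Q' : Ideal C) [Q'.IsPrime] (hq : Q'.under A ≠ ⊥)
    (hcov : ∀ Q₁ : Ideal C, Q₁.IsPrime → Q₁ < Q' → Q₁ = ⊥) :
    Algebra.trdeg A C ≤ Algebra.trdeg (A ⧸ Q'.under A) (C ⧸ Q') := by
  obtain ⟨𝔔, h𝔔⟩ := exists_fiber_prime (A := A) Q'
  obtain ⟨n, hn⟩ := Cardinal.lt_aleph0.mp (trdeg_lt_aleph0_of_finiteType (R := A) (S := C))
  obtain ⟨r, hr, -⟩ := fibreDimAt_eq Q' 𝔔 h𝔔
  let e := PrimeSpectrum.primesOverOrderIsoFiber A C (Q'.under A)
  have hd : 𝔔.asIdeal.height = (0 : ℕ) := by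
    rw [Nat.cast_zero, Ideal.height_eq_zero_iff]
    refine ⟨⟨𝔔.2, bot_le⟩, ?_⟩
    rintro 𝔔₁ ⟨h𝔔₁, -⟩ hle
    by_contra hnle
    have hlt : (⟨𝔔₁, h𝔔₁⟩ : PrimeSpectrum _) < 𝔔 := lt_of_le_of_ne hle fun heq => by
      apply hnle
      have : 𝔔₁ = 𝔔.asIdeal := congrArg PrimeSpectrum.asIdeal heq
      rw [this]
    have h1 := e.symm.strictMono hlt
    have h2 : ((e.symm ⟨𝔔₁, h𝔔₁⟩ : (Q'.under A).primesOver C) : Ideal C) <
        ((e.symm 𝔔 : (Q'.under A).primesOver C) : Ideal C) := h1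
    rw [PrimeSpectrum.coe_primesOverOrderIsoFiber_symm_apply,
      PrimeSpectrum.coe_primesOverOrderIsoFiber_symm_apply] at h2
    have h3 : 𝔔.asIdeal.comap (Algebra.TensorProduct.includeRight : C →ₐ[A] _) = Q' := h𝔔
    rw [h3] at h2
    have h4 := hcov _ (e.symm ⟨𝔔₁, h𝔔₁⟩).2.1 (by
      rw [PrimeSpectrum.coe_primesOverOrderIsoFiber_symm_apply]; exact h2)
    have h5 : Q'.under A = ((e.symm ⟨𝔔₁, h𝔔₁⟩ : (Q'.under A).primesOver C) : Ideal C).under A :=
      (e.symm ⟨𝔔₁, h𝔔₁⟩).2.2.over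
    rw [h4, Ideal.under_bot] at h5
    exact hq h5
  have h6 := trdeg_le_fiber Q' 𝔔 h𝔔 n 0 r hn hd hr
  rw [hn]
  have h7 : Algebra.trdeg (A ⧸ Q'.under A) (C ⧸ Q') = r := by
    rw [← hr, ← trdeg_quotient_eq_trdeg_fiber_quotient (Q'.under A) 𝔔.asIdeal]
    exact trdeg_quotient_congr rfl h𝔔.symm
  rw [h7]
  have : n ≤ r := by omega
  exact_mod_cast this

end DomainCase

section TrdegIso

/-- Transcendence degree is invariant under compatible ring isomorphisms. -/
theorem trdeg_le_of_ringEquiv {R₁ A₁ R₂ A₂ : Type u} [CommRing R₁] [CommRing A₁] [CommRing R₂]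
    [CommRing A₂] [Algebra R₁ A₁] [Algebra R₂ A₂] [Nontrivial R₂] (e₁ : R₁ ≃+* R₂) (e₂ : A₁ ≃+* A₂)
    (h : (algebraMap R₂ A₂).comp (e₁ : R₁ →+* R₂) = (e₂ : A₁ →+* A₂).comp (algebraMap R₁ A₁)) :
    Algebra.trdeg R₁ A₁ ≤ Algebra.trdeg R₂ A₂ := by
  unfold Algebra.trdeg
  apply ciSup_le'
  rintro ⟨s, hs⟩
  have h1 : AlgebraicIndependent R₂ ((e₂ : A₁ →+* A₂) ∘ ((↑) : s → A₁)) :=
    hs.ringHom_of_comp_eq (e₁ : R₁ →+* R₂) (e₂ : A₁ →+* A₂) e₁.surjective e₂.injective h
  exact h1.cardinalMk_le_trdeg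

theorem trdeg_eq_of_ringEquiv {R₁ A₁ R₂ A₂ : Type u} [CommRing R₁] [CommRing A₁] [CommRing R₂]
    [CommRing A₂] [Algebra R₁ A₁] [Algebra R₂ A₂] [Nontrivial R₁] [Nontrivial R₂]
    (e₁ : R₁ ≃+* R₂) (e₂ : A₁ ≃+* A₂)
    (h : (algebraMap R₂ A₂).comp (e₁ : R₁ →+* R₂) = (e₂ : A₁ →+* A₂).comp (algebraMap R₁ A₁)) :
    Algebra.trdeg R₁ A₁ = Algebra.trdeg R₂ A₂ := by
  apply le_antisymm (trdeg_le_of_ringEquiv e₁ e₂ h)
  apply trdeg_le_of_ringEquiv e₁.symm e₂.symm
  ext x
  obtain ⟨y, rfl⟩ := e₁.surjective x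
  have := congr($h y)
  simp only [RingHom.comp_apply, RingHom.coe_coe] at this ⊢
  rw [RingEquiv.symm_apply_apply, this, RingEquiv.symm_apply_apply]

end TrdegIso

section Transfer

variable {R S : Type u} [CommRing R] [CommRing S] [Algebra R S]

theorem under_map_mk (P Q : Ideal S) [P.IsPrime] [Q.IsPrime] (hPQ : P ≤ Q) :
    (Q.map (Ideal.Quotient.mk P)).under (R ⧸ P.under R) =
      (Q.under R).map (Ideal.Quotient.mk (P.under R)) := by
  have hcm : (Q.map (Ideal.Quotient.mk P)).comap (Ideal.Quotient.mk P) = Q := by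
    rw [Ideal.comap_map_of_surjective _ Ideal.Quotient.mk_surjective, ← RingHom.ker_eq_comap_bot,
      Ideal.mk_ker]
    exact sup_eq_left.mpr hPQ
  ext x
  obtain ⟨x, rfl⟩ := Ideal.Quotient.mk_surjective x
  have h1 : Ideal.Quotient.mk (P.under R) x ∈
      (Q.map (Ideal.Quotient.mk P)).under (R ⧸ P.under R) ↔ algebraMap R S x ∈ Q := by
    change Ideal.Quotient.mk P (algebraMap R S x) ∈ Q.map (Ideal.Quotient.mk P) ↔ _
    rw [← Ideal.mem_comap, hcm]
  rw [h1]
  constructor
  · intro hx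
    exact Ideal.mem_map_of_mem _ hx
  · intro hx
    have h2 : ((Q.under R).map (Ideal.Quotient.mk (P.under R))).comap
        (Ideal.Quotient.mk (P.under R)) = Q.under R := by
      rw [Ideal.comap_map_of_surjective _ Ideal.Quotient.mk_surjective,
        ← RingHom.ker_eq_comap_bot, Ideal.mk_ker]
      exact sup_eq_left.mpr (Ideal.comap_mono hPQ)
    have : x ∈ ((Q.under R).map (Ideal.Quotient.mk (P.under R))).comap
        (Ideal.Quotient.mk (P.under R)) := hx
    rw [h2] at this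
    exact this

/-- Third isomorphism theorem for residual transcendence degrees. -/
theorem trdeg_doubleQuot (P Q : Ideal S) [P.IsPrime] [Q.IsPrime] (hPQ : P ≤ Q)
    [(Q.map (Ideal.Quotient.mk P)).IsPrime] :
    Algebra.trdeg ((R ⧸ P.under R) ⧸ (Q.map (Ideal.Quotient.mk P)).under (R ⧸ P.under R))
        ((S ⧸ P) ⧸ Q.map (Ideal.Quotient.mk P)) =
      Algebra.trdeg (R ⧸ Q.under R) (S ⧸ Q) := by
  have hpq : P.under R ≤ Q.under R := Ideal.comap_mono hPQ
  let e₂ : (S ⧸ P) ⧸ Q.map (Ideal.Quotient.mk P) ≃+* S ⧸ Q := DoubleQuot.quotQuotEquivQuotOfLE hPQ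
  let e₁ : (R ⧸ P.under R) ⧸ (Q.map (Ideal.Quotient.mk P)).under (R ⧸ P.under R) ≃+*
      R ⧸ Q.under R :=
    (Ideal.quotEquivOfEq (under_map_mk P Q hPQ)).trans (DoubleQuot.quotQuotEquivQuotOfLE hpq)
  haveI : Nontrivial (R ⧸ Q.under R) :=
    Ideal.Quotient.nontrivial_iff.mpr (Ideal.IsPrime.under R Q).ne_top
  haveI : Nontrivial ((R ⧸ P.under R) ⧸ (Q.map (Ideal.Quotient.mk P)).under (R ⧸ P.under R)) :=
    e₁.symm.injective.nontrivial
  refine trdeg_eq_of_ringEquiv e₁ e₂ ?_
  apply Ideal.Quotient.ringHom_ext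
  apply Ideal.Quotient.ringHom_ext
  ext x
  rfl

end Transfer


section Main

variable (R : Type u) [CommRing R] [IsDomain R] (S : Type u) [CommRing S] [Algebra R S]
  [Algebra.FiniteType R S]

omit [IsDomain R] in
theorem finiteType_quotient (P : Ideal S) [P.IsPrime] :
    Algebra.FiniteType (R ⧸ P.under R) (S ⧸ P) := by
  haveI : Algebra.FiniteType R (S ⧸ P) :=
    Algebra.FiniteType.of_surjective (Ideal.Quotient.mkₐ R P) Ideal.Quotient.mk_surjective
  exact Algebra.FiniteType.of_restrictScalars_finiteType R (R ⧸ P.under R) (S ⧸ P)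

omit [IsDomain R] [Algebra.FiniteType R S] in
theorem faithfulSMul_quotient (P : Ideal S) [P.IsPrime] :
    FaithfulSMul (R ⧸ P.under R) (S ⧸ P) := by
  rw [faithfulSMul_iff_algebraMap_injective, injective_iff_map_eq_zero]
  intro x hx
  obtain ⟨x, rfl⟩ := Ideal.Quotient.mk_surjective x
  rw [Ideal.Quotient.algebraMap_mk_of_liesOver, Ideal.Quotient.eq_zero_iff_mem] at hx
  exact Ideal.Quotient.eq_zero_iff_mem.mpr hx

omit [IsDomain R] in
theorem trdeg_quotient_lt_aleph0 (P : Ideal S) [P.IsPrime] :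
    Algebra.trdeg (R ⧸ P.under R) (S ⧸ P) < Cardinal.aleph0 := by
  haveI := finiteType_quotient R S P
  exact trdeg_lt_aleph0_of_finiteType

variable (hR : ∀ (p : Ideal R) [p.IsPrime], ValuationRing (Localization.AtPrime p))
  (hdim : ringKrullDim R < ⊤)

omit [IsDomain R] in
include hdim in
theorem height_ne_top (t : Ideal R) [t.IsPrime] : t.height ≠ ⊤ := by
  intro h
  have h1 := Ideal.height_le_ringKrullDim_of_isPrime (I := t)
  rw [h] at h1
  exact (lt_of_le_of_lt h1 hdim).ne rfl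

/-- the invariant `δ` -/
noncomputable def delta (P : Ideal S) : ℤ :=
  (Cardinal.toNat (Algebra.trdeg (R ⧸ P.under R) (S ⧸ P)) : ℤ) - ((P.under R).height.toNat : ℤ)

include hR hdim in
/-- `δ` is strictly decreasing. -/
theorem delta_lt (P Q : Ideal S) [P.IsPrime] [Q.IsPrime] (hPQ : P < Q) :
    delta R S Q < delta R S P := by
  unfold delta
  set p := P.under R with hp
  set q := Q.under R with hq
  haveI : p.IsPrime := Ideal.IsPrime.under R P
  haveI : q.IsPrime := Ideal.IsPrime.under R Q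
  have hpq : p ≤ q := Ideal.comap_mono hPQ.le
  rcases eq_or_lt_of_le hpq with heq | hlt
  · obtain ⟨a, b, ha, hb, hba, -⟩ := sameFibre (R := R) P Q hPQ heq
    have heq' : Ideal.under R P = Ideal.under R Q := heq
    rw [ha, hb, ← heq']
    simp only [Cardinal.toNat_natCast]
    omega
  · haveI := hR q
    have hc : LocComparable q := locComparable_of_valuationRing q
    have h1 := trdeg_quotient_le (R := R) P Q hPQ.le hc
    have h2 := Cardinal.toNat_le_toNat h1 (trdeg_quotient_lt_aleph0 R S P)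
    haveI : q.FiniteHeight := ⟨Or.inr (height_ne_top R hdim q)⟩
    have h3 : p.height < q.height := Ideal.height_strict_mono_of_isPrime_of_isPrime hlt
    obtain ⟨n, hn⟩ := ENat.ne_top_iff_exists.mp (height_ne_top R hdim p)
    obtain ⟨m, hm⟩ := ENat.ne_top_iff_exists.mp (height_ne_top R hdim q)
    rw [← hn, ← hm] at h3 ⊢
    have h4 : n < m := by exact_mod_cast h3
    simp only [ENat.toNat_natCast]
    omega

include hR hdim in
set_option maxHeartbeats 1000000 in
/-- `δ` drops by exactly one along covering relations. -/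
theorem delta_eq_add_one_of_covBy (P Q : Ideal S) [P.IsPrime] [Q.IsPrime] (hPQ : P < Q)
    (hcov : ∀ Q₂ : Ideal S, Q₂.IsPrime → P < Q₂ → Q₂ < Q → False) :
    delta R S P = delta R S Q + 1 := by
  unfold delta
  set p := P.under R with hp
  set q := Q.under R with hq
  haveI : p.IsPrime := Ideal.IsPrime.under R P
  haveI : q.IsPrime := Ideal.IsPrime.under R Q
  have hpq : p ≤ q := Ideal.comap_mono hPQ.le
  rcases eq_or_lt_of_le hpq with heq | hlt
  · obtain ⟨a, b, ha, hb, -, hab⟩ := sameFibre (R := R) P Q hPQ heq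
    have heq' : Ideal.under R P = Ideal.under R Q := heq
    rw [ha, hb, ← heq', hab hcov]
    simp only [Cardinal.toNat_natCast]
    push_cast
    ring
  · haveI := hR q
    have hc : LocComparable q := locComparable_of_valuationRing q
    -- `p ⋖ q`
    have hcovR : ∀ t : Ideal R, t.IsPrime → p < t → t < q → False := by
      intro t ht hpt htq
      obtain ⟨Q₂, hQ₂, h1, h2, h3⟩ := exists_prime_between P Q hPQ.le hc t hpt.le htq.le
      have h1' : P < Q₂ := lt_of_le_of_ne h1 fun h => by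
        rw [← h] at h3
        exact hpt.ne h3
      have h2' : Q₂ < Q := lt_of_le_of_ne h2 fun h => by
        rw [h] at h3
        exact htq.ne h3.symm
      exact hcov Q₂ hQ₂ h1' h2'
    have hht := height_eq_add_one_of_covBy hc hlt hcovR (height_ne_top R hdim q)
    -- transcendence degrees agree
    have h1 := trdeg_quotient_le (R := R) P Q hPQ.le hc
    haveI hQ' : (Q.map (Ideal.Quotient.mk P)).IsPrime :=
      Ideal.map_isPrime_of_surjective Ideal.Quotient.mk_surjective
        (by rw [Ideal.mk_ker]; exact hPQ.le)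
    haveI := finiteType_quotient R S P
    haveI := faithfulSMul_quotient R S P
    have hcm : (Q.map (Ideal.Quotient.mk P)).comap (Ideal.Quotient.mk P) = Q := by
      rw [Ideal.comap_map_of_surjective _ Ideal.Quotient.mk_surjective,
        ← RingHom.ker_eq_comap_bot, Ideal.mk_ker]
      exact sup_eq_left.mpr hPQ.le
    have hq' : (Q.map (Ideal.Quotient.mk P)).under (R ⧸ P.under R) ≠ ⊥ := by
      rw [under_map_mk P Q hPQ.le, Ne, Ideal.map_eq_bot_iff_le_ker, Ideal.mk_ker]
      exact not_le_of_gt hlt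
    have hcov' : ∀ Q₁ : Ideal (S ⧸ P), Q₁.IsPrime → Q₁ < Q.map (Ideal.Quotient.mk P) →
        Q₁ = ⊥ := by
      intro Q₁ hQ₁ hQ₁lt
      have hmc : (Q₁.comap (Ideal.Quotient.mk P)).map (Ideal.Quotient.mk P) = Q₁ :=
        Ideal.map_comap_of_surjective _ Ideal.Quotient.mk_surjective Q₁
      have hPle : P ≤ Q₁.comap (Ideal.Quotient.mk P) := by
        intro x hx
        rw [Ideal.mem_comap, Ideal.Quotient.eq_zero_iff_mem.mpr hx]
        exact Q₁.zero_mem
      have hltQ : Q₁.comap (Ideal.Quotient.mk P) < Q := by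
        rw [← hcm]
        refine lt_of_le_of_ne (Ideal.comap_mono hQ₁lt.le) fun h => hQ₁lt.ne ?_
        rw [← hmc, h, Ideal.map_comap_of_surjective _ Ideal.Quotient.mk_surjective]
      have hPeq : P = Q₁.comap (Ideal.Quotient.mk P) := by
        by_contra hne
        exact hcov _ (Ideal.comap_isPrime _ Q₁) (lt_of_le_of_ne hPle hne) hltQ
      rw [← hmc, ← hPeq, Ideal.map_quotient_self]
    have h2 := trdeg_le_of_covBy_bot (A := R ⧸ P.under R) (C := S ⧸ P)
      (Q.map (Ideal.Quotient.mk P)) hq' hcov'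
    rw [trdeg_doubleQuot P Q hPQ.le] at h2
    have h3 : Algebra.trdeg (R ⧸ p) (S ⧸ P) = Algebra.trdeg (R ⧸ q) (S ⧸ Q) :=
      le_antisymm h2 h1
    rw [h3, hht]
    obtain ⟨n, hn⟩ := ENat.ne_top_iff_exists.mp (height_ne_top R hdim p)
    rw [← hn]
    have : ((n : ℕ∞) + 1).toNat = n + 1 := by
      rw [show ((n : ℕ∞) + 1) = ((n + 1 : ℕ) : ℕ∞) by push_cast; rfl, ENat.toNat_natCast]
    rw [this, ENat.toNat_natCast]
    push_cast
    ring

include hR hdim in
/-- **The dimension function on finite type algebras over a finite dimensional Prüfer domain.** -/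
theorem main (P Q : Ideal S) [P.IsPrime] [Q.IsPrime] (hPQ : P < Q) :
    delta R S Q < delta R S P ∧
      ((⟨P, inferInstance⟩ : PrimeSpectrum S) ⋖ ⟨Q, inferInstance⟩ ↔
        delta R S P = delta R S Q + 1) := by
  refine ⟨delta_lt R S hR hdim P Q hPQ, ?_, ?_⟩
  · intro hcov
    refine delta_eq_add_one_of_covBy R S hR hdim P Q hPQ ?_
    intro Q₂ hQ₂ h1 h2
    exact hcov.2 (c := ⟨Q₂, hQ₂⟩) h1 h2
  · intro heq
    refine ⟨hPQ, ?_⟩
    intro Q₂ h1 h2
    haveI := Q₂.2
    have e1 := delta_lt R S hR hdim P Q₂.asIdeal h1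
    have e2 := delta_lt R S hR hdim Q₂.asIdeal Q h2
    omega

end Main

end Groth.Agent.Lib.Helper23.PruferDim
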