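import Mathlib
import Groth.Prelude.Def_Found
import Groth.Agent.Lib.Helper23.PruferDim

/-!
# Finite type algebras over finite dimensional Prüfer domains are catenary

Uses the dimension function `delta` of `PruferDim`.
-/

set_option autoImplicit false
universe u

namespace Groth.Agent.Lib.Helper23.PruferCatenary

open Groth.Agent.Lib.Helper23.PruferDim

section Abstract

variable {α : Type*} [PartialOrder α] (δ : α → ℤ)

theorem length_le_of_strictAnti (hδ : ∀ a b : α, a < b → δ b < δ a) (s : LTSeries α) :
    (s.length : ℤ) ≤ δ s.head - δ s.last := by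
  have key : ∀ i : ℕ, ∀ h : i < s.length + 1, (i : ℤ) ≤ δ (s 0) - δ (s ⟨i, h⟩) := by
    intro i
    induction i with
    | zero =>
      intro h
      simp
    | succ n ih =>
      intro h
      have h' : n < s.length + 1 := by omega
      have h1 := ih h'
      have hlt : s ⟨n, h'⟩ < s ⟨n + 1, h⟩ := s.strictMono (by simp [Fin.lt_def])
      have h2 := hδ _ _ hlt
      push_cast
      omega
  exact key s.length (by omega)

theorem length_eq_of_covBy (hδ : ∀ a b : α, a ⋖ b → δ a = δ b + 1) (s : LTSeries α)
    (hs : ∀ i : Fin s.length, s (Fin.castSucc i) ⋖ s (Fin.succ i)) :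
    (s.length : ℤ) = δ s.head - δ s.last := by
  have key : ∀ i : ℕ, ∀ h : i < s.length + 1, (i : ℤ) = δ (s 0) - δ (s ⟨i, h⟩) := by
    intro i
    induction i with
    | zero =>
      intro h
      simp
    | succ n ih =>
      intro h
      have h' : n < s.length := by omega
      have h1 := ih (by omega)
      have h2 := hδ _ _ (hs ⟨n, h'⟩)
      simp only [Fin.castSucc_mk, Fin.succ_mk] at h2
      push_cast
      omega
  exact key s.length (by omega)

theorem catenary_of_delta (hlt : ∀ a b : α, a < b → δ b < δ a)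
    (hcov : ∀ a b : α, a ⋖ b → δ a = δ b + 1) :
    (∀ p q : α, p ≤ q → ∃ n : ℕ, ∀ s : LTSeries α, s.head = p → s.last = q → s.length ≤ n) ∧
    ∀ s t : LTSeries α, s.head = t.head → s.last = t.last →
      (∀ i : Fin s.length, s (Fin.castSucc i) ⋖ s (Fin.succ i)) →
      (∀ i : Fin t.length, t (Fin.castSucc i) ⋖ t (Fin.succ i)) →
      s.length = t.length := by
  refine ⟨?_, ?_⟩
  · intro p q _
    refine ⟨(δ p - δ q).toNat, ?_⟩
    intro s hp hq
    have := length_le_of_strictAnti δ hlt s
    rw [hp, hq] at this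
    omega
  · intro s t h1 h2 hs ht
    have e1 := length_eq_of_covBy δ hcov s hs
    have e2 := length_eq_of_covBy δ hcov t ht
    rw [h1, h2] at e1
    omega

theorem krullDim_lt_top_of_delta (hlt : ∀ a b : α, a < b → δ b < δ a) (a b : ℤ)
    (hbound : ∀ x, a ≤ δ x ∧ δ x ≤ b) : Order.krullDim α < ⊤ := by
  have h : Order.krullDim α < (((b - a).toNat + 1 : ℕ) : WithBot ℕ∞) := by
    rw [Order.krullDim_lt_coe_iff]
    intro l
    have := length_le_of_strictAnti δ hlt l
    have h1 := hbound l.head
    have h2 := hbound l.last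
    omega
  exact lt_trans h (WithBot.coe_lt_coe.mpr (ENat.natCast_lt_top _))

end Abstract

section Concrete

variable (R : Type u) [CommRing R] [IsDomain R] (S : Type u) [CommRing S] [Algebra R S]
  [Algebra.FiniteType R S]

omit [IsDomain R] in
/-- uniform bound for the transcendence degrees of the residue rings -/
theorem exists_trdeg_le : ∃ n : ℕ, ∀ (P : Ideal S) [P.IsPrime],
    Algebra.trdeg (R ⧸ P.under R) (S ⧸ P) ≤ n := by
  obtain ⟨n, f, hf⟩ := Algebra.FiniteType.iff_quotient_mvPolynomial''.mp
    (inferInstance : Algebra.FiniteType R S)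
  refine ⟨n, fun P _ => ?_⟩
  haveI : (P.under R).IsPrime := Ideal.IsPrime.under R P
  let g : MvPolynomial (Fin n) (R ⧸ P.under R) →ₐ[R ⧸ P.under R] S ⧸ P :=
    MvPolynomial.aeval (fun i => Ideal.Quotient.mk P (f (MvPolynomial.X i)))
  have hg : Function.Surjective g := by
    intro x
    obtain ⟨x, rfl⟩ := Ideal.Quotient.mk_surjective x
    obtain ⟨φ, rfl⟩ := hf x
    refine ⟨MvPolynomial.map (Ideal.Quotient.mk (P.under R)) φ, ?_⟩
    induction φ using MvPolynomial.induction_on with
    | C a =>
      simp only [MvPolynomial.map_C, g, MvPolynomial.aeval_C]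
      rw [Ideal.Quotient.algebraMap_mk_of_liesOver]
      congr 1
      exact (f.commutes a).symm
    | add p q hp hq => simp only [map_add, hp, hq]
    | mul_X p i hp =>
      simp only [map_mul, hp, MvPolynomial.map_X]
      congr 1
      simp [g]
  have h := _root_.trdeg_le_of_surjective g hg
  rw [MvPolynomial.trdeg_of_isDomain] at h
  simpa using h

omit [Algebra.FiniteType R S] [IsDomain R] in
theorem exists_height_le [Nontrivial R] (hdim : ringKrullDim R < ⊤) :
    ∃ D : ℕ, ∀ (p : Ideal R) [p.IsPrime], p.height.toNat ≤ D := by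
  have h0 : ringKrullDim R ≠ ⊥ := fun h => by
    have := ringKrullDim_nonneg_of_nontrivial (R := R)
    rw [h] at this
    exact absurd this (by simp)
  obtain ⟨d, hd⟩ := WithBot.ne_bot_iff_exists.mp h0
  have hd' : d ≠ ⊤ := by
    rintro rfl
    rw [← hd] at hdim
    exact lt_irrefl _ hdim
  obtain ⟨D, rfl⟩ := ENat.ne_top_iff_exists.mp hd'
  refine ⟨D, fun p _ => ?_⟩
  have h1 := Ideal.height_le_ringKrullDim_of_isPrime (I := p)
  rw [← hd, WithBot.coe_le_coe] at h1
  exact ENat.toNat_le_of_le_natCast h1

theorem exists_delta_bound (hdim : ringKrullDim R < ⊤) :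
    ∃ a b : ℤ, ∀ (P : Ideal S) [P.IsPrime], a ≤ delta R S P ∧ delta R S P ≤ b := by
  obtain ⟨n, hn⟩ := exists_trdeg_le R S
  obtain ⟨D, hD⟩ := exists_height_le R hdim
  refine ⟨-D, n, fun P _ => ?_⟩
  haveI : (P.under R).IsPrime := Ideal.IsPrime.under R P
  have h1 := hD (P.under R)
  have h2 := Cardinal.toNat_le_toNat (hn P) (Cardinal.natCast_lt_aleph0 (n := n))
  rw [Cardinal.toNat_natCast] at h2
  unfold delta
  omega

variable (hR : ∀ (p : Ideal R) [p.IsPrime], ValuationRing (Localization.AtPrime p))
  (hdim : ringKrullDim R < ⊤)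

include hR hdim in
/-- General form: a poset mapping to `Spec S` strictly monotonically and preserving covers is
catenary of finite dimension. -/
theorem catenary_of_map {β : Type*} [PartialOrder β] (c : β → PrimeSpectrum S)
    (hc : ∀ a b : β, a < b → c a < c b) (hcov : ∀ a b : β, a ⋖ b → c a ⋖ c b) :
    ((∀ p q : β, p ≤ q → ∃ n : ℕ, ∀ s : LTSeries β, s.head = p → s.last = q → s.length ≤ n) ∧
    ∀ s t : LTSeries β, s.head = t.head → s.last = t.last →
      (∀ i : Fin s.length, s (Fin.castSucc i) ⋖ s (Fin.succ i)) →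
      (∀ i : Fin t.length, t (Fin.castSucc i) ⋖ t (Fin.succ i)) →
      s.length = t.length) ∧ Order.krullDim β < ⊤ := by
  let δ : β → ℤ := fun x => delta R S (c x).asIdeal
  have hlt : ∀ a b : β, a < b → δ b < δ a := fun a b hab => by
    haveI := (c a).2
    haveI := (c b).2
    exact delta_lt R S hR hdim (c a).asIdeal (c b).asIdeal (hc a b hab)
  have hcov' : ∀ a b : β, a ⋖ b → δ a = δ b + 1 := fun a b hab => by
    haveI := (c a).2
    haveI := (c b).2
    exact (main R S hR hdim (c a).asIdeal (c b).asIdeal (hc a b hab.lt)).2.mp (hcov a b hab)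
  obtain ⟨a, b, hab⟩ := exists_delta_bound R S hdim
  refine ⟨catenary_of_delta δ hlt hcov', krullDim_lt_top_of_delta δ hlt a b fun x => ?_⟩
  haveI := (c x).2
  exact hab (c x).asIdeal

include hR hdim in
theorem main_theorem (M : Submonoid S) (T : Type u) [CommRing T] [Algebra S T]
    [IsLocalization M T] :
    CAlg.IsCatenary S ∧ ringKrullDim S < ⊤ ∧ CAlg.IsCatenary T ∧ ringKrullDim T < ⊤ := by
  obtain ⟨h1, h2⟩ := catenary_of_map R S hR hdim (β := PrimeSpectrum S) id (fun _ _ h => h)
    (fun _ _ h => h)
  have hmono : ∀ a b : PrimeSpectrum T, a < b →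
      PrimeSpectrum.comap (algebraMap S T) a < PrimeSpectrum.comap (algebraMap S T) b := by
    intro a b hab
    exact (IsLocalization.orderEmbedding M T).lt_iff_lt.mpr hab
  obtain ⟨h3, h4⟩ := catenary_of_map R S hR hdim (β := PrimeSpectrum T)
    (PrimeSpectrum.comap (algebraMap S T)) hmono (by
      intro a b hab
      refine ⟨hmono a b hab.lt, ?_⟩
      intro P' hP1 hP2
      have hdisj : Disjoint (M : Set S) (P'.asIdeal : Set S) := by
        have hb := ((IsLocalization.isPrime_iff_isPrime_disjoint M T b.asIdeal).mp b.2).2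
        exact Set.disjoint_of_subset_right hP2.le hb
      have hP'c : (Ideal.map (algebraMap S T) P'.asIdeal).under S = P'.asIdeal :=
        IsLocalization.under_map_of_isPrime_disjoint M T P'.2 hdisj
      let r : PrimeSpectrum T := ⟨Ideal.map (algebraMap S T) P'.asIdeal,
        IsLocalization.isPrime_of_isPrime_disjoint M T _ P'.2 hdisj⟩
      have hr : PrimeSpectrum.comap (algebraMap S T) r = P' := PrimeSpectrum.ext hP'c
      have e1 : a < r := by
        refine (IsLocalization.orderEmbedding M T).lt_iff_lt.mp ?_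
        show (PrimeSpectrum.comap (algebraMap S T) a).asIdeal <
          (PrimeSpectrum.comap (algebraMap S T) r).asIdeal
        rw [hr]
        exact hP1
      have e2 : r < b := by
        refine (IsLocalization.orderEmbedding M T).lt_iff_lt.mp ?_
        show (PrimeSpectrum.comap (algebraMap S T) r).asIdeal <
          (PrimeSpectrum.comap (algebraMap S T) b).asIdeal
        rw [hr]
        exact hP2
      exact hab.2 e1 e2)
  exact ⟨h1, h2, h3, h4⟩

end Concrete

end Groth.Agent.Lib.Helper23.PruferCatenary
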