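import Mathlib

/-!
# Weakly regular sequences: faithfully flat descent, local-global principle, openness (helper23)

Everything is phrased for the `R`-module `B ⊗[R] M` (with `B` a flat `R`-module, e.g. a
localization of `R` or a faithfully flat `R`-algebra), so that the induction on the length of the
sequence can pass to `M / r M` through `QuotSMulTop.tensorQuotSMulTopEquivQuotSMulTop`.

* `isWeaklyRegular_of_faithfullyFlat`: `rs` is weakly regular on `R` as soon as its image is weakly
  regular on a faithfully flat `R`-algebra.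
* `isWeaklyRegular_of_forall_maximal_ring`: local-global principle.
* `isOpen_setOf_isWeaklyRegular_ring`: over a Noetherian ring the weakly regular locus is open.
-/

set_option autoImplicit false
universe u v w

namespace Groth.Agent.Lib.Helper23.WeakReg

open RingTheory.Sequence TensorProduct

variable {R : Type u} [CommRing R]

section Basic

variable (B : Type v) [AddCommGroup B] [Module R B] (M : Type w) [AddCommGroup M] [Module R M]

theorem lsmul_tensor_eq (r : R) :
    LinearMap.lsmul R (B ⊗[R] M) r = (LinearMap.lsmul R M r).lTensor B := by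
  ext b m
  simp [TensorProduct.tmul_smul]

theorem isWeaklyRegular_tensor_cons_iff (r : R) (rs : List R) :
    IsWeaklyRegular (B ⊗[R] M) (r :: rs) ↔
      IsSMulRegular (B ⊗[R] M) r ∧ IsWeaklyRegular (B ⊗[R] QuotSMulTop r M) rs := by
  rw [isWeaklyRegular_cons_iff,
    (QuotSMulTop.tensorQuotSMulTopEquivQuotSMulTop r B M).isWeaklyRegular_congr rs]

theorem isSMulRegular_of_tensor [Module.FaithfullyFlat R B] {r : R}
    (h : IsSMulRegular (B ⊗[R] M) r) : IsSMulRegular M r := by
  have h1 : Function.Injective ((LinearMap.lsmul R M r).lTensor B) := by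
    rw [← lsmul_tensor_eq]
    exact h
  exact (Module.FaithfullyFlat.lTensor_injective_iff_injective R B _).mp h1

end Basic

/-- **Faithfully flat descent** of weak regularity (module form). -/
theorem isWeaklyRegular_of_tensor (B : Type v) [AddCommGroup B] [Module R B]
    [Module.FaithfullyFlat R B] :
    ∀ (rs : List R) (M : Type w) [AddCommGroup M] [Module R M],
      IsWeaklyRegular (B ⊗[R] M) rs → IsWeaklyRegular M rs
  | [], M, _, _, _ => IsWeaklyRegular.nil R M
  | r :: rs, M, _, _, h => by
    rw [isWeaklyRegular_tensor_cons_iff] at h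
    rw [isWeaklyRegular_cons_iff]
    exact ⟨isSMulRegular_of_tensor B M h.1, isWeaklyRegular_of_tensor B rs (QuotSMulTop r M) h.2⟩

/-- weak regularity on an algebra, as a module over itself or over the base. -/
theorem isWeaklyRegular_algebra_iff (S : Type v) [CommRing S] [Algebra R S] (rs : List R) :
    IsWeaklyRegular S (rs.map (algebraMap R S)) ↔ IsWeaklyRegular (S ⊗[R] R) rs := by
  rw [isWeaklyRegular_map_algebraMap_iff]
  exact ((TensorProduct.rid R S).isWeaklyRegular_congr rs).symm

/-- **Faithfully flat descent** of weak regularity (ring form). -/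
theorem isWeaklyRegular_of_faithfullyFlat {S : Type v} [CommRing S] [Algebra R S]
    [Module.FaithfullyFlat R S] {rs : List R}
    (h : IsWeaklyRegular S (rs.map (algebraMap R S))) : IsWeaklyRegular R rs :=
  isWeaklyRegular_of_tensor S rs R ((isWeaklyRegular_algebra_iff S rs).mp h)

theorem isWeaklyRegular_iff_of_faithfullyFlat {S : Type v} [CommRing S] [Algebra R S]
    [Module.FaithfullyFlat R S] {rs : List R} :
    IsWeaklyRegular S (rs.map (algebraMap R S)) ↔ IsWeaklyRegular R rs :=
  ⟨isWeaklyRegular_of_faithfullyFlat, fun h => h.of_flat⟩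

section LocalGlobal

variable (Rₚ : ∀ (P : Ideal R) [P.IsMaximal], Type u)
  [∀ (P : Ideal R) [P.IsMaximal], CommRing (Rₚ P)]
  [∀ (P : Ideal R) [P.IsMaximal], Algebra R (Rₚ P)]
  [∀ (P : Ideal R) [P.IsMaximal], IsLocalization.AtPrime (Rₚ P) P]

theorem isSMulRegular_of_forall_maximal (M : Type w) [AddCommGroup M] [Module R M] {r : R}
    (h : ∀ (P : Ideal R) [P.IsMaximal], IsSMulRegular (Rₚ P ⊗[R] M) r) : IsSMulRegular M r := by
  intro m₁ m₂ hm
  refine Module.eq_of_localization_maximal (fun P _ => Rₚ P ⊗[R] M)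
    (fun P _ => TensorProduct.mk R (Rₚ P) M 1) m₁ m₂ fun P _ => ?_
  apply h P
  change r • ((1 : Rₚ P) ⊗ₜ[R] m₁) = r • ((1 : Rₚ P) ⊗ₜ[R] m₂)
  rw [← TensorProduct.tmul_smul, ← TensorProduct.tmul_smul]
  exact congrArg _ hm

/-- **Local-global principle** for weak regularity (module form). -/
theorem isWeaklyRegular_of_forall_maximal :
    ∀ (rs : List R) (M : Type w) [AddCommGroup M] [Module R M],
      (∀ (P : Ideal R) [P.IsMaximal], IsWeaklyRegular (Rₚ P ⊗[R] M) rs) → IsWeaklyRegular M rs
  | [], M, _, _, _ => IsWeaklyRegular.nil R M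
  | r :: rs, M, _, _, h => by
    rw [isWeaklyRegular_cons_iff]
    exact ⟨isSMulRegular_of_forall_maximal Rₚ M fun P _ =>
        ((isWeaklyRegular_tensor_cons_iff (Rₚ P) M r rs).mp (h P)).1,
      isWeaklyRegular_of_forall_maximal rs (QuotSMulTop r M) fun P _ =>
        ((isWeaklyRegular_tensor_cons_iff (Rₚ P) M r rs).mp (h P)).2⟩

/-- **Local-global principle** for weak regularity (ring form). -/
theorem isWeaklyRegular_of_forall_maximal_ring (rs : List R)
    (h : ∀ (P : Ideal R) [P.IsMaximal],
      IsWeaklyRegular (Rₚ P) (rs.map (algebraMap R (Rₚ P)))) : IsWeaklyRegular R rs :=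
  isWeaklyRegular_of_forall_maximal Rₚ rs R fun P _ =>
    (isWeaklyRegular_algebra_iff (Rₚ P) rs).mp (h P)

end LocalGlobal

section Open

variable (Rₚ : ∀ (_ : PrimeSpectrum R), Type u)
  [∀ P : PrimeSpectrum R, CommRing (Rₚ P)]
  [∀ P : PrimeSpectrum R, Algebra R (Rₚ P)]
  [∀ P : PrimeSpectrum R, IsLocalization.AtPrime (Rₚ P) P.asIdeal]

theorem isSMulRegular_tensor_iff_notMem_support (M : Type w) [AddCommGroup M] [Module R M] (r : R)
    (P : PrimeSpectrum R) :
    IsSMulRegular (Rₚ P ⊗[R] M) r ↔
      P ∉ Module.support R (LinearMap.ker (LinearMap.lsmul R M r)) := by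
  constructor
  · intro h
    rw [Module.notMem_support_iff']
    rintro ⟨k, hk⟩
    have h0 : ((1 : Rₚ P) ⊗ₜ[R] k : Rₚ P ⊗[R] M) = 0 := by
      apply h
      change r • ((1 : Rₚ P) ⊗ₜ[R] k) = r • (0 : Rₚ P ⊗[R] M)
      rw [← TensorProduct.tmul_smul, smul_zero]
      have : r • k = 0 := hk
      rw [this, TensorProduct.tmul_zero]
    obtain ⟨c, hc⟩ := (IsLocalizedModule.eq_zero_iff P.asIdeal.primeCompl
      (TensorProduct.mk R (Rₚ P) M 1)).mp h0
    exact ⟨c.1, c.2, Subtype.ext hc⟩
  · intro h
    rw [Module.notMem_support_iff] at h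
    haveI : Module.Flat R (Rₚ P) := IsLocalization.flat (Rₚ P) P.asIdeal.primeCompl
    set K := LinearMap.ker (LinearMap.lsmul R M r) with hK
    haveI : Subsingleton (Rₚ P ⊗[R] K) :=
      (IsLocalizedModule.iso P.asIdeal.primeCompl
        (TensorProduct.mk R (Rₚ P) K 1)).symm.toEquiv.subsingleton
    have hex : Function.Exact (K.subtype.lTensor (Rₚ P))
        ((LinearMap.lsmul R M r).lTensor (Rₚ P)) :=
      Module.Flat.lTensor_exact (Rₚ P) (LinearMap.exact_subtype_ker_map _)
    change Function.Injective (LinearMap.lsmul R (Rₚ P ⊗[R] M) r)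
    rw [lsmul_tensor_eq, injective_iff_map_eq_zero]
    intro x hx
    obtain ⟨y, rfl⟩ := (hex x).mp hx
    rw [Subsingleton.elim y 0, map_zero]

variable [IsNoetherianRing R]

/-- Over a Noetherian ring, the locus where a sequence is weakly regular on a finite module is
open (module form). -/
theorem isOpen_setOf_isWeaklyRegular_tensor :
    ∀ (rs : List R) (M : Type w) [AddCommGroup M] [Module R M] [Module.Finite R M],
      IsOpen {P : PrimeSpectrum R | IsWeaklyRegular (Rₚ P ⊗[R] M) rs}
  | [], M, _, _, _ => by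
    have : {P : PrimeSpectrum R | IsWeaklyRegular (Rₚ P ⊗[R] M) ([] : List R)} = Set.univ :=
      Set.eq_univ_of_forall fun P => IsWeaklyRegular.nil R _
    rw [this]
    exact isOpen_univ
  | r :: rs, M, _, _, _ => by
    have h1 : IsOpen {P : PrimeSpectrum R | IsSMulRegular (Rₚ P ⊗[R] M) r} := by
      have : {P : PrimeSpectrum R | IsSMulRegular (Rₚ P ⊗[R] M) r} =
          (Module.support R (LinearMap.ker (LinearMap.lsmul R M r)))ᶜ := by
        ext P
        exact isSMulRegular_tensor_iff_notMem_support Rₚ M r P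
      rw [this, Module.support_eq_zeroLocus]
      exact (PrimeSpectrum.isClosed_zeroLocus _).isOpen_compl
    have h2 := isOpen_setOf_isWeaklyRegular_tensor rs (QuotSMulTop r M)
    convert h1.inter h2 using 1
    ext P
    exact isWeaklyRegular_tensor_cons_iff (Rₚ P) M r rs

/-- Over a Noetherian ring, the locus where a sequence is weakly regular is open (ring form). -/
theorem isOpen_setOf_isWeaklyRegular_ring (rs : List R) :
    IsOpen {P : PrimeSpectrum R | IsWeaklyRegular (Rₚ P) (rs.map (algebraMap R (Rₚ P)))} := by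
  convert isOpen_setOf_isWeaklyRegular_tensor Rₚ rs R using 1
  ext P
  exact isWeaklyRegular_algebra_iff (Rₚ P) rs

end Open

end Groth.Agent.Lib.Helper23.WeakReg
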