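import Mathlib
import Groth.Agent.Lib.Helper23.WeakRegAlg

/-!
# Weakly regular sequences of sections over an open of a scheme (helper23)

`WROn X U rs x hx`: the germs at `x ∈ U` of the sections `rs : List Γ(X, U)` form a weakly regular
sequence of the local ring at `x`.  Affine-local characterisation, restriction, flat pullback,
openness on locally Noetherian schemes.
-/

set_option autoImplicit false
set_option linter.style.haveILetI false
universe u
open CategoryTheory AlgebraicGeometry TopologicalSpace Opposite RingTheory.Sequence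

namespace Groth.Agent.Lib.Helper23.WeakReg

variable {X : Scheme.{u}}

/-- Pointwise weak regularity of a list of sections over an open. -/
def WROn (X : Scheme.{u}) (U : X.Opens) (rs : List Γ(X, U)) (x : X) (hx : x ∈ U) : Prop :=
  IsWeaklyRegular (X.presheaf.stalk x) (rs.map (X.presheaf.germ U x hx).hom)

theorem WROn_of_isWeaklyRegular {U : X.Opens} (hU : IsAffineOpen U) (rs : List Γ(X, U))
    (h : IsWeaklyRegular Γ(X, U) rs) (x : X) (hx : x ∈ U) : WROn X U rs x hx := by
  unfold WROn
  letI := X.presheaf.algebra_section_stalk ⟨x, hx⟩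
  haveI := hU.isLocalization_stalk ⟨x, hx⟩
  exact h.of_isLocalization (X.presheaf.stalk x) (hU.primeIdealOf ⟨x, hx⟩).asIdeal.primeCompl

theorem isWeaklyRegular_of_WROn {U : X.Opens} (hU : IsAffineOpen U) (rs : List Γ(X, U))
    (h : ∀ (x : X) (hx : x ∈ U), WROn X U rs x hx) : IsWeaklyRegular Γ(X, U) rs := by
  let (x : _) : Algebra Γ(X, U) (X.presheaf.stalk (hU.fromSpec x)) :=
    TopCat.Presheaf.algebra_section_stalk X.presheaf _
  have (P : Ideal Γ(X, U)) [hP : P.IsPrime] : IsLocalization.AtPrime _ P :=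
    hU.isLocalization_stalk' ⟨P, hP⟩ (hU.isoSpec.inv _).2
  refine isWeaklyRegular_of_forall_maximal_ring
    (fun P hP => X.presheaf.stalk (hU.fromSpec ⟨P, hP.isPrime⟩)) _ fun P hP => ?_
  have hx : hU.fromSpec ⟨P, hP.isPrime⟩ ∈ U := (hU.isoSpec.inv _).2
  exact h _ hx

/-- restriction to a smaller open does not change the pointwise condition. -/
theorem WROn_res {U U' : X.Opens} (hle : U' ≤ U) (rs : List Γ(X, U)) (x : X) (hx : x ∈ U') :
    WROn X U' (rs.map (X.presheaf.map (homOfLE hle).op).hom) x hx ↔ WROn X U rs x (hle hx) := by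
  unfold WROn
  have : (rs.map (X.presheaf.map (homOfLE hle).op).hom).map (X.presheaf.germ U' x hx).hom =
      rs.map (X.presheaf.germ U x (hle hx)).hom := by
    rw [List.map_map]
    congr 1
    ext g
    exact TopCat.Presheaf.germ_res_apply X.presheaf (homOfLE hle) x hx g
  rw [this]

/-- **Flat pullback** preserves and reflects pointwise weak regularity. -/
theorem WROn_iff_of_flat {Y : Scheme.{u}} (q : Y ⟶ X) (U : X.Opens) (rs : List Γ(X, U)) (y : Y)
    (hy : q y ∈ U) (hq : (q.stalkMap y).hom.Flat) :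
    WROn Y (q ⁻¹ᵁ U) (rs.map (q.app U).hom) y hy ↔ WROn X U rs (q y) hy := by
  unfold WROn
  have hmap : (rs.map (q.app U).hom).map (Y.presheaf.germ (q ⁻¹ᵁ U) y hy).hom =
      (rs.map (X.presheaf.germ U (q y) hy).hom).map (q.stalkMap y).hom := by
    rw [List.map_map, List.map_map]
    congr 1
    ext f
    exact (Scheme.Hom.germ_stalkMap_apply q U y hy f).symm
  rw [hmap]
  algebraize [(q.stalkMap y).hom]
  haveI : Module.FaithfullyFlat (X.presheaf.stalk (q y)) (Y.presheaf.stalk y) :=
    @Module.FaithfullyFlat.of_flat_of_isLocalHom _ _ _ _ _ _ _ hq (q.toLRSHom.prop y)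
  exact isWeaklyRegular_iff_of_faithfullyFlat

/-- On a locally Noetherian scheme, the weakly regular locus of a list of sections over an affine
open is open. -/
theorem isOpen_setOf_WROn [IsLocallyNoetherian X] {U : X.Opens} (hU : IsAffineOpen U)
    (rs : List Γ(X, U)) : IsOpen {x : X | ∃ hx : x ∈ U, WROn X U rs x hx} := by
  haveI : IsNoetherianRing Γ(X, U) := IsLocallyNoetherian.component_noetherian ⟨U, hU⟩
  let (P : PrimeSpectrum Γ(X, U)) : Algebra Γ(X, U) (X.presheaf.stalk (hU.fromSpec P)) :=
    TopCat.Presheaf.algebra_section_stalk X.presheaf _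
  have (P : PrimeSpectrum Γ(X, U)) : IsLocalization.AtPrime
      (X.presheaf.stalk (hU.fromSpec P)) P.asIdeal :=
    hU.isLocalization_stalk' P (hU.isoSpec.inv _).2
  have hmem : ∀ P : PrimeSpectrum Γ(X, U), hU.fromSpec P ∈ U := fun P => (hU.isoSpec.inv _).2
  have hO := isOpen_setOf_isWeaklyRegular_ring
    (fun P : PrimeSpectrum Γ(X, U) => X.presheaf.stalk (hU.fromSpec P)) rs
  have hset : {x : X | ∃ hx : x ∈ U, WROn X U rs x hx} =
      hU.fromSpec '' {P | IsWeaklyRegular (X.presheaf.stalk (hU.fromSpec P))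
        (rs.map (algebraMap Γ(X, U) (X.presheaf.stalk (hU.fromSpec P))))} := by
    ext x
    constructor
    · rintro ⟨hx, h⟩
      refine ⟨hU.primeIdealOf ⟨x, hx⟩, ?_, hU.fromSpec_primeIdealOf ⟨x, hx⟩⟩
      have key : ∀ (y : X) (hy : y ∈ U), y = x → WROn X U rs y hy := by
        rintro y hy rfl
        exact h
      exact key _ (hmem _) (hU.fromSpec_primeIdealOf ⟨x, hx⟩)
    · rintro ⟨P, hP, rfl⟩
      exact ⟨hmem P, hP⟩
  rw [hset]
  exact hU.fromSpec.isOpenEmbedding.isOpenMap _ hO

end Groth.Agent.Lib.Helper23.WeakReg
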