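import Mathlib
import Groth.Agent.Lib.Helper23.ChartDescent
import Groth.Agent.Lib.Helper23.WeakRegOn
import Groth.Agent.Lib.Helper23.FlatStageRel
import Groth.Agent.Lib.Helper23.LimFlat
import Groth.Agent.Lib.Helper10.RegSeqFlat
import Groth.Agent.S4758

/-!
# Regular immersions and cofiltered limits with flat affine transitions (helper23)

EGA IV 19.8.2-type descent: in a cofiltered limit `S = lim S_K` with flat affine transition maps,
such that all `S_K` are locally Noetherian or all transition maps are surjective and `j₀` is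
locally of finite presentation, if the base change to `S` of an immersion `j₀ : X₀ ⟶ S_{i₀}`
(`X₀` quasi-compact) is a regular immersion, then so is the base change to some `S_K`.
-/

set_option autoImplicit false
set_option linter.style.haveILetI false
universe u
open CategoryTheory CategoryTheory.Limits AlgebraicGeometry TopologicalSpace Opposite
  RingTheory.Sequence

namespace Groth.Agent.Lib.Helper23.RegImmStage

open Groth.Agent.Lib.Helper23 Groth.Agent.Lib.Helper23.ChartDescent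
  Groth.Agent.Lib.Helper23.WeakReg Groth.Agent.Lib.Helper23.FlatStage
  Groth.Agent.Lib.Helper10.RegImmBaseChange Groth.Agent.Lib.Helper10.RegImmDescent

section General

variable {Z X : Scheme.{u}}

theorem isOpen_setOf_isRegularImmersionAt (k : RegImm.Kind) (i : Z ⟶ X) :
    IsOpen {z : Z | RegImm.IsRegularImmersionAt k i z} := by
  rw [isOpen_iff_forall_mem_open]
  rintro z ⟨U, hzU, hcl, rs, hrs, hker⟩
  exact ⟨(i ⁻¹ᵁ U.1 : Z.Opens), fun z' hz' => ⟨U, hz', hcl, rs, hrs, hker⟩, (i ⁻¹ᵁ U.1).2, hzU⟩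

/-- pointwise flat base change of regular immersions. -/
theorem isRegularImmersionAt_of_isPullback (k : RegImm.Kind) {Z' X' : Scheme.{u}} {i : Z ⟶ X}
    {g : X' ⟶ X} {i' : Z' ⟶ X'} {g' : Z' ⟶ Z} (H : IsPullback g' i' i g) [Flat g] (z' : Z')
    (hi : RegImm.IsRegularImmersionAt k i (g' z')) : RegImm.IsRegularImmersionAt k i' z' := by
  obtain ⟨U, hU, hcl, rs, hrs, hker⟩ := hi
  have hpt : g (i' z') = i (g' z') := by
    rw [← Scheme.Hom.comp_apply, ← Scheme.Hom.comp_apply, H.w]
  have hmem : i' z' ∈ g ⁻¹ᵁ U.1 := by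
    change g (i' z') ∈ U.1
    rw [hpt]; exact hU
  obtain ⟨_, ⟨U', hU', rfl⟩, hz', hle⟩ := X'.isBasis_affineOpens.exists_subset_of_mem_open
    hmem (g ⁻¹ᵁ U.1).2
  have e : U' ≤ g ⁻¹ᵁ U.1 := hle
  have hker' := ker_app_eq_map H U.2 hU' e hcl
  rw [hker, Ideal.map_ofList] at hker'
  refine ⟨⟨U', hU'⟩, hz', isClosedImmersion_restrict H e hcl, rs.map (g.appLE U.1 U' e).hom,
    Groth.Agent.Lib.Helper10.RegSeqFlat.kindSeq_map _ k (Flat.flat_appLE g U.2 hU' e) rs hrs ?_,
    hker'⟩
  rw [← hker']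
  intro htop
  have h1 : (1 : Γ(X', U')) ∈ RingHom.ker (i'.app U').hom := by rw [htop]; trivial
  rw [RingHom.mem_ker, map_one] at h1
  have hsub : Subsingleton Γ(Z', i' ⁻¹ᵁ U') := subsingleton_of_zero_eq_one h1.symm
  have hne : Nonempty ((i' ⁻¹ᵁ U' : Z'.Opens) : Scheme.{u}) := ⟨⟨z', hz'⟩⟩
  have : Nontrivial Γ(Z', i' ⁻¹ᵁ U') := Scheme.component_nontrivial Z' (i' ⁻¹ᵁ U')
  exact not_subsingleton _ hsub

theorem ker_fg_of_finitePresentation_of_surjective {A B : Type u} [CommRing A] [CommRing B]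
    (φ : A →+* B) (hφ : φ.FinitePresentation) (hs : Function.Surjective φ) :
    (RingHom.ker φ).FG := by
  algebraize [φ]
  have := Algebra.FinitePresentation.ker_fG_of_surjective (Algebra.ofId A B) hs
  exact this

/-- `appLE` form of flat pullback of pointwise weak regularity. -/
theorem WROn_appLE_iff_of_flat {Y : Scheme.{u}} (q : Y ⟶ X) (U : X.Opens) (V : Y.Opens)
    (e : V ≤ q ⁻¹ᵁ U) (rs : List Γ(X, U)) (y : Y) (hy : y ∈ V) (hq : (q.stalkMap y).hom.Flat) :
    WROn Y V (rs.map (q.appLE U V e).hom) y hy ↔ WROn X U rs (q y) (e hy) := by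
  have h1 : rs.map (q.appLE U V e).hom =
      (rs.map (q.app U).hom).map (Y.presheaf.map (homOfLE e).op).hom := by
    rw [List.map_map]
    rfl
  rw [h1, WROn_res e, WROn_iff_of_flat q U rs y (e hy) hq]

end General

section Stage

variable {I : Type u} [SmallCategory I] [IsCofiltered I] (D : I ⥤ Scheme.{u}) (c : Cone D)
  (hc : IsLimit c) [hD : ∀ {i j : I} (f : i ⟶ j), IsAffineHom (D.map f)]
  (hflat : ∀ {i j : I} (f : i ⟶ j), Flat (D.map f))
  (i₀ : I) {X₀ : Scheme.{u}} (j₀ : X₀ ⟶ D.obj i₀) [IsImmersion j₀]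
  (hcase : (∀ i : I, IsLocallyNoetherian (D.obj i)) ∨
    ((∀ {i j : I} (f : i ⟶ j), Surjective (D.map f)) ∧ LocallyOfFinitePresentation j₀))
  {X : Scheme.{u}} (i : X ⟶ c.pt) (q : X ⟶ X₀) (H : IsPullback q i j₀ (c.π.app i₀))

include hc hflat hcase H in
/-- **Single-point descent** of regularity of the immersion. -/
theorem exists_stage_isRegularImmersionAt (z : X)
    (hz : RegImm.IsRegularImmersionAt RegImm.Kind.regular i z) :
    ∃ K : Over i₀, ∀ zK : ((bcDiagram D i₀ j₀).obj K : Scheme.{u}),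
      bcFst D i₀ j₀ K zK = c.π.app K.left (i z) →
        RegImm.IsRegularImmersionAt RegImm.Kind.regular (bcFst D i₀ j₀ K) zK := by
  obtain ⟨U, hzU, hcl, rs, hrs, hker⟩ := hz
  have hrs' : IsRegular Γ(c.pt, U.1) rs := hrs
  obtain ⟨V₀, hzV₀, hcl₀⟩ := exists_affine_isClosedImmersion_restrict j₀ (q z)
  obtain ⟨hZV₀, hsurj₀⟩ := app_surjective_of_restrict j₀ V₀.1 V₀.2 hcl₀
  -- the kernel at the bottom stage is finitely generated
  have hfg : (RingHom.ker (j₀.app V₀.1).hom).FG := by
    rcases hcase with hN | ⟨-, hfp⟩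
    · haveI := hN i₀
      haveI : IsNoetherianRing Γ(D.obj i₀, V₀.1) := IsLocallyNoetherian.component_noetherian V₀
      exact IsNoetherian.noetherian _
    · refine ker_fg_of_finitePresentation_of_surjective _ ?_ hsurj₀
      rw [Scheme.Hom.app_eq_appLE]
      exact Scheme.Hom.finitePresentation_appLE j₀ V₀.2 hZV₀ le_rfl
  obtain ⟨K, UK, U', hU'U, heq, rsK, hUK, hU', hzU', eK, hkerK, hrsK⟩ :=
    chart_descent D c hc i₀ j₀ i q H z V₀.2 hzV₀ hcl₀ hfg U.2 hzU hcl rs hker
  haveI : Flat (c.π.app K.left) := flat_π_app D c hc K.left (fun j φ => hflat φ)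
  have hclK : IsClosedImmersion (bcFst D i₀ j₀ K ∣_ UK) :=
    isClosedImmersion_restrict (isPullback_bcObj D i₀ j₀ K).flip eK hcl₀
  -- weak regularity at the points of the image of `U'`
  have hWR : ∀ (s : c.pt) (hs : s ∈ U'),
      WROn (D.obj K.left) UK rsK (c.π.app K.left s) (heq.le hs) := by
    intro s hs
    have h1 := WROn_of_isWeaklyRegular U.2 rs hrs'.toIsWeaklyRegular s (hU'U hs)
    rw [← WROn_res hU'U rs s hs, ← hrsK] at h1
    exact (WROn_appLE_iff_of_flat (c.π.app K.left) UK U' heq.le rsK s hs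
      (Flat.stalkMap (c.π.app K.left) s)).mp h1
  -- the weakly regular locus is open
  have hN : IsOpen {y : D.obj K.left | ∃ hy : y ∈ UK, WROn (D.obj K.left) UK rsK y hy} := by
    rcases hcase with hN | ⟨hS, -⟩
    · haveI := hN K.left
      exact isOpen_setOf_WROn hUK rsK
    · haveI : Surjective (c.π.app K.left) :=
        (Groth.Agent.S4758.result D c hc K.left).mpr fun j φ => hS φ
      have : {y : D.obj K.left | ∃ hy : y ∈ UK, WROn (D.obj K.left) UK rsK y hy} = UK := by
        ext y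
        constructor
        · rintro ⟨hy, -⟩
          exact hy
        · intro hy
          obtain ⟨s, rfl⟩ := (c.π.app K.left).surjective y
          have hs : s ∈ U' := by rw [heq]; exact hy
          exact ⟨hy, hWR s hs⟩
      rw [this]
      exact UK.2
  have hy₀ : c.π.app K.left (i z) ∈ UK := heq.le hzU'
  -- shrink to a basic open inside the locus
  obtain ⟨h, hhle, hhmem⟩ := hUK.exists_basicOpen_le
    (V := ⟨_, hN⟩) ⟨c.π.app K.left (i z), ⟨hy₀, hWR (i z) hzU'⟩⟩ hy₀
  have hU'' : IsAffineOpen ((D.obj K.left).basicOpen h) := hUK.basicOpen h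
  have hle'' : (D.obj K.left).basicOpen h ≤ UK := (D.obj K.left).basicOpen_le h
  obtain ⟨hcl'', hker'', -⟩ := restrictData (bcFst D i₀ j₀ K) hUK hU'' hle'' hclK
  rw [hkerK, Ideal.map_ofList] at hker''
  have hwr'' : IsWeaklyRegular Γ(D.obj K.left, (D.obj K.left).basicOpen h)
      (rsK.map ((D.obj K.left).presheaf.map (homOfLE hle'').op).hom) := by
    refine isWeaklyRegular_of_WROn hU'' _ fun y hy => ?_
    rw [WROn_res hle'' rsK y hy]
    obtain ⟨hy', hy''⟩ := hhle hy
    exact hy''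
  refine ⟨K, fun zK hzK => ⟨⟨_, hU''⟩, ?_, hcl'', _, ⟨hwr'', ?_⟩, hker''⟩⟩
  · rw [hzK]
    exact hhmem
  · rw [smul_eq_mul, Ideal.mul_top, ← hker'']
    intro htop
    have hz'' : zK ∈ bcFst D i₀ j₀ K ⁻¹ᵁ (D.obj K.left).basicOpen h := by
      change bcFst D i₀ j₀ K zK ∈ (D.obj K.left).basicOpen h
      rw [hzK]
      exact hhmem
    have h1 : (1 : Γ(D.obj K.left, (D.obj K.left).basicOpen h)) ∈
        RingHom.ker ((bcFst D i₀ j₀ K).app ((D.obj K.left).basicOpen h)).hom := by
      rw [← htop]; trivial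
    rw [RingHom.mem_ker, map_one] at h1
    have hsub := subsingleton_of_zero_eq_one h1.symm
    have hne : Nonempty ((bcFst D i₀ j₀ K ⁻¹ᵁ (D.obj K.left).basicOpen h :
        ((bcDiagram D i₀ j₀).obj K : Scheme.{u}).Opens) : Scheme.{u}) := ⟨⟨zK, hz''⟩⟩
    have := Scheme.component_nontrivial ((bcDiagram D i₀ j₀).obj K)
      (bcFst D i₀ j₀ K ⁻¹ᵁ (D.obj K.left).basicOpen h)
    exact not_subsingleton _ hsub

include hc hflat hcase H in
/-- **Global descent**: if the base change to the limit is a regular immersion, so is the base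
change to some stage. -/
theorem exists_stage_isRegularImmersion [CompactSpace X₀]
    (h : ∀ z : X, RegImm.IsRegularImmersionAt RegImm.Kind.regular i z) :
    ∃ K : Over i₀, ∀ zK : ((bcDiagram D i₀ j₀).obj K : Scheme.{u}),
      RegImm.IsRegularImmersionAt RegImm.Kind.regular (bcFst D i₀ j₀ K) zK := by
  by_contra hcon
  push Not at hcon
  let Zs : ∀ K : Over i₀, Set ((bcDiagram D i₀ j₀).obj K : Scheme.{u}) := fun K =>
    {zK | RegImm.IsRegularImmersionAt RegImm.Kind.regular (bcFst D i₀ j₀ K) zK}ᶜ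
  have hZc : ∀ K, IsClosed (Zs K) := fun K =>
    (isOpen_setOf_isRegularImmersionAt _ (bcFst D i₀ j₀ K)).isClosed_compl
  have hZne : ∀ K, (Zs K).Nonempty := fun K => by
    obtain ⟨y, hy⟩ := hcon K
    exact ⟨y, hy⟩
  have hcpt : ∀ K, IsCompact (Zs K) := fun K => by
    haveI : IsAffineHom (bcSnd D i₀ j₀ K) :=
      MorphismProperty.of_isPullback (P := @IsAffineHom) (isPullback_bcObj D i₀ j₀ K) inferInstance
    haveI : CompactSpace ((bcDiagram D i₀ j₀).obj K : Scheme.{u}) :=
      QuasiCompact.compactSpace_of_compactSpace (bcSnd D i₀ j₀ K)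
    exact (hZc K).isCompact
  have hmaps : ∀ {K' K : Over i₀} (a : K' ⟶ K),
      Set.MapsTo ((bcDiagram D i₀ j₀).map a) (Zs K') (Zs K) := by
    intro K' K a y' hy' hy
    haveI : Flat (D.map a.left) := hflat a.left
    exact hy' (isRegularImmersionAt_of_isPullback _ (isPullback_bcDiagram_map D i₀ j₀ a).flip y' hy)
  haveI : ∀ {K' K : Over i₀} (a : K' ⟶ K), IsAffineHom ((bcDiagram D i₀ j₀).map a) := by
    intro K' K a
    exact MorphismProperty.of_isPullback (P := @IsAffineHom)
      (isPullback_bcDiagram_map D i₀ j₀ a) inferInstance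
  obtain ⟨s, hs⟩ := exists_mem_of_isClosed_of_nonempty (bcDiagram D i₀ j₀)
    (relCone D c i₀ j₀ i q H) (isLimitRelCone D c i₀ j₀ i q H hc) Zs hZc hZne hcpt hmaps
  obtain ⟨K, hK⟩ := exists_stage_isRegularImmersionAt D c hc hflat i₀ j₀ hcase i q H s (h s)
  refine hs K (hK _ ?_)
  have := relπ_fst D c i₀ j₀ i q H K
  change (relπ D c i₀ j₀ i q H K ≫ bcFst D i₀ j₀ K) s = _
  rw [this]
  rfl

end Stage

end Groth.Agent.Lib.Helper23.RegImmStage
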