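/-
Helper library (helper23): for `X ⟶ Y ⟶ S` and a finitely presented module `F` on `X` flat over
`S`, the locus where `F` is flat over `Y` is open and commutes with arbitrary base change `S' ⟶ S`
(Stacks 05VK-type statement), via the fibrewise criterion of flatness.
-/
import Mathlib
import Groth.Agent.Lib.Helper23.FibreFlatPoint
import Groth.Agent.Lib.Helper49.SupportPullback

set_option autoImplicit false
set_option linter.style.haveILetI false
universe u
open CategoryTheory Limits AlgebraicGeometry Topology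

namespace Groth.Agent.Lib.Helper23.RelFlatLocus

open Groth.Agent.Lib Groth.Agent.Lib.Helper23 Groth.Agent.Lib.Helper23.FibreFlatCons
  Groth.Agent.Lib.Helper23.FibreFlatPoint

variable {X Y S : Scheme.{u}}

/-- Flatness over `Y` at a point implies fibrewise flatness at that point. -/
theorem quotFlat_of_isFlatOverAt (f : X ⟶ Y) (g : Y ⟶ S) (F : X.Modules) [F.IsQuasicoherent]
    (x : X) (h : FlatMod.IsFlatOverAt f F x) : QuotFlat f g F x := by
  obtain ⟨s, hs⟩ : ∃ s, (f ≫ g) x = s := ⟨_, rfl⟩
  obtain ⟨z, rfl⟩ := FibreFree.exists_fiberι_eq (f ≫ g) hs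
  rw [← isFlatOverAt_fiberMap_iff]
  exact Helper16.FlatPull.isFlatOverAt_baseChange f (MoreMor.fiberMap f g s) ((f ≫ g).fiberι s)
    (g.fiberι s) (isPullback_fiberMap f g s) F z h

/-- For `F` flat over `S`, flatness over `Y` at `x` is equivalent to fibrewise flatness at `x`
(or the vanishing of the stalk). -/
theorem isFlatOverAt_iff_quotFlat (f : X ⟶ Y) (g : Y ⟶ S) [LocallyOfFinitePresentation (f ≫ g)]
    [LocallyOfFiniteType g] (F : X.Modules) [F.IsQuasicoherent]
    (hF : SheafOfModules.IsFinitePresentation (R := X.ringCatSheaf) F) (x : X)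
    (hfl : FlatMod.IsFlatOverAt (f ≫ g) F x) :
    FlatMod.IsFlatOverAt f F x ↔ QuotFlat f g F x := by
  constructor
  · exact quotFlat_of_isFlatOverAt f g F x
  · intro hq
    by_cases hx : Nontrivial ↑(F.presheaf.stalk x)
    · exact ((Groth.Agent.S1483.result f g F inferInstance hF x hx).mp ⟨hfl, hq⟩).2
    · rw [not_nontrivial_iff_subsingleton] at hx
      unfold FlatMod.IsFlatOverAt
      letI := FlatMod.moduleStalkOver f F x
      infer_instance

/-- **Openness and base change of the relative flat locus.** -/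
theorem isOpen_and_baseChange (f : X ⟶ Y) (g : Y ⟶ S) [LocallyOfFinitePresentation (f ≫ g)]
    [LocallyOfFiniteType g] (F : X.Modules) [F.IsQuasicoherent]
    (hF : SheafOfModules.IsFinitePresentation (R := X.ringCatSheaf) F)
    (hfl : FlatMod.IsFlatOver (f ≫ g) F) :
    IsOpen {x : ↑X | FlatMod.IsFlatOverAt f F x} ∧
      ∀ {X' Y' S' : Scheme.{u}} (h : S' ⟶ S) (gY : Y' ⟶ Y) (g' : Y' ⟶ S')
        (_ : IsPullback gY g' g h) (gX : X' ⟶ X) (f' : X' ⟶ Y')
        (_ : IsPullback gX (f' ≫ g') (f ≫ g) h) (_ : gX ≫ f = f' ≫ gY),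
        {x' : ↑X' | FlatMod.IsFlatOverAt f' ((Scheme.Modules.pullback gX).obj F) x'} =
          gX ⁻¹' {x : ↑X | FlatMod.IsFlatOverAt f F x} := by
  haveI : LocallyOfFinitePresentation f :=
    FibreCritScheme.locallyOfFinitePresentation_of_comp (g := g) inferInstance inferInstance
  refine ⟨Groth.Agent.S4863.result f F hF, ?_⟩
  intro X' Y' S' h gY g' hY gX f' hX w
  have hXY : IsPullback gX f' f gY := IsPullback.of_bot hX w hY
  haveI : LocallyOfFinitePresentation (f' ≫ g') :=
    MorphismProperty.of_isPullback hX inferInstance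
  haveI : LocallyOfFiniteType g' := MorphismProperty.of_isPullback hY inferInstance
  haveI : ((Scheme.Modules.pullback gX).obj F).IsQuasicoherent :=
    ConsLocusMod.isQCoh_pullback gX F
  have hF' := ConsLocusMod.isFP_pullback gX F hF
  ext x'
  rw [Set.mem_ofPred_eq, Set.mem_preimage, Set.mem_ofPred_eq]
  have hfl' : FlatMod.IsFlatOverAt (f' ≫ g') ((Scheme.Modules.pullback gX).obj F) x' :=
    Helper16.FlatPull.isFlatOverAt_baseChange (f ≫ g) (f' ≫ g') gX h hX F x' (hfl _)
  rw [isFlatOverAt_iff_quotFlat f' g' _ hF' x' hfl', isFlatOverAt_iff_quotFlat f g F hF _ (hfl _)]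
  exact quotFlat_baseChange_iff f g F h hY hXY _ (Iso.refl _) x'

end Groth.Agent.Lib.Helper23.RelFlatLocus
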