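/-
Helper library (helper23): integrality of residue field maps of `Spec.map φ`, and the residue
field of a localization of a finite type algebra over an Artinian ring at a maximal ideal.
-/
import Mathlib

set_option autoImplicit false
universe u
open CategoryTheory AlgebraicGeometry Limits

namespace Groth.Agent.Lib.Helper23.ResidueIntegral

/-- If `R → R' → κ(p')` is integral then the residue field map of `Spec.map φ` at `p'` is
integral. -/
theorem residueFieldMap_isIntegral {R R' : CommRingCat.{u}} (φ : R ⟶ R') (p' : Spec R')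
    (h : ((algebraMap R' p'.asIdeal.ResidueField).comp φ.hom).IsIntegral) :
    ((Spec.map φ).residueFieldMap p').hom.IsIntegral := by
  have key : ((Scheme.ΓSpecIso R).inv ≫ (Spec R).Γevaluation ((Spec.map φ) p')) ≫
      (Spec.map φ).residueFieldMap p' =
      (φ ≫ CommRingCat.ofHom (algebraMap R' p'.asIdeal.ResidueField)) ≫
        (Scheme.Spec.residueFieldIso R' p').inv := by
    rw [Category.assoc, Scheme.Γevaluation_naturality, Category.assoc,
      Scheme.Spec.algebraMap_residueFieldIso_inv, Scheme.ΓSpecIso_inv_naturality_assoc]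
    rfl
  have h2 : (((φ ≫ CommRingCat.ofHom (algebraMap R' p'.asIdeal.ResidueField)) ≫
        (Scheme.Spec.residueFieldIso R' p').inv).hom).IsIntegral := by
    rw [CommRingCat.hom_comp]
    refine RingHom.IsIntegral.trans _ _ h ?_
    exact RingHom.isIntegral_of_surjective _
      ((Scheme.Spec.residueFieldIso R' p').symm.commRingCatIsoToRingEquiv.surjective)
  rw [← key, CommRingCat.hom_comp] at h2
  exact RingHom.IsIntegral.tower_top _ _ h2

/-- For a finite type algebra `T` over a Jacobson ring `A` and a maximal ideal `𝔫` of `T`, the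
residue field of `T_𝔫` is integral over `A`. -/
theorem isIntegral_comp_residueField {A T : Type u} [CommRing A] [IsJacobsonRing A] [CommRing T]
    [Algebra A T] [Algebra.FiniteType A T] (𝔫 : Ideal T) [𝔫.IsMaximal] :
    ((algebraMap (Localization.AtPrime 𝔫)
      (IsLocalRing.maximalIdeal (Localization.AtPrime 𝔫)).ResidueField).comp
        ((algebraMap T (Localization.AtPrime 𝔫)).comp (algebraMap A T))).IsIntegral := by
  letI : Field (T ⧸ 𝔫) := Ideal.Quotient.field 𝔫
  haveI : Algebra.FiniteType A (T ⧸ 𝔫) :=
    Algebra.FiniteType.of_surjective (Ideal.Quotient.mkₐ A 𝔫) (Ideal.Quotient.mkₐ_surjective A 𝔫)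
  haveI fin : Module.Finite A (T ⧸ 𝔫) := finite_of_finite_type_of_isJacobsonRing A (T ⧸ 𝔫)
  have int1 : (algebraMap A (T ⧸ 𝔫)).IsIntegral :=
    (algebraMap A (T ⧸ 𝔫)).finite_iff_isIntegral_and_finiteType.mp
      ((RingHom.finite_algebraMap).mpr fin) |>.1
  let e1 := IsLocalization.AtPrime.equivQuotMaximalIdeal 𝔫 (Localization.AtPrime 𝔫)
  let ψ : T ⧸ 𝔫 →+* (IsLocalRing.maximalIdeal (Localization.AtPrime 𝔫)).ResidueField :=
    (algebraMap (Localization.AtPrime 𝔫 ⧸ IsLocalRing.maximalIdeal (Localization.AtPrime 𝔫))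
      (IsLocalRing.maximalIdeal (Localization.AtPrime 𝔫)).ResidueField).comp e1.toRingHom
  have hψ : Function.Surjective ψ :=
    (Ideal.bijective_algebraMap_quotient_residueField _).surjective.comp e1.surjective
  have heq : ((algebraMap (Localization.AtPrime 𝔫)
      (IsLocalRing.maximalIdeal (Localization.AtPrime 𝔫)).ResidueField).comp
        ((algebraMap T (Localization.AtPrime 𝔫)).comp (algebraMap A T))) =
      ψ.comp (algebraMap A (T ⧸ 𝔫)) := by
    ext a
    simp only [RingHom.comp_apply, ψ]
    rw [IsScalarTower.algebraMap_apply A T (T ⧸ 𝔫), Ideal.Quotient.algebraMap_eq]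
    show _ = algebraMap _ _ (e1 (Ideal.Quotient.mk 𝔫 (algebraMap A T a)))
    rw [IsLocalization.AtPrime.equivQuotMaximalIdeal_apply_mk]
    rw [IsScalarTower.algebraMap_apply (Localization.AtPrime 𝔫)
      (Localization.AtPrime 𝔫 ⧸ IsLocalRing.maximalIdeal (Localization.AtPrime 𝔫))
      (IsLocalRing.maximalIdeal (Localization.AtPrime 𝔫)).ResidueField]
    rfl
  rw [heq]
  exact RingHom.IsIntegral.trans _ _ int1 (RingHom.isIntegral_of_surjective _ hψ)

end Groth.Agent.Lib.Helper23.ResidueIntegral
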