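/-
Helper library (helper23): integrality of the residue field map at the closed point of a morphism
`Spec R ⟶ Y` (`R` local) in terms of `stalkClosedPointTo`, and the case
`Spec.map ψ ≫ Y.fromSpecStalk y`.
-/
import Mathlib

set_option autoImplicit false
universe u
open CategoryTheory AlgebraicGeometry Limits

namespace Groth.Agent.Lib.Helper23.ResidueIntegral

/-- If `𝒪_{Y, g(𝔪)} → R → κ(𝔪)` is integral then the residue field map of `g : Spec R ⟶ Y` at the
closed point is integral. -/
theorem residueFieldMap_closedPoint_isIntegral {Y : Scheme.{u}} {R : CommRingCat.{u}}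
    [IsLocalRing R] (g : Spec R ⟶ Y)
    (h : ((algebraMap R (IsLocalRing.closedPoint R).asIdeal.ResidueField).comp
      (Scheme.stalkClosedPointTo g).hom).IsIntegral) :
    (g.residueFieldMap (IsLocalRing.closedPoint R)).hom.IsIntegral := by
  have h1 : CommRingCat.ofHom (algebraMap R (IsLocalRing.closedPoint R).asIdeal.ResidueField) ≫
      (Scheme.Spec.residueFieldIso R (IsLocalRing.closedPoint R)).inv =
      (stalkClosedPointIso R).inv ≫ (Spec R).residue (IsLocalRing.closedPoint R) := by
    rw [Scheme.Spec.algebraMap_residueFieldIso_inv, ← ΓSpecIso_hom_stalkClosedPointIso_inv,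
      Category.assoc, Iso.inv_hom_id_assoc]
  have key : Y.residue (g (IsLocalRing.closedPoint R)) ≫
      g.residueFieldMap (IsLocalRing.closedPoint R) =
      (Scheme.stalkClosedPointTo g ≫
        CommRingCat.ofHom (algebraMap R (IsLocalRing.closedPoint R).asIdeal.ResidueField)) ≫
        (Scheme.Spec.residueFieldIso R (IsLocalRing.closedPoint R)).inv := by
    rw [Scheme.residue_residueFieldMap, Category.assoc, h1, Scheme.stalkClosedPointTo,
      Category.assoc, Iso.hom_inv_id_assoc]
  have h2 : (((Scheme.stalkClosedPointTo g ≫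
        CommRingCat.ofHom (algebraMap R (IsLocalRing.closedPoint R).asIdeal.ResidueField)) ≫
        (Scheme.Spec.residueFieldIso R (IsLocalRing.closedPoint R)).inv).hom).IsIntegral := by
    rw [CommRingCat.hom_comp]
    refine RingHom.IsIntegral.trans _ _ h ?_
    exact RingHom.isIntegral_of_surjective _
      ((Scheme.Spec.residueFieldIso R _).symm.commRingCatIsoToRingEquiv.surjective)
  rw [← key, CommRingCat.hom_comp] at h2
  exact RingHom.IsIntegral.tower_top _ _ h2

/-- The case `g = Spec.map ψ ≫ Y.fromSpecStalk y`. -/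
theorem residueFieldMap_SpecMap_fromSpecStalk_isIntegral {Y : Scheme.{u}} (y : Y)
    {R : CommRingCat.{u}} [IsLocalRing R] (ψ : Y.presheaf.stalk y ⟶ R) [hψ : IsLocalHom ψ.hom]
    (h : ((algebraMap R (IsLocalRing.closedPoint R).asIdeal.ResidueField).comp ψ.hom).IsIntegral) :
    ((Spec.map ψ ≫ Y.fromSpecStalk y).residueFieldMap (IsLocalRing.closedPoint R)).hom.IsIntegral := by
  apply residueFieldMap_closedPoint_isIntegral
  have := (SpecToEquivOfLocalRing Y R).right_inv ⟨y, ⟨ψ, hψ⟩⟩
  rw [SpecToEquivOfLocalRing_eq_iff] at this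
  obtain ⟨h₁, h₂⟩ := this
  have h₃ : Scheme.stalkClosedPointTo (Spec.map ψ ≫ Y.fromSpecStalk y) =
      (Y.presheaf.stalkCongr (Inseparable.of_eq h₁)).hom ≫ ψ := h₂
  rw [h₃]
  show (((algebraMap R (IsLocalRing.closedPoint R).asIdeal.ResidueField).comp ψ.hom).comp
    (Y.presheaf.stalkCongr (Inseparable.of_eq h₁)).hom.hom).IsIntegral
  refine RingHom.IsIntegral.trans _ _ ?_ h
  exact RingHom.isIntegral_of_surjective _
    ((Y.presheaf.stalkCongr (Inseparable.of_eq h₁)).commRingCatIsoToRingEquiv.surjective)

end Groth.Agent.Lib.Helper23.ResidueIntegral
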