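/-
Helper library (helper23): flatness over a semi-local ring with nilpotent Jacobson radical can be
tested on a jointly injective family of algebras.
-/
import Mathlib
import Groth.Agent.Lib.Helper23.NilpotentFree

set_option autoImplicit false
universe u
open TensorProduct

namespace Groth.Agent.Lib.Helper23

section Transfer

/-- Flatness of a base change transfers along a commutative square of rings. -/
theorem flat_tensor_tensor_of_flat_tensor (A A₁ B C : Type*) [CommRing A] [CommRing A₁]
    [CommRing B] [CommRing C] [Algebra A A₁] [Algebra A B] [Algebra A C] [Algebra A₁ C]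
    [Algebra B C] [IsScalarTower A A₁ C] [IsScalarTower A B C] (M : Type*) [AddCommGroup M]
    [Module A M] [Module.Flat B (B ⊗[A] M)] : Module.Flat C (C ⊗[A₁] (A₁ ⊗[A] M)) := by
  let e1 : C ⊗[A₁] (A₁ ⊗[A] M) ≃ₗ[C] C ⊗[A] M := AlgebraTensorModule.cancelBaseChange A A₁ C C M
  let e2 : C ⊗[B] (B ⊗[A] M) ≃ₗ[C] C ⊗[A] M := AlgebraTensorModule.cancelBaseChange A B C C M
  exact Module.Flat.of_linearEquiv (e1.trans e2.symm)

end Transfer

section Local

/-- Over a ring with a nilpotent maximal ideal, a module whose base changes to a jointly injective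
family of algebras are flat is free. -/
theorem free_of_isMaximal_nilpotent_of_forall_flat {R : Type*} [CommRing R] (𝔪 : Ideal R)
    [h𝔪max : 𝔪.IsMaximal] (h𝔪 : IsNilpotent 𝔪) (M : Type*) [AddCommGroup M] [Module R M]
    {κ : Type*} (C : κ → Type*) [∀ i, CommRing (C i)] [∀ i, Algebra R (C i)]
    (hC : ∀ z : R, (∀ i, algebraMap R (C i) z = 0) → z = 0)
    (hflat : ∀ i, Module.Flat (C i) (C i ⊗[R] M)) : Module.Free R M := by
  have hfree : Module.Free (R ⧸ 𝔪) ((R ⧸ 𝔪) ⊗[R] M) := by
    let _ := Ideal.Quotient.field 𝔪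
    exact Module.Free.of_divisionRing _ _
  let b := Module.Free.chooseBasis (R ⧸ 𝔪) ((R ⧸ 𝔪) ⊗[R] M)
  have hinj : Function.Injective (cover b) := by
    rw [injective_iff_map_eq_zero]
    intro x hx
    ext j
    rw [Finsupp.zero_apply]
    apply hC
    intro i
    exact algebraMap_apply_eq_zero_of_flat b h𝔪 (C i) x hx j
  exact Module.Free.of_equiv (LinearEquiv.ofBijective (cover b) ⟨hinj, cover_surjective b h𝔪⟩)

end Local

section Semilocal

variable {A : Type*} [CommRing A]

/-- In a semi-local ring with `(rad A) ^ n = 0`, for each maximal ideal `m` there is `s ∉ m`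
killing `m ^ n`, and such that `s = s * (u * t)` for a suitable `u`, for each `t ∉ m`. -/
theorem exists_not_mem_forall_mul_eq_zero [Finite (MaximalSpectrum A)] (n : ℕ)
    (hn : (Ring.jacobson A) ^ n = ⊥) (m : Ideal A) [hm : m.IsMaximal] :
    ∃ s : A, s ∉ m ∧ (∀ y ∈ m ^ n, s * y = 0) ∧ ∀ t : A, t ∉ m → ∃ u : A, s = s * (u * t) := by
  classical
  have : Fintype (MaximalSpectrum A) := Fintype.ofFinite _
  have hex : ∀ m' : MaximalSpectrum A, m'.asIdeal ≠ m → ∃ t ∈ m'.asIdeal, t ∉ m := by
    intro m' hne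
    by_contra hcon
    push Not at hcon
    exact hne (m'.isMaximal.eq_of_le hm.ne_top hcon)
  let t : MaximalSpectrum A → A := fun m' =>
    if h : m'.asIdeal ≠ m then (hex m' h).choose else 1
  have ht1 : ∀ m' : MaximalSpectrum A, m'.asIdeal ≠ m → t m' ∈ m'.asIdeal := by
    intro m' h
    simp only [t, dif_pos h]
    exact (hex m' h).choose_spec.1
  have ht2 : ∀ m' : MaximalSpectrum A, t m' ∉ m := by
    intro m'
    by_cases h : m'.asIdeal ≠ m
    · simp only [t, dif_pos h]
      exact (hex m' h).choose_spec.2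
    · simp only [t, dif_neg h]
      exact fun h1 => hm.ne_top ((Ideal.eq_top_iff_one _).mpr h1)
  let s₀ : A := ∏ m' : MaximalSpectrum A, t m'
  have hs₀ : s₀ ∉ m := by
    intro h
    obtain ⟨m', -, hm'⟩ := (Ideal.IsPrime.prod_mem_iff (p := m)).mp h
    exact ht2 m' hm'
  have hs₀J : Ideal.span {s₀} * m ≤ Ring.jacobson A := by
    rw [Ideal.span_singleton_mul_le_iff]
    intro x hx
    rw [← Ideal.jacobson_bot, Ideal.jacobson, Ideal.mem_sInf]
    rintro m'' ⟨-, hm''⟩
    by_cases h : m'' = m
    · rw [h]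
      exact Ideal.mul_mem_left _ _ hx
    · refine Ideal.mul_mem_right _ _ ?_
      have h1 := ht1 ⟨m'', hm''⟩ h
      exact Ideal.mem_of_dvd _ (Finset.dvd_prod_of_mem t (Finset.mem_univ _)) h1
  have hkill : ∀ y ∈ m ^ n, s₀ ^ n * y = 0 := by
    intro y hy
    have h1 : (Ideal.span {s₀} * m) ^ n ≤ ⊥ := hn ▸ Ideal.pow_right_mono hs₀J n
    rw [mul_pow, Ideal.span_singleton_pow] at h1
    have h2 : s₀ ^ n * y ∈ Ideal.span {s₀ ^ n} * m ^ n :=
      Ideal.mul_mem_mul (Ideal.mem_span_singleton_self _) hy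
    exact (Ideal.mem_bot).mp (h1 h2)
  refine ⟨s₀ ^ n, fun h => hs₀ (hm.isPrime.mem_of_pow_mem n h), hkill, ?_⟩
  intro t' ht'
  obtain ⟨u, i, hi, hu⟩ := hm.exists_inv ht'
  obtain ⟨c, hc⟩ := sub_dvd_pow_sub_pow (u * t' + i) i n
  rw [add_sub_cancel_right, hu, one_pow] at hc
  refine ⟨u * c, ?_⟩
  have h3 : s₀ ^ n * i ^ n = 0 := hkill _ (Ideal.pow_mem_pow hi n)
  calc s₀ ^ n = s₀ ^ n * (1 - i ^ n) + s₀ ^ n * i ^ n := by ring
    _ = s₀ ^ n * (u * t' * c) := by rw [h3, add_zero, hc]
    _ = s₀ ^ n * (u * c * t') := by ring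

end Semilocal

section Main

/-- Over a semi-local ring with nilpotent Jacobson radical, flatness can be tested on a jointly
injective family of algebras. -/
theorem flat_of_forall_flat_baseChange_of_semilocal {A : Type u} [CommRing A]
    [Finite (MaximalSpectrum A)] (hnil : IsNilpotent (Ring.jacobson A))
    {ι : Type*} (B : ι → Type u) [∀ i, CommRing (B i)] [∀ i, Algebra A (B i)]
    (hB : ∀ a : A, (∀ i, algebraMap A (B i) a = 0) → a = 0)
    (M : Type u) [AddCommGroup M] [Module A M]
    (hflat : ∀ i, Module.Flat (B i) (B i ⊗[A] M)) : Module.Flat A M := by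
  obtain ⟨n, hn⟩ := hnil
  apply Module.flat_of_isLocalized_maximal A M (fun P _ => Localization.AtPrime P ⊗[A] M)
    (fun P _ => TensorProduct.mk A (Localization.AtPrime P) M 1)
  intro m hm
  obtain ⟨s, hsm, hkill, hs⟩ := exists_not_mem_forall_mul_eq_zero n hn m
  rw [← Module.flat_iff_of_isLocalization (Localization.AtPrime m) m.primeCompl]
  have h𝔪 : IsNilpotent (IsLocalRing.maximalIdeal (Localization.AtPrime m)) := by
    refine ⟨n, ?_⟩
    rw [← Localization.AtPrime.map_eq_maximalIdeal, ← Ideal.map_pow, Ideal.zero_eq_bot,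
      Ideal.map_eq_bot_iff_le_ker]
    intro y hy
    rw [RingHom.mem_ker, IsLocalization.map_eq_zero_iff m.primeCompl]
    exact ⟨⟨s, hsm⟩, hkill y hy⟩
  let C : ι → Type u := fun i => Localization (Algebra.algebraMapSubmonoid (B i) m.primeCompl)
  have hfree : Module.Free (Localization.AtPrime m) (Localization.AtPrime m ⊗[A] M) := by
    apply free_of_isMaximal_nilpotent_of_forall_flat
      (IsLocalRing.maximalIdeal (Localization.AtPrime m)) h𝔪 (Localization.AtPrime m ⊗[A] M) C
    · intro z hz
      obtain ⟨⟨a, t⟩, rfl⟩ := IsLocalization.mk'_surjective m.primeCompl z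
      rw [IsLocalization.mk'_eq_zero_iff]
      refine ⟨⟨s, hsm⟩, ?_⟩
      apply hB
      intro i
      have h1 : algebraMap (Localization.AtPrime m) (C i)
          (algebraMap A (Localization.AtPrime m) a) = 0 := by
        rw [← IsLocalization.mk'_spec (Localization.AtPrime m) a t, map_mul, hz i, zero_mul]
      rw [← IsScalarTower.algebraMap_apply A (Localization.AtPrime m) (C i),
        IsScalarTower.algebraMap_apply A (B i) (C i),
        IsLocalization.map_eq_zero_iff (Algebra.algebraMapSubmonoid (B i) m.primeCompl)] at h1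
      obtain ⟨⟨_, t'', ht'', rfl⟩, h2⟩ := h1
      obtain ⟨u, hu⟩ := hs t'' ht''
      change algebraMap A (B i) (s * a) = 0
      rw [hu]
      have h3 : s * (u * t'') * a = (s * u) * (t'' * a) := by ring
      rw [h3, map_mul (algebraMap A (B i)) (s * u), map_mul (algebraMap A (B i)) t'']
      change algebraMap A (B i) t'' * _ = 0 at h2
      rw [h2, mul_zero]
    · intro i
      exact flat_tensor_tensor_of_flat_tensor A (Localization.AtPrime m) (B i) (C i) M
  infer_instance

end Main

end Groth.Agent.Lib.Helper23
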