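import Mathlib
import Groth.Agent.Lib.Helper23.FibreRegularOpen

/-!
# Multiplication by a global section and pullback of modules (helper23)

* `smulHom_comp`: every morphism of modules commutes with multiplication by a global section.
* `pushforward_map_smulHom`, `pullback_map_smulHom`:
  `q^* (r • -) = (q^♯ r) • -` on `q^* F`.
-/

set_option autoImplicit false
set_option linter.style.haveILetI false
universe u
open CategoryTheory CategoryTheory.Limits AlgebraicGeometry TopologicalSpace Opposite

namespace Groth.Agent.Lib.Helper23.SmulHomPull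

open Groth.Agent.Lib.Helper23.FibreRegularOpen

variable {X Y : Scheme.{u}}

theorem smulHom_comp (r : Γ(X, ⊤)) {F F' : X.Modules} (ψ : F ⟶ F') :
    smulHom r F ≫ ψ = ψ ≫ smulHom r F' := by
  ext U m
  change ψ.app U ((smulHom r F).app U m) = (smulHom r F').app U (ψ.app U m)
  rw [smulHom_app, smulHom_app, Scheme.Modules.Hom.app_smul]

theorem pushforward_map_smulHom (q : X ⟶ Y) (r : Γ(Y, ⊤)) (G : X.Modules) :
    (Scheme.Modules.pushforward q).map (smulHom (q.appTop r) G) =
      smulHom r ((Scheme.Modules.pushforward q).obj G) := by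
  ext V m
  let m' : Γ(G, q ⁻¹ᵁ V) := m
  change (X.presheaf.map (homOfLE (le_top : q ⁻¹ᵁ V ≤ ⊤)).op (q.appTop r)) • m' =
    (q.app V (Y.presheaf.map (homOfLE (le_top : V ≤ ⊤)).op r)) • m'
  congr 1
  have h := q.naturality (homOfLE (le_top : V ≤ ⊤)).op
  exact (congr($(h) r)).symm

theorem pullback_map_smulHom (q : X ⟶ Y) (r : Γ(Y, ⊤)) (F : Y.Modules) :
    (Scheme.Modules.pullback q).map (smulHom r F) =
      smulHom (q.appTop r) ((Scheme.Modules.pullback q).obj F) := by
  let adj := Scheme.Modules.pullbackPushforwardAdjunction q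
  apply (adj.homEquiv _ _).injective
  rw [Adjunction.homEquiv_unit, Adjunction.homEquiv_unit, pushforward_map_smulHom]
  have h1 := adj.unit.naturality (smulHom r F)
  have h2 := smulHom_comp r (adj.unit.app F)
  simp only [Functor.id_obj, Functor.id_map, Functor.comp_obj, Functor.comp_map] at h1 h2
  rw [← h1, h2]

end Groth.Agent.Lib.Helper23.SmulHomPull
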