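import Mathlib
import Groth.Prelude.Def_RegImm

/-!
# Transversally regular sequences on modules (helper23)

`TRM A M rs`: `rs` is weakly regular on the `B`-module `M` and every partial quotient
`M ⧸ (rs₁, …, rs_j) M` is `A`-flat.  Recursion on the list, invariance under linear equivalences,
and comparison with the prelude's `RegImm.IsTransRegularSeq` (the case `M = B`).
-/

set_option autoImplicit false
universe u v
open RingTheory.Sequence

namespace Groth.Agent.Lib.Helper23.TransReg

variable (A : Type u) {B : Type u} [CommRing A] [CommRing B] [Algebra A B]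

/-- Transversal regularity of a sequence on a module. -/
def TRM (M : Type v) [AddCommGroup M] [Module B M] [Module A M] [IsScalarTower A B M]
    (rs : List B) : Prop :=
  IsWeaklyRegular M rs ∧
    ∀ j : ℕ, j ≤ rs.length → Module.Flat A (M ⧸ (Ideal.ofList (rs.take j) • ⊤ : Submodule B M))

variable (M : Type v) [AddCommGroup M] [Module B M] [Module A M] [IsScalarTower A B M]

theorem flat_quot_nil_iff :
    Module.Flat A (M ⧸ (Ideal.ofList ([] : List B) • ⊤ : Submodule B M)) ↔ Module.Flat A M := by
  have h0 : (Ideal.ofList ([] : List B) • ⊤ : Submodule B M) = ⊥ := by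
    rw [Ideal.ofList_nil, Submodule.bot_smul]
  let e : (M ⧸ (Ideal.ofList ([] : List B) • ⊤ : Submodule B M)) ≃ₗ[A] M :=
    (Submodule.quotEquivOfEqBot _ h0).restrictScalars A
  exact ⟨fun h => Module.Flat.of_linearEquiv e.symm, fun h => Module.Flat.of_linearEquiv e⟩

theorem TRM_nil : TRM A M ([] : List B) ↔ Module.Flat A M := by
  unfold TRM
  constructor
  · rintro ⟨-, h⟩
    exact (flat_quot_nil_iff A M).mp (h 0 (Nat.zero_le _))
  · intro h
    refine ⟨IsWeaklyRegular.nil B M, fun j hj => ?_⟩
    simp only [List.length_nil, Nat.le_zero] at hj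
    subst hj
    exact (flat_quot_nil_iff A M).mpr h

theorem TRM_cons (r : B) (rs : List B) :
    TRM A M (r :: rs) ↔
      Module.Flat A M ∧ IsSMulRegular M r ∧ TRM A (QuotSMulTop r M) rs := by
  unfold TRM
  rw [isWeaklyRegular_cons_iff]
  have key : ∀ j : ℕ, Module.Flat A (M ⧸ (Ideal.ofList ((r :: rs).take (j + 1)) • ⊤ :
        Submodule B M)) ↔
      Module.Flat A (QuotSMulTop r M ⧸ (Ideal.ofList (rs.take j) • ⊤ :
        Submodule B (QuotSMulTop r M))) := by
    intro j
    rw [List.take_succ_cons]
    let e := (Submodule.quotOfListConsSMulTopEquivQuotSMulTopInner M r (rs.take j)).restrictScalars A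
    exact ⟨fun h => Module.Flat.of_linearEquiv e.symm, fun h => Module.Flat.of_linearEquiv e⟩
  constructor
  · rintro ⟨⟨h1, h2⟩, h3⟩
    refine ⟨?_, h1, h2, fun j hj => (key j).mp (h3 (j + 1) (by simpa using hj))⟩
    have := h3 0 (Nat.zero_le _)
    rw [List.take_zero] at this
    exact (flat_quot_nil_iff A M).mp this
  · rintro ⟨h0, h1, h2, h3⟩
    refine ⟨⟨h1, h2⟩, fun j hj => ?_⟩
    cases j with
    | zero =>
      rw [List.take_zero]
      exact (flat_quot_nil_iff A M).mpr h0
    | succ j => exact (key j).mpr (h3 j (by simpa using hj))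

variable {M}

theorem TRM.flat {rs : List B} (h : TRM A M rs) : Module.Flat A M := by
  cases rs with
  | nil => exact (TRM_nil A M).mp h
  | cons r rs => exact ((TRM_cons A M r rs).mp h).1

/-- Invariance under `B`-linear equivalences compatible with the `A`-actions. -/
theorem TRM_congr {M' : Type v} [AddCommGroup M'] [Module B M'] [Module A M']
    [IsScalarTower A B M'] (e : M ≃ₗ[B] M') (rs : List B) : TRM A M rs ↔ TRM A M' rs := by
  unfold TRM
  refine and_congr (e.isWeaklyRegular_congr rs) (forall_congr' fun j => forall_congr' fun _ => ?_)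
  have hmap : Submodule.map e.toLinearMap (Ideal.ofList (rs.take j) • ⊤ : Submodule B M) =
      (Ideal.ofList (rs.take j) • ⊤ : Submodule B M') := by
    rw [Submodule.map_smul'', Submodule.map_top, LinearEquiv.range]
  let e' : (M ⧸ (Ideal.ofList (rs.take j) • ⊤ : Submodule B M)) ≃ₗ[A]
      (M' ⧸ (Ideal.ofList (rs.take j) • ⊤ : Submodule B M')) :=
    (Submodule.Quotient.equiv _ _ e hmap).restrictScalars A
  exact ⟨fun h => Module.Flat.of_linearEquiv e'.symm, fun h => Module.Flat.of_linearEquiv e'⟩

/-- Comparison with the prelude's notion. -/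
theorem isTransRegularSeq_iff (rs : List B) :
    RegImm.IsTransRegularSeq A B rs ↔ TRM A B rs := by
  unfold RegImm.IsTransRegularSeq TRM
  refine and_congr Iff.rfl (forall_congr' fun j => forall_congr' fun _ => ?_)
  have hI : (Ideal.ofList (rs.take j) • ⊤ : Submodule B B) = Ideal.ofList (rs.take j) := by
    rw [smul_eq_mul, Ideal.mul_top]
  let e : (B ⧸ Ideal.ofList (rs.take j)) ≃ₗ[A]
      (B ⧸ (Ideal.ofList (rs.take j) • ⊤ : Submodule B B)) :=
    (Submodule.quotEquivOfEq _ _ hI.symm).restrictScalars A
  exact ⟨fun h => Module.Flat.of_linearEquiv e.symm, fun h => Module.Flat.of_linearEquiv e⟩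

end Groth.Agent.Lib.Helper23.TransReg
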