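import Mathlib
import Groth.Agent.Lib.Helper23.InjFlatBC
import Groth.Agent.Lib.Helper23.SmulHomPull
import Groth.Agent.Lib.Helper23.CokerFlatOpen

/-!
# The pointwise "tower" condition for transversally regular sequences (helper23)

For `q : X ⟶ X₀`, `g : X ⟶ T`, a list `fs` of global functions on `X₀` and a module `F₀` on `X₀`,
`TowerAt g q fs F₀ x` says: `q^* F₀` is `g`-flat at `x`, multiplication by `f₁` on `q^*F₀` is
injective at `x` with `g`-flat cokernel at `x`, and so on for the successive quotients.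
-/

set_option autoImplicit false
set_option linter.style.haveILetI false
universe u
open CategoryTheory CategoryTheory.Limits AlgebraicGeometry TopologicalSpace Opposite

namespace Groth.Agent.Lib.Helper23.TransReg

open Groth.Agent.Lib Groth.Agent.Lib.Helper49 Groth.Agent.Lib.Helper45
  Groth.Agent.Lib.Helper23.FibreRegularOpen Groth.Agent.Lib.Helper23.InjFlat
  Groth.Agent.Lib.Helper23.FibreFlatCons Groth.Agent.Lib.Helper18.TransSec

variable {X₀ : Scheme.{u}}

/-- The pointwise tower condition. -/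
def TowerAt {X T : Scheme.{u}} (g : X ⟶ T) (q : X ⟶ X₀) :
    List Γ(X₀, ⊤) → X₀.Modules → X → Prop
  | [], F₀, x => FlatMod.IsFlatOverAt g ((Scheme.Modules.pullback q).obj F₀) x
  | f :: fs, F₀, x => FlatMod.IsFlatOverAt g ((Scheme.Modules.pullback q).obj F₀) x ∧
      InjFlatAt g ((Scheme.Modules.pullback q).map (smulHom f F₀)) x ∧
      TowerAt g q fs (cokernel (smulHom f F₀)) x

theorem TowerAt.flat {X T : Scheme.{u}} {g : X ⟶ T} {q : X ⟶ X₀} {fs : List Γ(X₀, ⊤)}
    {F₀ : X₀.Modules} {x : X} (h : TowerAt g q fs F₀ x) :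
    FlatMod.IsFlatOverAt g ((Scheme.Modules.pullback q).obj F₀) x := by
  cases fs with
  | nil => exact h
  | cons f fs => exact h.1

/-- quasi-coherence of the successive quotients -/
theorem isQuasicoherent_quo (f : Γ(X₀, ⊤)) (F₀ : X₀.Modules) [F₀.IsQuasicoherent] :
    (cokernel (smulHom f F₀)).IsQuasicoherent :=
  isQuasicoherent_cokernel _ inferInstance inferInstance

theorem isFinitePresentation_quo (f : Γ(X₀, ⊤)) (F₀ : X₀.Modules) [F₀.IsQuasicoherent]
    (hF₀ : SheafOfModules.IsFinitePresentation (R := X₀.ringCatSheaf) F₀) :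
    SheafOfModules.IsFinitePresentation (R := X₀.ringCatSheaf) (cokernel (smulHom f F₀)) :=
  isFinitePresentation_cokernel' hF₀ hF₀ _

/-- **Base change** of the tower condition. -/
theorem TowerAt.baseChange {X T X' T' : Scheme.{u}} (f : X ⟶ T) (f' : X' ⟶ T') (g' : X' ⟶ X)
    (h : T' ⟶ T) (hc : IsPullback g' f' f h) [LocallyOfFinitePresentation f] (q : X ⟶ X₀)
    (q' : X' ⟶ X₀) (hq : g' ≫ q = q') :
    ∀ (fs : List Γ(X₀, ⊤)) (F₀ : X₀.Modules) [F₀.IsQuasicoherent]
      (_ : SheafOfModules.IsFinitePresentation (R := X₀.ringCatSheaf) F₀) (x' : X'),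
      TowerAt f q fs F₀ (g' x') → TowerAt f' q' fs F₀ x'
  | [], F₀, _, hF₀, x', hx => by
    haveI := Groth.Agent.Lib.Helper16.FlatPull.isQuasicoherent_pullback q F₀
    exact isFlatOverAt_of_iso f' (compIso g' q q' hq F₀) x'
      (Groth.Agent.Lib.Helper16.FlatPull.isFlatOverAt_baseChange f f' g' h hc _ x' hx)
  | r :: fs, F₀, _, hF₀, x', hx => by
    haveI := Groth.Agent.Lib.Helper16.FlatPull.isQuasicoherent_pullback q F₀
    haveI := isQuasicoherent_quo r F₀
    have hfp := PrinPartFP.isFinitePresentation_pullback q F₀ hF₀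
    refine ⟨isFlatOverAt_of_iso f' (compIso g' q q' hq F₀) x'
      (Groth.Agent.Lib.Helper16.FlatPull.isFlatOverAt_baseChange f f' g' h hc _ x' hx.1), ?_,
      TowerAt.baseChange f f' g' h hc q q' hq fs (cokernel (smulHom r F₀))
        (isFinitePresentation_quo r F₀ hF₀) x' hx.2.2⟩
    exact (InjFlatAt.comp_iff f' g' q q' hq (smulHom r F₀) x').mp
      (InjFlatAt.baseChange f f' g' h hc _ _ hfp hfp _ x' hx.2.1)

/-- The tower locus is open. -/
theorem isOpen_setOf_towerAt {X T : Scheme.{u}} (g : X ⟶ T) [LocallyOfFinitePresentation g]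
    (q : X ⟶ X₀) :
    ∀ (fs : List Γ(X₀, ⊤)) (F₀ : X₀.Modules) [F₀.IsQuasicoherent]
      (_ : SheafOfModules.IsFinitePresentation (R := X₀.ringCatSheaf) F₀),
      IsOpen {x : X | TowerAt g q fs F₀ x}
  | [], F₀, _, hF₀ => by
    haveI := Groth.Agent.Lib.Helper16.FlatPull.isQuasicoherent_pullback q F₀
    exact Groth.Agent.H76.FlatLocusSheaf.isOpen_isFlatOverAt g _
      (PrinPartFP.isFinitePresentation_pullback q F₀ hF₀)
  | r :: fs, F₀, _, hF₀ => by
    haveI := Groth.Agent.Lib.Helper16.FlatPull.isQuasicoherent_pullback q F₀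
    haveI := isQuasicoherent_quo r F₀
    have hfp := PrinPartFP.isFinitePresentation_pullback q F₀ hF₀
    have h1 := Groth.Agent.H76.FlatLocusSheaf.isOpen_isFlatOverAt g _ hfp
    have h2 := Groth.Agent.Lib.Helper23.CokerFlatOpen.isOpen_setOf_injective_and_coker_flat g _ _
      hfp hfp ((Scheme.Modules.pullback q).map (smulHom r F₀))
    have h3 := isOpen_setOf_towerAt g q fs (cokernel (smulHom r F₀))
      (isFinitePresentation_quo r F₀ hF₀)
    have h4 := (h1.inter h2).inter h3
    convert h4 using 1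
    ext x
    simp only [Set.mem_inter_iff, Set.mem_ofPred_eq]
    exact ⟨fun ⟨a, b, c⟩ => ⟨⟨a, b⟩, c⟩, fun ⟨⟨a, b⟩, c⟩ => ⟨a, b, c⟩⟩

end Groth.Agent.Lib.Helper23.TransReg
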