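import Mathlib
import Groth.Agent.Lib.Helper23.TransRegTower
import Groth.Agent.Lib.Helper23.TransRegAlg
import Groth.Agent.Lib.Helper12.FlatOverSections

/-!
# The tower condition on affine charts (helper23)

* `cokerSmulEquiv`: for `G` quasi-coherent and `U` affine,
  `Γ(Coker (ρ • - : G → G), U) ≃ Γ(G, U) / ρ Γ(G, U)`.
* `forall_stalkMap_smulHom_injective_iff`: multiplication by `ρ` is injective on all stalks at
  points of `U` iff `ρ|_U` is `Γ(G, U)`-regular.
* `forall_towerAt_iff_TRM`: the tower condition at all points of an affine `U ⊆ g⁻¹ V` is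
  transversal regularity of the sections over `(U, V)`.
-/

set_option autoImplicit false
set_option linter.style.haveILetI false
universe u
open CategoryTheory CategoryTheory.Limits AlgebraicGeometry TopologicalSpace Opposite
open scoped Pointwise

namespace Groth.Agent.Lib.Helper23.TransReg

open Groth.Agent.Lib Groth.Agent.Lib.Helper49 Groth.Agent.Lib.Helper45
  Groth.Agent.Lib.Helper23.FibreRegularOpen Groth.Agent.Lib.Helper23.InjFlat
  Groth.Agent.Lib.Helper23.FibreFlatCons Groth.Agent.Lib.Helper18.TransSec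
  Groth.Agent.Lib.Helper23.SmulHomPull

variable {X : Scheme.{u}}

/-- restriction of a global function to an open. -/
noncomputable abbrev resTop (ρ : Γ(X, ⊤)) (U : X.Opens) : Γ(X, U) :=
  (X.presheaf.map (homOfLE (le_top : U ≤ ⊤)).op).hom ρ

theorem appₗ_smulHom (ρ : Γ(X, ⊤)) (G : X.Modules) (U : X.Opens) :
    Helper45.appₗ (smulHom ρ G) U = LinearMap.lsmul Γ(X, U) Γ(G, U) (resTop ρ U) := by
  ext m
  exact smulHom_app ρ G U m

theorem range_appₗ_smulHom (ρ : Γ(X, ⊤)) (G : X.Modules) (U : X.Opens) :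
    LinearMap.range (Helper45.appₗ (smulHom ρ G) U) = (resTop ρ U) • (⊤ : Submodule Γ(X, U) Γ(G, U)) := by
  rw [appₗ_smulHom]
  ext m
  rw [LinearMap.mem_range, Submodule.mem_smul_pointwise_iff_exists]
  constructor
  · rintro ⟨a, rfl⟩
    exact ⟨a, Submodule.mem_top, rfl⟩
  · rintro ⟨a, -, rfl⟩
    exact ⟨a, rfl⟩

/-- Sections of the cokernel of multiplication by `ρ` over an affine open. -/
noncomputable def cokerSmulEquiv (ρ : Γ(X, ⊤)) (G : X.Modules) [G.IsQuasicoherent]
    {U : X.Opens} (hU : IsAffineOpen U) :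
    QuotSMulTop (resTop ρ U) Γ(G, U) ≃ₗ[Γ(X, U)] Γ(cokernel (smulHom ρ G), U) := by
  haveI hCq : (cokernel (smulHom ρ G)).IsQuasicoherent :=
    isQuasicoherent_cokernel _ inferInstance inferInstance
  have hsurj : Function.Surjective (Helper45.appₗ (cokernel.π (smulHom ρ G)) U) :=
    Groth.Agent.Lib.Helper42.app_surjective_of_epi (cokernel.π (smulHom ρ G)) hU
  have hker : (resTop ρ U) • (⊤ : Submodule Γ(X, U) Γ(G, U)) =
      LinearMap.ker (Helper45.appₗ (cokernel.π (smulHom ρ G)) U) := by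
    rw [← range_appₗ_smulHom]
    exact Groth.Agent.Lib.Helper23.CokerFlatOpen.range_app_eq_ker (smulHom ρ G) hU
  exact (Submodule.quotEquivOfEq _ _ hker).trans
    (LinearMap.quotKerEquivOfSurjective _ hsurj)

theorem forall_stalkMap_smulHom_injective_iff (ρ : Γ(X, ⊤)) (G : X.Modules) [G.IsQuasicoherent]
    {U : X.Opens} (hU : IsAffineOpen U) :
    (∀ x : U, Function.Injective (stalkMap (smulHom ρ G) (x : X)).hom) ↔
      IsSMulRegular Γ(G, U) (resTop ρ U) := by
  constructor
  · intro h a b hab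
    refine section_ext_germ G U a b fun x hx => ?_
    apply h ⟨x, hx⟩
    rw [stalkMap_germ, stalkMap_germ, smulHom_app, smulHom_app]
    exact congrArg _ hab
  · intro h x
    refine Groth.Agent.Lib.Helper23.CokerFlatOpen.stalkMap_injective_of_notMem (smulHom ρ G) hU 1
      (fun k hk => ?_) x ?_
    · rw [one_smul]
      rw [LinearMap.mem_ker, appₗ_smulHom] at hk
      exact h (by simpa using hk)
    · exact fun h1 => (hU.primeIdealOf x).2.ne_top ((Ideal.eq_top_iff_one _).mpr h1)

/-- sections of isomorphic modules -/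
noncomputable def sectionsEquiv {G G' : X.Modules} (e : G ≅ G') (U : X.Opens) :
    Γ(G, U) ≃ₗ[Γ(X, U)] Γ(G', U) :=
  LinearEquiv.ofLinearMap (Helper45.appₗ e.hom U) (Helper45.appₗ e.inv U)
    (by
      ext m
      change e.hom.app U (e.inv.app U m) = m
      change (e.inv.app U ≫ e.hom.app U) m = m
      rw [← Scheme.Modules.Hom.comp_app, e.inv_hom_id]
      rfl)
    (by
      ext m
      change (e.hom.app U ≫ e.inv.app U) m = m
      rw [← Scheme.Modules.Hom.comp_app, e.hom_inv_id]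
      rfl)

variable {T : Scheme.{u}}

/-- Transversal regularity of a list of sections over an affine pair `(U, V)`, `U ⊆ g⁻¹ V`,
on the sections `Γ(G, U)` of a module. -/
def TRSec (g : X ⟶ T) {U : X.Opens} {V : T.Opens} (e : U ≤ g ⁻¹ᵁ V) (G : X.Modules)
    (rs : List Γ(X, U)) : Prop :=
  letI := (g.appLE V U e).hom.toAlgebra
  letI : Module Γ(T, V) Γ(G, U) := Module.compHom _ (g.appLE V U e).hom
  haveI : IsScalarTower Γ(T, V) Γ(X, U) Γ(G, U) := IsScalarTower.of_compHom _ _ _
  TRM Γ(T, V) Γ(G, U) rs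

theorem TRSec_congr_iso (g : X ⟶ T) {U : X.Opens} {V : T.Opens} (e : U ≤ g ⁻¹ᵁ V)
    {G G' : X.Modules} (ι : G ≅ G') (rs : List Γ(X, U)) :
    TRSec g e G rs ↔ TRSec g e G' rs := by
  unfold TRSec
  letI := (g.appLE V U e).hom.toAlgebra
  letI : Module Γ(T, V) Γ(G, U) := Module.compHom _ (g.appLE V U e).hom
  haveI : IsScalarTower Γ(T, V) Γ(X, U) Γ(G, U) := IsScalarTower.of_compHom _ _ _
  letI : Module Γ(T, V) Γ(G', U) := Module.compHom _ (g.appLE V U e).hom
  haveI : IsScalarTower Γ(T, V) Γ(X, U) Γ(G', U) := IsScalarTower.of_compHom _ _ _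
  exact TRM_congr Γ(T, V) (sectionsEquiv ι U) rs

theorem TRSec_nil_iff (g : X ⟶ T) {U : X.Opens} (hU : IsAffineOpen U) {V : T.Opens}
    (hV : IsAffineOpen V) (e : U ≤ g ⁻¹ᵁ V) (G : X.Modules) [G.IsQuasicoherent] :
    TRSec g e G [] ↔ ∀ x : U, FlatMod.IsFlatOverAt g G (x : X) := by
  unfold TRSec
  letI := (g.appLE V U e).hom.toAlgebra
  letI : Module Γ(T, V) Γ(G, U) := Module.compHom _ (g.appLE V U e).hom
  haveI : IsScalarTower Γ(T, V) Γ(X, U) Γ(G, U) := IsScalarTower.of_compHom _ _ _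
  rw [TRM_nil]
  exact ⟨fun h x => Groth.Agent.Lib.Helper12.FlatOver.isFlatOverAt_of_flat_sections g G hV hU e h x,
    fun h => Groth.Agent.Lib.Helper12.FlatOver.flat_sections_of_isFlatOverAt g G hV hU e h⟩

theorem TRSec.flatAt (g : X ⟶ T) {U : X.Opens} (hU : IsAffineOpen U) {V : T.Opens}
    (hV : IsAffineOpen V) (e : U ≤ g ⁻¹ᵁ V) (G : X.Modules) [G.IsQuasicoherent]
    {rs : List Γ(X, U)} (h : TRSec g e G rs) (x : U) : FlatMod.IsFlatOverAt g G (x : X) := by
  refine (TRSec_nil_iff g hU hV e G).mp ?_ x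
  unfold TRSec at h ⊢
  letI := (g.appLE V U e).hom.toAlgebra
  letI : Module Γ(T, V) Γ(G, U) := Module.compHom _ (g.appLE V U e).hom
  haveI : IsScalarTower Γ(T, V) Γ(X, U) Γ(G, U) := IsScalarTower.of_compHom _ _ _
  exact (TRM_nil _ _).mpr (TRM.flat _ h)

theorem TRSec_cons_iff (g : X ⟶ T) {U : X.Opens} (hU : IsAffineOpen U) {V : T.Opens}
    (hV : IsAffineOpen V) (e : U ≤ g ⁻¹ᵁ V) (G : X.Modules) [G.IsQuasicoherent]
    (ρ : Γ(X, ⊤)) (rs : List Γ(X, U)) :
    TRSec g e G (resTop ρ U :: rs) ↔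
      (∀ x : U, FlatMod.IsFlatOverAt g G (x : X)) ∧ IsSMulRegular Γ(G, U) (resTop ρ U) ∧
        TRSec g e (cokernel (smulHom ρ G)) rs := by
  rw [← TRSec_nil_iff g hU hV e G]
  unfold TRSec
  letI := (g.appLE V U e).hom.toAlgebra
  letI : Module Γ(T, V) Γ(G, U) := Module.compHom _ (g.appLE V U e).hom
  haveI : IsScalarTower Γ(T, V) Γ(X, U) Γ(G, U) := IsScalarTower.of_compHom _ _ _
  letI : Module Γ(T, V) Γ(cokernel (smulHom ρ G), U) := Module.compHom _ (g.appLE V U e).hom
  haveI : IsScalarTower Γ(T, V) Γ(X, U) Γ(cokernel (smulHom ρ G), U) :=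
    IsScalarTower.of_compHom _ _ _
  rw [TRM_cons, TRM_nil, TRM_congr Γ(T, V) (cokerSmulEquiv ρ G hU) rs]

variable {X₀ : Scheme.{u}}

/-- **The tower condition on an affine chart is transversal regularity of the sections.** -/
theorem forall_towerAt_iff_TRSec (g : X ⟶ T) (q : X ⟶ X₀) {U : X.Opens} (hU : IsAffineOpen U)
    {V : T.Opens} (hV : IsAffineOpen V) (e : U ≤ g ⁻¹ᵁ V) :
    ∀ (fs : List Γ(X₀, ⊤)) (F₀ : X₀.Modules) [F₀.IsQuasicoherent],
      (∀ x : U, TowerAt g q fs F₀ (x : X)) ↔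
        TRSec g e ((Scheme.Modules.pullback q).obj F₀)
          (fs.map fun f => resTop (q.appTop.hom f) U)
  | [], F₀, _ => by
    haveI := Groth.Agent.Lib.Helper16.FlatPull.isQuasicoherent_pullback q F₀
    rw [List.map_nil, TRSec_nil_iff g hU hV e]
    rfl
  | r :: fs, F₀, _ => by
    haveI := Groth.Agent.Lib.Helper16.FlatPull.isQuasicoherent_pullback q F₀
    haveI := isQuasicoherent_quo r F₀
    haveI := Groth.Agent.Lib.Helper16.FlatPull.isQuasicoherent_pullback q
      (cokernel (smulHom r F₀))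
    haveI hCq : (cokernel (smulHom (q.appTop.hom r) ((Scheme.Modules.pullback q).obj F₀))).IsQuasicoherent :=
      isQuasicoherent_cokernel _ inferInstance inferInstance
    have IH := forall_towerAt_iff_TRSec g q hU hV e fs (cokernel (smulHom r F₀))
    have hE := pullback_map_smulHom q r F₀
    -- the comparison isomorphism
    let ι : (Scheme.Modules.pullback q).obj (cokernel (smulHom r F₀)) ≅
        cokernel (smulHom (q.appTop.hom r) ((Scheme.Modules.pullback q).obj F₀)) :=
      cokIso q (smulHom r F₀) ≪≫ cokernel.mapIso _ _ (Iso.refl _) (Iso.refl _) (by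
        rw [Iso.refl_hom, Category.comp_id, Category.id_comp]
        exact hE)
    have hι := TRSec_congr_iso g e ι (fs.map fun f => resTop (q.appTop.hom f) U)
    rw [List.map_cons, TRSec_cons_iff g hU hV e, ← hι, ← IH,
      ← forall_stalkMap_smulHom_injective_iff _ _ hU]
    constructor
    · intro h
      refine ⟨fun x => (h x).1, fun x => ?_, fun x => (h x).2.2⟩
      have := (h x).2.1.1
      rw [hE] at this
      exact this
    · rintro ⟨h1, h2, h3⟩ x
      refine ⟨h1 x, ⟨?_, ?_⟩, h3 x⟩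
      · rw [hE]
        exact h2 x
      · exact isFlatOverAt_of_iso g (cokIso q (smulHom r F₀)) _ (h3 x).flat

end Groth.Agent.Lib.Helper23.TransReg
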