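import Mathlib
import Groth.Agent.Lib.Helper23.TransRegTower
import Groth.Agent.Lib.Helper23.InjFlatStage

/-!
# Limit descent of the tower condition (helper23)
-/

set_option autoImplicit false
set_option linter.style.haveILetI false
universe u
open CategoryTheory CategoryTheory.Limits AlgebraicGeometry TopologicalSpace Opposite

namespace Groth.Agent.Lib.Helper23.TransReg

open Groth.Agent.Lib Groth.Agent.Lib.Helper49 Groth.Agent.Lib.Helper45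
  Groth.Agent.Lib.Helper23.FibreRegularOpen Groth.Agent.Lib.Helper23.InjFlat
  Groth.Agent.Lib.Helper23.FibreFlatCons Groth.Agent.Lib.Helper18.TransSec
  Groth.Agent.Lib.Helper23.FlatStage

variable {J : Type u} [SmallCategory J] [IsCofiltered J] (E : J ⥤ Scheme.{u}) (cE : Cone E)
  [hE : ∀ (i j : J) (f : i ⟶ j), IsAffineHom (E.map f)] (j₀ : J)
  {X₀ : Scheme.{u}} (f₀ : X₀ ⟶ E.obj j₀) [LocallyOfFinitePresentation f₀]
  {X : Scheme.{u}} (f : X ⟶ cE.pt) (q : X ⟶ X₀) (H : IsPullback q f f₀ (cE.π.app j₀))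

instance locallyOfFinitePresentation_bcFst (K : Over j₀) :
    LocallyOfFinitePresentation (bcFst E j₀ f₀ K) :=
  MorphismProperty.of_isPullback (isPullback_bcObj E j₀ f₀ K).flip inferInstance

omit [IsCofiltered J] hE [LocallyOfFinitePresentation f₀] in
theorem relπ_map {K K' : Over j₀} (a : K' ⟶ K) (x : X) :
    ((bcDiagram E j₀ f₀).map a) (relπ E cE j₀ f₀ f q H K' x) = relπ E cE j₀ f₀ f q H K x := by
  have h := (relCone E cE j₀ f₀ f q H).w a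
  rw [← Scheme.Hom.comp_apply]
  exact congrArg (fun t => t x) h

/-- Monotonicity of `InjFlatAt` in the stage. -/
theorem injFlatAt_stage_mono {F₀ G₀ : X₀.Modules} [F₀.IsQuasicoherent] [G₀.IsQuasicoherent]
    (hF₀ : SheafOfModules.IsFinitePresentation (R := X₀.ringCatSheaf) F₀)
    (hG₀ : SheafOfModules.IsFinitePresentation (R := X₀.ringCatSheaf) G₀) (h₀ : F₀ ⟶ G₀)
    {K K' : Over j₀} (a : K' ⟶ K) (x : X)
    (h : InjFlatAt (bcFst E j₀ f₀ K) ((Scheme.Modules.pullback (bcSnd E j₀ f₀ K)).map h₀)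
      (relπ E cE j₀ f₀ f q H K x)) :
    InjFlatAt (bcFst E j₀ f₀ K') ((Scheme.Modules.pullback (bcSnd E j₀ f₀ K')).map h₀)
      (relπ E cE j₀ f₀ f q H K' x) := by
  haveI := Groth.Agent.Lib.Helper16.FlatPull.isQuasicoherent_pullback (bcSnd E j₀ f₀ K) F₀
  haveI := Groth.Agent.Lib.Helper16.FlatPull.isQuasicoherent_pullback (bcSnd E j₀ f₀ K) G₀
  have hF := PrinPartFP.isFinitePresentation_pullback (bcSnd E j₀ f₀ K) F₀ hF₀
  have hG := PrinPartFP.isFinitePresentation_pullback (bcSnd E j₀ f₀ K) G₀ hG₀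
  rw [← relπ_map E cE j₀ f₀ f q H a x] at h
  exact (InjFlatAt.comp_iff _ ((bcDiagram E j₀ f₀).map a) (bcSnd E j₀ f₀ K) (bcSnd E j₀ f₀ K')
    (bcDiagram_map_snd E j₀ f₀ a) h₀ _).mp
    (InjFlatAt.baseChange (bcFst E j₀ f₀ K) (bcFst E j₀ f₀ K') ((bcDiagram E j₀ f₀).map a)
      (E.map a.left) (isPullback_bcDiagram_map E j₀ f₀ a).flip _ _ hF hG _ _ h)

/-- Monotonicity of the tower condition in the stage. -/
theorem towerAt_stage_mono (fs : List Γ(X₀, ⊤)) (F₀ : X₀.Modules) [F₀.IsQuasicoherent]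
    (hF₀ : SheafOfModules.IsFinitePresentation (R := X₀.ringCatSheaf) F₀)
    {K K' : Over j₀} (a : K' ⟶ K) (x : X)
    (h : TowerAt (bcFst E j₀ f₀ K) (bcSnd E j₀ f₀ K) fs F₀ (relπ E cE j₀ f₀ f q H K x)) :
    TowerAt (bcFst E j₀ f₀ K') (bcSnd E j₀ f₀ K') fs F₀ (relπ E cE j₀ f₀ f q H K' x) := by
  rw [← relπ_map E cE j₀ f₀ f q H a x] at h
  exact TowerAt.baseChange (bcFst E j₀ f₀ K) (bcFst E j₀ f₀ K') ((bcDiagram E j₀ f₀).map a)
    (E.map a.left) (isPullback_bcDiagram_map E j₀ f₀ a).flip (bcSnd E j₀ f₀ K) (bcSnd E j₀ f₀ K')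
    (bcDiagram_map_snd E j₀ f₀ a) fs F₀ hF₀ _ h

/-- **Limit descent of the tower condition (pointwise).** -/
theorem exists_stage_towerAt (hcE : IsLimit cE) (x : X) :
    ∀ (fs : List Γ(X₀, ⊤)) (F₀ : X₀.Modules) [F₀.IsQuasicoherent]
      (_ : SheafOfModules.IsFinitePresentation (R := X₀.ringCatSheaf) F₀),
      TowerAt f q fs F₀ x →
      ∃ κ : Over j₀, ∀ (K : Over j₀) (_ : K ⟶ κ),
        TowerAt (bcFst E j₀ f₀ K) (bcSnd E j₀ f₀ K) fs F₀ (relπ E cE j₀ f₀ f q H K x)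
  | [], F₀, _, hF₀, hx => by
    obtain ⟨κ, hκ⟩ := exists_stage_isFlatOverAt E cE j₀ hcE f₀ F₀ hF₀ f q H x hx
    exact ⟨κ, fun K a => hκ K a (bcFst E j₀ f₀ K) (bcSnd E j₀ f₀ K) (relπ E cE j₀ f₀ f q H K)
      (isPullback_bcObj E j₀ f₀ K).flip (relπ_snd E cE j₀ f₀ f q H K)
      (relπ_fst E cE j₀ f₀ f q H K)⟩
  | r :: fs, F₀, _, hF₀, hx => by
    haveI := isQuasicoherent_quo r F₀
    obtain ⟨κ₁, hκ₁⟩ := exists_stage_isFlatOverAt E cE j₀ hcE f₀ F₀ hF₀ f q H x hx.1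
    obtain ⟨K₂, hK₂⟩ := exists_stage_injFlatAt E cE j₀ hcE f₀ F₀ F₀ hF₀ hF₀ (smulHom r F₀) f q H x
      hx.2.1
    obtain ⟨κ₃, hκ₃⟩ := exists_stage_towerAt hcE x fs (cokernel (smulHom r F₀))
      (isFinitePresentation_quo r F₀ hF₀) hx.2.2
    let κ₁₂ := IsCofiltered.min κ₁ K₂
    let κ := IsCofiltered.min κ₁₂ κ₃
    let a₁ : κ ⟶ κ₁ := IsCofiltered.minToLeft κ₁₂ κ₃ ≫ IsCofiltered.minToLeft κ₁ K₂
    let a₂ : κ ⟶ K₂ := IsCofiltered.minToLeft κ₁₂ κ₃ ≫ IsCofiltered.minToRight κ₁ K₂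
    let a₃ : κ ⟶ κ₃ := IsCofiltered.minToRight κ₁₂ κ₃
    refine ⟨κ, fun K b => ⟨?_, ?_, hκ₃ K (b ≫ a₃)⟩⟩
    · exact hκ₁ K (b ≫ a₁) (bcFst E j₀ f₀ K) (bcSnd E j₀ f₀ K) (relπ E cE j₀ f₀ f q H K)
        (isPullback_bcObj E j₀ f₀ K).flip (relπ_snd E cE j₀ f₀ f q H K)
        (relπ_fst E cE j₀ f₀ f q H K)
    · exact injFlatAt_stage_mono E cE j₀ f₀ f q H hF₀ hF₀ (smulHom r F₀) (b ≫ a₂) x hK₂

end Groth.Agent.Lib.Helper23.TransReg
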