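import Mathlib
import Groth.Agent.Lib.Helper23.TransRegSections
import Groth.Agent.Lib.Helper23.TransRegStage
import Groth.Agent.Lib.Helper20.PullbackUnit
import Groth.Agent.Lib.Helper49.FinLocFree
import Groth.Agent.Lib.Helper45.RegularSections

/-!
# Transversally regular sequences of global functions: global form (helper23)

* `TRAll g gs`: the prelude's affine-pair condition.
* `TRAll_iff_forall_towerAt`: `TRAll g (fs.map q^♯) ↔ ∀ x, TowerAt g q fs O_{X₀} x`.
-/

set_option autoImplicit false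
set_option linter.style.haveILetI false
universe u
open CategoryTheory CategoryTheory.Limits AlgebraicGeometry TopologicalSpace Opposite

namespace Groth.Agent.Lib.Helper23.TransReg

open Groth.Agent.Lib Groth.Agent.Lib.Helper49 Groth.Agent.Lib.Helper45
  Groth.Agent.Lib.Helper23.FibreRegularOpen Groth.Agent.Lib.Helper23.InjFlat
  Groth.Agent.Lib.Helper23.FibreFlatCons Groth.Agent.Lib.Helper18.TransSec
  Groth.Agent.Lib.Helper23.SmulHomPull Groth.Agent.Lib.Helper11.GenLocus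
  Groth.Agent.Lib.Helper20.PullbackUnit

variable {X T X₀ : Scheme.{u}}

theorem isFinitePresentation_structureModule (Z : Scheme.{u}) :
    SheafOfModules.IsFinitePresentation (R := Z.ringCatSheaf) (Coh.structureModule Z) :=
  isFinitePresentation_of_isFinLocFree _ fun _ =>
    ⟨⊤, 1, trivial, ⟨Scheme.Modules.restrictUnitIso (⊤ : Z.Opens).ι ≪≫
      (Limits.coproductUniqueIso (fun _ : Fin 1 => Coh.structureModule _)).symm⟩⟩

/-- sections of the structure module are the functions. -/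
noncomputable def unitEquiv (U : X.Opens) : Γ(Coh.structureModule X, U) ≃ₗ[Γ(X, U)] Γ(X, U) where
  toFun := ofO U
  invFun := toO U
  left_inv _ := rfl
  right_inv _ := rfl
  map_add' _ _ := rfl
  map_smul' _ _ := rfl

theorem TRSec_structureModule_iff (g : X ⟶ T) {U : X.Opens} {V : T.Opens} (e : U ≤ g ⁻¹ᵁ V)
    (rs : List Γ(X, U)) :
    TRSec g e (Coh.structureModule X) rs ↔
      @RegImm.IsTransRegularSeq Γ(T, V) Γ(X, U) _ _ (g.appLE V U e).hom.toAlgebra rs := by
  unfold TRSec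
  letI := (g.appLE V U e).hom.toAlgebra
  letI : Module Γ(T, V) Γ(Coh.structureModule X, U) := Module.compHom _ (g.appLE V U e).hom
  haveI : IsScalarTower Γ(T, V) Γ(X, U) Γ(Coh.structureModule X, U) :=
    IsScalarTower.of_compHom _ _ _
  rw [isTransRegularSeq_iff]
  exact TRM_congr Γ(T, V) (unitEquiv U) rs

/-- The affine-pair form of transversal regularity of global functions. -/
def TRAll (g : X ⟶ T) (q : X ⟶ X₀) (fs : List Γ(X₀, ⊤)) : Prop :=
  ∀ (U : X.affineOpens) (V : T.affineOpens) (e : U.1 ≤ g ⁻¹ᵁ V.1),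
    @RegImm.IsTransRegularSeq Γ(T, V.1) Γ(X, U.1) _ _ (g.appLE V.1 U.1 e).hom.toAlgebra
      (fs.map fun f => (X.presheaf.map (homOfLE (le_top : U.1 ≤ ⊤)).op).hom (q.appTop.hom f))

theorem TRAll_iff_forall_towerAt (g : X ⟶ T) (q : X ⟶ X₀) (fs : List Γ(X₀, ⊤)) :
    TRAll g q fs ↔ ∀ x : X, TowerAt g q fs (Coh.structureModule X₀) x := by
  have key : ∀ (U : X.affineOpens) (V : T.affineOpens) (e : U.1 ≤ g ⁻¹ᵁ V.1),
      (∀ x : U.1, TowerAt g q fs (Coh.structureModule X₀) (x : X)) ↔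
        @RegImm.IsTransRegularSeq Γ(T, V.1) Γ(X, U.1) _ _ (g.appLE V.1 U.1 e).hom.toAlgebra
          (fs.map fun f => (X.presheaf.map (homOfLE (le_top : U.1 ≤ ⊤)).op).hom
            (q.appTop.hom f)) := by
    intro U V e
    rw [forall_towerAt_iff_TRSec g q U.2 V.2 e fs (Coh.structureModule X₀),
      TRSec_congr_iso g e (asIso (pbu q)), TRSec_structureModule_iff]
  constructor
  · intro h x
    obtain ⟨V, hV, hxV, -⟩ := Opens.isBasis_iff_nbhd.mp T.isBasis_affineOpens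
      (Opens.mem_top (g x))
    obtain ⟨U, hU, hxU, eU⟩ := Opens.isBasis_iff_nbhd.mp X.isBasis_affineOpens
      (show x ∈ g ⁻¹ᵁ V from hxV)
    exact (key ⟨U, hU⟩ ⟨V, hV⟩ eU).mpr (h ⟨U, hU⟩ ⟨V, hV⟩ eU) ⟨x, hxU⟩
  · intro h U V e
    exact (key U V e).mp fun x => h x

section Stage

open Groth.Agent.Lib.Helper23.FlatStage

variable {J : Type u} [SmallCategory J] [IsCofiltered J] (E : J ⥤ Scheme.{u}) (cE : Cone E)
  [hE : ∀ (i j : J) (f : i ⟶ j), IsAffineHom (E.map f)] (j₀ : J)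
  {X₀ : Scheme.{u}} (f₀ : X₀ ⟶ E.obj j₀) [LocallyOfFinitePresentation f₀]
  {X : Scheme.{u}} (f : X ⟶ cE.pt) (q : X ⟶ X₀) (H : IsPullback q f f₀ (cE.π.app j₀))

include H in
/-- **Limit descent of the tower condition (global).** If the tower condition holds at every point
of the limit, it holds at every point of some stage. -/
theorem exists_stage_forall_towerAt [CompactSpace X₀] (hcE : IsLimit cE)
    (fs : List Γ(X₀, ⊤)) (F₀ : X₀.Modules) [F₀.IsQuasicoherent]
    (hF₀ : SheafOfModules.IsFinitePresentation (R := X₀.ringCatSheaf) F₀)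
    (h : ∀ x : X, TowerAt f q fs F₀ x) :
    ∃ K : Over j₀, ∀ y : ((bcDiagram E j₀ f₀).obj K : Scheme.{u}),
      TowerAt (bcFst E j₀ f₀ K) (bcSnd E j₀ f₀ K) fs F₀ y := by
  haveI hE' : ∀ {i j : J} (f : i ⟶ j), IsAffineHom (E.map f) := fun f => hE _ _ f
  by_contra hcon
  push Not at hcon
  let Z : ∀ K : Over j₀, Set ((bcDiagram E j₀ f₀).obj K : Scheme.{u}) := fun K =>
    {y | TowerAt (bcFst E j₀ f₀ K) (bcSnd E j₀ f₀ K) fs F₀ y}ᶜ
  have hZc : ∀ K, IsClosed (Z K) := fun K =>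
    (isOpen_setOf_towerAt (bcFst E j₀ f₀ K) (bcSnd E j₀ f₀ K) fs F₀ hF₀).isClosed_compl
  have hZne : ∀ K, (Z K).Nonempty := fun K => by
    obtain ⟨y, hy⟩ := hcon K
    exact ⟨y, hy⟩
  have hcpt : ∀ K, IsCompact (Z K) := fun K => by
    haveI : IsAffineHom (bcSnd E j₀ f₀ K) :=
      MorphismProperty.of_isPullback (P := @IsAffineHom) (isPullback_bcObj E j₀ f₀ K) inferInstance
    haveI : CompactSpace ((bcDiagram E j₀ f₀).obj K : Scheme.{u}) :=
      QuasiCompact.compactSpace_of_compactSpace (bcSnd E j₀ f₀ K)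
    exact (hZc K).isCompact
  have hmaps : ∀ {K' K : Over j₀} (a : K' ⟶ K),
      Set.MapsTo ((bcDiagram E j₀ f₀).map a) (Z K') (Z K) := by
    intro K' K a y' hy' hy
    exact hy' (TowerAt.baseChange (bcFst E j₀ f₀ K) (bcFst E j₀ f₀ K')
      ((bcDiagram E j₀ f₀).map a) (E.map a.left) (isPullback_bcDiagram_map E j₀ f₀ a).flip
      (bcSnd E j₀ f₀ K) (bcSnd E j₀ f₀ K') (bcDiagram_map_snd E j₀ f₀ a) fs F₀ hF₀ y' hy)
  obtain ⟨s, hs⟩ := exists_mem_of_isClosed_of_nonempty (bcDiagram E j₀ f₀)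
    (relCone E cE j₀ f₀ f q H) (isLimitRelCone E cE j₀ f₀ f q H hcE) Z hZc hZne hcpt hmaps
  obtain ⟨κ, hκ⟩ := exists_stage_towerAt E cE j₀ f₀ f q H hcE s fs F₀ hF₀ (h s)
  exact hs κ (hκ κ (𝟙 κ))

end Stage

end Groth.Agent.Lib.Helper23.TransReg
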