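import Mathlib
import Groth.Agent.Lib.Helper23.FlatDimTrdeg
import Groth.Agent.Lib.Helper55.DimTrdeg
import Groth.Agent.Lib.Helper55.LocalADF

set_option autoImplicit false
universe u

namespace Groth.Agent.Lib.Helper23.ValuationFibreDim

open IsLocalRing TensorProduct Groth.Agent.Lib.Helper23.FlatDimTrdeg

section

variable {A C : Type u} [CommRing A] [CommRing C] [IsDomain A] [IsDomain C] [Algebra A C]
  [FaithfulSMul A C] [Algebra.FiniteType A C] [IsLocalRing A] [Module.Flat A C]

theorem height_add_trdeg_eq_aux (q : Ideal C) [q.IsPrime] (p : Ideal A) [p.IsPrime]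
    (hqp : q.under A = p) (hp : p = maximalIdeal A) (Q : PrimeSpectrum (p.Fiber C))
    (hQ : Q.asIdeal.comap (Algebra.TensorProduct.includeRight.toRingHom) = q) (n d r : ℕ)
    (hn : Algebra.trdeg A C = n) (hd : Q.asIdeal.height = d)
    (hr : Algebra.trdeg p.ResidueField (p.Fiber C ⧸ Q.asIdeal) = r) : d + r = n := by
  subst hqp
  haveI : Module.Flat A (Localization.AtPrime q) := Module.Flat.trans A C _
  exact le_antisymm (fiber_le_trdeg (B := Localization.AtPrime q) q hp Q hQ n d r hn hd hr)
    (trdeg_le_fiber q Q hQ n d r hn hd hr)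

/-- All primes of the closed fibre satisfy `height + trdeg = n`. -/
theorem height_add_trdeg_eq (Q : PrimeSpectrum ((maximalIdeal A).Fiber C)) (n : ℕ)
    (hn : Algebra.trdeg A C = n) :
    ∃ d r : ℕ, Q.asIdeal.height = d ∧
      Algebra.trdeg (maximalIdeal A).ResidueField ((maximalIdeal A).Fiber C ⧸ Q.asIdeal) = r ∧
      d + r = n := by
  haveI : IsNoetherianRing ((maximalIdeal A).Fiber C) :=
    Algebra.FiniteType.isNoetherianRing (maximalIdeal A).ResidueField _
  obtain ⟨r, -, hr⟩ := Groth.Agent.Lib.Helper55.exists_ringKrullDim_eq_and_trdeg_eq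
    (maximalIdeal A).ResidueField ((maximalIdeal A).Fiber C ⧸ Q.asIdeal)
  have hne : Q.asIdeal.height ≠ ⊤ := Ideal.height_ne_top_of_isPrime
  obtain ⟨d, hd⟩ := ENat.ne_top_iff_exists.mp hne
  refine ⟨d, r, hd.symm, hr, ?_⟩
  set q : Ideal C := Q.asIdeal.comap (Algebra.TensorProduct.includeRight.toRingHom) with hq
  haveI : q.IsPrime := Ideal.comap_isPrime _ _
  have hqp : q.under A = maximalIdeal A := by
    have h1 := ((PrimeSpectrum.primesOverOrderIsoFiber A C (maximalIdeal A)).symm Q).2.2
    exact h1.over.symm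
  exact height_add_trdeg_eq_aux q (maximalIdeal A) hqp rfl Q rfl n d r hn hd.symm hr

/-- The closed fibre of a flat finite type domain over a local domain has dimension equal to the
transcendence degree, if it is nonempty. -/
theorem ringKrullDim_closedFiber_eq [Nontrivial ((maximalIdeal A).Fiber C)] (n : ℕ)
    (hn : Algebra.trdeg A C = n) : ringKrullDim ((maximalIdeal A).Fiber C) = n := by
  apply le_antisymm
  · rw [ringKrullDim_le_iff_height_le]
    intro P hP
    obtain ⟨d, r, hd, -, hdr⟩ := height_add_trdeg_eq (⟨P, hP⟩ : PrimeSpectrum _) n hn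
    have hd' : P.height = d := hd
    rw [hd']
    have : d ≤ n := by omega
    exact_mod_cast this
  · obtain ⟨Q, hQ⟩ := Ideal.exists_maximal ((maximalIdeal A).Fiber C)
    haveI := hQ.isPrime
    obtain ⟨d, r, hd, hr, hdr⟩ := height_add_trdeg_eq (⟨Q, hQ.isPrime⟩ : PrimeSpectrum _) n hn
    have hd' : Q.height = d := hd
    obtain ⟨s, hs1, hs2⟩ := Groth.Agent.Lib.Helper55.exists_ringKrullDim_eq_and_trdeg_eq
      (maximalIdeal A).ResidueField ((maximalIdeal A).Fiber C ⧸ Q)
    letI : Field ((maximalIdeal A).Fiber C ⧸ Q) := Ideal.Quotient.field Q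
    have h0 : ringKrullDim ((maximalIdeal A).Fiber C ⧸ Q) = 0 := ringKrullDim_eq_zero_of_field _
    have hs0 : s = 0 := by
      rw [h0] at hs1
      exact_mod_cast hs1.symm
    have hr0 : r = 0 := by
      have hr' : Algebra.trdeg (maximalIdeal A).ResidueField ((maximalIdeal A).Fiber C ⧸ Q) = r := hr
      rw [hs2, hs0] at hr'
      exact_mod_cast hr'.symm
    have hdn : d = n := by omega
    have h1 := Ideal.height_le_ringKrullDim_of_ne_top hQ.ne_top
    rw [hd', hdn] at h1
    exact h1

end

section Generic

attribute [local instance] Algebra.TensorProduct.rightAlgebra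

variable {A C : Type u} [CommRing A] [CommRing C] [IsDomain A] [IsDomain C] [Algebra A C]
  [FaithfulSMul A C] [Algebra.FiniteType A C]

/-- The generic fibre of a finite type extension of domains has dimension the transcendence
degree. -/
theorem ringKrullDim_genericFiber_eq (n : ℕ) (hn : Algebra.trdeg A C = n) :
    ringKrullDim ((⊥ : Ideal A).Fiber C) = n := by
  set K := (⊥ : Ideal A).ResidueField with hK
  set G := (⊥ : Ideal A).Fiber C with hG
  have hinj : Function.Injective (algebraMap A C) := FaithfulSMul.algebraMap_injective A C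
  have hM : Algebra.algebraMapSubmonoid C (nonZeroDivisors A) ≤ nonZeroDivisors C := by
    rintro _ ⟨a, ha, rfl⟩
    apply mem_nonZeroDivisors_of_ne_zero
    intro h0
    have : a = 0 := hinj (by rw [h0, map_zero])
    exact nonZeroDivisors.ne_zero ha this
  haveI hloc : IsLocalization (Algebra.algebraMapSubmonoid C (nonZeroDivisors A)) G :=
    (Algebra.isLocalization_iff_isPushout (nonZeroDivisors A) K).mpr inferInstance
  haveI hdom : IsDomain G :=
    IsLocalization.isDomain_of_le_nonZeroDivisors G hM
  haveI : Algebra.IsAlgebraic C G :=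
    Groth.Agent.Lib.Helper55.isAlgebraic_of_isLocalization
      (Algebra.algebraMapSubmonoid C (nonZeroDivisors A)) G hM
  haveI : Algebra.IsAlgebraic A K :=
    Groth.Agent.Lib.Helper55.isAlgebraic_of_isLocalization (nonZeroDivisors A) K le_rfl
  haveI : FaithfulSMul C G := by
    rw [faithfulSMul_iff_algebraMap_injective]
    exact IsLocalization.injective G hM
  haveI : FaithfulSMul A K := by
    rw [faithfulSMul_iff_algebraMap_injective]
    exact IsFractionRing.injective A K
  haveI : FaithfulSMul K G := by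
    rw [faithfulSMul_iff_algebraMap_injective]
    exact (algebraMap K G).injective
  obtain ⟨s, hs1, hs2⟩ := Groth.Agent.Lib.Helper55.exists_ringKrullDim_eq_and_trdeg_eq K G
  have h3 : Algebra.trdeg A C = Algebra.trdeg K G :=
    Groth.Agent.Lib.Helper55.trdeg_eq_of_isAlgebraic' A C K G
  rw [hs1]
  have : (s : Cardinal) = n := by rw [← hs2, ← h3, hn]
  have : s = n := by exact_mod_cast this
  rw [this]

end Generic

section Main

/-- **Dimension of the special fibre over a valuation ring.** -/
theorem ringKrullDim_specialFibre_eq_genericFibre {R S : Type u} [CommRing R] [IsDomain R]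
    [ValuationRing R] [CommRing S] [IsDomain S] [Algebra R S]
    (hinj : Function.Injective (algebraMap R S)) [Algebra.FiniteType R S]
    [Nontrivial (IsLocalRing.ResidueField R ⊗[R] S)] :
    ringKrullDim (IsLocalRing.ResidueField R ⊗[R] S) = ringKrullDim (FractionRing R ⊗[R] S) := by
  haveI : FaithfulSMul R S := (faithfulSMul_iff_algebraMap_injective R S).mpr hinj
  haveI : Module.Flat R S := by
    rw [Module.Flat.flat_iff_torsion_eq_bot_of_isBezout]
    rw [eq_bot_iff]
    intro x hx
    rw [Submodule.mem_torsion_iff] at hx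
    obtain ⟨a, ha⟩ := hx
    rw [Submodule.mem_bot]
    have ha' : algebraMap R S (a : R) * x = 0 := by
      rw [← Algebra.smul_def]
      exact ha
    rcases mul_eq_zero.mp ha' with h | h
    · exfalso
      have : (a : R) = 0 := hinj (by rw [h, map_zero])
      exact nonZeroDivisors.coe_ne_zero a this
    · exact h
  obtain ⟨n, hn⟩ := Cardinal.lt_aleph0.mp (trdeg_lt_aleph0_of_finiteType (R := R) (S := S))
  -- the special fibre
  let e₁ : IsLocalRing.ResidueField R ≃ₐ[R] (maximalIdeal R).ResidueField :=
    AlgEquiv.ofBijective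
      (IsScalarTower.toAlgHom R (R ⧸ maximalIdeal R) (maximalIdeal R).ResidueField)
      (Ideal.bijective_algebraMap_quotient_residueField _)
  let E₁ : IsLocalRing.ResidueField R ⊗[R] S ≃ₐ[R] (maximalIdeal R).Fiber S :=
    Algebra.TensorProduct.congr e₁ (AlgEquiv.refl : S ≃ₐ[R] S)
  haveI : Nontrivial ((maximalIdeal R).Fiber S) := E₁.injective.nontrivial
  have h1 : ringKrullDim (IsLocalRing.ResidueField R ⊗[R] S) = n := by
    rw [ringKrullDim_eq_of_ringEquiv E₁.toRingEquiv]
    exact ringKrullDim_closedFiber_eq n hn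
  -- the generic fibre
  let e₂ : FractionRing R ≃ₐ[R] (⊥ : Ideal R).ResidueField := FractionRing.algEquiv R _
  let E₂ : FractionRing R ⊗[R] S ≃ₐ[R] (⊥ : Ideal R).Fiber S :=
    Algebra.TensorProduct.congr e₂ (AlgEquiv.refl : S ≃ₐ[R] S)
  have h2 : ringKrullDim (FractionRing R ⊗[R] S) = n := by
    rw [ringKrullDim_eq_of_ringEquiv E₂.toRingEquiv]
    exact ringKrullDim_genericFiber_eq n hn
  rw [h1, h2]

end Main

end Groth.Agent.Lib.Helper23.ValuationFibreDim
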