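import Mathlib
import Groth.Agent.Lib.Helper23.WeakRegAlg

/-!
# Weakly regular sequences of global functions on a scheme (helper23)

* `WRAt X fs x`: the germs of `fs` form a weakly regular sequence of the local ring at `x`.
* `WRAllq q fs`: the restrictions of `q^♯ fs` to every affine open form a weakly regular sequence.
* `WRAllq_iff`: `WRAllq q fs ↔ ∀ x, WRAt X (q^♯ fs) x`.
* `WRAt_iff_of_flat`: for `q` flat, `WRAt Y (q^♯ fs) y ↔ WRAt X fs (q y)`.
* `isOpen_setOf_WRAt`: on a locally Noetherian scheme the locus `WRAt` is open.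
-/

set_option autoImplicit false
set_option linter.style.haveILetI false
universe u
open CategoryTheory AlgebraicGeometry TopologicalSpace Opposite RingTheory.Sequence

namespace Groth.Agent.Lib.Helper23.WeakReg

variable {X : Scheme.{u}}

/-- the germ at `x` of a global function. -/
noncomputable abbrev germTop (x : X) : Γ(X, ⊤) →+* X.presheaf.stalk x :=
  (X.presheaf.germ ⊤ x trivial).hom

/-- restriction of a global function to an open. -/
noncomputable abbrev resT (U : X.Opens) : Γ(X, ⊤) →+* Γ(X, U) :=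
  (X.presheaf.map (homOfLE (le_top : U ≤ ⊤)).op).hom

/-- Pointwise weak regularity of a list of global functions. -/
def WRAt (X : Scheme.{u}) (fs : List Γ(X, ⊤)) (x : X) : Prop :=
  IsWeaklyRegular (X.presheaf.stalk x) (fs.map (germTop x))

/-- Weak regularity on every affine open of the pullbacks of a list of global functions. -/
def WRAllq {X X₀ : Scheme.{u}} (q : X ⟶ X₀) (fs : List Γ(X₀, ⊤)) : Prop :=
  ∀ U : X.affineOpens, IsWeaklyRegular Γ(X, U.1)
    (fs.map fun f => (X.presheaf.map (homOfLE (le_top : U.1 ≤ ⊤)).op).hom (q.appTop.hom f))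

theorem map_germ_resT (gs : List Γ(X, ⊤)) (U : X.Opens) (x : X) (hx : x ∈ U) :
    ((gs.map (resT U)).map (X.presheaf.germ U x hx).hom) = gs.map (germTop x) := by
  rw [List.map_map]
  congr 1
  ext g
  exact TopCat.Presheaf.germ_res_apply X.presheaf (homOfLE (le_top : U ≤ ⊤)) x hx g

/-- from an affine open to its points. -/
theorem WRAt_of_isWeaklyRegular {U : X.Opens} (hU : IsAffineOpen U) (gs : List Γ(X, ⊤))
    (h : IsWeaklyRegular Γ(X, U) (gs.map (resT U))) (x : X) (hx : x ∈ U) : WRAt X gs x := by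
  unfold WRAt
  rw [← map_germ_resT gs U x hx]
  letI := X.presheaf.algebra_section_stalk ⟨x, hx⟩
  haveI := hU.isLocalization_stalk ⟨x, hx⟩
  exact h.of_isLocalization (X.presheaf.stalk x) (hU.primeIdealOf ⟨x, hx⟩).asIdeal.primeCompl

/-- from the points of an affine open to the affine open. -/
theorem isWeaklyRegular_of_WRAt {U : X.Opens} (hU : IsAffineOpen U) (gs : List Γ(X, ⊤))
    (h : ∀ x ∈ U, WRAt X gs x) : IsWeaklyRegular Γ(X, U) (gs.map (resT U)) := by
  let (x : _) : Algebra Γ(X, U) (X.presheaf.stalk (hU.fromSpec x)) :=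
    TopCat.Presheaf.algebra_section_stalk X.presheaf _
  have (P : Ideal Γ(X, U)) [hP : P.IsPrime] : IsLocalization.AtPrime _ P :=
    hU.isLocalization_stalk' ⟨P, hP⟩ (hU.isoSpec.inv _).2
  refine isWeaklyRegular_of_forall_maximal_ring
    (fun P hP => X.presheaf.stalk (hU.fromSpec ⟨P, hP.isPrime⟩)) _ fun P hP => ?_
  have hx : hU.fromSpec ⟨P, hP.isPrime⟩ ∈ U := (hU.isoSpec.inv _).2
  have := h _ hx
  unfold WRAt at this
  rw [← map_germ_resT gs U _ hx] at this
  exact this

theorem WRAllq_iff {X X₀ : Scheme.{u}} (q : X ⟶ X₀) (fs : List Γ(X₀, ⊤)) :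
    WRAllq q fs ↔ ∀ x : X, WRAt X (fs.map q.appTop.hom) x := by
  have key : ∀ U : X.Opens, (fs.map fun f =>
      (X.presheaf.map (homOfLE (le_top : U ≤ ⊤)).op).hom (q.appTop.hom f)) =
        (fs.map q.appTop.hom).map (resT U) := fun U => by
    rw [List.map_map]
    rfl
  constructor
  · intro h x
    obtain ⟨U, hU, hxU, -⟩ := Opens.isBasis_iff_nbhd.mp X.isBasis_affineOpens
      (Opens.mem_top x)
    have := h ⟨U, hU⟩
    rw [key] at this
    exact WRAt_of_isWeaklyRegular hU _ this x hxU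
  · intro h U
    rw [key]
    exact isWeaklyRegular_of_WRAt U.2 _ fun x _ => h x

/-- **Flat pullback** preserves and reflects pointwise weak regularity. -/
theorem WRAt_iff_of_flat {Y : Scheme.{u}} (q : Y ⟶ X) (fs : List Γ(X, ⊤)) (y : Y)
    (hq : (q.stalkMap y).hom.Flat) :
    WRAt Y (fs.map q.appTop.hom) y ↔ WRAt X fs (q y) := by
  unfold WRAt
  have hmap : (fs.map q.appTop.hom).map (germTop y) =
      (fs.map (germTop (q y))).map (q.stalkMap y).hom := by
    rw [List.map_map, List.map_map]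
    congr 1
    ext f
    exact (Scheme.Hom.germ_stalkMap_apply q ⊤ y trivial f).symm
  rw [hmap]
  algebraize [(q.stalkMap y).hom]
  haveI : Module.FaithfullyFlat (X.presheaf.stalk (q y)) (Y.presheaf.stalk y) :=
    @Module.FaithfullyFlat.of_flat_of_isLocalHom _ _ _ _ _ _ _ hq (q.toLRSHom.prop y)
  exact isWeaklyRegular_iff_of_faithfullyFlat

theorem WRAt_iff_of_flat' {Y : Scheme.{u}} (q : Y ⟶ X) [Flat q] (fs : List Γ(X, ⊤)) (y : Y) :
    WRAt Y (fs.map q.appTop.hom) y ↔ WRAt X fs (q y) :=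
  WRAt_iff_of_flat q fs y (Flat.stalkMap q y)

/-- On a locally Noetherian scheme, the weakly regular locus is open. -/
theorem isOpen_setOf_WRAt [IsLocallyNoetherian X] (gs : List Γ(X, ⊤)) :
    IsOpen {x : X | WRAt X gs x} := by
  rw [isOpen_iff_forall_mem_open]
  intro x₀ hx₀
  obtain ⟨U, hU, hxU, -⟩ := Opens.isBasis_iff_nbhd.mp X.isBasis_affineOpens
    (Opens.mem_top x₀)
  haveI : IsNoetherianRing Γ(X, U) := IsLocallyNoetherian.component_noetherian ⟨U, hU⟩
  let (P : PrimeSpectrum Γ(X, U)) : Algebra Γ(X, U) (X.presheaf.stalk (hU.fromSpec P)) :=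
    TopCat.Presheaf.algebra_section_stalk X.presheaf _
  have (P : PrimeSpectrum Γ(X, U)) : IsLocalization.AtPrime
      (X.presheaf.stalk (hU.fromSpec P)) P.asIdeal :=
    hU.isLocalization_stalk' P (hU.isoSpec.inv _).2
  have hmem : ∀ P : PrimeSpectrum Γ(X, U), hU.fromSpec P ∈ U := fun P => (hU.isoSpec.inv _).2
  have hO := isOpen_setOf_isWeaklyRegular_ring
    (fun P : PrimeSpectrum Γ(X, U) => X.presheaf.stalk (hU.fromSpec P)) (gs.map (resT U))
  have hiff : ∀ P : PrimeSpectrum Γ(X, U), WRAt X gs (hU.fromSpec P) ↔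
      IsWeaklyRegular (X.presheaf.stalk (hU.fromSpec P))
        ((gs.map (resT U)).map (algebraMap Γ(X, U) (X.presheaf.stalk (hU.fromSpec P)))) := by
    intro P
    unfold WRAt
    rw [← map_germ_resT gs U _ (hmem P)]
    rfl
  refine ⟨hU.fromSpec '' {P | IsWeaklyRegular (X.presheaf.stalk (hU.fromSpec P))
      ((gs.map (resT U)).map (algebraMap Γ(X, U) (X.presheaf.stalk (hU.fromSpec P))))}, ?_,
    hU.fromSpec.isOpenEmbedding.isOpenMap _ hO, ?_⟩
  · rintro _ ⟨P, hP, rfl⟩
    exact (hiff P).mpr hP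
  · refine ⟨hU.primeIdealOf ⟨x₀, hxU⟩, ?_, hU.fromSpec_primeIdealOf ⟨x₀, hxU⟩⟩
    refine (hiff _).mp ?_
    rw [hU.fromSpec_primeIdealOf ⟨x₀, hxU⟩]
    exact hx₀

end Groth.Agent.Lib.Helper23.WeakReg
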