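/-
Helper library (helper23): the commutative algebra step replacing "integral" by "finite" in
Zariski's main theorem: if `B'` is integral over `B` and finitely many localizations `B'[1/h]`
are of finite type over `B`, there is a finite `B`-subalgebra `C ⊆ B'` containing the `h` with
`C[1/h] ≃ B'[1/h]`.
-/
import Mathlib

set_option autoImplicit false
universe u
open CategoryTheory

namespace Groth.Agent.Lib.Helper23

section Alg

variable {B B' : Type u} [CommRing B] [CommRing B'] [Algebra B B']

/-- The map induced on localizations away from `h` by the inclusion of a subalgebra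
containing `h`. -/
noncomputable def awayIncl (C : Subalgebra B B') (h : B') (hC : h ∈ C) :
    Localization.Away (⟨h, hC⟩ : C) →+* Localization.Away h :=
  IsLocalization.Away.lift (⟨h, hC⟩ : C)
    (g := (algebraMap B' (Localization.Away h)).comp (C.val : C →+* B'))
    (IsLocalization.Away.algebraMap_isUnit h)

theorem awayIncl_algebraMap (C : Subalgebra B B') (h : B') (hC : h ∈ C) (c : C) :
    awayIncl C h hC (algebraMap C _ c) = algebraMap B' (Localization.Away h) (c : B') := by
  unfold awayIncl
  rw [IsLocalization.Away.lift_eq]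
  rfl

theorem awayIncl_injective (C : Subalgebra B B') (h : B') (hC : h ∈ C) :
    Function.Injective (awayIncl C h hC) := by
  rw [injective_iff_map_eq_zero]
  intro z hz
  obtain ⟨n, c, hc⟩ := IsLocalization.Away.surj (⟨h, hC⟩ : C) z
  have h1 : awayIncl C h hC (z * algebraMap C _ (⟨h, hC⟩ : C) ^ n) = 0 := by
    rw [map_mul, hz, zero_mul]
  rw [hc, awayIncl_algebraMap] at h1
  obtain ⟨⟨_, m, rfl⟩, hm⟩ := (IsLocalization.map_eq_zero_iff (Submonoid.powers h)
    (Localization.Away h) (c : B')).mp h1
  have h2 : (⟨h, hC⟩ : C) ^ m * c = 0 := by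
    apply Subtype.ext
    simpa using hm
  have h3 : algebraMap C (Localization.Away (⟨h, hC⟩ : C)) c = 0 :=
    (IsLocalization.map_eq_zero_iff (Submonoid.powers (⟨h, hC⟩ : C)) _ c).mpr
      ⟨⟨_, m, rfl⟩, h2⟩
  rw [h3] at hc
  have hu : IsUnit (algebraMap C (Localization.Away (⟨h, hC⟩ : C)) (⟨h, hC⟩ : C) ^ n) :=
    (IsLocalization.Away.algebraMap_isUnit _).pow n
  exact (hu.mul_left_eq_zero).mp hc

/-- A chosen numerator of an element of a localization away from `h`. -/
noncomputable def awayNum (h : B') (z : Localization.Away h) : B' :=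
  (IsLocalization.Away.surj h z).choose_spec.choose

/-- A chosen exponent of the denominator of an element of a localization away from `h`. -/
noncomputable def awayExp (h : B') (z : Localization.Away h) : ℕ :=
  (IsLocalization.Away.surj h z).choose

theorem awayNum_spec (h : B') (z : Localization.Away h) :
    z * algebraMap B' (Localization.Away h) h ^ awayExp h z =
      algebraMap B' (Localization.Away h) (awayNum h z) :=
  (IsLocalization.Away.surj h z).choose_spec.choose_spec

theorem mem_range_awayIncl_of_num_mem (C : Subalgebra B B') (h : B') (hC : h ∈ C)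
    (z : Localization.Away h) (hz : awayNum h z ∈ C) : z ∈ (awayIncl C h hC).range := by
  have hu : IsUnit (algebraMap C (Localization.Away (⟨h, hC⟩ : C)) (⟨h, hC⟩ : C)) :=
    IsLocalization.Away.algebraMap_isUnit _
  have hu' : IsUnit (algebraMap B' (Localization.Away h) h) :=
    IsLocalization.Away.algebraMap_isUnit _
  refine ⟨algebraMap C _ (⟨awayNum h z, hz⟩ : C) * ↑((hu.unit ^ awayExp h z)⁻¹), ?_⟩
  have h1 : awayIncl C h hC (algebraMap C _ (⟨awayNum h z, hz⟩ : C) *
      ↑((hu.unit ^ awayExp h z)⁻¹)) * algebraMap B' (Localization.Away h) h ^ awayExp h z =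
      z * algebraMap B' (Localization.Away h) h ^ awayExp h z := by
    rw [awayNum_spec, ← awayIncl_algebraMap C h hC ⟨awayNum h z, hz⟩]
    have h2 : algebraMap B' (Localization.Away h) h = awayIncl C h hC
        (algebraMap C _ (⟨h, hC⟩ : C)) := (awayIncl_algebraMap C h hC ⟨h, hC⟩).symm
    rw [h2, ← map_pow, ← map_mul]
    congr 1
    rw [mul_assoc]
    have h3 : (↑((hu.unit ^ awayExp h z)⁻¹) : Localization.Away (⟨h, hC⟩ : C)) *
        algebraMap C _ (⟨h, hC⟩ : C) ^ awayExp h z = 1 := by
      have : algebraMap C (Localization.Away (⟨h, hC⟩ : C)) (⟨h, hC⟩ : C) ^ awayExp h z =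
          ↑(hu.unit ^ awayExp h z) := by
        rw [Units.val_pow_eq_pow_val, IsUnit.unit_spec]
      rw [this, Units.inv_mul]
    rw [h3, mul_one]
  exact (hu'.pow (awayExp h z)).mul_left_injective h1

/-- **Finite subalgebra step of Zariski's main theorem.** -/
theorem exists_finite_subalgebra_away [Algebra.IsIntegral B B'] (t : Finset B')
    (hft : ∀ h ∈ t, ((algebraMap B' (Localization.Away h)).comp (algebraMap B B')).FiniteType) :
    ∃ C : Subalgebra B B', Module.Finite B C ∧
      ∀ h ∈ t, ∃ hC : h ∈ C, Function.Bijective (awayIncl C h hC) := by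
  classical
  have hft' : ∀ h : t, ∃ s : Finset (Localization.Away h.1),
      @Algebra.adjoin B (Localization.Away h.1) _ _
        ((algebraMap B' (Localization.Away h.1)).comp (algebraMap B B')).toAlgebra (s : Set _) =
        ⊤ := fun h => (hft h.1 h.2).out
  choose s hs using hft'
  let G : Finset B' := t ∪ t.attach.biUnion (fun h => (s h).image (awayNum h.1))
  let C : Subalgebra B B' := Algebra.adjoin B (G : Set B')
  have hGC : ∀ x ∈ G, x ∈ C := fun x hx => Algebra.subset_adjoin hx
  have hfg : C.FG := Subalgebra.fg_adjoin_finset G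
  have hfin : Module.Finite B C := by
    have : Algebra.FiniteType B C := (Subalgebra.fg_iff_finiteType C).mp hfg
    have : Algebra.IsIntegral B C :=
      Algebra.IsIntegral.of_injective (C.val : C →ₐ[B] B') Subtype.val_injective
    exact Algebra.IsIntegral.finite
  refine ⟨C, hfin, fun h hh => ?_⟩
  have hC : h ∈ C := hGC h (Finset.mem_union_left _ hh)
  refine ⟨hC, awayIncl_injective C h hC, ?_⟩
  intro z
  change z ∈ (awayIncl C h hC).range
  letI : Algebra B (Localization.Away h) :=
    ((algebraMap B' (Localization.Away h)).comp (algebraMap B B')).toAlgebra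
  have hz : z ∈ Algebra.adjoin B ((s ⟨h, hh⟩ : Finset (Localization.Away h)) : Set _) := by
    rw [hs ⟨h, hh⟩]; trivial
  induction hz using Algebra.adjoin_induction with
  | mem g hg =>
    apply mem_range_awayIncl_of_num_mem
    apply hGC
    refine Finset.mem_union_right _ (Finset.mem_biUnion.mpr ⟨⟨h, hh⟩, Finset.mem_attach _ _, ?_⟩)
    exact Finset.mem_image_of_mem _ hg
  | algebraMap b =>
    refine ⟨algebraMap C _ (algebraMap B C b), ?_⟩
    rw [awayIncl_algebraMap]
    rfl
  | add x y _ _ hx hy => exact Subring.add_mem _ hx hy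
  | mul x y _ _ hx hy => exact Subring.mul_mem _ hx hy

end Alg

end Groth.Agent.Lib.Helper23
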