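/-
Helper library (helper23): Zariski's main theorem in its finite-factorization form over an
affine base: a separated quasi-finite morphism of finite type to an affine scheme factors as an
open immersion followed by a finite morphism.
-/
import Mathlib
import Groth.Agent.Lib.Helper23.ZMTFiniteAlg

set_option autoImplicit false
universe u
open CategoryTheory Limits AlgebraicGeometry

namespace Groth.Agent.Lib.Helper23

section ZMT

/-- The open immersion `Spec B'[1/h] ⟶ Spec B'`. -/
noncomputable abbrev awaySpec (B' : CommRingCat.{u}) (h : B') :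
    Spec (CommRingCat.of (Localization.Away h)) ⟶ Spec B' :=
  Spec.map (CommRingCat.ofHom (algebraMap B' (Localization.Away h)))

theorem range_awaySpec (B' : CommRingCat.{u}) (h : B') :
    Set.range (awaySpec B' h) = (PrimeSpectrum.basicOpen h : Set (PrimeSpectrum B')) :=
  PrimeSpectrum.localization_away_comap_range _ h

theorem exists_finite_factorization_of_isAffine {X Y : Scheme.{u}} [IsAffine Y] (f : X ⟶ Y)
    [LocallyOfFiniteType f] [QuasiCompact f] [IsSeparated f] [LocallyQuasiFinite f] :
    ∃ (T : Scheme.{u}) (j : X ⟶ T) (π : T ⟶ Y), IsOpenImmersion j ∧ IsFinite π ∧ j ≫ π = f := by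
  let N := f.normalization
  let j₀ : X ⟶ N := f.toNormalization
  let π₀ : N ⟶ Y := f.fromNormalization
  have hfac : j₀ ≫ π₀ = f := f.toNormalization_fromNormalization
  haveI : IsAffine N := isAffine_of_isAffineHom π₀
  haveI : CompactSpace X := QuasiCompact.compactSpace_of_compactSpace f
  let B : CommRingCat.{u} := Γ(Y, ⊤)
  let B' : CommRingCat.{u} := Γ(N, ⊤)
  let φ : B ⟶ B' := π₀.appTop
  letI : Algebra B B' := φ.hom.toAlgebra
  have hint : Algebra.IsIntegral B B' := ⟨IsIntegralHom.isIntegral_app π₀ ⊤ (isAffineOpen_top Y)⟩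
  let j' : X ⟶ Spec B' := j₀ ≫ N.toSpecΓ
  haveI : IsOpenImmersion j' := inferInstance
  obtain ⟨t, ht⟩ := PrimeSpectrum.isCompact_isOpen_iff.mp
    ⟨isCompact_range j'.continuous, j'.isOpenEmbedding.isOpen_range⟩
  -- each basic open `D(h)`, `h ∈ t`, lies in the range of `j'`
  have hsub : ∀ h ∈ t, Set.range (awaySpec B' h) ⊆ Set.range j' := by
    intro h hh p hp
    have hp' : p ∈ (PrimeSpectrum.basicOpen h : Set (PrimeSpectrum B')) :=
      (Set.ext_iff.mp (range_awaySpec B' h) p).mp hp
    have hp'' : p ∈ (PrimeSpectrum.zeroLocus (t : Set B'))ᶜ := fun hz => hp' (hz hh)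
    exact (Set.ext_iff.mp ht p).mp hp''
  -- points of the range lie in some `D(h)`
  have hcov : ∀ x : X, ∃ h ∈ t, j' x ∈ (PrimeSpectrum.basicOpen h : Set (PrimeSpectrum B')) := by
    intro x
    have hx : j' x ∈ (PrimeSpectrum.zeroLocus (t : Set B'))ᶜ :=
      (Set.ext_iff.mp ht (j' x)).mpr ⟨x, rfl⟩
    have hx' : ¬ ((t : Set B') ⊆ ((j' x : PrimeSpectrum B').asIdeal : Set B')) := fun hz =>
      hx ((PrimeSpectrum.mem_zeroLocus _ _).mpr hz)
    rw [Set.not_subset] at hx'
    obtain ⟨h, hh, hn⟩ := hx'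
    exact ⟨h, hh, hn⟩
  -- finite type of the localizations
  have hnat : π₀ ≫ Y.toSpecΓ = N.toSpecΓ ≫ Spec.map φ := Scheme.toSpecΓ_naturality π₀
  have hft : ∀ h ∈ t,
      ((algebraMap B' (Localization.Away h)).comp (algebraMap B B')).FiniteType := by
    intro h hh
    let i : Spec (CommRingCat.of (Localization.Away h)) ⟶ X :=
      IsOpenImmersion.lift j' (awaySpec B' h) (hsub h hh)
    have hi : i ≫ j' = awaySpec B' h := IsOpenImmersion.lift_fac _ _ _
    have h1 : (i ≫ f) ≫ Y.toSpecΓ =
        Spec.map (φ ≫ CommRingCat.ofHom (algebraMap B' (Localization.Away h))) := by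
      rw [Spec.map_comp]
      change _ = awaySpec B' h ≫ Spec.map φ
      rw [← hi, ← hfac]
      simp only [Category.assoc, j']
      rw [hnat]
    have h2 : LocallyOfFiniteType ((i ≫ f) ≫ Y.toSpecΓ) := inferInstance
    rw [h1] at h2
    exact (HasRingHomProperty.Spec_iff (P := @LocallyOfFiniteType)).mp h2
  obtain ⟨C, hfin, hC⟩ := exists_finite_subalgebra_away t hft
  let ρ' : Spec B' ⟶ Spec (CommRingCat.of C) := Spec.map (CommRingCat.ofHom (C.val : C →+* B'))
  let π : Spec (CommRingCat.of C) ⟶ Y :=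
    Spec.map (CommRingCat.ofHom (algebraMap B C)) ≫ inv Y.toSpecΓ
  -- the key open immersions
  have hK : ∀ h ∈ t, IsOpenImmersion (awaySpec B' h ≫ ρ') := by
    intro h hh
    obtain ⟨hhC, hbij⟩ := hC h hh
    have e1 : CommRingCat.ofHom (C.val : C →+* B') ≫
        CommRingCat.ofHom (algebraMap B' (Localization.Away h)) =
        CommRingCat.ofHom (algebraMap C (Localization.Away (⟨h, hhC⟩ : C))) ≫
          CommRingCat.ofHom (awayIncl C h hhC) := by
      ext c
      exact (awayIncl_algebraMap C h hhC c).symm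
    have hiso : IsIso (CommRingCat.ofHom (awayIncl C h hhC)) :=
      (ConcreteCategory.isIso_iff_bijective _).mpr hbij
    change IsOpenImmersion (Spec.map _ ≫ Spec.map _)
    rw [← Spec.map_comp, e1, Spec.map_comp]
    infer_instance
  have hpre : ∀ (h : B') (hhC : h ∈ C) (p : Spec B'),
      ρ' p ∈ (PrimeSpectrum.basicOpen (⟨h, hhC⟩ : C) : Set (PrimeSpectrum C)) ↔
        p ∈ (PrimeSpectrum.basicOpen h : Set (PrimeSpectrum B')) := by
    intro h hhC p
    rfl
  have hinj : Function.Injective (j' ≫ ρ') := by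
    intro x x' hxx
    obtain ⟨h, hh, hx⟩ := hcov x
    obtain ⟨hhC, -⟩ := hC h hh
    have hxx' : ρ' (j' x) = ρ' (j' x') := hxx
    have hx' : j' x' ∈ (PrimeSpectrum.basicOpen h : Set (PrimeSpectrum B')) := by
      rw [← hpre h hhC, ← hxx', hpre h hhC]
      exact hx
    obtain ⟨a, ha⟩ := (Set.ext_iff.mp (range_awaySpec B' h) (j' x)).mpr hx
    obtain ⟨a', ha'⟩ := (Set.ext_iff.mp (range_awaySpec B' h) (j' x')).mpr hx'
    haveI := hK h hh
    have haa : (awaySpec B' h ≫ ρ') a = (awaySpec B' h ≫ ρ') a' := by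
      change ρ' (awaySpec B' h a) = ρ' (awaySpec B' h a')
      rw [ha, ha']
      exact hxx'
    have : a = a' := (awaySpec B' h ≫ ρ').isOpenEmbedding.injective haa
    have h3 : j' x = j' x' := by rw [← ha, ← ha', this]
    exact j'.isOpenEmbedding.injective h3
  have hopen : IsOpenImmersion (j' ≫ ρ') := by
    apply IsOpenImmersion.of_forall_source_exists _ hinj
    intro x
    obtain ⟨h, hh, hx⟩ := hcov x
    let i : Spec (CommRingCat.of (Localization.Away h)) ⟶ X :=
      IsOpenImmersion.lift j' (awaySpec B' h) (hsub h hh)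
    have hi : i ≫ j' = awaySpec B' h := IsOpenImmersion.lift_fac _ _ _
    have hiopen : IsOpenImmersion i := by
      haveI : IsOpenImmersion (i ≫ j') := by rw [hi]; infer_instance
      exact IsOpenImmersion.of_comp i j'
    refine ⟨_, i, hiopen, ?_, ?_⟩
    · obtain ⟨a, ha⟩ := (Set.ext_iff.mp (range_awaySpec B' h) (j' x)).mpr hx
      refine ⟨a, ?_⟩
      apply j'.isOpenEmbedding.injective
      change (i ≫ j') a = j' x
      rw [hi]
      exact ha
    · rw [← Category.assoc, hi]
      exact hK h hh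
  refine ⟨Spec (CommRingCat.of C), j' ≫ ρ', π, hopen, ?_, ?_⟩
  · have : IsFinite (Spec.map (CommRingCat.ofHom (algebraMap B C))) := by
      rw [IsFinite.SpecMap_iff]
      exact RingHom.finite_algebraMap.mpr hfin
    infer_instance
  · have e2 : CommRingCat.ofHom (algebraMap B C) ≫ CommRingCat.ofHom (C.val : C →+* B') = φ := by
      ext b
      rfl
    change (j' ≫ Spec.map _) ≫ Spec.map _ ≫ inv Y.toSpecΓ = f
    rw [Category.assoc, ← Category.assoc (Spec.map _), ← Spec.map_comp, e2]
    simp only [j', Category.assoc]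
    rw [← Category.assoc N.toSpecΓ, ← hnat]
    simp only [Category.assoc, IsIso.hom_inv_id, Category.comp_id]
    exact hfac

end ZMT

end Groth.Agent.Lib.Helper23
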