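/-
Helper library (helper23): Zariski's main theorem in the birational case at a normal point:
a birational finite type ring map which is quasi-finite at a prime lying over a normal point is an
isomorphism after inverting one element (EGA III 4.4.9 / IV 8.12.10).
-/
import Mathlib

set_option autoImplicit false
universe u
open CategoryTheory AlgebraicGeometry

namespace Groth.Agent.Lib.Helper23

section Ring

variable {A B L K K' : Type*} [CommRing A] [IsDomain A] [CommRing B] [CommRing L] [CommRing K]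
  [CommRing K'] [Algebra A K] [IsFractionRing A K]

/-- Elements of `B` integral over `A` are fractions with denominator outside `p`, when `A_p` is
integrally closed and `A → B` is birational. -/
theorem exists_mul_eq_of_isIntegral (φ : A →+* B) (p : Ideal A) [p.IsPrime]
    [Algebra A L] [IsLocalization.AtPrime L p] [IsIntegrallyClosed L]
    (ι' : B →+* K') (hι' : Function.Injective ι') (σ : K →+* K') (hσ : Function.Bijective σ)
    (hcomm : ∀ a, σ (algebraMap A K a) = ι' (φ a)) (b : B) (hint : φ.IsIntegralElem b) :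
    ∃ a s : A, s ∉ p ∧ b * φ s = φ a := by
  -- the algebra structure `L → K`
  let g : L →+* K := IsLocalization.lift (M := p.primeCompl) (g := algebraMap A K) (fun y => by
    have hy0 : (y : A) ≠ 0 := fun h0 => y.2 (h0 ▸ p.zero_mem)
    exact IsLocalization.map_units K
      (⟨(y : A), mem_nonZeroDivisors_of_ne_zero hy0⟩ : nonZeroDivisors A))
  let _ : Algebra L K := g.toAlgebra
  have : IsScalarTower A L K := IsScalarTower.of_algebraMap_eq fun a =>
    (IsLocalization.lift_eq _ a).symm
  have : IsFractionRing L K :=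
    IsFractionRing.isFractionRing_of_isDomain_of_isLocalization p.primeCompl L K
  obtain ⟨k, hk⟩ := hσ.2 (ι' b)
  have hintA : IsIntegral A k := by
    obtain ⟨P, hP, hPb⟩ := hint
    refine ⟨P, hP, hσ.1 ?_⟩
    rw [map_zero, Polynomial.hom_eval₂, hk]
    have : σ.comp (algebraMap A K) = ι'.comp φ := RingHom.ext hcomm
    rw [this, ← Polynomial.hom_eval₂, hPb, map_zero]
  have hintL : IsIntegral L k := hintA.tower_top
  obtain ⟨l, hl⟩ := IsIntegrallyClosed.algebraMap_eq_of_integral hintL
  obtain ⟨⟨a, s⟩, has⟩ := IsLocalization.surj p.primeCompl l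
  refine ⟨a, s, s.2, hι' ?_⟩
  have h1 : k * algebraMap A K s = algebraMap A K a := by
    rw [← hl, IsScalarTower.algebraMap_apply A L K, IsScalarTower.algebraMap_apply A L K,
      ← map_mul]
    exact congrArg _ has
  rw [map_mul, ← hk, ← hcomm, ← hcomm, ← map_mul, h1]

/-- **Zariski's main theorem, birational case at a normal point** (ring version). -/
theorem exists_awayMap_bijective_of_quasiFiniteAt (φ : A →+* B) (hφ : φ.FiniteType)
    (q : Ideal B) [q.IsPrime] (hq : φ.QuasiFiniteAt q)
    [Algebra A L] [IsLocalization.AtPrime L (q.comap φ)] [IsIntegrallyClosed L]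
    (ι' : B →+* K') (hι' : Function.Injective ι') (σ : K →+* K') (hσ : Function.Bijective σ)
    (hcomm : ∀ a, σ (algebraMap A K a) = ι' (φ a)) :
    ∃ t : A, φ t ∉ q ∧ Function.Bijective (Localization.awayMap φ t) := by
  classical
  let _ : Algebra A B := φ.toAlgebra
  have hft : Algebra.FiniteType A B := hφ
  have hqf : Algebra.QuasiFiniteAt A q := hq
  obtain ⟨r, hrq, hrint, hr⟩ :=
    Algebra.zariskisMainProperty_iff.mp (Algebra.ZariskisMainProperty.of_finiteType (R := A) q)
  have hkey : ∀ b : B, IsIntegral A b → ∃ a s : A, φ s ∉ q ∧ b * φ s = φ a := fun b hb => by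
    obtain ⟨a, s, hs, h⟩ :=
      exists_mul_eq_of_isIntegral (L := L) φ (q.comap φ) ι' hι' σ hσ hcomm b hb
    exact ⟨a, s, hs, h⟩
  obtain ⟨a₀, s₀, hs₀, h₀⟩ := hkey r hrint
  choose m hm using hr
  choose a s hs h using fun x => hkey _ (hm x)
  obtain ⟨S, hS⟩ := hft.out
  have hφinj : Function.Injective φ := by
    rw [injective_iff_map_eq_zero]
    intro x hx
    have h1 : σ (algebraMap A K x) = 0 := by rw [hcomm, hx, map_zero]
    have h2 : algebraMap A K x = 0 := hσ.1 (by rw [h1, map_zero])
    exact (IsFractionRing.injective A K) (by rw [h2, map_zero])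
  refine ⟨a₀ * ∏ x ∈ S, s x, ?_, ?_, ?_⟩
  · rw [map_mul, map_prod]
    intro hmem
    rcases (Ideal.IsPrime.mem_or_mem inferInstance hmem) with h1 | h1
    · rw [← h₀] at h1
      rcases (Ideal.IsPrime.mem_or_mem inferInstance h1) with h2 | h2
      · exact hrq h2
      · exact hs₀ h2
    · rw [Ideal.IsPrime.prod_mem_iff] at h1
      obtain ⟨x, -, hx⟩ := h1
      exact hs x hx
  · rw [Localization.awayMap_injective_iff]
    intro x hx
    exact ⟨0, by rw [pow_zero, one_mul]; exact hφinj (by rw [hx, map_zero])⟩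
  · rw [Localization.awayMap_surjective_iff]
    intro x
    have hx : x ∈ Algebra.adjoin A (S : Set B) := by rw [hS]; trivial
    set t := a₀ * ∏ x ∈ S, s x with ht
    induction hx using Algebra.adjoin_induction with
    | mem x hxS =>
      -- `φ (a₀ ^ m * s x) * x ∈ range φ`
      have h1 : φ (a₀ ^ m x * s x) * x = φ (s₀ ^ m x * a x) := by
        rw [map_mul, map_pow, ← h₀, map_mul, map_pow, ← h x]
        ring
      obtain ⟨d, hd⟩ : a₀ * s x ∣ t :=
        mul_dvd_mul_left a₀ (Finset.dvd_prod_of_mem s hxS)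
      refine ⟨a₀ * s x ^ m x * d ^ (m x + 1) * (s₀ ^ m x * a x), m x + 1, ?_⟩
      rw [hd, map_mul, ← h1]
      simp only [map_mul, map_pow]
      ring
    | algebraMap c => exact ⟨c, 0, by rw [pow_zero, one_mul]; rfl⟩
    | add x y _ _ hx hy =>
      obtain ⟨c₁, n₁, h1⟩ := hx
      obtain ⟨c₂, n₂, h2⟩ := hy
      refine ⟨t ^ n₂ * c₁ + t ^ n₁ * c₂, n₁ + n₂, ?_⟩
      rw [map_add, map_mul, map_mul, h1, h2, map_pow, map_pow]
      ring
    | mul x y _ _ hx hy =>
      obtain ⟨c₁, n₁, h1⟩ := hx
      obtain ⟨c₂, n₂, h2⟩ := hy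
      refine ⟨c₁ * c₂, n₁ + n₂, ?_⟩
      rw [map_mul, h1, h2]
      ring

end Ring

section Scheme

/-- The map on sections over basic opens induced by `appLE` is bijective as soon as the
localization of `appLE` is. -/
theorem bijective_appLE_basicOpen {X Y : Scheme.{u}} (f : X ⟶ Y) {U : Y.Opens} {V : X.Opens}
    (hU : IsAffineOpen U) (hV : IsAffineOpen V) (e : V ≤ f ⁻¹ᵁ U) (t : Γ(Y, U))
    (e₂ : X.basicOpen ((f.appLE U V e).hom t) ≤ f ⁻¹ᵁ Y.basicOpen t)
    (hbij : Function.Bijective (Localization.awayMap (f.appLE U V e).hom t)) :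
    Function.Bijective (f.appLE (Y.basicOpen t) (X.basicOpen ((f.appLE U V e).hom t)) e₂).hom := by
  have h1 := hU.isLocalization_basicOpen t
  have h2 := hV.isLocalization_basicOpen ((f.appLE U V e).hom t)
  have key : (f.appLE (Y.basicOpen t) (X.basicOpen ((f.appLE U V e).hom t)) e₂).hom =
      IsLocalization.Away.map Γ(Y, Y.basicOpen t) Γ(X, X.basicOpen ((f.appLE U V e).hom t))
        (f.appLE U V e).hom t := by
    apply IsLocalization.ringHom_ext (.powers t)
    rw [IsLocalization.Away.map, IsLocalization.map_comp, RingHom.algebraMap_toAlgebra,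
      RingHom.algebraMap_toAlgebra, ← CommRingCat.hom_comp, ← CommRingCat.hom_comp,
      Scheme.Hom.appLE_map, Scheme.Hom.map_appLE]
  rw [key]
  exact ⟨(IsLocalization.Away.map_injective_iff _ _ _).mpr
      (Localization.awayMap_injective_iff.mp hbij.1),
    (IsLocalization.Away.map_surjective_iff _ _ _ _).mpr
      (Localization.awayMap_surjective_iff.mp hbij.2)⟩

/-- **Zariski's main theorem, birational case at a normal point**: a birational morphism locally
of finite type between integral schemes which is quasi-finite at a point `x` whose image is a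
normal point restricts to an isomorphism between open neighbourhoods of `x` and `f x`. -/
theorem exists_isIso_resLE_of_quasiFiniteAt {X Y : Scheme.{u}} [IsIntegral X] [IsIntegral Y]
    (f : X ⟶ Y) [LocallyOfFiniteType f] (hgen : f (genericPoint X) = genericPoint Y)
    (hbir : IsIso (f.stalkMap (genericPoint X))) (x : X)
    (hy : IsIntegrallyClosed (Y.presheaf.stalk (f x))) (hqf : f.QuasiFiniteAt x) :
    ∃ (U : Y.Opens) (V : X.Opens) (e : V ≤ f ⁻¹ᵁ U), x ∈ V ∧ IsIso (f.resLE U V e) := by
  obtain ⟨_, ⟨U, hU : IsAffineOpen U, rfl⟩, hxU, -⟩ :=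
    Y.isBasis_affineOpens.exists_subset_of_mem_open (Set.mem_univ (f x)) isOpen_univ
  obtain ⟨_, ⟨V, hV : IsAffineOpen V, rfl⟩, hxV, hVU⟩ :=
    X.isBasis_affineOpens.exists_subset_of_mem_open hxU (U.2.preimage f.continuous)
  have e : V ≤ f ⁻¹ᵁ U := hVU
  have hneV : Nonempty V := ⟨⟨x, hxV⟩⟩
  have hneU : Nonempty U := ⟨⟨f x, hxU⟩⟩
  have hgV : genericPoint X ∈ V :=
    ((genericPoint_spec X).mem_open_set_iff V.isOpen).mpr (by simpa using hneV)
  have hgU : f (genericPoint X) ∈ U := e hgV
  have hφ : (f.appLE U V e).hom.FiniteType := f.finiteType_appLE hU hV e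
  have hq : (f.appLE U V e).hom.QuasiFiniteAt (hV.primeIdealOf ⟨x, hxV⟩).asIdeal :=
    hqf.quasiFiniteAt hV hU e hxV
  let _ : Algebra Γ(Y, U) (Y.presheaf.stalk (f x)) := (Y.presheaf.germ U (f x) hxU).hom.toAlgebra
  have hloc : IsLocalization.AtPrime (Y.presheaf.stalk (f x))
      ((hV.primeIdealOf ⟨x, hxV⟩).asIdeal.comap (f.appLE U V e).hom) := by
    have h1 := hU.isLocalization_stalk ⟨f x, hxU⟩
    have h2 : (hV.primeIdealOf ⟨x, hxV⟩).asIdeal.comap (f.appLE U V e).hom =
        (hU.primeIdealOf ⟨f x, hxU⟩).asIdeal :=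
      congrArg PrimeSpectrum.asIdeal (IsAffineOpen.comap_primeIdealOf_appLE U hU V hV e hxV)
    have key : ∀ (P : Ideal Γ(Y, U)) [P.IsPrime], P = (hU.primeIdealOf ⟨f x, hxU⟩).asIdeal →
        IsLocalization.AtPrime (Y.presheaf.stalk (f x)) P := by
      rintro P _ rfl
      exact h1
    exact key _ h2
  let _ : Algebra Γ(Y, U) (Y.presheaf.stalk (f (genericPoint X))) :=
    (Y.presheaf.germ U (f (genericPoint X)) hgU).hom.toAlgebra
  have hfr : IsFractionRing Γ(Y, U) (Y.presheaf.stalk (f (genericPoint X))) := by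
    have key : ∀ (y : Y) (_ : y = genericPoint Y) (hyU : y ∈ U),
        @IsFractionRing Γ(Y, U) _ (Y.presheaf.stalk y) _
          (Y.presheaf.germ U y hyU).hom.toAlgebra := by
      rintro y rfl hyU
      exact functionField_isFractionRing_of_isAffineOpen Y U hU
    exact key _ hgen hgU
  obtain ⟨t, htq, hbij⟩ := exists_awayMap_bijective_of_quasiFiniteAt
    (L := Y.presheaf.stalk (f x)) (K := Y.presheaf.stalk (f (genericPoint X)))
    (K' := X.presheaf.stalk (genericPoint X)) (f.appLE U V e).hom hφ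
    (hV.primeIdealOf ⟨x, hxV⟩).asIdeal hq
    (X.presheaf.germ V (genericPoint X) hgV).hom (germ_injective_of_isIntegral X _ _)
    (f.stalkMap (genericPoint X)).hom ((ConcreteCategory.isIso_iff_bijective _).mp hbir)
    (fun a => by
      have h1 := Scheme.Hom.germ_stalkMap_apply f U (genericPoint X) hgU a
      rw [RingHom.algebraMap_toAlgebra]
      refine h1.trans ?_
      rw [Scheme.Hom.appLE, CommRingCat.comp_apply]
      exact (TopCat.Presheaf.germ_res_apply X.presheaf (homOfLE e) (genericPoint X) hgV _).symm)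
  have e₂ : X.basicOpen ((f.appLE U V e).hom t) ≤ f ⁻¹ᵁ Y.basicOpen t := by
    rw [Scheme.basicOpen_appLE]
    exact inf_le_right
  refine ⟨Y.basicOpen t, X.basicOpen ((f.appLE U V e).hom t), e₂, ?_, ?_⟩
  · rw [← PrimeSpectrum.mem_basicOpen, ← hV.fromSpec_preimage_basicOpen] at htq
    have h3 : hV.fromSpec (hV.primeIdealOf ⟨x, hxV⟩) ∈
        X.basicOpen ((f.appLE U V e).hom t) := htq
    rwa [hV.fromSpec_primeIdealOf] at h3
  · have hU₂ : IsAffineOpen (Y.basicOpen t) := hU.basicOpen t
    have hX₂ : IsAffineOpen (X.basicOpen ((f.appLE U V e).hom t)) := hV.basicOpen _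
    have : IsAffine (Y.basicOpen t : Scheme.{u}) := hU₂
    have : IsAffine (X.basicOpen ((f.appLE U V e).hom t) : Scheme.{u}) := hX₂
    rw [← MorphismProperty.isomorphisms.iff,
      HasAffineProperty.iff_of_isAffine (P := MorphismProperty.isomorphisms Scheme)]
    refine ⟨inferInstance, ?_⟩
    have hiso : IsIso (f.appLE (Y.basicOpen t) (X.basicOpen ((f.appLE U V e).hom t)) e₂) :=
      (ConcreteCategory.isIso_iff_bijective _).mpr
        (bijective_appLE_basicOpen f hU hV e t e₂ hbij)
    rw [Scheme.Hom.appTop, Scheme.Hom.resLE_app_top]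
    infer_instance

end Scheme

end Groth.Agent.Lib.Helper23
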